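import Groth.Agent.H11Proj.HProj
import Groth.Agent.H11Ample.VeryAmple
import Groth.Agent.H27Weil.Geometry

/-!
# Global sections giving a closed immersion into projective space
-/

set_option autoImplicit false
set_option linter.style.haveILetI false

noncomputable section

universe u

open CategoryTheory CategoryTheory.Limits AlgebraicGeometry Opposite TopologicalSpace CohB1
open Groth.Agent.H11Tilde Groth.Agent.H11Ample

namespace Groth.Agent.H11Proj

variable {X Y : Scheme.{u}} {M : X.Modules}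

/-- The coefficients of some global sections with respect to another one, where that one generates. -/
def globalCoefs {k : ℕ} (v : Fin k → Γ(M, ⊤)) (j : Fin k) (G : X.Opens) : Set Γ(X, G) :=
  {c | ∃ l, M.presheaf.map (homOfLE (le_top : G ≤ ⊤)).op (v l) =
    c • M.presheaf.map (homOfLE (le_top : G ≤ ⊤)).op (v j)}

/-- Global sections generating, with affine loci over affine opens, generated by the coefficients. -/
structure GlobalVA (q : X ⟶ Y) {k : ℕ} (v : Fin k → Γ(M, ⊤)) : Prop where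
  cover : ∀ x, ∃ l, x ∈ gen M (v l)
  affine : ∀ (U : Y.Opens), IsAffineOpen U → ∀ l, IsAffineOpen (gen M (v l) ⊓ q ⁻¹ᵁ U)
  surj : ∀ (U : Y.Opens), IsAffineOpen U → ∀ l,
    Subring.closure (Set.range (q.appLE U (gen M (v l) ⊓ q ⁻¹ᵁ U) inf_le_right) ∪
      globalCoefs v l (gen M (v l) ⊓ q ⁻¹ᵁ U)) = ⊤

variable {n : ℕ}

/-- Sections matching the coordinates of a closed immersion into projective space. -/
theorem globalVA_of_closedImmersion (i : X ⟶ ProjSpaceOver n Y) [IsClosedImmersion i]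
    (v : Fin (n + 1) → Γ(M, ⊤))
    (hpre : ∀ j, gen M (v j) = preD (i ≫ pullback.fst _ _) j)
    (hrat : ∀ j l, M.presheaf.map (homOfLE (le_top : preD (i ≫ pullback.fst _ _) j ≤ ⊤)).op (v l) =
      ratioSec (i ≫ pullback.fst _ _) j l •
        M.presheaf.map (homOfLE (le_top : preD (i ≫ pullback.fst _ _) j ≤ ⊤)).op (v j)) :
    GlobalVA (i ≫ ProjSpaceOver.toBase n Y) v := by
  let q := i ≫ ProjSpaceOver.toBase n Y
  let C := chartsOfClosedImmersion i
  refine ⟨fun x => ?_, fun U hU l => ?_, fun U hU l => ?_⟩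
  · obtain ⟨j, hj⟩ := C.cover x
    exact ⟨j, (hpre j).ge hj⟩
  · rw [hpre l]
    exact C.affine U hU l
  · suffices h : ∀ (G : X.Opens) (hG : G ≤ q ⁻¹ᵁ U), G = C.V l ⊓ q ⁻¹ᵁ U →
        Subring.closure (Set.range (q.appLE U G hG) ∪ globalCoefs v l G) = ⊤ from
      h _ _ (congrArg (· ⊓ q ⁻¹ᵁ U) (hpre l))
    rintro G hG rfl
    refine eq_top_iff.2 fun y hy => ?_
    clear hy
    obtain ⟨P, rfl⟩ := C.surj U hU l y
    induction P using MvPolynomial.induction_on with
    | C r =>
      rw [ChartAlg.hom, MvPolynomial.eval₂Hom_C]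
      exact Subring.subset_closure (Or.inl ⟨r, rfl⟩)
    | add P Q hP hQ => rw [map_add]; exact add_mem hP hQ
    | mul_X P m hP =>
      rw [map_mul]
      refine mul_mem hP (Subring.subset_closure (Or.inr ⟨m, ?_⟩))
      rw [show ChartAlg.hom q C.V C.ρ l U (MvPolynomial.X m) =
        X.presheaf.map (homOfLE (inf_le_left : C.V l ⊓ q ⁻¹ᵁ U ≤ C.V l)).op (C.ρ l m) from
        MvPolynomial.eval₂Hom_X' _ _ m]
      have h := congrArg (M.presheaf.map (homOfLE (inf_le_left : C.V l ⊓ q ⁻¹ᵁ U ≤ C.V l)).op) (hrat l m)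
      erw [H10Coh.mres_mres, Scheme.Modules.map_smul, H10Coh.mres_mres] at h
      exact h

/-- The sections given by the coordinates, with loci of generation and ratios. -/
theorem pn_sections (r : X ⟶ Proj (polyGrading n (ULift.{u} ℤ)))
    (τ : (Scheme.Modules.pullback r).obj (Twist.twistProjSpace n (ULift.{u} ℤ) 1) ≅ M) (v : Fin (n + 1) → Γ(M, ⊤))
    (hv : ∀ i, τ.hom.app ⊤ (pullTop r (L := Twist.twistProjSpace n (ULift.{u} ℤ) 1)
      (ProjUP.coord n (ULift.{u} ℤ) i)) = v i) :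
    (∀ j, gen M (v j) = preD r j) ∧ ∀ j l, M.presheaf.map (homOfLE (le_top : preD r j ≤ ⊤)).op (v l) =
      ratioSec r j l • M.presheaf.map (homOfLE (le_top : preD r j ≤ ⊤)).op (v j) := by
  refine ⟨fun j => ?_, fun j l => ?_⟩
  · rw [← hv j, gen_iso]
    have := gen_smul_pullSect r (isInvertible_twist (n := n) (R := ULift.{u} ℤ))
      (ProjUP.coord n (ULift.{u} ℤ) j) (isUnit_one (M := Γ(X, ⊤)))
    rw [one_smul] at this
    exact this.trans (congrArg (r ⁻¹ᵁ ·) (gen_coord j))
  · let 𝒜 := polyGrading n (ULift.{u} ℤ)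
    let D := Proj.basicOpen 𝒜 (MvPolynomial.X j : MvPolynomial (Fin (n + 1)) (ULift.{u} ℤ))
    let T := Twist.twistProjSpace n (ULift.{u} ℤ) 1
    rw [← hv j, ← hv l, ← app_map_apply, ← app_map_apply]
    have e : ∀ k, ((Scheme.Modules.pullback r).obj T).presheaf.map
        (homOfLE (le_top : r ⁻¹ᵁ D ≤ ⊤)).op (pullTop r (L := T) (ProjUP.coord n _ k)) =
          OmegaSh.pullSect r T D (T.presheaf.map (homOfLE (le_top : D ≤ ⊤)).op (ProjUP.coord n _ k)) :=
      fun k => (pullSect_res r T (le_top : D ≤ ⊤) (ProjUP.coord n _ k)).symm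
    refine Eq.trans (congrArg (τ.hom.app _) ((e l).trans ?_)) (Scheme.Modules.Hom.app_smul _ _ _)
    refine Eq.trans ?_ (congrArg _ (e j).symm)
    refine Eq.trans (congrArg (OmegaSh.pullSect r T D)
      (globalSec_eq_ratio_smul 𝒜 (ProjSpace.X_mem n _ j) (ProjSpace.X_mem n _ l))) ?_
    exact OmegaSh.pullSect_smul r T D _ _

/-- A morphism to projective space with the coordinates going to the given generating sections. -/
theorem exists_toPn' (hL : PicF.IsInvertible M) (v : Fin (n + 1) → Γ(M, ⊤)) (hv : ∀ x, ∃ i, x ∈ gen M (v i)) :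
    ∃ (r : X ⟶ Proj (polyGrading n (ULift.{u} ℤ)))
      (τ : (Scheme.Modules.pullback r).obj (Twist.twistProjSpace n (ULift.{u} ℤ) 1) ≅ M),
      ∀ i, τ.hom.app ⊤ (pullTop r (L := Twist.twistProjSpace n (ULift.{u} ℤ) 1)
        (ProjUP.coord n (ULift.{u} ℤ) i)) = v i := by
  classical
  let q : X ⟶ Spec (CommRingCat.of (ULift.{u} ℤ)) := specULiftZIsTerminal.from X
  let R := ULift.{u} ℤ
  let b := Pi.basisFun R (Fin (n + 1))
  let ι : (Fin (n + 1) → R) →ₗ[R] MvPolynomial (Fin (n + 1)) R := b.constr R MvPolynomial.X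
  have hιX : ∀ i, ι (b i) = MvPolynomial.X i := fun i => b.constr_basis R _ i
  have hι : ∀ m, ι m ∈ polyGrading n R 1 := fun m => by
    rw [← b.sum_repr m, map_sum]
    refine Submodule.sum_mem _ fun i _ => ?_
    rw [map_smul, hιX]
    exact Submodule.smul_mem _ _ (Groth.Agent.H11Ample.X_mem i)
  have hsym := SymmetricAlgebra.IsSymmetricAlgebra.mvPolynomial (R := R) (Fin (n + 1)) b
  let w : (Fin (n + 1) → R) →+ Γ(M, ⊤) :=
    { toFun := fun m => ∑ i, ProjUP.toGlobal q (m i) • v i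
      map_zero' := by simp
      map_add' := fun a c => by simp [add_smul, Finset.sum_add_distrib] }
  have hwb : ∀ i, w (b i) = v i := fun i => by
    change ∑ j, ProjUP.toGlobal q ((b i) j) • v j = v i
    simp [b, Pi.single_apply, apply_ite, ite_smul]
  have hwgen : ProjUP.GeneratedBy M w := fun x => by
    obtain ⟨i, hi⟩ := hv x
    refine eq_top_iff.2 fun m _ => ?_
    obtain ⟨c, hc⟩ := ((mem_gen_iff hL (v i) x).1 hi).2 m
    rw [← hc]
    exact Submodule.smul_mem _ c (Submodule.subset_span ⟨b i, congrArg (M.presheaf.germ ⊤ x trivial).hom (hwb i)⟩)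
  obtain ⟨r, -, τ₀, hτ⟩ := exists_toProj (polyGrading n R) hι hsym q M hL w (fun a m => by
    change ∑ i, ProjUP.toGlobal q ((a • m) i) • v i = ProjUP.toGlobal q a • ∑ i, ProjUP.toGlobal q (m i) • v i
    rw [Finset.smul_sum]
    exact Finset.sum_congr rfl fun i _ => by rw [Pi.smul_apply, smul_eq_mul, map_mul, mul_smul]) hwgen
  refine ⟨r, τ₀, fun i => ?_⟩
  rw [← hwb i, ← hτ (b i),
    PnPoints.globalSec_congr (polyGrading n R) (hι (b i)) (Groth.Agent.H11Ample.X_mem i) (hιX i)]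
  rfl

/-- The lift to `P^n_Y` is an immersion when some affine loci cover and are generated by coefficients. -/
theorem isImmersion_lift [IsAffine Y] (q : X ⟶ Y) (r : X ⟶ Proj (polyGrading n (ULift.{u} ℤ)))
    (v : Fin (n + 1) → Γ(M, ⊤)) (hpre : ∀ j, gen M (v j) = preD r j)
    (hrat : ∀ j l, M.presheaf.map (homOfLE (le_top : preD r j ≤ ⊤)).op (v l) =
      ratioSec r j l • M.presheaf.map (homOfLE (le_top : preD r j ≤ ⊤)).op (v j))
    (J : Set (Fin (n + 1))) (hJ : ∀ x, ∃ j ∈ J, x ∈ gen M (v j))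
    (haff : ∀ j ∈ J, IsAffineOpen (gen M (v j)))
    (hgen : ∀ j ∈ J, Subring.closure (Set.range (q.appLE ⊤ (gen M (v j)) le_top) ∪
      globalCoefs v j (gen M (v j))) = ⊤) :
    ∃ i : X ⟶ ProjSpaceOver n Y, i ≫ pullback.fst _ _ = r ∧ i ≫ ProjSpaceOver.toBase n Y = q ∧ IsImmersion i := by
  let t := specULiftZIsTerminal.from Y
  let p₁ := pullback.fst (ProjSpace.toSpec n (ULift.{u} ℤ)) t
  let p₂ := pullback.snd (ProjSpace.toSpec n (ULift.{u} ℤ)) t
  let i : X ⟶ ProjSpaceOver n Y := pullback.lift r q (specULiftZIsTerminal.hom_ext _ _)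
  have h₁ : i ≫ p₁ = r := pullback.lift_fst _ _ _
  have h₂ : i ≫ p₂ = q := pullback.lift_snd _ _ _
  let D := fun j : Fin (n + 1) => Proj.basicOpen (polyGrading n (ULift.{u} ℤ)) (MvPolynomial.X j)
  let W : J → (ProjSpaceOver n Y).Opens := fun j => p₁ ⁻¹ᵁ D j.1
  have hWpre : ∀ j, i ⁻¹ᵁ W j = gen M (v j.1) := fun j => by
    rw [hpre j.1, ← h₁]
    rfl
  haveI : IsAffineHom t := inferInstance
  haveI hp₁ : IsAffineHom p₁ := MorphismProperty.pullback_fst _ _ ‹IsAffineHom t›
  have hWaff : ∀ j, IsAffineOpen (W j) := fun j =>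
    hp₁.isAffine_preimage _ (Proj.isAffineOpen_basicOpen (polyGrading n (ULift.{u} ℤ)) _
      (Groth.Agent.H11Ample.X_mem j.1) one_pos)
  have hclosed : ∀ j, IsClosedImmersion (i ∣_ W j) := fun j => by
    refine isClosedImmersion_morphismRestrict (hWaff j) ((hWpre j).symm ▸ haff j.1 j.2) ?_
    let G := gen M (v j.1)
    suffices h : Function.Surjective (i.appLE (W j) G (hWpre j).ge) by
      intro b
      obtain ⟨a, ha⟩ := h (X.presheaf.map (homOfLE (hWpre j).ge).op b)
      haveI : IsIso (homOfLE (hWpre j).ge) := homOfLE_isIso_of_eq _ (hWpre j).symm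
      exact ⟨a, (ConcreteCategory.bijective_of_isIso (X.presheaf.map (homOfLE (hWpre j).ge).op)).1 ha⟩
    intro b
    have hb : b ∈ (i.appLE (W j) G (hWpre j).ge).hom.range := by
      refine (Subring.closure_le.2 ?_) ((hgen j.1 j.2).ge (Subring.mem_top b))
      rintro c (⟨a, rfl⟩ | ⟨l, hl⟩)
      · refine ⟨p₂.appLE ⊤ (W j) le_top a, ?_⟩
        have e := Scheme.Hom.appLE_comp_appLE i p₂ ⊤ (W j) G le_top (hWpre j).ge
        simp only [h₂] at e
        exact congr($e a)
      · let ρ := ratio (polyGrading n (ULift.{u} ℤ)) (ProjSpace.X_mem n (ULift.{u} ℤ) j.1)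
          (ProjSpace.X_mem n (ULift.{u} ℤ) l)
        refine ⟨p₁.app (D j.1) ρ, ?_⟩
        have hle : G ≤ r ⁻¹ᵁ D j.1 := (hpre j.1).le
        have h3 := congrArg (M.presheaf.map (homOfLE hle).op) (hrat j.1 l)
        erw [H10Coh.mres_mres, Scheme.Modules.map_smul, H10Coh.mres_mres, hl] at h3
        have h4 := ((isGen_gen (v j.1)).bijective le_rfl).1
          (a₁ := c) (a₂ := X.presheaf.map (homOfLE hle).op (r.app (D j.1) ρ))
          (by beta_reduce; rw [H10Coh.mres_self]; exact h3)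
        rw [h4]
        have e := Scheme.Hom.appLE_comp_appLE i p₁ (D j.1) (p₁ ⁻¹ᵁ D j.1) G le_rfl (hWpre j).ge
        simp only [h₁] at e
        refine Eq.trans ?_ (Eq.trans (congr($e ρ)) ?_)
        · simp [Scheme.Hom.appLE]
          rfl
        · rfl
    obtain ⟨a, ha⟩ := hb
    exact ⟨a, ha⟩
  refine ⟨i, h₁, h₂, ?_⟩
  haveI : MorphismProperty.RespectsRight (C := Scheme.{u}) @IsImmersion @IsOpenImmersion :=
    ⟨fun i hi f hf => by
      haveI : IsOpenImmersion i := hi
      haveI : IsImmersion f := hf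
      exact inferInstanceAs (IsImmersion (f ≫ i))⟩
  refine IsZariskiLocalAtTarget.of_range_subset_iSup (P := @IsImmersion) W ?_ fun j => ?_
  · rintro _ ⟨x, rfl⟩
    obtain ⟨j, hj, hx⟩ := hJ x
    exact Opens.mem_iSup.2 ⟨⟨j, hj⟩, (hWpre ⟨j, hj⟩).ge hx⟩
  · haveI := hclosed j
    infer_instance

theorem isClosedImmersion_of_isImmersion (q : X ⟶ Y) [IsProper q] (i : X ⟶ ProjSpaceOver n Y) [IsImmersion i]
    (h : i ≫ ProjSpaceOver.toBase n Y = q) : IsClosedImmersion i := by
  haveI : IsProper (ProjSpaceOver.toBase n Y) := H27Weil.isProper_toBase n Y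
  haveI : IsProper i := by
    haveI : IsProper (i ≫ ProjSpaceOver.toBase n Y) := by rw [h]; infer_instance
    exact IsProper.of_comp i (ProjSpaceOver.toBase n Y)
  exact IsClosedImmersion.of_isPreimmersion i i.isClosedMap.isClosed_range

/-- For a proper morphism to an affine scheme, sections containing a covering subfamily with affine loci
generated by coefficients have all loci affine and generated by coefficients. -/
theorem globalVA_of_subfamily [IsAffine Y] (q : X ⟶ Y) [IsProper q] (hL : PicF.IsInvertible M)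
    (v : Fin (n + 1) → Γ(M, ⊤)) (J : Set (Fin (n + 1))) (hJ : ∀ x, ∃ j ∈ J, x ∈ gen M (v j))
    (haff : ∀ j ∈ J, IsAffineOpen (gen M (v j)))
    (hgen : ∀ j ∈ J, Subring.closure (Set.range (q.appLE ⊤ (gen M (v j)) le_top) ∪
      globalCoefs v j (gen M (v j))) = ⊤) :
    GlobalVA q v := by
  obtain ⟨r, τ, hτ⟩ := exists_toPn' hL v fun x => (hJ x).imp fun _ h => h.2
  obtain ⟨hpre, hrat⟩ := pn_sections r τ v hτ
  obtain ⟨i, h₁, h₂, hi⟩ := isImmersion_lift q r v hpre hrat J hJ haff hgen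
  haveI := hi
  haveI := isClosedImmersion_of_isImmersion q i h₂
  have h : (∀ j, gen M (v j) = preD r j) ∧ ∀ j l, M.presheaf.map (homOfLE (le_top : preD r j ≤ ⊤)).op (v l) =
      ratioSec r j l • M.presheaf.map (homOfLE (le_top : preD r j ≤ ⊤)).op (v j) := ⟨hpre, hrat⟩
  rw [← h₁] at h
  exact h₂ ▸ globalVA_of_closedImmersion i v h.1 h.2

/-- A module very ample for a proper morphism to projective space over the base has such sections. -/
theorem exists_globalVA_of_isRelVeryAmplePn (q : X ⟶ Y) [IsProper q] (h : RelAmple.IsRelVeryAmplePn q M) :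
    ∃ (n : ℕ) (v : Fin (n + 1) → Γ(M, ⊤)), GlobalVA q v := by
  obtain ⟨n, i, hi, hiq, ⟨φ⟩⟩ := h
  haveI := hi
  haveI := isClosedImmersion_of_isImmersion q i hiq
  let p₁ : ProjSpaceOver n Y ⟶ Proj (polyGrading n (ULift.{u} ℤ)) := pullback.fst _ _
  let τ : (Scheme.Modules.pullback (i ≫ p₁)).obj (Twist.twistProjSpace n (ULift.{u} ℤ) 1) ≅ M :=
    ((Scheme.Modules.pullbackComp i p₁).app _).symm ≪≫ φ.symm
  obtain ⟨h1, h2⟩ := pn_sections (i ≫ p₁) τ _ fun j => rfl
  exact ⟨n, _, hiq ▸ globalVA_of_closedImmersion i _ h1 h2⟩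

/-- High powers of an ample module have such sections for a proper morphism to an affine scheme. -/
theorem eventually_globalVA [IsAffine Y] (q : X ⟶ Y) [IsProper q] {L : X.Modules} (hA : CohB1.IsAmple L) :
    ∃ m₀ : ℕ, ∀ m, m₀ ≤ m → ∃ (n : ℕ) (v : Fin (n + 1) → Γ(CohB1.tensorPow L m, ⊤)), GlobalVA q v := by
  haveI : CompactSpace X := compactSpace_of_isAmple hA
  haveI : QuasiSeparatedSpace X := quasiSeparatedSpace_of_isAmple hA
  obtain ⟨m₀, hm⟩ := eventually_isRelVeryAmplePn q hA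
  exact ⟨m₀, fun m h => exists_globalVA_of_isRelVeryAmplePn q (hm m h)⟩

end Groth.Agent.H11Proj
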