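import Groth.Agent.H11Proj.Graded
import Mathlib.Algebra.Group.Submonoid.Finsupp

/-!
# Monomials in a finitely generated graded algebra
-/

set_option autoImplicit false

namespace Groth.Agent.H11Proj

open DirectSum

variable {R A : Type*} [CommRing R] [CommRing A] [Algebra R A]
variable (𝒜 : ℕ → Submodule R A) [GradedAlgebra 𝒜]

theorem pow_graded_le (i k : ℕ) : (𝒜 i : Submodule R A) ^ k ≤ 𝒜 (k * i) := by
  induction k with
  | zero => rw [pow_zero, zero_mul]; exact Submodule.one_le.2 SetLike.GradedOne.one_mem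
  | succ k ih =>
    rw [pow_succ, Nat.succ_mul]
    exact (Submodule.mul_le.2 fun a ha b hb => graded_mul_mem 𝒜 (ih ha) hb)

theorem prod_pow_mem {ι : Type*} [Fintype ι] (v : ι → A) (dv : ι → ℕ) (hv : ∀ i, v i ∈ 𝒜 (dv i))
    (a : ι → ℕ) : ∏ i, v i ^ a i ∈ 𝒜 (∑ i, a i * dv i) := by
  simpa using SetLike.prod_pow_mem_graded 𝒜 (F := Finset.univ) dv v a (fun i _ => hv i)

/-- Elements of degree `N` are sums of monomials of degree `N` with degree-zero coefficients. -/
theorem graded_induction {ι : Type*} [Fintype ι] (v : ι → A) (dv : ι → ℕ)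
    (hv : ∀ i, v i ∈ 𝒜 (dv i)) (htop : Algebra.adjoin (𝒜 0) (Set.range v) = ⊤) {N : ℕ}
    {P : A → Prop} (zero : P 0) (add : ∀ x y, P x → P y → P (x + y))
    (mono : ∀ c ∈ 𝒜 0, ∀ a : ι → ℕ, ∑ i, a i * dv i = N → P (c * ∏ i, v i ^ a i))
    {x : A} (hx : x ∈ 𝒜 N) : P x := by
  suffices H : ∀ y ∈ Submodule.span (𝒜 0) (Submonoid.closure (Set.range v) : Set A),
      ∀ c ∈ 𝒜 0, P (c * (decompose 𝒜 y N : A)) by
    have hxs : x ∈ Submodule.span (𝒜 0) (Submonoid.closure (Set.range v) : Set A) := by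
      rw [← Algebra.adjoin_eq_span, htop]; trivial
    simpa [decompose_of_mem_same 𝒜 hx] using H x hxs 1 SetLike.GradedOne.one_mem
  intro y hy
  induction hy using Submodule.span_induction with
  | mem y hy =>
    intro c hc
    obtain ⟨a, rfl⟩ := Submonoid.exists_of_mem_closure_range _ _ hy
    have hm := prod_pow_mem 𝒜 v dv hv a
    by_cases h : ∑ i, a i * dv i = N
    · rw [decompose_of_mem_same 𝒜 (h ▸ hm)]; exact mono c hc a h
    · rw [decompose_of_mem_ne 𝒜 hm h, mul_zero]; exact zero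
  | zero => intro c _; simpa using zero
  | add y z _ _ hy hz =>
    intro c hc
    rw [decompose_add, DirectSum.add_apply, Submodule.coe_add, mul_add]
    exact add _ _ (hy c hc) (hz c hc)
  | smul r y _ hy =>
    intro c hc
    rw [Algebra.smul_def, proj_mul_of_mem 𝒜 (i := 0) (a := algebraMap (𝒜 0) A r) r.2,
      if_pos (Nat.zero_le N), Nat.sub_zero, ← mul_assoc]
    exact hy _ (by simpa using graded_mul_mem 𝒜 hc r.2)

/-- `𝒜 N = 𝒜 d * 𝒜 (N - d)` for `N` large, when `d` is a common multiple of the degrees. -/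
theorem exists_period [Algebra.FiniteType (𝒜 0) A] :
    ∃ d : ℕ, 0 < d ∧ ∃ N₀ : ℕ, ∀ N : ℕ, N₀ ≤ N → 𝒜 N ≤ 𝒜 d * 𝒜 (N - d) := by
  obtain ⟨E, hE, htop⟩ := exists_finset_posHom_adjoin 𝒜
  obtain ⟨deg, hdeg, hpos⟩ := exists_degree_fun 𝒜 hE
  let v : E → A := fun e => e
  let dv : E → ℕ := fun e => deg e
  have hd : 0 < ∏ e : E, dv e := Finset.prod_pos fun e _ => hpos _ e.2
  set d := ∏ e : E, dv e with hd_def
  refine ⟨d, hd, Fintype.card E * d + 1, fun N hN x hx => ?_⟩
  refine graded_induction 𝒜 v dv (fun e => hdeg _ e.2) (by simpa [v] using htop) (zero_mem _)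
    (fun _ _ => add_mem) (fun c hc a ha => ?_) hx
  classical
  obtain ⟨i, hi⟩ : ∃ i, d ≤ a i * dv i := by
    by_contra h
    push Not at h
    have : ∑ i, a i * dv i ≤ Fintype.card E * d := by
      calc ∑ i, a i * dv i ≤ ∑ _i : E, d := Finset.sum_le_sum fun i _ => (h i).le
        _ = Fintype.card E * d := by simp
    omega
  obtain ⟨k, hk⟩ : dv i ∣ d := Finset.dvd_prod_of_mem dv (Finset.mem_univ i)
  have hki : k ≤ a i :=
    Nat.le_of_mul_le_mul_right (c := dv i) (by rw [mul_comm k, ← hk]; exact hi) (hpos _ i.2)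
  let a' : E → ℕ := Function.update a i (a i - k)
  have hoff : ∀ j ∈ Finset.univ.erase i, a' j = a j := fun j hj =>
    Function.update_of_ne (Finset.ne_of_mem_erase hj) _ _
  have hai' : a' i = a i - k := Function.update_self _ _ _
  have e1 : c * ∏ j, v j ^ a j = v i ^ k * (c * ∏ j, v j ^ a' j) := by
    have hp : ∏ j ∈ Finset.univ.erase i, v j ^ a' j = ∏ j ∈ Finset.univ.erase i, v j ^ a j :=
      Finset.prod_congr rfl fun j hj => by rw [hoff j hj]
    rw [← Finset.mul_prod_erase _ _ (Finset.mem_univ i),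
      ← Finset.mul_prod_erase Finset.univ (fun j => v j ^ a' j) (Finset.mem_univ i), hp, hai']
    have h1 : v i ^ k * v i ^ (a i - k) = v i ^ a i := by rw [← pow_add]; congr 1; omega
    rw [← h1]; ring
  have e2 : ∑ j, a' j * dv j = N - d := by
    rw [← Finset.add_sum_erase _ _ (Finset.mem_univ i),
      Finset.sum_congr rfl (g := fun j => a j * dv j) (fun j hj => by rw [hoff j hj]), hai']
    rw [← Finset.add_sum_erase _ _ (Finset.mem_univ i)] at ha
    simp only [Nat.sub_mul]
    have : k * dv i = d := by rw [hk, mul_comm]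
    omega
  rw [e1]
  refine Submodule.mul_mem_mul ?_ ?_
  · have := SetLike.pow_mem_graded k (hdeg _ i.2) (A := 𝒜)
    rwa [show k • deg (i : A) = d by rw [smul_eq_mul, mul_comm]; exact hk.symm] at this
  · have := graded_mul_mem 𝒜 hc (prod_pow_mem 𝒜 v dv (fun e => hdeg _ e.2) a')
    rwa [zero_add, e2] at this

omit [GradedAlgebra 𝒜] in
theorem le_pow_mul_of_period {d N₀ : ℕ} (hd : ∀ N, N₀ ≤ N → 𝒜 N ≤ 𝒜 d * 𝒜 (N - d)) (k : ℕ)
    {N : ℕ} (hN : N₀ ≤ N) : 𝒜 (N + k * d) ≤ (𝒜 d : Submodule R A) ^ k * 𝒜 N := by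
  induction k with
  | zero => rw [pow_zero, one_mul, zero_mul, add_zero]
  | succ k ih =>
    refine (hd _ (le_add_right hN)).trans ?_
    have e : N + (k + 1) * d - d = N + k * d := by rw [Nat.succ_mul]; omega
    rw [e, pow_succ', mul_assoc]
    exact mul_le_mul' le_rfl ih

theorem exists_pow_degree_eq [Algebra.FiniteType (𝒜 0) A] :
    ∃ h : ℕ, 0 < h ∧ ∀ m : ℕ, 0 < m → 𝒜 (m * h) = (𝒜 h : Submodule R A) ^ m := by
  obtain ⟨d, hd0, N₀, hd⟩ := exists_period 𝒜
  refine ⟨(N₀ + 1) * d, by positivity, fun m hm => le_antisymm ?_ (pow_graded_le 𝒜 _ m)⟩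
  induction m, hm using Nat.le_induction with
  | base => simp
  | succ m hm ih =>
    have hN : N₀ ≤ m * ((N₀ + 1) * d) := by
      calc N₀ ≤ 1 * ((N₀ + 1) * 1) := by omega
        _ ≤ m * ((N₀ + 1) * d) := Nat.mul_le_mul hm (Nat.mul_le_mul le_rfl hd0)
    rw [Nat.succ_mul, pow_succ']
    exact (le_pow_mul_of_period 𝒜 hd _ hN).trans (mul_le_mul' (pow_graded_le 𝒜 d _) ih)

section Module

variable {M : Type*} [AddCommGroup M] [Module R M] [Module A M]
variable (ℳ : ℕ → Submodule R M) [DirectSum.Decomposition ℳ] [SetLike.GradedSMul 𝒜 ℳ]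

theorem proj_mem_closure_of_mem_span_module {S : Set M} (deg : M → ℕ)
    (hS : ∀ s ∈ S, s ∈ ℳ (deg s)) {x : M} (hx : x ∈ Submodule.span A S) (n : ℕ) :
    (decompose ℳ x n : M) ∈ AddSubmonoid.closure
      {y : M | ∃ s ∈ S, ∃ j : ℕ, ∃ a ∈ 𝒜 j, j + deg s = n ∧ y = a • s} := by
  induction hx using Submodule.span_induction generalizing n with
  | mem s hs =>
    rw [decompose_of_mem ℳ (hS s hs)]
    by_cases h : deg s = n
    · subst h
      rw [of_eq_same]
      exact AddSubmonoid.subset_closure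
        ⟨s, hs, 0, 1, SetLike.GradedOne.one_mem, by simp, by simp⟩
    · rw [of_eq_of_ne _ _ _ (Ne.symm h)]
      exact zero_mem _
  | zero => simp
  | add x y _ _ hx hy =>
    rw [decompose_add, DirectSum.add_apply, Submodule.coe_add]
    exact add_mem (hx n) (hy n)
  | smul a x _ hx =>
    classical
    rw [← sum_support_decompose 𝒜 a, ← sum_support_decompose ℳ x, Finset.sum_smul]
    simp only [Finset.smul_sum, decompose_sum]
    rw [DFinsupp.finsetSum_apply, Submodule.coe_sum]
    refine sum_mem fun i _ => ?_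
    rw [DFinsupp.finsetSum_apply, Submodule.coe_sum]
    refine sum_mem fun j _ => ?_
    have hmem : (decompose 𝒜 a i : A) • (decompose ℳ x j : M) ∈ ℳ (i + j) :=
      SetLike.GradedSMul.smul_mem (decompose 𝒜 a i).2 (decompose ℳ x j).2
    by_cases hn : i + j = n
    · rw [decompose_of_mem_same ℳ (hn ▸ hmem)]
      have hxj := hx j
      revert hxj
      generalize (decompose ℳ x j : M) = y
      intro hy
      induction hy using AddSubmonoid.closure_induction with
      | mem y hy =>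
        obtain ⟨s, hs, l, c, hc, hl, rfl⟩ := hy
        exact AddSubmonoid.subset_closure
          ⟨s, hs, i + l, _, graded_mul_mem 𝒜 (decompose 𝒜 a i).2 hc, by omega, (mul_smul _ _ _).symm⟩
      | zero => simp
      | add y z _ _ hy hz => rw [smul_add]; exact add_mem hy hz
    · rw [decompose_of_mem_ne ℳ hmem hn]; exact zero_mem _

omit [Algebra R A] in
theorem exists_homogeneous_generators [Module.Finite A M] :
    ∃ (S : Finset M) (deg : M → ℕ), (∀ s ∈ S, s ∈ ℳ (deg s)) ∧ Submodule.span A (S : Set M) = ⊤ := by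
  classical
  obtain ⟨F, hF⟩ := (Module.Finite.fg_top : (⊤ : Submodule A M).FG)
  let S : Finset M := F.biUnion fun x => (decompose ℳ x).support.image fun i => (decompose ℳ x i : M)
  have hS : ∀ s ∈ S, ∃ i, s ∈ ℳ i := by
    intro s hs
    simp only [S, Finset.mem_biUnion, Finset.mem_image] at hs
    obtain ⟨x, -, i, -, rfl⟩ := hs
    exact ⟨i, (decompose ℳ x i).2⟩
  choose! deg hdeg using hS
  refine ⟨S, deg, hdeg, top_le_iff.1 (hF ▸ Submodule.span_le.2 fun x hx => ?_)⟩
  rw [SetLike.mem_coe, ← sum_support_decompose ℳ x]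
  exact sum_mem fun i hi => Submodule.subset_span
    (Finset.mem_biUnion.2 ⟨x, hx, Finset.mem_image.2 ⟨i, hi, rfl⟩⟩)

theorem exists_module_period [IsScalarTower R A M] [Algebra.FiniteType (𝒜 0) A] [Module.Finite A M] :
    ∃ (n₁ h : ℕ), 0 < h ∧ ∀ n : ℕ, n₁ ≤ n →
      ℳ (n + h) = (𝒜 h : Submodule R A) • (ℳ n : Submodule R M) := by
  obtain ⟨d, hd0, N₀, hd⟩ := exists_period 𝒜
  obtain ⟨S, deg, hS, hspan⟩ := exists_homogeneous_generators (A := A) ℳ
  refine ⟨S.sup deg + N₀, d, hd0, fun n hn => le_antisymm (fun x hx => ?_) ?_⟩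
  · have h := proj_mem_closure_of_mem_span_module 𝒜 ℳ deg hS
      (hspan ▸ Submodule.mem_top : x ∈ Submodule.span A (S : Set M)) (n + d)
    rw [decompose_of_mem_same ℳ hx] at h
    refine AddSubmonoid.closure_induction ?_ (zero_mem _) (fun _ _ _ _ => add_mem) h
    rintro _ ⟨s, hs, j, a, ha, hj, rfl⟩
    have hsle : deg s ≤ S.sup deg := Finset.le_sup hs
    refine Submodule.mul_induction_on (hd j (by omega) ha) (fun b hb c hc => ?_)
      (fun y z hy hz => by rw [add_smul]; exact add_mem hy hz)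
    rw [mul_smul]
    refine Submodule.smul_mem_smul hb ?_
    have hcs : c • s ∈ ℳ (j - d + deg s) := SetLike.GradedSMul.smul_mem hc (hS s hs)
    rwa [show j - d + deg s = n by omega] at hcs
  · refine Submodule.smul_le.2 fun b hb m hm => ?_
    rw [add_comm]
    exact SetLike.GradedSMul.smul_mem hb hm

end Module

end Groth.Agent.H11Proj
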