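import Groth.Agent.H11Proj.Spectrum
import Mathlib.AlgebraicGeometry.ProjectiveSpectrum.Functor
import Mathlib.AlgebraicGeometry.Morphisms.ClosedImmersion
import Mathlib.AlgebraicGeometry.Morphisms.Affine
import Mathlib.AlgebraicGeometry.Properties

/-!
# The maps between projective spectra
-/

set_option autoImplicit false
universe u

namespace Groth.Agent.H11Proj

open CategoryTheory CategoryTheory.Limits AlgebraicGeometry HomogeneousLocalization DirectSum

variable {A B σ τ : Type u} [CommRing A] [SetLike σ A] [AddSubgroupClass σ A]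
  [CommRing B] [SetLike τ B] [AddSubgroupClass τ B]
variable {𝒜 : ℕ → σ} [GradedRing 𝒜] {ℬ : ℕ → τ} [GradedRing ℬ]
variable (φ : 𝒜 →+*ᵍ ℬ) (hφ : HomogeneousIdeal.irrelevant ℬ ≤ (HomogeneousIdeal.irrelevant 𝒜).map φ)

theorem isPullback_awayι_map {i : ℕ} (hi : 0 < i) (s : A) (hs : s ∈ 𝒜 i) :
    IsPullback (Spec.map (CommRingCat.ofHom (Away.map φ s))) (Proj.awayι ℬ (φ s) (φ.2 hs) hi)
      (Proj.awayι 𝒜 s hs hi) (Proj.map φ hφ) := by
  apply IsOpenImmersion.isPullback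
  · exact Proj.awayι_comp_map φ hφ hi s hs
  · rw [Proj.opensRange_awayι, Proj.opensRange_awayι, Proj.map_preimage_basicOpen]

theorem map_of_away {P : MorphismProperty Scheme.{u}} [IsZariskiLocalAtTarget P]
    (H : ∀ (i : ℕ) (s : A), 0 < i → s ∈ 𝒜 i →
      P (Spec.map (CommRingCat.ofHom (Away.map φ s)))) :
    P (Proj.map φ hφ) := by
  refine IsZariskiLocalAtTarget.of_openCover (Proj.affineOpenCover 𝒜).openCover fun j => ?_
  have h := (isPullback_awayι_map φ hφ j.1.2 j.2.1 j.2.2).flip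
  have hj := H j.1 j.2.1 j.1.2 j.2.2
  rw [← h.isoPullback_hom_snd] at hj
  exact (P.cancel_left_of_respectsIso _ _).1 hj

theorem map_proj (a : A) (n : ℕ) : φ (decompose 𝒜 a n : A) = (decompose ℬ (φ a) n : B) :=
  φ.map_directSumDecompose

theorem exists_mem_of_surjective (hφs : Function.Surjective φ) {n : ℕ} {b : B} (hb : b ∈ ℬ n) :
    ∃ a ∈ 𝒜 n, φ a = b := by
  obtain ⟨a, rfl⟩ := hφs b
  exact ⟨_, (decompose 𝒜 a n).2, by rw [map_proj, decompose_of_mem_same ℬ hb]⟩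

theorem away_map_surjective (hφs : Function.Surjective φ) {i : ℕ} {s : A} (hs : s ∈ 𝒜 i) :
    Function.Surjective (Away.map φ s) := by
  intro z
  obtain ⟨n, b, hb, rfl⟩ := Away.mk_surjective ℬ (φ.2 hs) z
  obtain ⟨a, ha, rfl⟩ := exists_mem_of_surjective φ hφs hb
  exact ⟨Away.mk 𝒜 hs n a ha, Away.map_mk φ s hs n a ha⟩

theorem isClosedImmersion_map (hφs : Function.Surjective φ) : IsClosedImmersion (Proj.map φ hφ) :=
  map_of_away φ hφ fun _ _ _ hs =>
    IsClosedImmersion.spec_of_surjective _ (away_map_surjective φ hφs hs)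

theorem isAffineHom_map : IsAffineHom (Proj.map φ hφ) :=
  map_of_away φ hφ fun _ _ _ _ => inferInstance

theorem denseRange_map (hker : ∀ a : A, φ a = 0 → IsNilpotent a) :
    DenseRange (Proj.map φ hφ).base := by
  change DenseRange (ProjectiveSpectrum.comap φ hφ)
  rw [DenseRange, (ProjectiveSpectrum.isTopologicalBasis_basic_opens 𝒜).dense_iff]
  rintro _ ⟨r, rfl⟩ ⟨x, hx⟩
  obtain ⟨n, hn⟩ : ∃ n, (decompose 𝒜 r n : A) ∉ x.asHomogeneousIdeal.toIdeal := by
    classical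
    by_contra h
    push Not at h
    exact hx (sum_support_decompose 𝒜 r ▸ sum_mem (fun n _ => h n))
  -- a homogeneous element of positive degree not vanishing at `x`
  obtain ⟨k, hk, t, ht, htx⟩ : ∃ k, 0 < k ∧ ∃ t ∈ 𝒜 k, t ∉ x.asHomogeneousIdeal.toIdeal := by
    by_contra h
    push Not at h
    exact x.not_irrelevant_le ((irrelevant_le_iff 𝒜).2 fun d hd a ha => h d hd a ha)
  have hst : (decompose 𝒜 r n : A) * t ∈ 𝒜 (n + k) := graded_mul_mem 𝒜 (decompose 𝒜 r n).2 ht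
  have hsx : (decompose 𝒜 r n : A) * t ∉ x.asHomogeneousIdeal.toIdeal := fun h =>
    (x.isPrime.mem_or_mem h).elim hn htx
  have hnil : φ ((decompose 𝒜 r n : A) * t) ∉ (⊥ : Ideal B).radical := by
    rintro ⟨m, hm⟩
    rw [← map_pow] at hm
    obtain ⟨p, hp⟩ := hker _ hm
    exact hsx (mem_point_of_isNilpotent 𝒜 ⟨m * p, by rw [pow_mul, hp]⟩ x)
  obtain ⟨y, -, hy⟩ := exists_point_of_not_mem_radical ℬ (Ideal.IsHomogeneous.bot ℬ)
    (Nat.add_pos_right n hk) (φ.2 hst) hnil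
  refine ⟨_, ?_, y, rfl⟩
  intro hr
  exact hy (Ideal.mul_mem_right _ _
    (decompose_mem 𝒜 (I := (ProjectiveSpectrum.comap φ hφ y).asHomogeneousIdeal) hr n))

theorem mk_eq_zero_iff_exists_pow {A : Type u} [CommRing A] {f : A} (a : A)
    (s : Submonoid.powers f) :
    Localization.mk a s = 0 ↔ ∃ l : ℕ, f ^ l * a = 0 := by
  rw [Localization.mk_eq_mk', IsLocalization.mk'_eq_zero_iff]
  exact ⟨fun ⟨⟨_, l, rfl⟩, h⟩ => ⟨l, h⟩, fun ⟨l, h⟩ => ⟨⟨_, l, rfl⟩, h⟩⟩

theorem isReduced_proj (hred : ∀ f ∈ (HomogeneousIdeal.irrelevant 𝒜).toIdeal, IsNilpotent f → f = 0) :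
    AlgebraicGeometry.IsReduced (Proj 𝒜) := by
  refine (IsReduced.iff_of_openCover _ (Proj.affineOpenCover 𝒜).openCover).2 fun j => ?_
  have : _root_.IsReduced (Away 𝒜 (j.2 : A)) := by
    refine ⟨fun z ⟨k, hk⟩ => ?_⟩
    obtain ⟨n, a, ha, rfl⟩ := Away.mk_surjective 𝒜 j.2.2 z
    apply val_injective
    have := congrArg val hk
    simp only [val_pow, Away.val_mk, val_zero, Localization.mk_pow] at this ⊢
    obtain ⟨l, hl⟩ := (mk_eq_zero_iff_exists_pow _ _).1 this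
    refine (mk_eq_zero_iff_exists_pow _ _).2 ⟨1, ?_⟩
    rw [pow_one]
    refine hred _ (Ideal.mul_mem_right _ _ (mem_irrelevant_of_pos 𝒜 j.1.2 j.2.2)) ⟨l + k, ?_⟩
    rw [mul_pow, pow_add (j.2 : A), pow_add a]
    calc (j.2 : A) ^ l * (j.2 : A) ^ k * (a ^ l * a ^ k)
        = ((j.2 : A) ^ k * a ^ l) * ((j.2 : A) ^ l * a ^ k) := by ring
      _ = 0 := by rw [hl, mul_zero]
  exact (inferInstance : AlgebraicGeometry.IsReduced (Spec (CommRingCat.of (Away 𝒜 (j.2 : A)))))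

end Groth.Agent.H11Proj
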