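import Groth.Agent.H11Proj.DegZeroProj

/-!
# Localisation at an element of degree one
-/

set_option autoImplicit false
universe u

namespace Groth.Agent.H11Proj

open HomogeneousLocalization DirectSum

variable {A σ : Type u} [CommRing A] [SetLike σ A] [AddSubgroupClass σ A]
variable (𝒜 : ℕ → σ) [GradedRing 𝒜] {f : A} (hf : f ∈ 𝒜 1)

/-- For `f` of degree one, `a ↦ Σ aₙ / f ^ n` is a ring homomorphism. -/
noncomputable def awayProjHom : A →+* Away 𝒜 f :=
  { awayProj 𝒜 hf with
    map_one' := by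
      have h1 : (1 : A) ∈ 𝒜 (0 • 1) := by rw [zero_smul]; exact SetLike.GradedOne.one_mem
      change awayProj 𝒜 hf 1 = 1
      rw [awayProj_mk 𝒜 hf one_pos h1]
      apply val_injective
      rw [val_one, Away.val_mk, ← Localization.mk_one]
      congr 1
      exact Subtype.ext (pow_zero f)
    map_mul' := fun a b => by
      refine eq_on_homogeneous 𝒜 (g₁ := (awayProj 𝒜 hf).comp (AddMonoidHom.mulRight b))
        (g₂ := (AddMonoidHom.mulRight (awayProj 𝒜 hf b)).comp (awayProj 𝒜 hf)) (fun k c hc => ?_) a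
      exact awayProj_mul 𝒜 hf one_pos (n := k) (by rwa [smul_eq_mul, mul_one]) b }

theorem awayProjHom_mk {n : ℕ} {a : A} (ha : a ∈ 𝒜 (n • 1)) :
    awayProjHom 𝒜 hf a = Away.mk 𝒜 hf n a ha := awayProj_mk 𝒜 hf one_pos ha

theorem awayProjHom_self : awayProjHom 𝒜 hf f = 1 := awayProj_self 𝒜 hf one_pos

theorem awayProjHom_zero (c : 𝒜 0) :
    awayProjHom 𝒜 hf (c : A) = fromZeroRingHom 𝒜 (Submonoid.powers f) c := by
  have h := awayProj_zero_mul 𝒜 hf one_pos c 1
  rw [mul_one] at h
  refine h.trans ?_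
  change _ * awayProjHom 𝒜 hf 1 = _
  rw [map_one, mul_one]

end Groth.Agent.H11Proj
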