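import Groth.Agent.H11Proj.Graded
import Mathlib.AlgebraicGeometry.ProjectiveSpectrum.Topology
import Mathlib.RingTheory.GradedAlgebra.Radical

/-!
# Points of the projective spectrum
-/

set_option autoImplicit false

namespace Groth.Agent.H11Proj

open DirectSum HomogeneousIdeal

variable {A σ : Type*} [CommRing A] [SetLike σ A] [AddSubgroupClass σ A]
variable (𝒜 : ℕ → σ) [GradedRing 𝒜]

theorem exists_point_of_not_mem_radical {I : Ideal A} (hI : I.IsHomogeneous 𝒜) {f : A} {d : ℕ}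
    (hd : 0 < d) (hfd : f ∈ 𝒜 d) (hf : f ∉ I.radical) :
    ∃ x : ProjectiveSpectrum 𝒜, I ≤ x.asHomogeneousIdeal.toIdeal ∧
      f ∉ x.asHomogeneousIdeal.toIdeal := by
  rw [Ideal.radical_eq_sInf, Submodule.mem_sInf] at hf
  push Not at hf
  obtain ⟨P, ⟨hIP, hP⟩, hfP⟩ := hf
  have hf' : f ∉ (Ideal.homogeneousCore 𝒜 P).toIdeal := fun h =>
    hfP (Ideal.toIdeal_homogeneousCore_le 𝒜 P h)
  refine ⟨⟨Ideal.homogeneousCore 𝒜 P, hP.homogeneousCore, fun h => hf' ?_⟩, ?_, hf'⟩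
  · exact h (mem_irrelevant_of_pos 𝒜 hd hfd)
  · exact hI.toIdeal_homogeneousCore_eq_self.symm.trans_le (Ideal.homogeneousCore_mono 𝒜 hIP)

theorem decompose_mem {I : HomogeneousIdeal 𝒜} {a : A} (ha : a ∈ I.toIdeal) (i : ℕ) :
    (decompose 𝒜 a i : A) ∈ I.toIdeal :=
  I.isHomogeneous i ha

theorem decompose_zero_eq_zero_of_mem_irrelevant {a : A} (ha : a ∈ (irrelevant 𝒜).toIdeal) :
    (decompose 𝒜 a 0 : A) = 0 := ha

/-- To check that an element of the irrelevant ideal is in the radical of a homogeneous ideal, it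
suffices to check that it vanishes at all points of the vanishing locus. -/
theorem mem_radical_of_forall_point {I : Ideal A} (hI : I.IsHomogeneous 𝒜) {a : A}
    (ha : a ∈ (irrelevant 𝒜).toIdeal)
    (h : ∀ x : ProjectiveSpectrum 𝒜, I ≤ x.asHomogeneousIdeal.toIdeal →
      a ∈ x.asHomogeneousIdeal.toIdeal) : a ∈ I.radical := by
  classical
  rw [← sum_support_decompose 𝒜 a]
  refine sum_mem fun i _ => ?_
  rcases Nat.eq_zero_or_pos i with rfl | hi
  · rw [decompose_zero_eq_zero_of_mem_irrelevant 𝒜 ha]; exact zero_mem _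
  by_contra hf
  obtain ⟨x, hx, hx'⟩ := exists_point_of_not_mem_radical 𝒜 hI hi (decompose 𝒜 a i).2 hf
  exact hx' (decompose_mem 𝒜 (h x hx) i)

theorem isNilpotent_of_forall_point {a : A} (ha : a ∈ (irrelevant 𝒜).toIdeal)
    (h : ∀ x : ProjectiveSpectrum 𝒜, a ∈ x.asHomogeneousIdeal.toIdeal) : IsNilpotent a :=
  mem_radical_of_forall_point 𝒜 (Ideal.IsHomogeneous.bot 𝒜) ha fun x _ => h x

theorem mem_point_of_isNilpotent {a : A} (ha : IsNilpotent a) (x : ProjectiveSpectrum 𝒜) :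
    a ∈ x.asHomogeneousIdeal.toIdeal := by
  obtain ⟨n, hn⟩ := ha
  exact x.isPrime.mem_of_pow_mem n (hn ▸ zero_mem _)

theorem isEmpty_iff :
    IsEmpty (ProjectiveSpectrum 𝒜) ↔
      ∀ f ∈ (irrelevant 𝒜).toIdeal, IsNilpotent f := by
  constructor
  · intro h f hf
    exact isNilpotent_of_forall_point 𝒜 hf fun x => h.elim x
  · intro h
    exact ⟨fun x => x.not_irrelevant_le fun f hf => mem_point_of_isNilpotent 𝒜 (h f hf) x⟩

theorem zeroLocus_eq_univ_iff {E : Set A} (hE : E ⊆ (irrelevant 𝒜).toIdeal) :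
    ProjectiveSpectrum.zeroLocus 𝒜 E = Set.univ ↔ ∀ e ∈ E, IsNilpotent e := by
  rw [Set.eq_univ_iff_forall]
  exact ⟨fun h e he => isNilpotent_of_forall_point 𝒜 (hE he) fun x => h x he,
    fun h x e he => mem_point_of_isNilpotent 𝒜 (h e he) x⟩

theorem mem_vanishingIdeal_iff (t : Set (ProjectiveSpectrum 𝒜)) (f : A) :
    f ∈ (ProjectiveSpectrum.vanishingIdeal t).toIdeal ↔
      ∀ x ∈ t, f ∈ x.asHomogeneousIdeal.toIdeal :=
  ProjectiveSpectrum.mem_vanishingIdeal t f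

theorem irrelevant_inf_vanishingIdeal_zeroLocus (E : Set A) :
    (irrelevant 𝒜).toIdeal ⊓
        (ProjectiveSpectrum.vanishingIdeal (ProjectiveSpectrum.zeroLocus 𝒜 E)).toIdeal =
      (irrelevant 𝒜).toIdeal ⊓ (Ideal.homogeneousHull 𝒜 (Ideal.span E)).toIdeal.radical := by
  apply le_antisymm
  · rintro a ⟨ha, ha'⟩
    refine ⟨ha, mem_radical_of_forall_point 𝒜 (HomogeneousIdeal.isHomogeneous _) ha fun x hx => ?_⟩
    refine (mem_vanishingIdeal_iff 𝒜 _ a).1 ha' x fun e he => hx ?_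
    exact Ideal.le_toIdeal_homogeneousHull _ _ (Ideal.subset_span he)
  · rintro a ⟨ha, n, hn⟩
    refine ⟨ha, (mem_vanishingIdeal_iff 𝒜 _ a).2 fun x hx => x.isPrime.mem_of_pow_mem n ?_⟩
    exact (Ideal.homogeneousHull.gc 𝒜 _ x.asHomogeneousIdeal).2 (Ideal.span_le.2 hx) hn

end Groth.Agent.H11Proj
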