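import Groth.Prelude.Def_CohB1
import Groth.Agent.H11Proj.AwayOne
import Groth.Agent.H11Proj.Spectrum
import Mathlib.RingTheory.MvPolynomial.Ideal

/-!
# The standard charts of projective space
-/

set_option autoImplicit false
universe u

namespace Groth.Agent.H11Proj.ProjSpace

open CategoryTheory CategoryTheory.Limits AlgebraicGeometry HomogeneousLocalization MvPolynomial CohB1

variable (n : ℕ) (R : Type u) [CommRing R]

theorem X_mem (i : Fin (n + 1)) : (X i : MvPolynomial (Fin (n + 1)) R) ∈ polyGrading n R 1 :=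
  MvPolynomial.isHomogeneous_X R i

theorem irrelevant_le_span :
    (HomogeneousIdeal.irrelevant (polyGrading n R)).toIdeal ≤
      Ideal.span (Set.range (X : Fin (n + 1) → MvPolynomial (Fin (n + 1)) R)) := by
  rw [irrelevant_le_iff]
  intro d hd p hp
  rw [← Set.image_univ, mem_ideal_span_X_image]
  intro m hm
  by_contra hc
  push Not at hc
  have hm0 : m = 0 := Finsupp.ext fun i => hc i (Set.mem_univ i)
  have hcoeff : coeff m p ≠ 0 := mem_support_iff.1 hm
  have := hp hcoeff
  rw [hm0] at this
  simp at this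
  omega

theorem iSup_basicOpen : (⨆ i : Fin (n + 1), Proj.basicOpen (polyGrading n R) (X i)) = ⊤ :=
  Proj.iSup_basicOpen_eq_top (polyGrading n R) _ (irrelevant_le_span n R)

/-- Dehomogenisation with respect to `X i`. -/
noncomputable def dehom (i : Fin (n + 1)) :
    MvPolynomial (Fin (n + 1)) R →+* MvPolynomial {j : Fin (n + 1) // j ≠ i} R :=
  MvPolynomial.eval₂Hom C (fun j => if h : j = i then 1 else X ⟨j, h⟩)

/-- The chart map from `R[T_j, j ≠ i]`. -/
noncomputable def chartMap (i : Fin (n + 1)) :
    MvPolynomial {j : Fin (n + 1) // j ≠ i} R →+* Away (polyGrading n R) (X i) :=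
  MvPolynomial.eval₂Hom
    ((fromZeroRingHom (polyGrading n R) (Submonoid.powers (X i))).comp (algebraMap R (polyGrading n R 0)))
    (fun j => (HomogeneousLocalization.mk ⟨1, ⟨X j.1, isHomogeneous_X R j.1⟩,
      ⟨X i, isHomogeneous_X R i⟩, ⟨1, pow_one _⟩⟩ : Away (polyGrading n R) (X i)))

theorem chartMap_comp_dehom (i : Fin (n + 1)) :
    (chartMap n R i).comp (dehom n R i) = awayProjHom (polyGrading n R) (X_mem n R i) := by
  refine MvPolynomial.ringHom_ext (fun r => ?_) (fun j => ?_)
  · simp only [RingHom.comp_apply, dehom, chartMap, eval₂Hom_C]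
    exact (awayProjHom_zero (polyGrading n R) (X_mem n R i) (algebraMap R (polyGrading n R 0) r)).symm
  · simp only [RingHom.comp_apply, dehom, eval₂Hom_X']
    by_cases h : j = i
    · rw [dif_pos h, map_one, h, awayProjHom_self]
    · rw [dif_neg h, chartMap, eval₂Hom_X']
      have hj : (X j : MvPolynomial (Fin (n + 1)) R) ∈ polyGrading n R (1 • 1) := by
        rw [one_smul]; exact X_mem n R j
      rw [awayProjHom_mk (polyGrading n R) (X_mem n R i) hj]
      apply val_injective
      rw [Away.val_mk, val_mk]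
      congr 1
      exact Subtype.ext (pow_one _).symm

theorem isUnit_dehom_X (i : Fin (n + 1)) : IsUnit (dehom n R i (X i)) := by
  simp [dehom]

/-- The inverse of the chart map. -/
noncomputable def chartInv (i : Fin (n + 1)) :
    Away (polyGrading n R) (X i) →+* MvPolynomial {j : Fin (n + 1) // j ≠ i} R :=
  (IsLocalization.Away.lift (S := Localization.Away (X i : MvPolynomial (Fin (n + 1)) R)) (X i)
    (isUnit_dehom_X n R i)).comp
      (algebraMap (Away (polyGrading n R) (X i)) (Localization.Away (X i : MvPolynomial (Fin (n + 1)) R)))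

theorem chartInv_mk (i : Fin (n + 1)) {k : ℕ} {a : MvPolynomial (Fin (n + 1)) R}
    (ha : a ∈ polyGrading n R (k • 1)) :
    chartInv n R i (Away.mk (polyGrading n R) (X_mem n R i) k a ha) = dehom n R i a := by
  change IsLocalization.Away.lift _ (isUnit_dehom_X n R i) (Away.mk (polyGrading n R) (X_mem n R i) k a ha).val = _
  rw [Away.val_mk, Localization.mk_eq_mk']
  rw [IsLocalization.Away.lift, IsLocalization.lift_mk'_spec]
  simp [dehom]

theorem chartInv_awayProjHom (i : Fin (n + 1)) :
    (chartInv n R i).comp (awayProjHom (polyGrading n R) (X_mem n R i)) = dehom n R i := by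
  refine RingHom.ext fun a => eq_on_homogeneous (polyGrading n R)
    (g₁ := ((chartInv n R i).comp (awayProjHom (polyGrading n R) (X_mem n R i))).toAddMonoidHom)
    (g₂ := (dehom n R i).toAddMonoidHom) (fun k c hc => ?_) a
  have hc' : c ∈ polyGrading n R (k • 1) := by rwa [smul_eq_mul, mul_one]
  change chartInv n R i (awayProjHom (polyGrading n R) (X_mem n R i) c) = dehom n R i c
  rw [awayProjHom_mk _ _ hc', chartInv_mk]

theorem chartMap_bijective (i : Fin (n + 1)) : Function.Bijective (chartMap n R i) := by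
  refine ⟨Function.LeftInverse.injective (g := chartInv n R i) (fun p => ?_), fun z => ?_⟩
  · suffices h : (chartInv n R i).comp (chartMap n R i) = RingHom.id _ from RingHom.congr_fun h p
    refine MvPolynomial.ringHom_ext (fun r => ?_) (fun j => ?_)
    · have h1 := RingHom.congr_fun (chartInv_awayProjHom n R i) (C r)
      rw [← chartMap_comp_dehom] at h1
      simpa [dehom] using h1
    · have h1 := RingHom.congr_fun (chartInv_awayProjHom n R i) (X j.1)
      rw [← chartMap_comp_dehom] at h1
      simpa [dehom, j.2] using h1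
  · obtain ⟨k, a, ha, rfl⟩ := Away.mk_surjective (polyGrading n R) (X_mem n R i) z
    refine ⟨dehom n R i a, ?_⟩
    rw [← RingHom.comp_apply, chartMap_comp_dehom, awayProjHom_mk _ _ ha]

/-- The structure map in a chart. -/
theorem awayι_toSpec (i : Fin (n + 1)) :
    Proj.awayι (polyGrading n R) (X i) (X_mem n R i) one_pos ≫ CohB1.ProjSpace.toSpec n R =
      Spec.map (CommRingCat.ofHom ((chartMap n R i).comp C)) := by
  have e : (chartMap n R i).comp C =
      (fromZeroRingHom (polyGrading n R) (Submonoid.powers (X i))).comp (algebraMap R (polyGrading n R 0)) :=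
    RingHom.ext fun r => by simp [chartMap]
  rw [e]
  exact (Proj.awayι_toSpecZero_assoc (polyGrading n R) (X i) (X_mem n R i) one_pos _).trans
    (Spec.map_comp _ _).symm

theorem exists_section :
    ∃ s : Spec (CommRingCat.of R) ⟶ CohB1.ProjSpace n R, s ≫ CohB1.ProjSpace.toSpec n R = 𝟙 _ := by
  refine ⟨Spec.map (CommRingCat.ofHom ((MvPolynomial.eval (fun _ : {j : Fin (n + 1) // j ≠ 0} => (0 : R))).comp
    (chartInv n R 0))) ≫ Proj.awayι (polyGrading n R) (X 0) (X_mem n R 0) one_pos, ?_⟩
  rw [Category.assoc]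
  erw [awayι_toSpec]
  rw [← Spec.map_comp]
  rw [← Spec.map_id]
  congr 1
  refine CommRingCat.hom_ext (RingHom.ext fun r => ?_)
  have h1 := RingHom.congr_fun (chartInv_awayProjHom n R 0) (C r)
  rw [← chartMap_comp_dehom] at h1
  simp [dehom] at h1
  simp [h1]

theorem isIso_toSpec_zero : IsIso (CohB1.ProjSpace.toSpec 0 R) := by
  have htop : Proj.basicOpen (polyGrading 0 R) (X 0) = ⊤ := by
    rw [← iSup_basicOpen 0 R]
    refine le_antisymm (le_iSup (fun i => Proj.basicOpen (polyGrading 0 R) (X i)) 0) (iSup_le fun i => ?_)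
    rw [Subsingleton.elim (α := Fin 1) i 0]
  let j := Proj.awayι (polyGrading 0 R) (X 0) (X_mem 0 R 0) one_pos
  have : IsIso j := by
    have hr : j.opensRange = ⊤ := by
      rw [Proj.opensRange_awayι]; exact htop
    exact isIso_of_isOpenImmersion_of_opensRange_eq_top j hr
  have : IsEmpty {j : Fin (0 + 1) // j ≠ 0} := ⟨fun j => j.2 (Subsingleton.elim (α := Fin 1) _ _)⟩
  have : IsIso (CommRingCat.ofHom ((chartMap 0 R 0).comp C)) :=
    (ConcreteCategory.isIso_iff_bijective _).2
      ((chartMap_bijective 0 R 0).comp ⟨C_injective _ _, C_surjective _⟩)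
  have : IsIso (j ≫ CohB1.ProjSpace.toSpec 0 R) := by rw [awayι_toSpec]; infer_instance
  exact IsIso.of_isIso_comp_left j _

end Groth.Agent.H11Proj.ProjSpace
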