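import Groth.Agent.H11Proj.ChartAlgProj
import Groth.Agent.H11Ample.RelPullback
import Groth.Agent.H11Ample.ToPn

/-!
# H-projective morphisms are projective
-/

set_option autoImplicit false
set_option linter.style.haveILetI false

noncomputable section

universe u

open CategoryTheory CategoryTheory.Limits AlgebraicGeometry TopologicalSpace Opposite
open Groth.Agent.H11Tilde

namespace Groth.Agent.H11Proj

/-- A closed subscheme of an affine piece `D × U` of a product over a terminal base has its functions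
generated by those of `D` and of `U`. -/
theorem closure_range_eq_top {P D S T : Scheme.{u}} (hT : IsTerminal T) {a : D ⟶ T} {b : S ⟶ T}
    {p₁ : P ⟶ D} {p₂ : P ⟶ S} (hP : IsPullback p₁ p₂ a b) {A : D.Opens} (hA : IsAffineOpen A) {U : S.Opens}
    (hU : IsAffineOpen U) (hW : IsAffineOpen (p₁ ⁻¹ᵁ A ⊓ p₂ ⁻¹ᵁ U)) :
    Subring.closure (Set.range (p₁.appLE A (p₁ ⁻¹ᵁ A ⊓ p₂ ⁻¹ᵁ U) inf_le_left) ∪
      Set.range (p₂.appLE U (p₁ ⁻¹ᵁ A ⊓ p₂ ⁻¹ᵁ U) inf_le_right)) = ⊤ := by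
  set W := p₁ ⁻¹ᵁ A ⊓ p₂ ⁻¹ᵁ U with hWdef
  let R := Subring.closure (Set.range (p₁.appLE A W inf_le_left) ∪ Set.range (p₂.appLE U W inf_le_right))
  let φ₁ : Γ(D, A) ⟶ CommRingCat.of R := CommRingCat.ofHom
    ((p₁.appLE A W inf_le_left).hom.codRestrict R fun x => Subring.subset_closure (Or.inl ⟨x, rfl⟩))
  let φ₂ : Γ(S, U) ⟶ CommRingCat.of R := CommRingCat.ofHom
    ((p₂.appLE U W inf_le_right).hom.codRestrict R fun x => Subring.subset_closure (Or.inr ⟨x, rfl⟩))
  let incl : CommRingCat.of R ⟶ Γ(P, W) := CommRingCat.ofHom R.subtype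
  let w : Spec (CommRingCat.of R) ⟶ P :=
    hP.lift (Spec.map φ₁ ≫ hA.fromSpec) (Spec.map φ₂ ≫ hU.fromSpec) (hT.hom_ext _ _)
  have hw₁ : w ≫ p₁ = Spec.map φ₁ ≫ hA.fromSpec := hP.lift_fst _ _ _
  have hw₂ : w ≫ p₂ = Spec.map φ₂ ≫ hU.fromSpec := hP.lift_snd _ _ _
  have hrange : Set.range w ⊆ Set.range hW.fromSpec := by
    rw [hW.range_fromSpec]
    rintro _ ⟨x, rfl⟩
    refine ⟨?_, ?_⟩
    · change (w ≫ p₁).base x ∈ A
      rw [hw₁]
      exact hA.range_fromSpec.le ⟨Spec.map φ₁ x, rfl⟩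
    · change (w ≫ p₂).base x ∈ U
      rw [hw₂]
      exact hU.range_fromSpec.le ⟨Spec.map φ₂ x, rfl⟩
  let ψ := Spec.preimage (IsOpenImmersion.lift hW.fromSpec w hrange)
  have hψ : Spec.map ψ ≫ hW.fromSpec = w := by rw [Spec.map_preimage, IsOpenImmersion.lift_fac]
  have hq : W.toSpecΓ ≫ Spec.map incl ≫ w = W.ι := by
    refine hP.hom_ext ?_ ?_
    · rw [Category.assoc, Category.assoc, hw₁, ι_comp_eq_fromSpec p₁ hA W inf_le_left, ← Spec.map_comp_assoc]
      rfl
    · rw [Category.assoc, Category.assoc, hw₂, ι_comp_eq_fromSpec p₂ hU W inf_le_right, ← Spec.map_comp_assoc]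
      rfl
  rw [← hψ, ← Spec.map_comp_assoc, ← IsAffineOpen.toSpecΓ_fromSpec hW, ← Category.assoc] at hq
  haveI : IsIso W.toSpecΓ := by rw [← hW.isoSpec_hom]; infer_instance
  have h1 := (cancel_mono hW.fromSpec).1 hq
  have h2 : Spec.map (ψ ≫ incl) = Spec.map (𝟙 _) := by
    rw [Spec.map_id, ← cancel_epi W.toSpecΓ, Category.comp_id, h1]
  refine eq_top_iff.2 fun x _ => ?_
  have h3 := ConcreteCategory.congr_hom (Spec.map_injective h2) x
  rw [CommRingCat.comp_apply] at h3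
  have h4 : (incl (ψ x) : Γ(P, W)) ∈ R := (ψ x).2
  rw [h3] at h4
  exact h4

variable {X S : Scheme.{u}} {n : ℕ}

/-- The standard opens of `P^n` pulled back. -/
def preD (r : X ⟶ Proj (CohB1.polyGrading n (ULift.{u} ℤ))) (j : Fin (n + 1)) : X.Opens :=
  r ⁻¹ᵁ Proj.basicOpen (CohB1.polyGrading n (ULift.{u} ℤ)) (MvPolynomial.X j)

/-- The coordinate ratios pulled back. -/
def ratioSec (r : X ⟶ Proj (CohB1.polyGrading n (ULift.{u} ℤ))) (j l : Fin (n + 1)) : Γ(X, preD r j) :=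
  r.app _ (ratio (CohB1.polyGrading n (ULift.{u} ℤ)) (ProjSpace.X_mem n (ULift.{u} ℤ) j)
    (ProjSpace.X_mem n (ULift.{u} ℤ) l))

theorem ringHom_ulift_int_ext {B : Type*} [CommRing B] (α β : ULift.{u} ℤ →+* B) : α = β := by
  refine RingHom.ext fun c => ?_
  obtain ⟨c⟩ := c
  exact RingHom.congr_fun (RingHom.ext_int (α.comp ULift.ringEquiv.symm.toRingHom)
    (β.comp ULift.ringEquiv.symm.toRingHom)) c

/-- The dehomogenisation `a ↦ res (r^*(a / T_j ^ deg a))`. -/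
def pullDehom (r : X ⟶ Proj (CohB1.polyGrading n (ULift.{u} ℤ))) (j : Fin (n + 1)) {W : X.Opens}
    (hW : W ≤ preD r j) : MvPolynomial (Fin (n + 1)) (ULift.{u} ℤ) →+* Γ(X, W) :=
  (X.presheaf.map (homOfLE hW).op).hom.comp ((r.app _).hom.comp
    ((Polynomial.evalRingHom 1).comp
      (dehom (CohB1.polyGrading n (ULift.{u} ℤ)) (ProjSpace.X_mem n (ULift.{u} ℤ) j))))

theorem pullDehom_of_mem (r : X ⟶ Proj (CohB1.polyGrading n (ULift.{u} ℤ))) (j : Fin (n + 1)) {W : X.Opens}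
    (hW : W ≤ preD r j) {k : ℕ} {a : MvPolynomial (Fin (n + 1)) (ULift.{u} ℤ)}
    (ha : a ∈ CohB1.polyGrading n (ULift.{u} ℤ) k) :
    pullDehom r j hW a = X.presheaf.map (homOfLE hW).op
      (r.app _ (ratio (CohB1.polyGrading n (ULift.{u} ℤ)) (ProjSpace.X_mem n (ULift.{u} ℤ) j) ha)) := by
  have e := dehom_of_mem (CohB1.polyGrading n (ULift.{u} ℤ)) (ProjSpace.X_mem n (ULift.{u} ℤ) j) ha
  have e' := congrArg (Polynomial.evalRingHom (1 : Γ(Proj (CohB1.polyGrading n (ULift.{u} ℤ)),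
    Proj.basicOpen (CohB1.polyGrading n (ULift.{u} ℤ)) (MvPolynomial.X j)))) e
  rw [Polynomial.coe_evalRingHom, Polynomial.eval_monomial, one_pow, mul_one] at e'
  exact congrArg (X.presheaf.map (homOfLE hW).op) (congrArg (r.app _) e')

theorem app_mem_range_hom (f : X ⟶ S) (r : X ⟶ Proj (CohB1.polyGrading n (ULift.{u} ℤ))) (j : Fin (n + 1))
    (U : S.Opens) (s : Γ(Proj (CohB1.polyGrading n (ULift.{u} ℤ)),
      Proj.basicOpen (CohB1.polyGrading n (ULift.{u} ℤ)) (MvPolynomial.X j))) :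
    X.presheaf.map (homOfLE (inf_le_left : preD r j ⊓ f ⁻¹ᵁ U ≤ preD r j)).op (r.app _ s) ∈
      (ChartAlg.hom f (preD r) (ratioSec r) j U).range := by
  obtain ⟨k, a, ha, rfl⟩ :=
    H11Tilde.exists_ratio (CohB1.polyGrading n (ULift.{u} ℤ)) (ProjSpace.X_mem n (ULift.{u} ℤ) j) s
  refine ⟨MvPolynomial.map ((Int.castRingHom Γ(S, U)).comp ULift.ringEquiv.toRingHom) a, ?_⟩
  refine Eq.trans ?_ (pullDehom_of_mem r j inf_le_left ha)
  refine RingHom.congr_fun (f := (ChartAlg.hom f (preD r) (ratioSec r) j U).comp (MvPolynomial.map _))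
    (MvPolynomial.ringHom_ext (fun c => RingHom.congr_fun (ringHom_ulift_int_ext
      (((ChartAlg.hom f (preD r) (ratioSec r) j U).comp (MvPolynomial.map _)).comp MvPolynomial.C)
      ((pullDehom r j inf_le_left).comp MvPolynomial.C)) c) fun l => ?_) a
  rw [RingHom.comp_apply, MvPolynomial.map_X,
    pullDehom_of_mem r j inf_le_left (ProjSpace.X_mem n (ULift.{u} ℤ) l)]
  exact MvPolynomial.eval₂Hom_X' _ _ l

variable (i : X ⟶ CohB1.ProjSpaceOver n S) [IsClosedImmersion i]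

/-- The charts of a closed subscheme of `P^n_S`. -/
def chartsOfClosedImmersion : Charts (i ≫ CohB1.ProjSpaceOver.toBase n S) n := by
  let p₁ : CohB1.ProjSpaceOver n S ⟶ CohB1.ProjSpace n (ULift.{u} ℤ) := pullback.fst _ _
  let p₂ : CohB1.ProjSpaceOver n S ⟶ S := CohB1.ProjSpaceOver.toBase n S
  let 𝒜 := CohB1.polyGrading n (ULift.{u} ℤ)
  let r : X ⟶ Proj 𝒜 := i ≫ p₁
  let D := fun j : Fin (n + 1) => Proj.basicOpen 𝒜 (MvPolynomial.X j)
  have hW : ∀ (U : S.Opens), IsAffineOpen U → ∀ j, IsAffineOpen (p₁ ⁻¹ᵁ D j ⊓ p₂ ⁻¹ᵁ U) := fun U hU j =>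
    Groth.Agent.H11Ample.isAffineOpen_fst_inf_snd _ _ (isAffineOpen_top _)
      (Proj.isAffineOpen_basicOpen 𝒜 _ (ProjSpace.X_mem n _ j) one_pos) le_top hU le_top
  refine
    { V := preD r
      ρ := ratioSec r
      cover := fun x => ?_
      ρ_self := fun j => by rw [ratioSec, ratio_self, map_one]; rfl
      basicOpen_eq := fun j l => ?_
      cocycle := fun a b l => ?_
      affine := fun U hU j => (hW U hU j).preimage i
      surj := fun U hU j => ?_ }
  · obtain ⟨j, hj⟩ := Groth.Agent.H11Ample.exists_mem_basicOpen_X (r x)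
    exact ⟨j, hj⟩
  · unfold ratioSec preD
    erw [← Scheme.preimage_basicOpen, basicOpen_ratio_deg1]
    rfl
  · have hle : ∀ {E E' : (Proj 𝒜).Opens} (h : E ≤ E') (s : Γ(Proj 𝒜, E')),
        X.presheaf.map (homOfLE (r.preimage_mono h)).op (r.app E' s) = r.app E ((Proj 𝒜).presheaf.map (homOfLE h).op s) :=
      fun h s => (congr($(r.naturality (homOfLE h).op) s)).symm
    erw [hle (inf_le_right : D a ⊓ D b ≤ D b), hle (inf_le_right : D a ⊓ D b ≤ D b),
      hle (inf_le_left : D a ⊓ D b ≤ D a)]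
    refine Eq.trans ?_ (map_mul (r.app (D a ⊓ D b)).hom _ _)
    refine congrArg (r.app _) ?_
    have h := res_ratio 𝒜 (ProjSpace.X_mem n (ULift.{u} ℤ) a) (ProjSpace.X_mem n _ b)
      (ProjSpace.X_mem n (ULift.{u} ℤ) l) (V := D a ⊓ D b) inf_le_left inf_le_right
    rwa [pow_one] at h
  · let f := i ≫ p₂
    let h := ChartAlg.hom f (preD r) (ratioSec r) j U
    let W := p₁ ⁻¹ᵁ D j ⊓ p₂ ⁻¹ᵁ U
    have hsurj : Function.Surjective (i.app W) := Scheme.Hom.app_surjective i W (hW U hU j)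
    have hgen := closure_range_eq_top specULiftZIsTerminal (IsPullback.of_hasPullback _ _)
      (Proj.isAffineOpen_basicOpen 𝒜 _ (ProjSpace.X_mem n (ULift.{u} ℤ) j) one_pos) hU (hW U hU j)
    intro y
    obtain ⟨w, rfl⟩ := hsurj y
    suffices hh : Subring.closure (Set.range (p₁.appLE (D j) W inf_le_left) ∪
        Set.range (p₂.appLE U W inf_le_right)) ≤ h.range.comap (i.app W).hom from
      hh (hgen.ge (Subring.mem_top w))
    rw [Subring.closure_le]
    rintro z (⟨s, rfl⟩ | ⟨s, rfl⟩)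
    · have e : i.app W (p₁.appLE (D j) W inf_le_left s) =
          X.presheaf.map (homOfLE (inf_le_left : preD r j ⊓ f ⁻¹ᵁ U ≤ preD r j)).op (r.app (D j) s) := by
        rw [← CommRingCat.comp_apply, Scheme.Hom.app_eq_appLE, Scheme.Hom.appLE_comp_appLE]
        rfl
      exact (congrArg (· ∈ h.range) e).mpr (app_mem_range_hom f r j U s)
    · refine ⟨MvPolynomial.C s, ?_⟩
      simp only [h, ChartAlg.hom, MvPolynomial.eval₂Hom_C]
      change _ = i.app W (p₂.appLE U W inf_le_right s)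
      rw [← CommRingCat.comp_apply, Scheme.Hom.app_eq_appLE, Scheme.Hom.appLE_comp_appLE]
      rfl

/-- An H-projective morphism is projective. -/
theorem isProjective_of_isHProjective {f : X ⟶ S} (h : RelProj.IsHProjective f) : RelProj.IsProjective f := by
  obtain ⟨n, i, hi, rfl⟩ := h
  haveI := hi
  exact (chartsOfClosedImmersion i).isProjective

end Groth.Agent.H11Proj
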