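import Groth.Agent.H11Proj.ProjData
import Groth.Agent.H11Proj.HProj
import Groth.Agent.H11Ample.RelPullback

/-!
# Closed subschemes of base changes of projective morphisms are projective
-/

set_option autoImplicit false
set_option linter.style.haveILetI false

noncomputable section

universe u

open CategoryTheory CategoryTheory.Limits AlgebraicGeometry TopologicalSpace Opposite
open Groth.Agent.H11Tilde Groth.Agent.H11Ample

namespace Groth.Agent.H11Proj

/-- The functions on an affine piece of a fibre product of affines are generated by those of the factors. -/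
theorem closure_range_pullback {P D S T : Scheme.{u}} {a : D ⟶ T} {b : S ⟶ T} {p₁ : P ⟶ D} {p₂ : P ⟶ S}
    (hP : IsPullback p₁ p₂ a b) {A : D.Opens} (hA : IsAffineOpen A) {U : S.Opens} (hU : IsAffineOpen U)
    {B : T.Opens} (hB : IsAffineOpen B) (hAB : A ≤ a ⁻¹ᵁ B) (hUB : U ≤ b ⁻¹ᵁ B)
    (hW : IsAffineOpen (p₁ ⁻¹ᵁ A ⊓ p₂ ⁻¹ᵁ U)) :
    Subring.closure (Set.range (p₁.appLE A (p₁ ⁻¹ᵁ A ⊓ p₂ ⁻¹ᵁ U) inf_le_left) ∪
      Set.range (p₂.appLE U (p₁ ⁻¹ᵁ A ⊓ p₂ ⁻¹ᵁ U) inf_le_right)) = ⊤ := by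
  set W := p₁ ⁻¹ᵁ A ⊓ p₂ ⁻¹ᵁ U with hWdef
  let R := Subring.closure (Set.range (p₁.appLE A W inf_le_left) ∪ Set.range (p₂.appLE U W inf_le_right))
  let φ₁ : Γ(D, A) ⟶ CommRingCat.of R := CommRingCat.ofHom
    ((p₁.appLE A W inf_le_left).hom.codRestrict R fun x => Subring.subset_closure (Or.inl ⟨x, rfl⟩))
  let φ₂ : Γ(S, U) ⟶ CommRingCat.of R := CommRingCat.ofHom
    ((p₂.appLE U W inf_le_right).hom.codRestrict R fun x => Subring.subset_closure (Or.inr ⟨x, rfl⟩))
  let incl : CommRingCat.of R ⟶ Γ(P, W) := CommRingCat.ofHom R.subtype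
  have hφ : a.appLE B A hAB ≫ φ₁ = b.appLE B U hUB ≫ φ₂ := by
    refine CommRingCat.hom_ext (RingHom.ext fun z => Subtype.ext ?_)
    change (a.appLE B A hAB ≫ p₁.appLE A W inf_le_left) z = (b.appLE B U hUB ≫ p₂.appLE U W inf_le_right) z
    rw [Scheme.Hom.appLE_comp_appLE, Scheme.Hom.appLE_comp_appLE]
    exact congr($(Charts.appLE_congr_hom hP.w _ _) z)
  let w : Spec (CommRingCat.of R) ⟶ P :=
    hP.lift (Spec.map φ₁ ≫ hA.fromSpec) (Spec.map φ₂ ≫ hU.fromSpec) (by
      rw [Category.assoc, Category.assoc, ← IsAffineOpen.SpecMap_appLE_fromSpec a hB hA hAB,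
        ← IsAffineOpen.SpecMap_appLE_fromSpec b hB hU hUB, ← Spec.map_comp_assoc, ← Spec.map_comp_assoc, hφ])
  have hw₁ : w ≫ p₁ = Spec.map φ₁ ≫ hA.fromSpec := hP.lift_fst _ _ _
  have hw₂ : w ≫ p₂ = Spec.map φ₂ ≫ hU.fromSpec := hP.lift_snd _ _ _
  have hrange : Set.range w ⊆ Set.range hW.fromSpec := by
    rw [hW.range_fromSpec]
    rintro _ ⟨x, rfl⟩
    refine ⟨?_, ?_⟩
    · change (w ≫ p₁).base x ∈ A
      rw [hw₁]
      exact hA.range_fromSpec.le ⟨Spec.map φ₁ x, rfl⟩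
    · change (w ≫ p₂).base x ∈ U
      rw [hw₂]
      exact hU.range_fromSpec.le ⟨Spec.map φ₂ x, rfl⟩
  let ψ := Spec.preimage (IsOpenImmersion.lift hW.fromSpec w hrange)
  have hψ : Spec.map ψ ≫ hW.fromSpec = w := by rw [Spec.map_preimage, IsOpenImmersion.lift_fac]
  have hq : W.toSpecΓ ≫ Spec.map incl ≫ w = W.ι := by
    refine hP.hom_ext ?_ ?_
    · rw [Category.assoc, Category.assoc, hw₁, ι_comp_eq_fromSpec p₁ hA W inf_le_left, ← Spec.map_comp_assoc]
      rfl
    · rw [Category.assoc, Category.assoc, hw₂, ι_comp_eq_fromSpec p₂ hU W inf_le_right, ← Spec.map_comp_assoc]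
      rfl
  rw [← hψ, ← Spec.map_comp_assoc, ← IsAffineOpen.toSpecΓ_fromSpec hW, ← Category.assoc] at hq
  haveI : IsIso W.toSpecΓ := by rw [← hW.isoSpec_hom]; infer_instance
  have h1 := (cancel_mono hW.fromSpec).1 hq
  have h2 : Spec.map (ψ ≫ incl) = Spec.map (𝟙 _) := by
    rw [Spec.map_id, ← cancel_epi W.toSpecΓ, Category.comp_id, h1]
  refine eq_top_iff.2 fun x _ => ?_
  have h3 := ConcreteCategory.congr_hom (Spec.map_injective h2) x
  rw [CommRingCat.comp_apply] at h3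
  have h4 : (incl (ψ x) : Γ(P, W)) ∈ R := (ψ x).2
  rw [h3] at h4
  exact h4

variable {X X' S S' : Scheme.{u}} {f : X ⟶ S} {g : S' ⟶ S} {f' : X' ⟶ S'} {h : X' ⟶ X} {M : X.Modules}

/-- Loci of generation of pulled back sections. -/
theorem genAt_pullSect (hM : PicF.IsInvertible M) {U : X.Opens} (s : Γ(M, U)) :
    genAt ((Scheme.Modules.pullback h).obj M) (OmegaSh.pullSect h M U s) = h ⁻¹ᵁ genAt M s := by
  refine le_antisymm (fun x hx => ?_) ?_
  · obtain ⟨a, ha⟩ := exists_chart hM (h x)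
    let a' : Chart ((Scheme.Modules.pullback h).obj M) := ⟨h ⁻¹ᵁ a.V, _, IsGen.pullSect h a.isGen⟩
    have hco : h.app (a.V ⊓ U) (a.coef s) = a'.coef (OmegaSh.pullSect h M U s) := by
      refine (a'.eq_coef (OmegaSh.pullSect h M U s) (inf_le_left : a'.V ⊓ h ⁻¹ᵁ U ≤ a'.V) inf_le_right
        (c := h.app (a.V ⊓ U) (a.coef s)) ?_).trans (resF_self _)
      have e := congrArg (OmegaSh.pullSect h M (a.V ⊓ U)) (a.coef_spec s)
      erw [OmegaSh.pullSect_smul, pullSect_res h M inf_le_right, pullSect_res h M inf_le_left] at e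
      exact e
    have h1 : a'.V ⊓ genAt _ (OmegaSh.pullSect h M U s) = h ⁻¹ᵁ (a.V ⊓ genAt M s) := by
      rw [a.genAt_inf, a'.genAt_inf, ← hco]
      exact (Scheme.preimage_basicOpen h _).symm
    exact (h1.le ⟨ha, hx⟩).2
  · refine le_genAt _ (h.preimage_mono (genAt_le s)) ?_
    have e := IsGen.pullSect h (isGen_genAt s)
    rw [pullSect_res h M (genAt_le s)] at e
    exact e

variable (hc : f' ≫ g = h ≫ f)

include hc in
theorem preimage_le_pull {U : S.Opens} {V : S'.Opens} (e : V ≤ g ⁻¹ᵁ U) : f' ⁻¹ᵁ V ≤ h ⁻¹ᵁ (f ⁻¹ᵁ U) := by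
  rw [← Scheme.Hom.comp_preimage, ← hc, Scheme.Hom.comp_preimage]
  exact f'.preimage_mono e

/-- The pullback of a section over the preimage of an open of the base. -/
def pullSec {U : S.Opens} {V : S'.Opens} (e : V ≤ g ⁻¹ᵁ U) (s : Γ(M, f ⁻¹ᵁ U)) :
    Γ((Scheme.Modules.pullback h).obj M, f' ⁻¹ᵁ V) :=
  resS ((Scheme.Modules.pullback h).obj M) (preimage_le_pull hc e) (OmegaSh.pullSect h M (f ⁻¹ᵁ U) s)

theorem resS_pullSec {U : S.Opens} {V W : S'.Opens} (e : V ≤ g ⁻¹ᵁ U) (i : W ≤ V) (s : Γ(M, f ⁻¹ᵁ U)) :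
    resS _ (f'.preimage_mono i) (pullSec hc e s) = pullSec hc (i.trans e) s := resS_resS _ _ _ _

theorem pullSec_resS {U U' : S.Opens} {V : S'.Opens} (i : U' ≤ U) (e : V ≤ g ⁻¹ᵁ U') (s : Γ(M, f ⁻¹ᵁ U)) :
    pullSec hc e (resS M (f.preimage_mono i) s) = pullSec hc (e.trans (g.preimage_mono i)) s := by
  unfold pullSec
  rw [show OmegaSh.pullSect h M (f ⁻¹ᵁ U') (resS M (f.preimage_mono i) s) = _ from
    pullSect_res h M (f.preimage_mono i) s]
  exact resS_resS _ _ _ _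

theorem spanBy_pullSec {U : S.Opens} {V : S'.Opens} (e : V ≤ g ⁻¹ᵁ U) {k : ℕ} {G : Fin k → Γ(M, f ⁻¹ᵁ U)}
    {s : Γ(M, f ⁻¹ᵁ U)} (hs : SpanBy f M G s) :
    SpanBy f' ((Scheme.Modules.pullback h).obj M) (fun l => pullSec hc e (G l)) (pullSec hc e s) := by
  obtain ⟨c, rfl⟩ := hs
  refine ⟨fun l => g.appLE U V e (c l), ?_⟩
  let φ : Γ(M, f ⁻¹ᵁ U) →+ Γ((Scheme.Modules.pullback h).obj M, f' ⁻¹ᵁ V) :=
    AddMonoidHom.mk' (pullSec hc e) fun a b => by
      unfold pullSec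
      rw [show OmegaSh.pullSect h M (f ⁻¹ᵁ U) (a + b) = _ from map_add _ a b]
      exact map_add _ _ _
  refine (map_sum φ _ _).trans (Finset.sum_congr rfl fun l _ => ?_)
  change pullSec hc e (f.app U (c l) • G l) = _
  unfold pullSec
  rw [OmegaSh.pullSect_smul, resS_smul]
  refine congrArg (· • _) ?_
  have h1 : resF (preimage_le_pull hc e) (h.app (f ⁻¹ᵁ U) (f.app U (c l))) =
      (h ≫ f).appLE U (f' ⁻¹ᵁ V) (preimage_le_pull hc e) (c l) := rfl
  have h2 : f'.app V (g.appLE U V e (c l)) = (f' ≫ g).appLE U (f' ⁻¹ᵁ V) (f'.preimage_mono e) (c l) := by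
    rw [← ConcreteCategory.comp_apply, Scheme.Hom.app_eq_appLE, Scheme.Hom.appLE_comp_appLE]
  rw [h1, h2]
  exact congr($(Charts.appLE_congr_hom hc.symm _ _) (c l))

/-- The pulled back family. -/
def Fam.pull (Y : Fam f M) : Fam f' ((Scheme.Modules.pullback h).obj M) where
  ι := Σ i : Y.ι, {V : S'.Opens // IsAffineOpen V ∧ V ≤ g ⁻¹ᵁ Y.O i}
  O p := p.2.1
  k p := Y.k p.1
  g p l := pullSec hc p.2.2.2 (Y.g p.1 l)
  compat p q l x hx := by
    obtain ⟨W, hi, hj, hxW, hW⟩ := Y.compat p.1 q.1 l (g x) ⟨p.2.2.2 hx.1, q.2.2.2 hx.2⟩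
    let V := p.2.1 ⊓ q.2.1 ⊓ g ⁻¹ᵁ W
    refine ⟨V, inf_le_left.trans inf_le_left, inf_le_left.trans inf_le_right, ⟨hx, hxW⟩, ?_⟩
    have h1 := spanBy_pullSec hc (inf_le_right : V ≤ g ⁻¹ᵁ W) hW
    simp only [pullSec_resS hc hj, pullSec_resS hc hi] at h1
    simp only [resS_pullSec hc _ (inf_le_left.trans inf_le_right : V ≤ q.2.1),
      resS_pullSec hc _ (inf_le_left.trans inf_le_left : V ≤ p.2.1)]
    exact h1

variable [IsClosedImmersion (pullback.lift h f' hc.symm : X' ⟶ pullback f g)]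

/-- The pullback of a family of ample data is very ample on a closed subscheme of the base change. -/
theorem Fam.IsAmpleData.isVeryAmple_pull {Y : Fam f M} (hY : Y.IsAmpleData) : (Y.pull hc).IsVeryAmple := by
  let i : X' ⟶ pullback f g := pullback.lift h f' hc.symm
  have hih : i ≫ pullback.fst f g = h := pullback.lift_fst _ _ _
  have hif : i ≫ pullback.snd f g = f' := pullback.lift_snd _ _ _
  let M' := (Scheme.Modules.pullback h).obj M
  have hgen : ∀ (p : (Y.pull hc).ι) (l : Fin (Y.k p.1)),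
      genAt M' ((Y.pull hc).g p l) = h ⁻¹ᵁ genAt M (Y.g p.1 l) ⊓ f' ⁻¹ᵁ p.2.1 := fun p l => by
    change genAt M' (resS M' _ (OmegaSh.pullSect h M _ _)) = _
    rw [genAt_res, genAt_pullSect hY.invertible]
    rfl
  refine ⟨fun p x hx => ?_, fun p l W hW hWV => ?_, fun p l W hW hWV => ?_⟩
  · have hx' : f.base (h x) ∈ Y.O p.1 := preimage_le_pull hc p.2.2.2 hx
    obtain ⟨l, hl⟩ := hY.cover p.1 (h x) hx'
    exact ⟨l, (hgen p l).ge ⟨hl, hx⟩⟩
  all_goals
    let U := Y.O p.1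
    let a := chartAt (Y.g p.1 l)
    let A := a.V ⊓ f ⁻¹ᵁ U
    have hAeq : A = genAt M (Y.g p.1 l) := inf_eq_left.2 (genAt_le _)
    have hA : IsAffineOpen A := hAeq.symm ▸ hY.affine p.1 l
    have hWU : W ≤ g ⁻¹ᵁ U := hWV.trans p.2.2.2
    have hWp : IsAffineOpen (pullback.fst f g ⁻¹ᵁ A ⊓ pullback.snd f g ⁻¹ᵁ W) :=
      isAffineOpen_fst_inf_snd f g (hY.aff p.1) hA inf_le_right hW hWU
    have hE : i ⁻¹ᵁ (pullback.fst f g ⁻¹ᵁ A ⊓ pullback.snd f g ⁻¹ᵁ W) =
        genAt M' ((Y.pull hc).g p l) ⊓ f' ⁻¹ᵁ W := by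
      rw [hgen p l, inf_assoc, inf_eq_right.2 (show f' ⁻¹ᵁ W ≤ f' ⁻¹ᵁ p.2.1 from f'.preimage_mono hWV), hAeq,
        ← hih, ← hif]
      rfl
  · rw [← hE]
    exact hWp.preimage i
  · let a' := chartAt ((Y.pull hc).g p l)
    let E := a'.V ⊓ f' ⁻¹ᵁ W
    let Wp := pullback.fst f g ⁻¹ᵁ A ⊓ pullback.snd f g ⁻¹ᵁ W
    have hEW : E ≤ i ⁻¹ᵁ Wp := hE.ge
    let φ : Γ(pullback f g, Wp) →+* Γ(X', E) := (i.appLE Wp E hEW).hom
    have hφ : Function.Surjective φ := by
      haveI : IsIso (homOfLE hEW) := homOfLE_isIso_of_eq _ hE.symm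
      exact (ConcreteCategory.bijective_of_isIso (X'.presheaf.map (homOfLE hEW).op)).2.comp
        (Scheme.Hom.app_surjective i Wp hWp)
    let R := gensRing f' a' (fun m => resS M' (f'.preimage_mono hWV) ((Y.pull hc).g p m))
    refine eq_top_iff.2 fun y _ => ?_
    obtain ⟨z, rfl⟩ := hφ y
    suffices hh : Subring.closure (Set.range ((pullback.fst f g).appLE A Wp inf_le_left) ∪
        Set.range ((pullback.snd f g).appLE W Wp inf_le_right)) ≤ R.comap φ from
      hh ((closure_range_pullback (IsPullback.of_hasPullback f g) hA hW (hY.aff p.1) inf_le_right hWU hWp).ge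
        (Subring.mem_top z))
    rw [Subring.closure_le]
    have hEA : E ≤ h ⁻¹ᵁ A := hEW.trans (fun x hx => by
      have := hx.1
      rw [← hih]
      exact this)
    rintro w (⟨v, rfl⟩ | ⟨v, rfl⟩)
    · have e : φ ((pullback.fst f g).appLE A Wp inf_le_left v) = h.appLE A E hEA v := by
        change ((pullback.fst f g).appLE A Wp inf_le_left ≫ i.appLE Wp E hEW) v = _
        rw [Scheme.Hom.appLE_comp_appLE]
        exact congr($(Charts.appLE_congr_hom hih _ _) v)
      change φ _ ∈ R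
      rw [e]
      suffices hh : gensRing f a (Y.g p.1) ≤ R.comap (h.appLE A E hEA).hom from
        hh ((hY.surj p.1 l).ge (Subring.mem_top v))
      rw [gensRing, Subring.closure_le]
      rintro c (⟨r, rfl⟩ | ⟨m, rfl⟩)
      · refine Subring.subset_closure (Or.inl ⟨g.appLE U W hWU r, ?_⟩)
        change (g.appLE U W hWU ≫ f'.appLE W E inf_le_right) r = (f.appLE U A inf_le_right ≫ h.appLE A E hEA) r
        rw [Scheme.Hom.appLE_comp_appLE, Scheme.Hom.appLE_comp_appLE]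
        exact congr($(Charts.appLE_congr_hom hc _ _) r)
      · refine Subring.subset_closure (Or.inr ⟨m, ?_⟩)
        refine ((a'.eq_coef (resS M' (f'.preimage_mono hWV) ((Y.pull hc).g p m)) (inf_le_left : E ≤ a'.V)
          inf_le_right (c := resF hEA (h.app A (a.coef (Y.g p.1 m)))) ?_).trans (resF_self _)).symm
        have e1 := congrArg (resS M' hEA) (congrArg (OmegaSh.pullSect h M A) (a.coef_spec (Y.g p.1 m)))
        have e2 : resS M (inf_le_left : A ≤ a.V) a.e = resS M (inf_le_right : A ≤ f ⁻¹ᵁ U) (Y.g p.1 l) :=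
          resS_resS M _ (genAt_le _) _
        rw [e2, OmegaSh.pullSect_smul, resS_smul,
          show OmegaSh.pullSect h M A (resS M (inf_le_right : A ≤ f ⁻¹ᵁ U) (Y.g p.1 m)) = _ from
            pullSect_res h M _ _,
          show OmegaSh.pullSect h M A (resS M (inf_le_right : A ≤ f ⁻¹ᵁ U) (Y.g p.1 l)) = _ from
            pullSect_res h M _ _, resS_resS, resS_resS] at e1
        simp only [Fam.pull, pullSec, a', M', resS_resS] at e1 ⊢
        exact e1
    · refine Subring.subset_closure (Or.inl ⟨v, ?_⟩)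
      change f'.appLE W E inf_le_right v = ((pullback.snd f g).appLE W Wp inf_le_right ≫ i.appLE Wp E hEW) v
      rw [Scheme.Hom.appLE_comp_appLE]
      exact congr($(Charts.appLE_congr_hom hif.symm _ _) v)

omit [IsClosedImmersion (pullback.lift h f' hc.symm : X' ⟶ pullback f g)] in
theorem Fam.pull_dom {Y : Fam f M} (hY : Y.dom = ⊤) : (Y.pull hc).dom = ⊤ := by
  refine eq_top_iff.2 fun x _ => ?_
  obtain ⟨i, hi⟩ := Opens.mem_iSup.1 (hY.ge (Set.mem_univ (g x)))
  obtain ⟨V, hV, hxV, hle⟩ := exists_isAffineOpen_mem_and_subset (U := g ⁻¹ᵁ Y.O i) (x := x) hi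
  exact Opens.mem_iSup.2 ⟨⟨i, ⟨V, hV, hle⟩⟩, hxV⟩

omit [IsClosedImmersion (pullback.lift h f' hc.symm : X' ⟶ pullback f g)] in
include hc in
/-- A closed subscheme of the base change of a projective morphism is projective. -/
theorem isProjective_of_isClosedImmersion_lift (hf : RelProj.IsProjective f)
    (hi : IsClosedImmersion (pullback.lift h f' hc.symm : X' ⟶ pullback f g)) : RelProj.IsProjective f' := by
  haveI := isProper_of_isProjective hf
  obtain ⟨𝒮, P, p, chart, e, hgen, hft, hP, rfl⟩ := hf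
  obtain ⟨L, lam, hL⟩ := exists_isRelTwist hP 1
  obtain ⟨Y, hY⟩ := Taut.exists_fam hgen hP hL hft
  have hc' : f' ≫ g = (h ≫ e.hom) ≫ p := by rw [hc, Category.assoc]
  have hi' : IsClosedImmersion (pullback.lift (h ≫ e.hom) f' hc'.symm : X' ⟶ pullback p g) := by
    let m : pullback (e.hom ≫ p) g ⟶ pullback p g :=
      pullback.map (e.hom ≫ p) g p g e.hom (𝟙 S') (𝟙 S) (Category.comp_id _) (by simp)
    have hm : IsClosedImmersion m := inferInstance
    have heq : (pullback.lift (h ≫ e.hom) f' hc'.symm : X' ⟶ pullback p g) =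
        pullback.lift h f' hc.symm ≫ m := by
      refine pullback.hom_ext ?_ ?_
      · refine (pullback.lift_fst _ _ _).trans ?_
        rw [Category.assoc, show m ≫ pullback.fst p g = pullback.fst (e.hom ≫ p) g ≫ e.hom from
          pullback.lift_fst _ _ _, pullback.lift_fst_assoc]
      · refine (pullback.lift_snd _ _ _).trans ?_
        rw [Category.assoc, show m ≫ pullback.snd p g = pullback.snd (e.hom ≫ p) g ≫ 𝟙 S' from
          pullback.lift_snd _ _ _, Category.comp_id, pullback.lift_snd]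
    rw [heq]
    haveI := hi
    infer_instance
  haveI := hi'
  haveI : IsProper p := isProper_relProj hgen hft hP
  haveI : IsProper f' := by
    rw [show f' = pullback.lift (h ≫ e.hom) f' hc'.symm ≫ pullback.snd p g from (pullback.lift_snd _ _ _).symm]
    infer_instance
  exact (hY.isVeryAmple_pull hc').isProjective (isInvertible_pullback _ hY.invertible) (Fam.pull_dom hc' hY.dom)

end Groth.Agent.H11Proj
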