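import Groth.Agent.H11Proj.Scheme
import Mathlib.AlgebraicGeometry.Morphisms.FiniteType
import Mathlib.AlgebraicGeometry.Morphisms.QuasiCompact
import Mathlib.AlgebraicGeometry.ProjectiveSpectrum.Proper

/-!
# `Proj` of algebras generated in degree one
-/

set_option autoImplicit false
universe u

namespace Groth.Agent.H11Proj

open CategoryTheory CategoryTheory.Limits AlgebraicGeometry HomogeneousLocalization DirectSum

variable {A σ : Type u} [CommRing A] [SetLike σ A] [AddSubgroupClass σ A]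
variable (𝒜 : ℕ → σ) [GradedRing 𝒜]

theorem adjoin_degZero_eq_top_of_closure {T : Set A}
    (hgen : Subring.closure ((𝒜 0 : Set A) ∪ (𝒜 1 : Set A)) = ⊤)
    (hT : ∀ x ∈ 𝒜 1, x ∈ Algebra.adjoin (𝒜 0) T) : Algebra.adjoin (𝒜 0) T = ⊤ := by
  refine top_le_iff.1 fun x _ => ?_
  have hx : x ∈ Subring.closure ((𝒜 0 : Set A) ∪ (𝒜 1 : Set A)) := hgen.symm ▸ Subring.mem_top x
  refine Subring.closure_induction ?_ (zero_mem _) (one_mem _) (fun _ _ _ _ => add_mem)
    (fun _ _ => neg_mem) (fun _ _ _ _ => mul_mem) hx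
  rintro y (hy | hy)
  · exact Subalgebra.algebraMap_mem (Algebra.adjoin (𝒜 0) T) ⟨y, hy⟩
  · exact hT y hy

variable {R : CommRingCat.{u}} (str : R ⟶ CommRingCat.of (𝒜 0))

/-- If `A` is generated in degrees `≤ 1` and the degree-one part is a finite `R`-module, then
`Proj A ⟶ Spec R` is of finite type. -/
theorem lft_and_qc_of_degOne (T : Finset A) (hT : (T : Set A) ⊆ (𝒜 1 : Set A))
    (hspan : ∀ x ∈ 𝒜 1, ∃ c : A → R, x = ∑ t ∈ T, (str.hom (c t) : A) * t)
    (hgen : Subring.closure ((𝒜 0 : Set A) ∪ (𝒜 1 : Set A)) = ⊤) :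
    LocallyOfFiniteType (Proj.toSpecZero 𝒜 ≫ Spec.map str) ∧
      QuasiCompact (Proj.toSpecZero 𝒜 ≫ Spec.map str) := by
  have htop : Algebra.adjoin (𝒜 0) (T : Set A) = ⊤ := by
    refine adjoin_degZero_eq_top_of_closure 𝒜 hgen fun x hx => ?_
    obtain ⟨c, rfl⟩ := hspan x hx
    exact sum_mem fun t ht => mul_mem (Subalgebra.algebraMap_mem _ (str.hom (c t)))
      (Algebra.subset_adjoin ht)
  have : Algebra.FiniteType (𝒜 0) A := ⟨⟨T, htop⟩⟩
  refine ⟨?_, inferInstance⟩
  have hTpos : (T : Set A) ⊆ posHom 𝒜 := fun t ht => ⟨1, Nat.one_pos, hT ht⟩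
  have hirr := irrelevant_le_span_of_adjoin_eq_top 𝒜 hTpos htop
  let 𝒰 := (Proj.affineOpenCoverOfIrrelevantLESpan 𝒜 (fun t : T => (t : A)) (m := fun _ => 1)
    (fun t => hT t.2) (fun _ => Nat.one_pos) (by simpa using hirr)).openCover
  refine IsZariskiLocalAtSource.of_openCover (P := @LocallyOfFiniteType.{u}) 𝒰 fun (t : T) => ?_
  change LocallyOfFiniteType (Proj.awayι 𝒜 (t : A) (hT t.2) Nat.one_pos ≫ _)
  rw [Proj.awayι_toSpecZero_assoc, ← Spec.map_comp]
  refine (HasRingHomProperty.Spec_iff (P := @LocallyOfFiniteType)).2 ?_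
  let g := (fromZeroRingHom 𝒜 (Submonoid.powers (t : A))).comp str.hom
  let _ := g.toAlgebra
  let gen : T → Away 𝒜 (t : A) := fun t' => Away.mk 𝒜 (hT t.2) 1 (t' : A) (by simpa using hT t'.2)
  suffices H : Algebra.adjoin R (Set.range gen) = ⊤ by
    classical
    exact RingHom.finiteType_algebraMap.2 ⟨⟨Finset.univ.image gen, by simpa using H⟩⟩
  have halg : ∀ r : R, algebraMap R (Away 𝒜 (t : A)) r = fromZeroRingHom 𝒜 _ (str.hom r) := fun _ => rfl
  have key : ∀ n : ℕ, 0 < n → ∀ a : A, ∀ ha : a ∈ 𝒜 (n • 1),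
      Away.mk 𝒜 (hT t.2) n a ha ∈ Algebra.adjoin R (Set.range gen) := by
    intro n hn
    induction n, hn using Nat.le_induction with
    | base =>
      intro a ha
      obtain ⟨c, hc⟩ := hspan a (by simpa using ha)
      have : Away.mk 𝒜 (hT t.2) 1 a ha =
          ∑ t' ∈ T.attach, algebraMap R _ (c (t' : A)) * gen t' := by
        apply val_injective
        rw [← HomogeneousLocalization.algebraMap_apply, ← HomogeneousLocalization.algebraMap_apply, map_sum]
        simp only [map_mul, HomogeneousLocalization.algebraMap_apply, gen, halg, fromZeroRingHom, RingHom.coe_mk,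
          MonoidHom.coe_mk, OneHom.coe_mk, Away.val_mk, val_mk, Localization.mk_mul]
        rw [hc, ← Finset.sum_attach, Localization.mk_sum]
        refine Finset.sum_congr rfl fun x _ => ?_
        rw [Localization.mk_eq_mk_iff, Localization.r_iff_exists]
        exact ⟨1, by simp⟩
      rw [this]
      exact sum_mem fun t' _ => mul_mem (Subalgebra.algebraMap_mem _ _) (Algebra.subset_adjoin ⟨t', rfl⟩)
    | succ n hn ih =>
      intro a ha
      have hmem := mem_closure_of_mem_span 𝒜 (fun _ => 1) (fun e he => hT he) ha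
        (hirr (mem_irrelevant_of_pos 𝒜 (by simp) ha))
      suffices H : a ∈ 𝒜 ((n + 1) • 1) ∧ ∀ h, Away.mk 𝒜 (hT t.2) (n + 1) a h ∈
          Algebra.adjoin R (Set.range gen) from H.2 ha
      refine AddSubmonoid.closure_induction ?_ ⟨zero_mem _, fun h => ?_⟩ ?_ hmem
      · rintro _ ⟨e, he, j, c, hc, hj, rfl⟩
        have hj' : j = n • 1 := by simp at hj ⊢; omega
        subst hj'
        refine ⟨?_, fun h => ?_⟩
        · simpa [succ_nsmul] using graded_mul_mem 𝒜 hc (hT he)
        have : Away.mk 𝒜 (hT t.2) (n + 1) (c * e) h = Away.mk 𝒜 (hT t.2) n c hc * gen ⟨e, he⟩ := by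
          apply val_injective
          simp only [gen, val_mul, Away.val_mk, Localization.mk_mul]
          rw [Localization.mk_eq_mk_iff, Localization.r_iff_exists]
          exact ⟨1, by simp; ring⟩
        rw [this]
        exact mul_mem (ih c hc) (Algebra.subset_adjoin ⟨_, rfl⟩)
      · convert! zero_mem (Algebra.adjoin R (Set.range gen))
        apply val_injective
        simp [Localization.mk_zero]
      · rintro x y - - ⟨hx, hx'⟩ ⟨hy, hy'⟩
        refine ⟨add_mem hx hy, fun h => ?_⟩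
        convert! add_mem (hx' hx) (hy' hy)
        apply val_injective
        simp only [val_add, Away.val_mk, Localization.add_mk_self]
  refine top_le_iff.1 fun z _ => ?_
  obtain ⟨n, a, ha, rfl⟩ := Away.mk_surjective 𝒜 (hT t.2) z
  have ha' : (t : A) * a ∈ 𝒜 ((n + 1) • 1) := by
    simpa [succ_nsmul, mul_comm] using graded_mul_mem 𝒜 ha (hT t.2)
  convert! key (n + 1) (Nat.succ_pos n) _ ha' using 1
  apply val_injective
  simp only [Away.val_mk]
  rw [Localization.mk_eq_mk_iff, Localization.r_iff_exists]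
  exact ⟨1, by simp; ring⟩

end Groth.Agent.H11Proj
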