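import Groth.Agent.H11Proj.Scheme
import Mathlib.AlgebraicGeometry.Morphisms.OpenImmersion
import Mathlib.RingTheory.Localization.Away.Basic

/-!
# More on `Proj.map`: structure maps, isomorphisms, localisation in degree zero
-/

set_option autoImplicit false
universe u

namespace Groth.Agent.H11Proj

open CategoryTheory CategoryTheory.Limits AlgebraicGeometry HomogeneousLocalization DirectSum

variable {A B σ τ : Type u} [CommRing A] [SetLike σ A] [AddSubgroupClass σ A]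
  [CommRing B] [SetLike τ B] [AddSubgroupClass τ B]
variable {𝒜 : ℕ → σ} [GradedRing 𝒜] {ℬ : ℕ → τ} [GradedRing ℬ]
variable (φ : 𝒜 →+*ᵍ ℬ) (hφ : HomogeneousIdeal.irrelevant ℬ ≤ (HomogeneousIdeal.irrelevant 𝒜).map φ)

theorem away_map_fromZero (s : A) (c : 𝒜 0) :
    Away.map φ s (fromZeroRingHom 𝒜 (Submonoid.powers s) c) =
      fromZeroRingHom ℬ (Submonoid.powers (φ s)) (φ.gradedZeroRingHom c) := by
  apply val_injective
  simp [Away.map, fromZeroRingHom, HomogeneousLocalization.map_mk]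

@[reassoc]
theorem map_toSpecZero :
    Proj.map φ hφ ≫ Proj.toSpecZero 𝒜 =
      Proj.toSpecZero ℬ ≫ Spec.map (CommRingCat.ofHom φ.gradedZeroRingHom) := by
  refine (Proj.mapAffineOpenCover φ hφ).openCover.hom_ext _ _ fun (j : Σ i : PNat, 𝒜 i) => ?_
  obtain ⟨⟨i, hi⟩, s, hs⟩ := j
  replace hs : s ∈ 𝒜 i := hs
  change Proj.awayι ℬ (φ s) (φ.2 hs) hi ≫ _ = Proj.awayι ℬ (φ s) (φ.2 hs) hi ≫ _
  rw [Proj.awayι_comp_map_assoc φ hφ hi s hs, Proj.awayι_toSpecZero, Proj.awayι_toSpecZero_assoc,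
    ← Spec.map_comp, ← Spec.map_comp]
  congr 1
  ext c
  exact congrArg val (away_map_fromZero φ s c)

theorem away_map_bijective_of_bijOn {d₀ : ℕ}
    (hbij : ∀ n : ℕ, d₀ ≤ n → Set.BijOn φ (𝒜 n) (ℬ n)) {i : ℕ} (hi : 0 < i) {s : A} (hs : s ∈ 𝒜 i) :
    Function.Bijective (Away.map φ s) := by
  have hle : ∀ n : ℕ, d₀ ≤ d₀ • i + n := fun n =>
    le_add_right (Nat.le_mul_of_pos_right d₀ hi)
  refine ⟨(injective_iff_map_eq_zero _).2 fun z hz => ?_, fun z => ?_⟩
  · obtain ⟨n, b, hb, rfl⟩ := Away.mk_surjective 𝒜 hs z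
    rw [Away.map_mk φ s hs n b hb] at hz
    have h0 := congrArg val hz
    rw [val_zero, Away.val_mk, mk_eq_zero_iff_exists_pow] at h0
    obtain ⟨l, hl⟩ := h0
    have hl' : φ (s ^ d₀ * (s ^ l * b)) = 0 := by
      rw [map_mul, map_mul, map_pow, map_pow, hl, mul_zero]
    have hdeg : s ^ d₀ * (s ^ l * b) ∈ 𝒜 (d₀ • i + (l • i + n • i)) :=
      graded_mul_mem 𝒜 (SetLike.pow_mem_graded _ hs) (graded_mul_mem 𝒜 (SetLike.pow_mem_graded _ hs) hb)
    have h00 : s ^ d₀ * (s ^ l * b) = 0 :=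
      (hbij _ (hle _)).injOn hdeg (zero_mem _) (hl'.trans (map_zero φ).symm)
    apply val_injective
    rw [val_zero, Away.val_mk, mk_eq_zero_iff_exists_pow]
    exact ⟨d₀ + l, by rw [pow_add, mul_assoc, h00]⟩
  · obtain ⟨n, a, ha, rfl⟩ := Away.mk_surjective ℬ (φ.2 hs) z
    have ha' : φ s ^ d₀ * a ∈ ℬ ((d₀ + n) • i) := by
      rw [add_smul]
      exact graded_mul_mem ℬ (SetLike.pow_mem_graded _ (φ.2 hs)) ha
    obtain ⟨b, hb, hbe⟩ := (hbij _ (by rw [add_smul]; exact hle _)).surjOn ha'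
    refine ⟨Away.mk 𝒜 hs (d₀ + n) b hb, ?_⟩
    rw [Away.map_mk φ s hs (d₀ + n) b hb]
    apply val_injective
    simp only [Away.val_mk]
    rw [Localization.mk_eq_mk_iff, Localization.r_iff_exists]
    exact ⟨1, by simp [hbe]; ring⟩

theorem isIso_map_of_bijOn {d₀ : ℕ} (hbij : ∀ n : ℕ, d₀ ≤ n → Set.BijOn φ (𝒜 n) (ℬ n)) :
    IsIso (Proj.map φ hφ) := by
  refine map_of_away (P := MorphismProperty.isomorphisms Scheme) φ hφ fun i s hi hs => ?_
  have : IsIso (CommRingCat.ofHom (Away.map φ s)) :=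
    (ConcreteCategory.isIso_iff_bijective _).2 (away_map_bijective_of_bijOn φ hbij hi hs)
  exact (inferInstance : IsIso (Spec.map (CommRingCat.ofHom (Away.map φ s))))

theorem away_map_isLocalization (c : 𝒜 0)
    (hloc : letI := φ.toRingHom.toAlgebra; IsLocalization.Away (c : A) B) {i : ℕ} {s : A} (hs : s ∈ 𝒜 i) :
    letI := (Away.map φ s).toAlgebra
    IsLocalization.Away (fromZeroRingHom 𝒜 (Submonoid.powers s) c) (Away ℬ (φ s)) := by
  let _ := φ.toRingHom.toAlgebra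
  let _ := (Away.map φ s).toAlgebra
  have halg : ∀ x : A, algebraMap A B x = φ x := fun _ => rfl
  obtain ⟨u, hu⟩ := IsLocalization.Away.algebraMap_isUnit (S := B) (c : A)
  rw [halg] at hu
  have hc0 : φ c ∈ ℬ 0 := φ.2 c.2
  have hu0 : (decompose ℬ (↑u⁻¹ : B) 0 : B) * φ c = 1 := by
    have h1 : (decompose ℬ (φ c * (↑u⁻¹ : B)) 0 : B) = φ c * (decompose ℬ (↑u⁻¹ : B) 0 : B) := by
      rw [proj_mul_of_mem ℬ hc0, if_pos le_rfl, Nat.sub_zero]
    rw [← hu, Units.mul_inv, decompose_of_mem_same ℬ SetLike.GradedOne.one_mem, hu] at h1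
    rw [mul_comm]; exact h1.symm
  -- homogeneous elements of `B` are homogeneous fractions
  have key : ∀ (n : ℕ) (b : B), b ∈ ℬ n → ∃ (k : ℕ) (a : A), a ∈ 𝒜 n ∧ b * φ c ^ k = φ a := by
    intro n b hb
    obtain ⟨k, a, hk⟩ := IsLocalization.Away.surj (c : A) b
    rw [halg, halg] at hk
    refine ⟨k, _, (decompose 𝒜 a n).2, ?_⟩
    rw [φ.map_directSumDecompose, ← hk, decompose_of_mem_same ℬ]
    simpa using graded_mul_mem ℬ hb (SetLike.pow_mem_graded k hc0)
  constructor; constructor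
  · rintro ⟨_, k, rfl⟩
    simp only [RingHom.algebraMap_toAlgebra, map_pow, away_map_fromZero]
    refine ((IsUnit.of_mul_eq_one (fromZeroRingHom ℬ _ ⟨_, (decompose ℬ (↑u⁻¹ : B) 0).2⟩) ?_).pow k)
    rw [← map_mul, ← map_one (fromZeroRingHom ℬ _)]
    congr 1
    exact Subtype.ext ((mul_comm _ _).trans hu0)
  · intro z
    obtain ⟨n, b, hb, rfl⟩ := Away.mk_surjective ℬ (φ.2 hs) z
    obtain ⟨k, a, ha, hk⟩ := key _ b hb
    refine ⟨⟨Away.mk 𝒜 hs n a ha, ⟨_, k, rfl⟩⟩, ?_⟩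
    simp only [RingHom.algebraMap_toAlgebra, map_pow, away_map_fromZero, Away.map_mk]
    apply val_injective
    simp only [val_mul, val_pow, Away.val_mk, fromZeroRingHom, RingHom.coe_mk, MonoidHom.coe_mk,
      OneHom.coe_mk, val_mk, Localization.mk_pow, Localization.mk_mul,
      GradedRingHom.gradedZeroRingHom_apply_coe]
    rw [Localization.mk_eq_mk_iff, Localization.r_iff_exists]
    exact ⟨1, by simp [hk]⟩
  · intro x y hxy
    obtain ⟨n, a, ha, rfl⟩ := Away.mk_surjective 𝒜 hs x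
    obtain ⟨m, b, hb, rfl⟩ := Away.mk_surjective 𝒜 hs y
    simp only [RingHom.algebraMap_toAlgebra, Away.map_mk] at hxy
    replace hxy := congrArg val hxy
    simp only [Away.val_mk, Localization.mk_eq_mk_iff, Localization.r_iff_exists] at hxy
    obtain ⟨⟨_, l, rfl⟩, hl⟩ := hxy
    have hl' : algebraMap A B (s ^ l * (s ^ m * a)) = algebraMap A B (s ^ l * (s ^ n * b)) := by
      simpa [halg] using hl
    obtain ⟨k, hk⟩ := IsLocalization.Away.exists_of_eq (S := B) (c : A) hl'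
    refine ⟨⟨_, k, rfl⟩, ?_⟩
    apply val_injective
    simp only [val_mul, val_pow, Away.val_mk, fromZeroRingHom, RingHom.coe_mk, MonoidHom.coe_mk,
      OneHom.coe_mk, val_mk, Localization.mk_pow, Localization.mk_mul]
    rw [Localization.mk_eq_mk_iff, Localization.r_iff_exists]
    refine ⟨⟨_, l, rfl⟩, ?_⟩
    simp only [Submonoid.coe_mul, SubmonoidClass.coe_pow, SetLike.GradeZero.coe_one, one_pow]
    linear_combination hk

/-- Inverting an element `c` of degree zero: `Proj` of the localisation is the preimage of `D(c)`. -/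
theorem map_localization (c : 𝒜 0)
    (hloc : letI := φ.toRingHom.toAlgebra; IsLocalization.Away (c : A) B) :
    IsOpenImmersion (Proj.map φ hφ) ∧
      Set.range (Proj.map φ hφ) =
        (Proj.toSpecZero 𝒜 ⁻¹ᵁ PrimeSpectrum.basicOpen c : (Proj 𝒜).Opens) := by
  refine ⟨map_of_away φ hφ fun i s _ hs => ?_, ?_⟩
  · let _ := (Away.map φ s).toAlgebra
    have := away_map_isLocalization φ c hloc hs
    exact IsOpenImmersion.of_isLocalization (fromZeroRingHom 𝒜 (Submonoid.powers s) c)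
  · ext x
    obtain ⟨j, z, rfl⟩ := (Proj.affineOpenCover 𝒜).openCover.exists_eq x
    obtain ⟨⟨i, hi⟩, s, hs⟩ : Σ i : PNat, 𝒜 i := j
    replace hs : s ∈ 𝒜 i := hs
    let _ := (Away.map φ s).toAlgebra
    have := away_map_isLocalization φ c hloc hs
    have e1 : (z ∈ Set.range (Spec.map (CommRingCat.ofHom (Away.map φ s)))) ↔
        (Proj.awayι 𝒜 s hs hi z ∈ Set.range (Proj.map φ hφ)) := by
      constructor
      · rintro ⟨w, rfl⟩
        refine ⟨Proj.awayι ℬ (φ s) (φ.2 hs) hi w, ?_⟩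
        rw [← Scheme.Hom.comp_apply, Proj.awayι_comp_map φ hφ hi _ hs, Scheme.Hom.comp_apply]
      · rintro ⟨y, hy⟩
        have hy' : y ∈ (Proj.awayι ℬ (φ s) (φ.2 hs) hi).opensRange := by
          have : Proj.map φ hφ y ∈ (Proj.awayι 𝒜 s hs hi).opensRange := ⟨z, hy.symm⟩
          rw [Proj.opensRange_awayι] at this ⊢
          exact this
        obtain ⟨w, rfl⟩ := hy'
        refine ⟨w, (Proj.awayι 𝒜 s hs hi).isOpenEmbedding.injective ?_⟩
        rw [← hy, ← Scheme.Hom.comp_apply, ← Scheme.Hom.comp_apply, Proj.awayι_comp_map φ hφ hi _ hs]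
    change Proj.awayι 𝒜 s hs hi z ∈ _ ↔ Proj.awayι 𝒜 s hs hi z ∈ _
    rw [← e1]
    change _ ↔ Proj.toSpecZero 𝒜 (Proj.awayι 𝒜 s hs hi z) ∈ PrimeSpectrum.basicOpen c
    rw [← Scheme.Hom.comp_apply, Proj.awayι_toSpecZero]
    exact Set.ext_iff.1 (PrimeSpectrum.localization_away_comap_range (Away ℬ (φ s))
      (fromZeroRingHom 𝒜 (Submonoid.powers s) c)) z

end Groth.Agent.H11Proj
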