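import Groth.Agent.H11Proj.RelProjMap
import Mathlib.AlgebraicGeometry.RelativeGluing
import Mathlib.AlgebraicGeometry.Sites.SmallAffineZariski

/-!
# Existence of relative Proj
-/

set_option autoImplicit false
universe u

namespace Groth.Agent.H11Proj

open CategoryTheory CategoryTheory.Limits AlgebraicGeometry TopologicalSpace Opposite RelProj
open scoped HomogeneousIdeal
open Scheme.AffineZariskiSite

variable {Y : Scheme.{u}} (𝒮 : QCGrAlg Y)

theorem site_irrelevant_le {U V : Y.AffineZariskiSite} (i : V ≤ U) :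
    (𝒮.deg V.1 V.2)₊ ≤ ((𝒮.deg U.1 U.2)₊).map (𝒮.res U.2 V.2 (toOpens_mono i)) := by
  obtain ⟨V, hV⟩ := V
  obtain ⟨r, hr⟩ := i
  change Y.basicOpen r = V at hr
  subst hr
  exact 𝒮.irrelevant_le_map U.1 U.2 r

theorem res_self {U : Y.Opens} (hU : IsAffineOpen U) :
    𝒮.res hU hU le_rfl = GradedRingHom.id (𝒮.deg U hU) := by
  refine GradedRingHom.ext fun x => ?_
  exact ConcreteCategory.congr_hom (𝒮.presheaf.map_id (op U)) x

theorem res_trans {U V W : Y.Opens} (hU : IsAffineOpen U) (hV : IsAffineOpen V) (hW : IsAffineOpen W)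
    (i : V ≤ U) (j : W ≤ V) :
    𝒮.res hU hW (j.trans i) = (𝒮.res hV hW j).comp (𝒮.res hU hV i) := by
  refine GradedRingHom.ext fun x => ?_
  exact ConcreteCategory.congr_hom (𝒮.presheaf.map_comp (homOfLE i).op (homOfLE j).op) x

/-- The functor `U ↦ Proj 𝒮(U)` on the small affine Zariski site. -/
noncomputable def projFunctor : Y.AffineZariskiSite ⥤ Scheme.{u} where
  obj U := Proj (𝒮.deg U.1 U.2)
  map {V U} i := Proj.map (𝒮.res U.2 V.2 (toOpens_mono i.le)) (site_irrelevant_le 𝒮 i.le)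
  map_id U := (map_congr (res_self 𝒮 U.2) _ (by simp)).trans Proj.map_id
  map_comp {W V U} i j := by
    rw [map_congr (res_trans 𝒮 U.2 V.2 W.2 (toOpens_mono j.le) (toOpens_mono i.le)) _
      (HomogeneousIdeal.irrelevant_le_map_comp (site_irrelevant_le 𝒮 j.le) (site_irrelevant_le 𝒮 i.le)),
      Proj.map_comp]

theorem strZero_natural {U V : Y.Opens} (hU : IsAffineOpen U) (hV : IsAffineOpen V) (i : V ≤ U) :
    𝒮.strZero U hU ≫ CommRingCat.ofHom (𝒮.res hU hV i).gradedZeroRingHom =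
      Y.presheaf.map (homOfLE i).op ≫ 𝒮.strZero V hV := by
  refine CommRingCat.hom_ext (RingHom.ext fun r => Subtype.ext ?_)
  exact (ConcreteCategory.congr_hom (𝒮.str.naturality (homOfLE i).op) r).symm

/-- The structure map over an affine open. -/
noncomputable def projToOpen (U : Y.AffineZariskiSite) : Proj (𝒮.deg U.1 U.2) ⟶ (U.1 : Scheme.{u}) :=
  Proj.toSpecZero (𝒮.deg U.1 U.2) ≫ Spec.map (𝒮.strZero U.1 U.2) ≫ U.2.isoSpec.inv

theorem projToOpen_ι (U : Y.AffineZariskiSite) :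
    projToOpen 𝒮 U ≫ U.1.ι =
      Proj.toSpecZero (𝒮.deg U.1 U.2) ≫ Spec.map (𝒮.strZero U.1 U.2) ≫ U.2.fromSpec := by
  simp [projToOpen, IsAffineOpen.isoSpec_inv_ι]

theorem projToOpen_natural {U V : Y.AffineZariskiSite} (i : V ≤ U) :
    Proj.map (𝒮.res U.2 V.2 (toOpens_mono i)) (site_irrelevant_le 𝒮 i) ≫ projToOpen 𝒮 U =
      projToOpen 𝒮 V ≫ Y.homOfLE (toOpens_mono i) := by
  rw [← cancel_mono U.1.ι, Category.assoc, Category.assoc, projToOpen_ι, Scheme.homOfLE_ι, projToOpen_ι,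
    map_toSpecZero_assoc, ← Spec.map_comp_assoc, strZero_natural, Spec.map_comp, Category.assoc,
    U.2.map_fromSpec V.2 _]

theorem isPullback_projToOpen {U V : Y.AffineZariskiSite} (i : V ≤ U) :
    IsPullback (Proj.map (𝒮.res U.2 V.2 (toOpens_mono i)) (site_irrelevant_le 𝒮 i)) (projToOpen 𝒮 V)
      (projToOpen 𝒮 U) (Y.homOfLE (toOpens_mono i)) := by
  have hnat := projToOpen_natural 𝒮 i
  revert hnat
  obtain ⟨U, hU⟩ := U
  obtain ⟨V, hV⟩ := V
  obtain ⟨r, hr⟩ := id i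
  change Y.basicOpen r = V at hr
  subst hr
  change IsAffineOpen U at hU
  intro hnat
  obtain ⟨ho, hrange⟩ := map_localization (𝒮.res hU hV (toOpens_mono i)) (site_irrelevant_le 𝒮 i)
    ((𝒮.strZero U hU).hom r) (𝒮.isQC U hU r)
  refine (IsOpenImmersion.isPullback (projToOpen 𝒮 ⟨Y.basicOpen r, hV⟩) _ (Y.homOfLE (Y.basicOpen_le r))
    (projToOpen 𝒮 ⟨U, hU⟩) hnat ?_).flip
  refine Opens.ext ?_
  rw [Scheme.Hom.coe_opensRange, hrange]
  have hP : (Y.homOfLE (Y.basicOpen_le r)).opensRange = U.ι ⁻¹ᵁ Y.basicOpen r :=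
    Scheme.opensRange_homOfLE _
  rw [hP, ← Scheme.Hom.comp_preimage, projToOpen_ι, Scheme.Hom.comp_preimage, Scheme.Hom.comp_preimage,
    hU.fromSpec_preimage_basicOpen]
  rfl

/-- The relative gluing datum of the charts `Proj 𝒮(U)`. -/
noncomputable def projGlueData : (Scheme.AffineZariskiSite.directedCover Y).RelativeGluingData where
  functor := projFunctor 𝒮
  natTrans :=
    { app := fun U => projToOpen 𝒮 U
      naturality := fun _ _ i => projToOpen_natural 𝒮 i.le }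
  equifibered := fun _ _ i => isPullback_projToOpen 𝒮 i.le

instance : ((projGlueData 𝒮).functor ⋙ Scheme.forget).IsLocallyDirected :=
  Scheme.Cover.RelativeGluingData.instIsLocallyDirectedI₀CompFunctorForgetOfIsThin ..

theorem exists_isRelProj :
    ∃ (P : Scheme.{u}) (p : P ⟶ Y)
      (chart : ∀ (U : Y.Opens) (hU : IsAffineOpen U), (((p ⁻¹ᵁ U : P.Opens) : Scheme.{u}) ≅ Proj (𝒮.deg U hU))),
      IsRelProj 𝒮 p chart := by
  let D := projGlueData 𝒮
  let j : ∀ (U : Y.Opens) (hU : IsAffineOpen U), Proj (𝒮.deg U hU) ⟶ D.glued := fun U hU =>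
    D.cover.f ⟨U, hU⟩
  have hj : ∀ (U : Y.Opens) (hU : IsAffineOpen U), IsOpenImmersion (j U hU) := fun U hU =>
    D.cover.map_prop _
  have hpre : ∀ (U : Y.Opens) (hU : IsAffineOpen U),
      D.toBase ⁻¹ᵁ U = @Scheme.Hom.opensRange _ _ (j U hU) (hj U hU) := fun U hU => by
    simpa using! D.toBase_preimage_eq_opensRange_ι ⟨U, hU⟩
  have hjover : ∀ (U : Y.Opens) (hU : IsAffineOpen U), j U hU ≫ D.toBase =
      Proj.toSpecZero (𝒮.deg U hU) ≫ Spec.map (𝒮.strZero U hU) ≫ hU.fromSpec := fun U hU =>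
    (D.ι_toBase ⟨U, hU⟩).trans (projToOpen_ι 𝒮 ⟨U, hU⟩)
  have hjres : ∀ (U : Y.Opens) (hU : IsAffineOpen U) (r : Γ(Y, U)),
      Proj.map (𝒮.res hU (hU.basicOpen r) (Y.basicOpen_le r)) (𝒮.irrelevant_le_map U hU r) ≫ j U hU =
        j (Y.basicOpen r) (hU.basicOpen r) := fun U hU r =>
    colimit.w D.functor (homOfLE (Scheme.AffineZariskiSite.basicOpen_le ⟨U, hU⟩ r))
  let e : ∀ (U : Y.Opens) (hU : IsAffineOpen U),
      (D.toBase ⁻¹ᵁ U : Scheme.{u}) ≅ Proj (𝒮.deg U hU) := fun U hU =>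
    D.glued.isoOfEq (hpre U hU) ≪≫ (@Scheme.Hom.isoOpensRange _ _ (j U hU) (hj U hU)).symm
  have he : ∀ (U : Y.Opens) (hU : IsAffineOpen U), (e U hU).hom ≫ j U hU = (D.toBase ⁻¹ᵁ U).ι := fun U hU => by
    have := hj U hU
    simp [e]
  refine ⟨D.glued, D.toBase, e, fun U hU => ?_, fun U hU r => ?_⟩
  · rw [← hjover U hU, ← Category.assoc, he]
  · have := hj U hU
    rw [← cancel_mono (j U hU), Category.assoc, Category.assoc, he, hjres, he, Scheme.homOfLE_ι]

end Groth.Agent.H11Proj
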