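import Groth.Agent.H11Proj.RelProjGlue
import Groth.Agent.H11Proj.ProjMap
import Groth.Agent.H11Proj.DegOne
import Groth.Agent.H11Tilde.TwistLoc
import Groth.Agent.H11Ample.RelPullback
import Groth.Agent.H11Ample.Converse
import Groth.Agent.H27Weil.Geometry
import Groth.Prelude.Def_RelProj

/-!
# Projective morphisms are proper and quasi-projective

`Proj` of a graded ring generated in degree one over a base ring `R`, with degree-one part finite over `R`,
is a closed subscheme of `P^n_R`, and its `O(1)` is ample.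
-/

set_option autoImplicit false
set_option linter.style.haveILetI false

noncomputable section

universe u

open CategoryTheory CategoryTheory.Limits AlgebraicGeometry Opposite TopologicalSpace DirectSum
open Groth.Agent.H11Tilde Groth.Agent.H11Ample
open scoped HomogeneousIdeal

namespace Groth.Agent.H11Proj

namespace DegOneProj

variable {A σ : Type u} [CommRing A] [SetLike σ A] [AddSubgroupClass σ A] (𝒜 : ℕ → σ) [GradedRing 𝒜]
  {R : CommRingCat.{u}} (str : R ⟶ CommRingCat.of (𝒜 0)) {n : ℕ} (t : Fin (n + 1) → A) (ht : ∀ i, t i ∈ 𝒜 1)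

include ht in
theorem eval₂_mem {d : ℕ} {p : MvPolynomial (Fin (n + 1)) R} (hp : p.IsHomogeneous d) :
    MvPolynomial.eval₂Hom ((SetLike.GradeZero.subring 𝒜).subtype.comp str.hom) t p ∈ 𝒜 d := by
  classical
  rw [MvPolynomial.coe_eval₂Hom, MvPolynomial.eval₂_eq]
  refine sum_mem fun e he => ?_
  have hd : ∑ i ∈ e.support, e i = d := by
    have := hp (MvPolynomial.mem_support_iff.1 he)
    rw [Finsupp.weight_apply, Finsupp.sum] at this
    simpa using this
  have h1 : ∏ i ∈ e.support, t i ^ e i ∈ 𝒜 (∑ i ∈ e.support, e i) := by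
    simpa using SetLike.prod_pow_mem_graded (A := 𝒜) (g := t) (F := e.support) (i := fun _ => 1) (fun i => e i)
      fun i _ => ht i
  rw [← zero_add d, ← hd]
  exact SetLike.mul_mem_graded (str.hom (p.coeff e)).2 h1

/-- The graded homomorphism from the polynomial ring given by degree-one elements. -/
def polyHom : CohB1.polyGrading n R →+*ᵍ 𝒜 :=
  { MvPolynomial.eval₂Hom ((SetLike.GradeZero.subring 𝒜).subtype.comp str.hom) t with
    map_mem := fun hp => eval₂_mem 𝒜 str t ht hp }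

variable (hgen : Subring.closure ((𝒜 0 : Set A) ∪ (𝒜 1 : Set A)) = ⊤)
  (hspan : ∀ x ∈ 𝒜 1, ∃ c : Fin (n + 1) → R, x = ∑ i, (str.hom (c i) : A) * t i)

include hgen hspan in
theorem exists_polyHom_eq : ∀ {d : ℕ}, 0 < d → ∀ {x : A}, x ∈ 𝒜 d →
    ∃ p ∈ CohB1.polyGrading n R d, polyHom 𝒜 str t ht p = x := by
  classical
  have h1 : ∀ x ∈ 𝒜 1, ∃ p ∈ CohB1.polyGrading n R 1, polyHom 𝒜 str t ht p = x := fun x hx => by
    obtain ⟨c, rfl⟩ := hspan x hx
    refine ⟨∑ i, MvPolynomial.C (c i) * MvPolynomial.X i,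
      sum_mem fun i _ => by simpa using (MvPolynomial.isHomogeneous_C _ (c i)).mul (MvPolynomial.isHomogeneous_X R i), ?_⟩
    simp [polyHom]
    rfl
  intro d
  induction d with
  | zero => exact fun h => absurd h (lt_irrefl _)
  | succ d ih =>
    intro _ x hx
    have hx0 : GradedRing.projZeroRingHom 𝒜 x = 0 := by
      rw [GradedRing.projZeroRingHom_apply, decompose_of_mem_ne 𝒜 hx d.succ_ne_zero]
    have hle : Ideal.span (𝒜 1 : Set A) ≤ Ideal.span (Set.range t) := Ideal.span_le.2 fun y hy => by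
      obtain ⟨c, rfl⟩ := hspan y hy
      exact sum_mem fun i _ => Ideal.mul_mem_left _ _ (Ideal.subset_span ⟨i, rfl⟩)
    have hxs := hle (sub_projZero_mem_span 𝒜 hgen x)
    rw [hx0, sub_zero, Ideal.mem_span_range_iff_exists_fun] at hxs
    obtain ⟨a, ha⟩ := hxs
    have key : ∀ i, ∃ p ∈ CohB1.polyGrading n R (d + 1),
        polyHom 𝒜 str t ht p = (decompose 𝒜 (a i) d : A) * t i := fun i => by
      rcases Nat.eq_zero_or_pos d with rfl | hd
      · exact h1 _ (by simpa using SetLike.mul_mem_graded (decompose 𝒜 (a i) 0).2 (ht i))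
      · obtain ⟨p, hp, hpe⟩ := ih hd (decompose 𝒜 (a i) d).2
        refine ⟨p * MvPolynomial.X i, hp.mul (MvPolynomial.isHomogeneous_X R i), ?_⟩
        rw [map_mul, hpe]
        exact congrArg _ (MvPolynomial.eval₂Hom_X' _ _ i)
    choose p hp hpe using key
    refine ⟨∑ i, p i, sum_mem fun i _ => hp i, ?_⟩
    rw [map_sum]
    simp only [hpe]
    conv_rhs => rw [← decompose_of_mem_same 𝒜 hx, ← ha]
    rw [← GradedRing.proj_apply, map_sum]
    simp only [GradedRing.proj_apply]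
    exact Finset.sum_congr rfl fun i _ => by
      rw [coe_decompose_mul_of_right_mem_of_le 𝒜 (ht i) (Nat.le_add_left 1 d), Nat.add_sub_cancel]

include hgen hspan in
theorem irrelevant_le : 𝒜₊ ≤ ((CohB1.polyGrading n R)₊).map (polyHom 𝒜 str t ht) := by
  rw [HomogeneousIdeal.irrelevant_le]
  intro d hd x hx
  obtain ⟨p, hp, rfl⟩ := exists_polyHom_eq 𝒜 str t ht hgen hspan hd hx
  exact Ideal.mem_map_of_mem _ (HomogeneousIdeal.mem_irrelevant_of_mem _ hd hp)

include hgen hspan in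
theorem away_map_surjective {i : ℕ} (hi : 0 < i) {s : MvPolynomial (Fin (n + 1)) R}
    (hs : s ∈ CohB1.polyGrading n R i) :
    Function.Surjective (HomogeneousLocalization.Away.map (polyHom 𝒜 str t ht) s) := by
  intro z
  let ψ := polyHom 𝒜 str t ht
  obtain ⟨k, b, hb, rfl⟩ := HomogeneousLocalization.Away.mk_surjective 𝒜 (ψ.map_mem hs) z
  have hb' : b * ψ s ∈ 𝒜 ((k + 1) • i) := by
    rw [add_smul, one_smul]
    exact SetLike.mul_mem_graded hb (ψ.map_mem hs)
  obtain ⟨p, hp, hpe⟩ :=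
    exists_polyHom_eq 𝒜 str t ht hgen hspan (Nat.mul_pos k.succ_pos hi) hb'
  refine ⟨HomogeneousLocalization.Away.mk _ hs (k + 1) p hp, ?_⟩
  rw [HomogeneousLocalization.Away.map_mk]
  apply HomogeneousLocalization.val_injective
  simp only [HomogeneousLocalization.Away.val_mk, Localization.mk_eq_mk_iff, Localization.r_iff_exists]
  refine ⟨1, ?_⟩
  simp only [OneMemClass.coe_one, one_mul, hpe, pow_succ, ψ]
  change ψ s ^ k * _ = _
  ring

include ht hgen hspan in
/-- `Proj` of such a ring is a closed subscheme of projective space. -/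
theorem exists_isClosedImmersion_projSpace :
    ∃ j : Proj 𝒜 ⟶ CohB1.ProjSpace n R, IsClosedImmersion j ∧
      j ≫ CohB1.ProjSpace.toSpec n R = Proj.toSpecZero 𝒜 ≫ Spec.map str := by
  refine ⟨Proj.map (polyHom 𝒜 str t ht) (irrelevant_le 𝒜 str t ht hgen hspan),
    map_of_away _ _ fun i s hi hs =>
      IsClosedImmersion.spec_of_surjective _ (away_map_surjective 𝒜 str t ht hgen hspan hi hs), ?_⟩
  refine (map_toSpecZero_assoc _ _ _).trans (congrArg (Proj.toSpecZero 𝒜 ≫ ·) ?_)
  rw [← Spec.map_comp]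
  congr 1
  ext r
  exact MvPolynomial.eval₂Hom_C _ _ r

include hgen in
theorem isInvertible_twist_one : PicF.IsInvertible (GrTwist.twist 𝒜 1) :=
  isInvertible_of_gen fun y => by
    obtain ⟨a, ha, hay⟩ := exists_degOne_notMem 𝒜 hgen y
    let g : Γ(GrTwist.twist 𝒜 1, ⊤) := globalSec 𝒜 ha
    refine ⟨Proj.basicOpen 𝒜 a,
      (GrTwist.twist 𝒜 1).presheaf.map (homOfLE (le_top : Proj.basicOpen 𝒜 a ≤ ⊤)).op g,
      hay, isGen_of_bijective fun W hW => ?_⟩
    refine Eq.mpr (congrArg Function.Bijective (funext fun r => ?_))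
      (Groth.Agent.H11Tilde.bijective_smul_globalSec 𝒜 ha hW)
    rw [H10Coh.mres_mres]
    rfl

include hgen in
theorem isAmple_twist_one [CompactSpace (Proj 𝒜)] : CohB1.IsAmple (GrTwist.twist 𝒜 1) := by
  refine isAmple_iff.2 ⟨isInvertible_twist_one 𝒜 hgen, inferInstance, fun y => ?_⟩
  obtain ⟨a, ha, hay⟩ := exists_degOne_notMem 𝒜 hgen y
  have e : gen (GrTwist.twist 𝒜 1) (globalSec 𝒜 ha) = Proj.basicOpen 𝒜 a :=
    genLocus_globalSec 𝒜 ha fun x => exists_degOne_notMem 𝒜 hgen x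
  let g : Γ(GrTwist.twist 𝒜 1, ⊤) := globalSec 𝒜 ha
  refine ⟨1, spow g 1, one_pos, ?_⟩
  rw [gen_spow (isInvertible_twist_one 𝒜 hgen) g 1 one_pos, show gen (GrTwist.twist 𝒜 1) g = _ from e]
  exact ⟨hay, Proj.isAffineOpen_basicOpen 𝒜 a ha one_pos⟩

end DegOneProj

section relative

variable {S P X : Scheme.{u}} {𝒮 : RelProj.QCGrAlg S} {p : P ⟶ S}
  {chart : ∀ (U : S.Opens) (hU : IsAffineOpen U), (((p ⁻¹ᵁ U : P.Opens) : Scheme.{u}) ≅ Proj (𝒮.deg U hU))}

/-- Over an affine open, `Proj` of the algebra is a closed subscheme of a projective space. -/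
theorem exists_isClosedImmersion_chart (hgen : 𝒮.IsGenDegOne) (hft : 𝒮.IsFTDeg 1) (U : S.Opens)
    (hU : IsAffineOpen U) :
    ∃ (n : ℕ) (j : Proj (𝒮.deg U hU) ⟶ CohB1.ProjSpace n Γ(S, U)), IsClosedImmersion j ∧
      j ≫ CohB1.ProjSpace.toSpec n Γ(S, U) = Proj.toSpecZero (𝒮.deg U hU) ≫ Spec.map (𝒮.strZero U hU) := by
  obtain ⟨T, hT, hspan⟩ := hft U hU
  let e := T.equivFin.symm
  refine ⟨T.card, DegOneProj.exists_isClosedImmersion_projSpace (𝒮.deg U hU) (𝒮.strZero U hU)
    (Fin.cons 0 fun i => (e i : 𝒮.presheaf.obj (op U))) (Fin.cases (zero_mem _) fun i => hT (e i).2)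
    (hgen U hU) fun x hx => ?_⟩
  obtain ⟨c, rfl⟩ := hspan x hx
  refine ⟨Fin.cons 0 fun i => c (e i : 𝒮.presheaf.obj (op U)), ?_⟩
  rw [Fin.sum_univ_succ]
  erw [Fin.cons_zero, mul_zero, zero_add]
  simp only [Fin.cons_succ]
  rw [Equiv.sum_comp e fun t : T => (((𝒮.strZero U hU).hom (c t) : _) : 𝒮.presheaf.obj (op U)) * t]
  exact (Finset.sum_coe_sort T fun t => (𝒮.str.app (op U)).hom (c t) * t).symm

theorem isProper_relProj (hgen : 𝒮.IsGenDegOne) (hft : 𝒮.IsFTDeg 1) (hP : RelProj.IsRelProj 𝒮 p chart) :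
    IsProper p :=
  relProj_of_charts hP fun U hU => by
    obtain ⟨n, j, hj, e⟩ := exists_isClosedImmersion_chart hgen hft U hU
    haveI := hj
    rw [← e]
    infer_instance

theorem isRelAmple_twist_one (hgen : 𝒮.IsGenDegOne) (hft : 𝒮.IsFTDeg 1) (hP : RelProj.IsRelProj 𝒮 p chart)
    {L : P.Modules} {lam : ∀ (U : S.Opens) (hU : IsAffineOpen U),
      L ⟶ (Scheme.Modules.pushforward (RelProj.emb p chart U hU)).obj (GrTwist.twist (𝒮.deg U hU) 1)}
    (hL : RelProj.IsRelTwist 𝒮 p chart 1 L lam) : RelAmple.IsRelAmple p L := by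
  haveI := isProper_relProj hgen hft hP
  refine isRelAmple_iff.2 ⟨inferInstance, fun U hU => ?_⟩
  let j := RelProj.emb p chart U hU
  have hr : j.opensRange = p ⁻¹ᵁ U := opensRange_emb p chart U hU
  haveI : CompactSpace (Proj (𝒮.deg U hU)) := by
    haveI : CompactSpace (p ⁻¹ᵁ U).toScheme :=
      isCompact_iff_compactSpace.1 (p.isCompact_preimage (U := U) hU.isCompact)
    exact (chart U hU).hom.homeomorph.compactSpace
  refine (ampleOn_iff_of_range j hr).2 (isAmple_of_iso ?_ (DegOneProj.isAmple_twist_one (𝒮.deg U hU) (hgen U hU)))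
  exact (isoOfBijectiveApp j (lam U hU) fun W hW => hL.bijective U hU W (hW.trans hr.le)).symm ≪≫
    (Scheme.Modules.restrictFunctorIsoPullback j).app L

theorem isProper_of_isProjective {f : X ⟶ S} (h : RelProj.IsProjective f) : IsProper f := by
  obtain ⟨𝒮, P, p, chart, e, hgen, hft, hP, rfl⟩ := h
  haveI := isProper_relProj hgen hft hP
  infer_instance

theorem isQuasiProjective_of_isProjective {f : X ⟶ S} (h : RelProj.IsProjective f) :
    RelProj.IsQuasiProjective f := by
  obtain ⟨𝒮, P, p, chart, e, hgen, hft, hP, rfl⟩ := h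
  haveI := isProper_relProj hgen hft hP
  obtain ⟨L, lam, hL⟩ := exists_isRelTwist hP 1
  exact ⟨inferInstance, inferInstance, (Scheme.Modules.pullback e.hom).obj L,
    isRelAmple_pullback_of_isQuasiAffine (isQuasiAffineHom_of_isEmbedding e.hom e.hom.isEmbedding)
      (isRelAmple_twist_one hgen hft hP hL)⟩

/-- A projective morphism to an affine scheme is H-projective. -/
theorem exists_isClosedImmersion_projSpace_of_isProjective [IsAffine S] {f : X ⟶ S} (h : RelProj.IsProjective f) :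
    ∃ (n : ℕ) (i : X ⟶ CohB1.ProjSpace n Γ(S, ⊤)), IsClosedImmersion i ∧
      i ≫ CohB1.ProjSpace.toSpec n Γ(S, ⊤) = f ≫ S.isoSpec.hom := by
  obtain ⟨𝒮, P, p, chart, e, hgen, hft, hP, rfl⟩ := h
  obtain ⟨n, j, hj, hje⟩ := exists_isClosedImmersion_chart hgen hft ⊤ (isAffineOpen_top S)
  let c : P ⟶ Proj (𝒮.deg ⊤ (isAffineOpen_top S)) :=
    P.topIso.inv ≫ (chart ⊤ (isAffineOpen_top S)).hom
  refine ⟨n, e.hom ≫ c ≫ j, inferInstance, ?_⟩
  rw [Category.assoc, Category.assoc, Category.assoc, hje]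
  refine Eq.trans (congrArg (e.hom ≫ ·) ?_) (Category.assoc _ _ _).symm
  rw [← cancel_mono S.isoSpec.inv]
  have h1 := hP.chart_over ⊤ (isAffineOpen_top S)
  rw [IsAffineOpen.fromSpec_top] at h1
  simp only [Category.assoc, Iso.hom_inv_id, Category.comp_id]
  exact (congrArg (P.topIso.inv ≫ ·) h1).trans (P.topIso.inv_hom_id_assoc p)

end relative

end Groth.Agent.H11Proj
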