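import Groth.Agent.H11Proj.FamilyAmple
import Groth.Agent.H11Ample.Ample
import Groth.Agent.H11Ample.RelAmple
import Mathlib.AlgebraicGeometry.Morphisms.Finite

/-!
# Finite morphisms are projective
-/

set_option autoImplicit false
set_option linter.style.haveILetI false

noncomputable section

universe u

open CategoryTheory AlgebraicGeometry TopologicalSpace Opposite
open Groth.Agent.H11Tilde Groth.Agent.H11Ample

namespace Groth.Agent.H11Proj

variable {X S : Scheme.{u}} (f : X ⟶ S)

/-- A function as a section of the structure module. -/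
abbrev fn {V : X.Opens} (r : Γ(X, V)) : Γ(Coh.structureModule X, V) := r

theorem smul_fn {V : X.Opens} (r s : Γ(X, V)) : r • fn s = fn (r * s) := rfl

theorem resS_fn {V W : X.Opens} (h : W ≤ V) (r : Γ(X, V)) :
    resS (Coh.structureModule X) h (fn r) = fn (resF h r) := rfl

theorem isInvertible_structureModule : PicF.IsInvertible (Coh.structureModule X) :=
  isInvertible_of_gen fun x => ⟨⊤, one ⊤, Set.mem_univ x, isGen_one ⊤⟩

theorem genAt_fn {V : X.Opens} (r : Γ(X, V)) : genAt (Coh.structureModule X) (fn r) = X.basicOpen r := by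
  let a : Chart (Coh.structureModule X) := ⟨V, fn 1, isGen_one V⟩
  have h : resF (inf_le_right : a.V ⊓ V ≤ V) r = a.coef (fn r) := by
    refine (a.eq_coef (fn r) (inf_le_left : a.V ⊓ V ≤ a.V) inf_le_right (c := resF inf_le_right r) ?_).trans
      (resF_self _)
    rw [resS_fn, resS_fn, smul_fn, map_one, mul_one]
  have h2 := a.genAt_inf (fn r)
  rw [← h, Scheme.basicOpen_res, inf_idem, inf_eq_right.2 (X.basicOpen_le r), inf_eq_right.2 (genAt_le _)] at h2
  exact h2

/-- A finite morphism is projective. -/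
theorem isProjective_of_isFinite [IsFinite f] : RelProj.IsProjective f := by
  classical
  let M := Coh.structureModule X
  have hdata : ∀ U : S.affineOpens, ∃ (n : ℕ) (t : Fin (n + 1) → Γ(X, f ⁻¹ᵁ U.1)),
      t 0 = 1 ∧ ∀ z, SpanBy f M (fun l => fn (t l)) (fn z) := by
    rintro ⟨U, hU⟩
    have hfin : (f.app U).hom.Finite := IsFinite.finite_app f U hU
    letI := (f.app U).hom.toAlgebra
    haveI : Module.Finite Γ(S, U) Γ(X, f ⁻¹ᵁ U) := hfin
    obtain ⟨n, t, ht⟩ := Module.Finite.exists_fin (R := Γ(S, U)) (M := Γ(X, f ⁻¹ᵁ U))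
    refine ⟨n, Fin.cons 1 t, Fin.cons_zero _ _, fun z => ?_⟩
    obtain ⟨c, hc⟩ := (Submodule.mem_span_range_iff_exists_fun Γ(S, U)).1 (ht.ge (Submodule.mem_top (x := z)))
    refine ⟨Fin.cons 0 c, ?_⟩
    rw [Fin.sum_univ_succ]
    simp only [Fin.cons_zero, Fin.cons_succ, map_zero, zero_smul, zero_add]
    exact hc.symm
  choose n t h0 ht using hdata
  let g : ∀ U : S.affineOpens, Fin (n U + 1) → Γ(M, f ⁻¹ᵁ U.1) := fun U l => fn (t U l)
  -- every function over a smaller affine open is in the span of the restricted generators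
  have hbasic : ∀ (U : S.affineOpens) (r : Γ(S, U.1)) (z : Γ(X, f ⁻¹ᵁ S.basicOpen r)),
      SpanBy f M (fun l => resS M (f.preimage_mono (S.basicOpen_le r)) (g U l)) (fn z) := by
    intro U r z
    have hA : IsAffineOpen (f ⁻¹ᵁ U.1) := U.2.preimage f
    haveI := hA.isLocalization_of_eq_basicOpen (f.app U.1 r) (homOfLE (f.preimage_mono (S.basicOpen_le r)))
      (Scheme.preimage_basicOpen f r)
    letI := (X.presheaf.map (homOfLE (f.preimage_mono (S.basicOpen_le r))).op).hom.toAlgebra
    obtain ⟨m, w, hw⟩ := IsLocalization.Away.surj (f.app U.1 r) z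
    obtain ⟨v, hv⟩ : IsUnit (S.presheaf.map (homOfLE (S.basicOpen_le r)).op r) :=
      RingedSpace.isUnit_res_basicOpen _ r
    have h1 := (ht U w).res (S.basicOpen_le r)
    have e : fn z = f.app _ ((↑v⁻¹ : Γ(S, S.basicOpen r)) ^ m) •
        resS M (f.preimage_mono (S.basicOpen_le r)) (fn w) := by
      rw [resS_fn, smul_fn]
      refine congrArg fn ?_
      have hw' : z * resF (f.preimage_mono (S.basicOpen_le r)) (f.app U.1 r) ^ m =
          resF (f.preimage_mono (S.basicOpen_le r)) w := hw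
      rw [resF_app (S.basicOpen_le r), ← map_pow, ← hv] at hw'
      rw [← hw', mul_comm z, ← mul_assoc, ← map_mul, ← mul_pow, Units.inv_mul, one_pow, map_one, one_mul]
    rw [e]
    exact SpanBy.smul _ h1
  have hspan : ∀ (U : S.affineOpens) (W : S.Opens) (hW : IsAffineOpen W) (hWU : W ≤ U.1) (z : Γ(X, f ⁻¹ᵁ W)),
      SpanBy f M (fun l => resS M (f.preimage_mono hWU) (g U l)) (fn z) := fun U W hW hWU z =>
    spanBy_of_local isInvertible_structureModule hW _ _ fun x hx => by
      obtain ⟨r, hr, hxr⟩ := U.2.exists_basicOpen_le (V := W) ⟨x, hx⟩ (hWU hx)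
      refine ⟨S.basicOpen r, hr, hxr, ?_⟩
      have := hbasic U r (resF (f.preimage_mono hr) z)
      rw [show (fun l => resS M (f.preimage_mono hr) (resS M (f.preimage_mono hWU) (g U l))) =
          fun l => resS M (f.preimage_mono (S.basicOpen_le r)) (g U l) from funext fun l => resS_resS M _ _ _]
      exact this
  let Y : Fam f M :=
    { ι := S.affineOpens
      O := fun U => U.1
      k := fun U => n U + 1
      g := g
      compat := fun U U' l x hx => by
        obtain ⟨r', hr, hxr⟩ := U'.2.exists_basicOpen_le (V := U.1 ⊓ U'.1) ⟨x, hx⟩ hx.2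
        exact ⟨S.basicOpen r', hr.trans inf_le_left, S.basicOpen_le r', hxr, hbasic U' r' _⟩ }
  refine Fam.IsVeryAmple.isProjective (Y := Y) ⟨fun U x hx => ?_, fun U l W hW hWU => ?_, fun U l W hW hWU => ?_⟩
    isInvertible_structureModule ?_
  · refine ⟨(0 : Fin (n U + 1)), ?_⟩
    change x ∈ genAt M (fn (t U 0))
    rw [genAt_fn, h0, Scheme.basicOpen_of_isUnit X isUnit_one]
    exact hx
  · change IsAffineOpen (genAt M (fn (t U l)) ⊓ f ⁻¹ᵁ W)
    rw [genAt_fn, inf_comm, ← Scheme.basicOpen_res X _ (homOfLE (f.preimage_mono hWU)).op]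
    exact (hW.preimage f).basicOpen _
  · let a := chartAt (g U l)
    let E := a.V ⊓ f ⁻¹ᵁ W
    let s := resF (f.preimage_mono hWU) (t U l)
    let R := gensRing f a (fun m => resS M (f.preimage_mono hWU) (g U m))
    have hEb : E = X.basicOpen s := by
      change genAt M (fn (t U l)) ⊓ f ⁻¹ᵁ W = _
      rw [genAt_fn, inf_comm]
      exact (Scheme.basicOpen_res X _ (homOfLE (f.preimage_mono hWU)).op).symm
    -- quotients by `s` are coefficients
    have hq : ∀ z : Γ(X, f ⁻¹ᵁ W), ∃ c ∈ R, c * resF inf_le_right s = resF (inf_le_right : E ≤ f ⁻¹ᵁ W) z := by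
      intro z
      refine ⟨a.coef (fn z), coef_mem_gensRing a _ (hspan U W hW hWU z), ?_⟩
      have h := a.coef_spec (fn z)
      rw [show resS M (inf_le_left : E ≤ a.V) a.e = fn (resF inf_le_right s) from
        (resS_resS M _ (genAt_le _) _).trans ((resS_fn _ _).trans (congrArg fn (resF_resF _ _ _).symm)),
        resS_fn, smul_fn] at h
      exact h.symm
    obtain ⟨u, hu⟩ : IsUnit (resF (inf_le_right : E ≤ f ⁻¹ᵁ W) s) := by
      have h := X.toRingedSpace.isUnit_res_basicOpen s
      have h2 := h.map (resF hEb.le)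
      change IsUnit (resF hEb.le (resF (X.basicOpen_le s) s)) at h2
      rwa [resF_resF] at h2
    have hres : ∀ z : Γ(X, f ⁻¹ᵁ W), resF (inf_le_right : E ≤ f ⁻¹ᵁ W) z ∈ R := fun z => by
      obtain ⟨c, hc, e⟩ := hq (z * s)
      rw [map_mul, ← hu] at e
      exact (Units.mul_left_inj u).1 e ▸ hc
    have hinv : (↑u⁻¹ : Γ(X, E)) ∈ R := by
      obtain ⟨c, hc, e⟩ := hq 1
      rw [map_one, ← hu] at e
      rw [Units.inv_eq_of_mul_eq_one_left e]
      exact hc
    refine eq_top_iff.2 fun y _ => ?_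
    haveI := (hW.preimage f).isLocalization_of_eq_basicOpen s (homOfLE (inf_le_right : E ≤ f ⁻¹ᵁ W)) hEb
    letI := (X.presheaf.map (homOfLE (inf_le_right : E ≤ f ⁻¹ᵁ W)).op).hom.toAlgebra
    obtain ⟨m, z, hz⟩ := IsLocalization.Away.surj s y
    have hz' : y * (u : Γ(X, E)) ^ m = resF inf_le_right z := by rw [hu]; exact hz
    have e : y = resF inf_le_right z * (↑u⁻¹ : Γ(X, E)) ^ m := by
      rw [← hz', mul_assoc, ← mul_pow, Units.mul_inv, one_pow, mul_one]
    rw [e]
    exact mul_mem (hres z) (pow_mem hinv m)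
  · refine eq_top_iff.2 fun x _ => ?_
    obtain ⟨W, hW, hx⟩ := exists_isAffineOpen_mem x
    exact Opens.mem_iSup.2 ⟨⟨W, hW⟩, hx⟩

end Groth.Agent.H11Proj
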