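import Mathlib.RingTheory.GradedAlgebra.Homogeneous.Ideal
import Mathlib.RingTheory.GradedAlgebra.FiniteType
import Mathlib.RingTheory.GradedAlgebra.Noetherian
import Mathlib.RingTheory.Finiteness.Basic
import Mathlib.RingTheory.FiniteType
import Mathlib.Algebra.Algebra.Operations
import Mathlib.RingTheory.Ideal.Operations
import Mathlib.RingTheory.Nilpotent.Lemmas
import Mathlib.Tactic

/-!
# Elementary facts on nonnegatively graded algebras
-/

set_option autoImplicit false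

namespace Groth.Agent.H11Proj

open DirectSum HomogeneousIdeal

variable {A σ : Type*} [CommRing A] [SetLike σ A] [AddSubgroupClass σ A]
variable (𝒜 : ℕ → σ) [GradedRing 𝒜]

/-- The homogeneous elements of positive degree. -/
def posHom : Set A := {a | ∃ d : ℕ, 0 < d ∧ a ∈ 𝒜 d}

theorem irrelevant_eq_span_posHom :
    (irrelevant 𝒜).toIdeal = Ideal.span (posHom 𝒜) := by
  rw [irrelevant_eq_span]
  congr 1
  ext a
  simp [posHom, and_comm]

theorem mem_irrelevant_of_pos {a : A} {d : ℕ} (hd : 0 < d) (ha : a ∈ 𝒜 d) :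
    a ∈ (irrelevant 𝒜).toIdeal :=
  mem_irrelevant_of_mem 𝒜 hd ha

theorem irrelevant_le_iff {I : Ideal A} :
    (irrelevant 𝒜).toIdeal ≤ I ↔ ∀ d : ℕ, 0 < d → ∀ a ∈ 𝒜 d, a ∈ I := by
  rw [toIdeal_irrelevant_le]
  exact Iff.rfl

theorem graded_mul_mem {i j : ℕ} {a b : A} (ha : a ∈ 𝒜 i) (hb : b ∈ 𝒜 j) : a * b ∈ 𝒜 (i + j) :=
  SetLike.GradedMul.mul_mem ha hb

theorem proj_mul_of_mem {i : ℕ} {a : A} (ha : a ∈ 𝒜 i) (b : A) (n : ℕ) :
    (decompose 𝒜 (a * b) n : A) = if i ≤ n then a * (decompose 𝒜 b (n - i) : A) else 0 :=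
  coe_decompose_mul_of_left_mem _ n ha

/-- Degree-wise description of the elements of an ideal spanned by homogeneous elements:
the `n`-th component is a sum of terms `c * e` with `c` homogeneous of complementary degree. -/
theorem proj_mem_closure_of_mem_span {E : Set A} (deg : A → ℕ) (hE : ∀ e ∈ E, e ∈ 𝒜 (deg e))
    {x : A} (hx : x ∈ Ideal.span E) (n : ℕ) :
    (decompose 𝒜 x n : A) ∈ AddSubmonoid.closure
      {y : A | ∃ e ∈ E, ∃ j : ℕ, ∃ c ∈ 𝒜 j, j + deg e = n ∧ y = c * e} := by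
  induction hx using Submodule.span_induction generalizing n with
  | mem e he =>
    rw [decompose_of_mem 𝒜 (hE e he)]
    by_cases h : deg e = n
    · subst h
      rw [of_eq_same]
      exact AddSubmonoid.subset_closure
        ⟨e, he, 0, 1, SetLike.GradedOne.one_mem, by simp, by simp⟩
    · rw [of_eq_of_ne _ _ _ (Ne.symm h)]
      exact zero_mem _
  | zero => simp
  | add x y _ _ hx hy =>
    rw [decompose_add, DirectSum.add_apply, AddMemClass.coe_add]
    exact add_mem (hx n) (hy n)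
  | smul a x _ hx =>
    classical
    rw [smul_eq_mul, ← sum_support_decompose 𝒜 a, Finset.sum_mul, decompose_sum,
      DFinsupp.finsetSum_apply, AddSubmonoidClass.coe_finsetSum]
    refine sum_mem fun i _ => ?_
    rw [proj_mul_of_mem 𝒜 (decompose 𝒜 a i).2]
    split_ifs with hi
    · suffices H : ∀ y ∈ AddSubmonoid.closure
          {y : A | ∃ e ∈ E, ∃ j : ℕ, ∃ c ∈ 𝒜 j, j + deg e = n - i ∧ y = c * e},
          (decompose 𝒜 a i : A) * y ∈ AddSubmonoid.closure
          {y : A | ∃ e ∈ E, ∃ j : ℕ, ∃ c ∈ 𝒜 j, j + deg e = n ∧ y = c * e} from H _ (hx _)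
      intro y hy
      induction hy using AddSubmonoid.closure_induction with
      | mem y hy =>
        obtain ⟨e, he, j, c, hc, hj, rfl⟩ := hy
        exact AddSubmonoid.subset_closure
          ⟨e, he, i + j, _, graded_mul_mem 𝒜 (decompose 𝒜 a i).2 hc, by omega, (mul_assoc _ _ _).symm⟩
      | zero => simp
      | add y z _ _ hy hz => rw [mul_add]; exact add_mem hy hz
    · exact zero_mem _

theorem mem_closure_of_mem_span {E : Set A} (deg : A → ℕ) (hE : ∀ e ∈ E, e ∈ 𝒜 (deg e))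
    {x : A} {n : ℕ} (hxn : x ∈ 𝒜 n) (hx : x ∈ Ideal.span E) :
    x ∈ AddSubmonoid.closure {y : A | ∃ e ∈ E, ∃ j : ℕ, ∃ c ∈ 𝒜 j, j + deg e = n ∧ y = c * e} := by
  have h := proj_mem_closure_of_mem_span 𝒜 deg hE hx n
  rwa [decompose_of_mem_same 𝒜 hxn] at h

omit [CommRing A] [AddSubgroupClass σ A] [GradedRing 𝒜] in
theorem exists_degree_fun {E : Set A} (hE : E ⊆ posHom 𝒜) :
    ∃ deg : A → ℕ, (∀ e ∈ E, e ∈ 𝒜 (deg e)) ∧ ∀ e ∈ E, 0 < deg e := by
  classical
  refine ⟨fun e => if h : e ∈ E then (hE h).choose else 0, fun e he => ?_, fun e he => ?_⟩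
  · simpa [he] using (hE he).choose_spec.2
  · simpa [he] using (hE he).choose_spec.1

theorem adjoin_eq_top_of_irrelevant_le_span {E : Set A} (hE : E ⊆ posHom 𝒜)
    (h : (irrelevant 𝒜).toIdeal ≤ Ideal.span E) :
    Algebra.adjoin (𝒜 0) E = ⊤ := by
  obtain ⟨deg, hdeg, hpos⟩ := exists_degree_fun 𝒜 hE
  have key : ∀ n : ℕ, ∀ x ∈ 𝒜 n, x ∈ Algebra.adjoin (𝒜 0) E := by
    intro n
    induction n using Nat.strong_induction_on with
    | _ n ih =>
      intro x hx
      rcases Nat.eq_zero_or_pos n with rfl | hn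
      · exact Subalgebra.algebraMap_mem (Algebra.adjoin (𝒜 0) E) ⟨x, hx⟩
      · have := mem_closure_of_mem_span 𝒜 deg hdeg hx (h (mem_irrelevant_of_pos 𝒜 hn hx))
        refine AddSubmonoid.closure_induction ?_ (zero_mem _) (fun _ _ _ _ => add_mem) this
        rintro _ ⟨e, he, j, c, hc, hj, rfl⟩
        exact Subalgebra.mul_mem _ (ih j (by have := hpos e he; omega) c hc)
          (Algebra.subset_adjoin he)
  refine top_le_iff.1 fun x _ => ?_
  classical
  rw [← sum_support_decompose 𝒜 x]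
  exact sum_mem fun n _ => key n _ (decompose 𝒜 x n).2

theorem irrelevant_le_span_of_adjoin_eq_top {E : Set A} (hE : E ⊆ posHom 𝒜)
    (h : Algebra.adjoin (𝒜 0) E = ⊤) :
    (irrelevant 𝒜).toIdeal ≤ Ideal.span E := by
  intro x hx
  suffices H : ∀ y ∈ Algebra.adjoin (𝒜 0) E, y - GradedRing.projZeroRingHom 𝒜 y ∈ Ideal.span E by
    have := H x (h ▸ Algebra.mem_top)
    have hx0 : GradedRing.projZeroRingHom 𝒜 x = 0 := hx
    rwa [hx0, sub_zero] at this
  intro y hy
  induction hy using Algebra.adjoin_induction with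
  | mem e he =>
    obtain ⟨d, hd, hed⟩ := hE he
    have h0 : GradedRing.projZeroRingHom 𝒜 e = 0 := decompose_of_mem_ne 𝒜 hed hd.ne'
    rw [h0, sub_zero]
    exact Ideal.subset_span he
  | algebraMap r =>
    have h0 : GradedRing.projZeroRingHom 𝒜 (algebraMap (𝒜 0) A r) = algebraMap (𝒜 0) A r :=
      decompose_of_mem_same 𝒜 r.2
    rw [h0, sub_self]
    exact zero_mem _
  | add y z _ _ hy hz => rw [map_add, add_sub_add_comm]; exact add_mem hy hz
  | mul y z _ _ hy hz =>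
    have : y * z - GradedRing.projZeroRingHom 𝒜 (y * z) = y * (z - GradedRing.projZeroRingHom 𝒜 z)
        + (y - GradedRing.projZeroRingHom 𝒜 y) * GradedRing.projZeroRingHom 𝒜 z := by
      rw [map_mul]; ring
    rw [this]
    exact add_mem (Ideal.mul_mem_left _ _ hz) (Ideal.mul_mem_right _ _ hy)

theorem span_le_irrelevant {E : Set A} (hE : E ⊆ posHom 𝒜) :
    Ideal.span E ≤ (irrelevant 𝒜).toIdeal := by
  rw [irrelevant_eq_span_posHom]; exact Ideal.span_mono hE

theorem irrelevant_eq_span_iff {E : Set A} (hE : E ⊆ posHom 𝒜) :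
    (irrelevant 𝒜).toIdeal = Ideal.span E ↔ Algebra.adjoin (𝒜 0) E = ⊤ :=
  ⟨fun h => adjoin_eq_top_of_irrelevant_le_span 𝒜 hE h.le,
    fun h => le_antisymm (irrelevant_le_span_of_adjoin_eq_top 𝒜 hE h) (span_le_irrelevant 𝒜 hE)⟩

theorem exists_finset_posHom_of_fg (h : (irrelevant 𝒜).toIdeal.FG) :
    ∃ E : Finset A, (E : Set A) ⊆ posHom 𝒜 ∧ (irrelevant 𝒜).toIdeal = Ideal.span (E : Set A) := by
  rw [irrelevant_eq_span_posHom] at h ⊢
  obtain ⟨s, hs, h⟩ := (Submodule.fg_span_iff_fg_span_finset_subset _).1 h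
  exact ⟨s, hs, h⟩

theorem finiteType_of_irrelevant_fg (h : (irrelevant 𝒜).toIdeal.FG) :
    Algebra.FiniteType (𝒜 0) A := by
  obtain ⟨E, hE, hspan⟩ := exists_finset_posHom_of_fg 𝒜 h
  exact ⟨⟨E, adjoin_eq_top_of_irrelevant_le_span 𝒜 hE hspan.le⟩⟩

theorem exists_finset_posHom_adjoin [Algebra.FiniteType (𝒜 0) A] :
    ∃ E : Finset A, (E : Set A) ⊆ posHom 𝒜 ∧ Algebra.adjoin (𝒜 0) (E : Set A) = ⊤ := by
  obtain ⟨s, hs, hs'⟩ := GradedAlgebra.exists_finset_adjoin_eq_top_and_homogeneous_ne_zero 𝒜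
  exact ⟨s, fun e he => let ⟨n, hn, hen⟩ := hs' e he; ⟨n, Nat.pos_of_ne_zero hn, hen⟩, hs⟩

theorem irrelevant_fg_of_finiteType [Algebra.FiniteType (𝒜 0) A] :
    (irrelevant 𝒜).toIdeal.FG := by
  obtain ⟨E, hE, h⟩ := exists_finset_posHom_adjoin 𝒜
  exact ⟨E, ((irrelevant_eq_span_iff 𝒜 hE).2 h).symm⟩

theorem isNoetherianRing_iff :
    IsNoetherianRing A ↔ IsNoetherianRing (𝒜 0) ∧ Algebra.FiniteType (𝒜 0) A := by
  constructor
  · intro h
    exact ⟨inferInstance, finiteType_of_irrelevant_fg 𝒜 (IsNoetherian.noetherian _)⟩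
  · rintro ⟨h₁, h₂⟩
    exact Algebra.FiniteType.isNoetherianRing (𝒜 0) A

/-- In a finitely generated graded algebra, all sufficiently high degree elements lie in a given
power of the irrelevant ideal. -/
theorem exists_graded_le_irrelevant_pow [Algebra.FiniteType (𝒜 0) A] (n : ℕ) :
    ∃ m₀ : ℕ, ∀ m : ℕ, m₀ ≤ m → ∀ x ∈ 𝒜 m, x ∈ (irrelevant 𝒜).toIdeal ^ n := by
  obtain ⟨E, hE, h⟩ := exists_finset_posHom_adjoin 𝒜
  have hspan := irrelevant_le_span_of_adjoin_eq_top 𝒜 hE h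
  obtain ⟨deg, hdeg, hpos⟩ := exists_degree_fun 𝒜 hE
  let D := E.sup deg + 1
  refine ⟨n * D, ?_⟩
  induction n with
  | zero => intro m _ x _; simp
  | succ n ih =>
    intro m hm x hx
    have hm0 : 0 < m := by
      have : 0 < (n + 1) * D := by positivity
      omega
    have := mem_closure_of_mem_span 𝒜 deg hdeg hx (hspan (mem_irrelevant_of_pos 𝒜 hm0 hx))
    refine AddSubmonoid.closure_induction ?_ (zero_mem _) (fun _ _ _ _ => add_mem) this
    rintro _ ⟨e, he, j, c, hc, hj, rfl⟩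
    rw [pow_succ]
    refine Ideal.mul_mem_mul (ih j ?_ c hc) (mem_irrelevant_of_pos 𝒜 (hpos e he) (hdeg e he))
    have h1 : deg e ≤ E.sup deg := Finset.le_sup he
    have h2 : (n + 1) * D = n * D + D := by ring
    have h3 : D = E.sup deg + 1 := rfl
    omega

end Groth.Agent.H11Proj
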