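import Groth.Agent.H11Proj.Scheme
import Groth.Agent.H11Tilde.GammaStar.Module
import Mathlib

/-!
# Closed subschemes of Proj as Proj of graded quotients
-/

set_option autoImplicit false

noncomputable section

universe u

open CategoryTheory AlgebraicGeometry TopologicalSpace Opposite

namespace Groth.Agent.H11Proj

section quot

variable {R A : Type u} [CommRing R] [CommRing A] [Algebra R A] (𝒜 : ℕ → Submodule R A) [GradedAlgebra 𝒜] (I : Ideal A)

/-- The image grading on a quotient. -/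
def quotPiece (n : ℕ) : Submodule R (A ⧸ I) := (𝒜 n).map (Ideal.Quotient.mkₐ R I).toLinearMap

theorem mk_mem_quotPiece {n : ℕ} {a : A} (ha : a ∈ 𝒜 n) : Ideal.Quotient.mk I a ∈ quotPiece 𝒜 I n :=
  ⟨a, ha, rfl⟩

/-- The quotient by a homogeneous ideal is graded. -/
def quotGradedAlgebra (hI : I.IsHomogeneous 𝒜) : GradedAlgebra (quotPiece 𝒜 I) where
  one_mem := ⟨1, SetLike.one_mem_graded 𝒜, map_one (Ideal.Quotient.mkₐ R I)⟩
  mul_mem i j x y hx hy := by
    obtain ⟨a, ha, rfl⟩ := hx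
    obtain ⟨b, hb, rfl⟩ := hy
    exact ⟨a * b, SetLike.mul_mem_graded ha hb, map_mul (Ideal.Quotient.mkₐ R I) a b⟩
  toDecomposition := by
    classical
    have hwell : ∀ (n : ℕ) (a b : A), Ideal.Quotient.mk I a = Ideal.Quotient.mk I b →
        Ideal.Quotient.mk I (DirectSum.decompose 𝒜 a n : A) = Ideal.Quotient.mk I (DirectSum.decompose 𝒜 b n : A) := by
      intro n a b h
      rw [Ideal.Quotient.eq] at h ⊢
      have := hI n h
      rwa [DirectSum.decompose_sub, DirectSum.sub_apply, AddSubgroupClass.coe_sub] at this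
    let π : ℕ → A ⧸ I →+ A ⧸ I := fun n =>
      AddMonoidHom.mk' (fun q => Ideal.Quotient.mk I (DirectSum.decompose 𝒜 (Quotient.out q) n : A)) fun p q => by
        rw [← map_add]
        refine (hwell n _ (Quotient.out p + Quotient.out q) ?_).trans ?_
        · rw [map_add, Ideal.Quotient.mk_out, Ideal.Quotient.mk_out, Ideal.Quotient.mk_out]
        · rw [DirectSum.decompose_add, DirectSum.add_apply]; rfl
    have hπ : ∀ n a, π n (Ideal.Quotient.mk I a) = Ideal.Quotient.mk I (DirectSum.decompose 𝒜 a n : A) :=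
      fun n a => hwell n _ a (Ideal.Quotient.mk_out _)
    refine H11Tilde.decompositionOfProj _ π (fun n q => mk_mem_quotPiece 𝒜 I (DirectSum.decompose 𝒜 _ n).2) ?_ ?_ ?_
    · rintro n _ ⟨a, ha, rfl⟩
      change π n (Ideal.Quotient.mk I a) = Ideal.Quotient.mk I a
      rw [hπ, DirectSum.decompose_of_mem_same 𝒜 ha]
    · rintro n k h _ ⟨a, ha, rfl⟩
      change π n (Ideal.Quotient.mk I a) = 0
      rw [hπ, DirectSum.decompose_of_mem_ne 𝒜 ha h.symm, map_zero]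
    · intro q
      obtain ⟨a, rfl⟩ := Ideal.Quotient.mk_surjective q
      refine ⟨(DirectSum.decompose 𝒜 a).support, ?_⟩
      simp only [hπ, ← map_sum, DirectSum.sum_support_decompose]

/-- The quotient map as a graded homomorphism. -/
def quotHom (hI : I.IsHomogeneous 𝒜) :
    letI := quotGradedAlgebra 𝒜 I hI
    𝒜 →+*ᵍ quotPiece 𝒜 I :=
  letI := quotGradedAlgebra 𝒜 I hI
  { Ideal.Quotient.mk I with map_mem := fun {_ _} hx => mk_mem_quotPiece 𝒜 I hx }

theorem irrelevant_quot_le (hI : I.IsHomogeneous 𝒜) :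
    letI := quotGradedAlgebra 𝒜 I hI
    HomogeneousIdeal.irrelevant (quotPiece 𝒜 I) ≤ (HomogeneousIdeal.irrelevant 𝒜).map (quotHom 𝒜 I hI) := by
  letI := quotGradedAlgebra 𝒜 I hI
  change (HomogeneousIdeal.irrelevant (quotPiece 𝒜 I)).toIdeal ≤
    ((HomogeneousIdeal.irrelevant 𝒜).map (quotHom 𝒜 I hI)).toIdeal
  rw [irrelevant_le_iff]
  rintro d hd _ ⟨a, ha, rfl⟩
  rw [HomogeneousIdeal.toIdeal_map]
  exact Ideal.mem_map_of_mem (quotHom 𝒜 I hI) (mem_irrelevant_of_pos 𝒜 hd ha)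

end quot

variable {R A : Type u} [CommRing R] [CommRing A] [Algebra R A] (𝒜 : ℕ → Submodule R A) [GradedAlgebra 𝒜]
  {ι : Type u} (f : ι → A) (hf : ∀ j, f j ∈ 𝒜 1) {Z : Scheme.{u}} (i : Z ⟶ Proj 𝒜)

/-- The homogeneous elements vanishing on `Z` in every chart. -/
def VanishAt (k : ℕ) (a : 𝒜 k) : Prop :=
  ∀ j, i.app (Proj.basicOpen 𝒜 (f j)) (H11Tilde.ratio 𝒜 (hf j) a.2) = 0

theorem vanishAt_add (k : ℕ) (a b : 𝒜 k) (ha : VanishAt 𝒜 f hf i k a) (hb : VanishAt 𝒜 f hf i k b) :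
    VanishAt 𝒜 f hf i k (a + b) := fun j => by
  rw [show H11Tilde.ratio 𝒜 (hf j) (a + b).2 = _ from H11Tilde.ratio_add 𝒜 (hf j) a.2 b.2, map_add, ha j, hb j,
    add_zero]

theorem vanishAt_zero (k : ℕ) : VanishAt 𝒜 f hf i k 0 := fun j => by
  rw [show H11Tilde.ratio 𝒜 (hf j) (0 : 𝒜 k).2 = _ from H11Tilde.ratio_zero 𝒜 (hf j), map_zero]

/-- The ideal of `Z`. -/
def idealOf : Ideal A where
  carrier := {a | ∀ k, VanishAt 𝒜 f hf i k (DirectSum.decompose 𝒜 a k)}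
  zero_mem' k := by rw [DirectSum.decompose_zero]; exact vanishAt_zero 𝒜 f hf i k
  add_mem' {a b} ha hb k := by
    rw [DirectSum.decompose_add, DirectSum.add_apply]; exact vanishAt_add 𝒜 f hf i k _ _ (ha k) (hb k)
  smul_mem' c a ha k := by
    classical
    rw [smul_eq_mul, ← DirectSum.sum_support_decompose 𝒜 c, Finset.sum_mul, DirectSum.decompose_sum,
      DFinsupp.finsetSum_apply]
    refine Finset.sum_induction _ _ (vanishAt_add 𝒜 f hf i k) (vanishAt_zero 𝒜 f hf i k) fun l _ => ?_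
    by_cases h : l ≤ k
    · obtain ⟨m, rfl⟩ := Nat.exists_eq_add_of_le h
      have e : DirectSum.decompose 𝒜 ((DirectSum.decompose 𝒜 c l : A) * a) (l + m) =
          ⟨(DirectSum.decompose 𝒜 c l : A) * (DirectSum.decompose 𝒜 a m : A),
            SetLike.mul_mem_graded (DirectSum.decompose 𝒜 c l).2 (DirectSum.decompose 𝒜 a m).2⟩ := Subtype.ext (by
        rw [DirectSum.coe_decompose_mul_of_left_mem_of_le 𝒜 (DirectSum.decompose 𝒜 c l).2 h, Nat.add_sub_cancel_left])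
      intro j
      rw [e, H11Tilde.ratio_mul 𝒜 (hf j) (DirectSum.decompose 𝒜 c l).2 (DirectSum.decompose 𝒜 a m).2, map_mul,
        ha m j, mul_zero]
    · have e : DirectSum.decompose 𝒜 ((DirectSum.decompose 𝒜 c l : A) * a) k = 0 :=
        Subtype.ext (DirectSum.coe_decompose_mul_of_left_mem_of_not_le 𝒜 (DirectSum.decompose 𝒜 c l).2 h)
      rw [e]
      exact vanishAt_zero 𝒜 f hf i k

theorem mem_idealOf_iff {k : ℕ} {a : A} (ha : a ∈ 𝒜 k) :
    a ∈ idealOf 𝒜 f hf i ↔ VanishAt 𝒜 f hf i k ⟨a, ha⟩ := by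
  have e : DirectSum.decompose 𝒜 a k = ⟨a, ha⟩ := Subtype.ext (DirectSum.decompose_of_mem_same 𝒜 ha)
  refine ⟨fun h => e ▸ h k, fun h l => ?_⟩
  rcases eq_or_ne k l with rfl | hkl
  · rw [e]; exact h
  · rw [show DirectSum.decompose 𝒜 a l = 0 from Subtype.ext (DirectSum.decompose_of_mem_ne 𝒜 ha hkl)]
    exact vanishAt_zero 𝒜 f hf i l

theorem idealOf_isHomogeneous : (idealOf 𝒜 f hf i).IsHomogeneous 𝒜 := fun l a ha =>
  (mem_idealOf_iff 𝒜 f hf i (DirectSum.decompose 𝒜 a l).2).2 (ha l)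

theorem app_ratio_eq_zero_iff [IsAffineHom i] [Finite ι] (j : ι) {k : ℕ} {a : A} (ha : a ∈ 𝒜 k) :
    i.app (Proj.basicOpen 𝒜 (f j)) (H11Tilde.ratio 𝒜 (hf j) ha) = 0 ↔
      ∃ N : ℕ, f j ^ N * a ∈ idealOf 𝒜 f hf i := by
  classical
  have := Fintype.ofFinite ι
  constructor
  · intro h0
    have hloc : ∀ l, ∃ N, i.app (Proj.basicOpen 𝒜 (f l)) (H11Tilde.ratio 𝒜 (hf l) (hf j)) ^ N *
        i.app (Proj.basicOpen 𝒜 (f l)) (H11Tilde.ratio 𝒜 (hf l) ha) = 0 := fun l => by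
      have haff : IsAffineOpen (i ⁻¹ᵁ Proj.basicOpen 𝒜 (f l)) :=
        (Proj.isAffineOpen_basicOpen 𝒜 (f l) (hf l) Nat.one_pos).preimage i
      let t := i.app (Proj.basicOpen 𝒜 (f l)) (H11Tilde.ratio 𝒜 (hf l) (hf j))
      let V := (Proj 𝒜).basicOpen (H11Tilde.ratio 𝒜 (hf l) (hf j))
      have hVj : V ≤ Proj.basicOpen 𝒜 (f j) := by
        simp only [V, H11Tilde.basicOpen_ratio, Proj.basicOpen_mul]; exact inf_le_right
      have hbas : Z.basicOpen t = i ⁻¹ᵁ V := (Scheme.preimage_basicOpen i _).symm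
      haveI := haff.isLocalization_basicOpen t
      have hres : Z.presheaf.map (homOfLE (Z.basicOpen_le t)).op
          (i.app (Proj.basicOpen 𝒜 (f l)) (H11Tilde.ratio 𝒜 (hf l) ha)) = 0 := by
        have h1 : i.app V ((Proj 𝒜).presheaf.map (homOfLE ((Proj 𝒜).basicOpen_le _)).op
            (H11Tilde.ratio 𝒜 (hf l) ha)) = 0 := by
          rw [H11Tilde.res_ratio 𝒜 (hf j) (hf l) ha hVj ((Proj 𝒜).basicOpen_le _), map_mul]
          have h2 := congr($(i.naturality (homOfLE hVj).op) (H11Tilde.ratio 𝒜 (hf j) ha))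
          rw [CommRingCat.comp_apply, CommRingCat.comp_apply, h0, map_zero] at h2
          rw [h2, mul_zero]
        have h3 := congr($(i.naturality (homOfLE ((Proj 𝒜).basicOpen_le (H11Tilde.ratio 𝒜 (hf l) (hf j)))).op)
          (H11Tilde.ratio 𝒜 (hf l) ha))
        rw [CommRingCat.comp_apply, CommRingCat.comp_apply, h1] at h3
        have h4 := congrArg (Z.presheaf.map (homOfLE hbas.le).op) h3.symm
        rw [map_zero, ← CommRingCat.comp_apply, ← Functor.map_comp] at h4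
        exact h4
      obtain ⟨⟨_, N, rfl⟩, hN⟩ := (IsLocalization.map_eq_zero_iff (Submonoid.powers t)
        Γ(Z, Z.basicOpen t) _).1 hres
      exact ⟨N, hN⟩
    choose N hN using hloc
    refine ⟨Finset.univ.sup N, (mem_idealOf_iff 𝒜 f hf i
      (SetLike.mul_mem_graded (SetLike.pow_mem_graded (Finset.univ.sup N) (hf j)) ha)).2 fun l => ?_⟩
    obtain ⟨d, hd⟩ := Nat.exists_eq_add_of_le (Finset.le_sup (f := N) (Finset.mem_univ l))
    rw [H11Tilde.ratio_mul 𝒜 (hf l) (SetLike.pow_mem_graded (Finset.univ.sup N) (hf j)) ha,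
      H11Tilde.ratio_pow 𝒜 (hf l) (hf j), map_mul, map_pow, hd, pow_add, mul_comm (_ ^ N l), mul_assoc, hN,
      mul_zero]
  · rintro ⟨N, hN⟩
    have h := (mem_idealOf_iff 𝒜 f hf i (SetLike.mul_mem_graded (SetLike.pow_mem_graded N (hf j)) ha)).1 hN j
    rw [H11Tilde.ratio_mul 𝒜 (hf j) (SetLike.pow_mem_graded N (hf j)) ha, H11Tilde.ratio_pow 𝒜 (hf j) (hf j),
      H11Tilde.ratio_self, one_pow, one_mul] at h
    exact h

theorem exists_eq_ratio {g : A} (hg : g ∈ 𝒜 1) (r : Γ(Proj 𝒜, Proj.basicOpen 𝒜 g)) :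
    ∃ (k : ℕ) (a : A) (ha : a ∈ 𝒜 k), r = H11Tilde.ratio 𝒜 hg ha := by
  obtain ⟨k, a, ha, hr⟩ := H11Tilde.exists_fval_eq 𝒜 Nat.one_pos hg r
  rw [mul_one] at ha
  exact ⟨k, a, ha, H11Tilde.fval_ext 𝒜 fun x =>
    (hr x (H11Tilde.pow_notMem 𝒜 x.2 k)).trans (H11Tilde.fval_ratio 𝒜 hg ha x).symm⟩

theorem map_app_ratio_eq_zero_iff {B : Type u} [CommRing B] [Algebra R B] (ℬ : ℕ → Submodule R B) [GradedAlgebra ℬ]
    (φ : 𝒜 →+*ᵍ ℬ) (hφ : HomogeneousIdeal.irrelevant ℬ ≤ (HomogeneousIdeal.irrelevant 𝒜).map φ)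
    {g : A} (hg : g ∈ 𝒜 1) {k : ℕ} {a : A} (ha : a ∈ 𝒜 k) :
    (Proj.map φ hφ).app (Proj.basicOpen 𝒜 g) (H11Tilde.ratio 𝒜 hg ha) = 0 ↔ ∃ N : ℕ, φ (g ^ N * a) = 0 := by
  have e : (Proj.map φ hφ).app (Proj.basicOpen 𝒜 g) (H11Tilde.ratio 𝒜 hg ha) =
      Proj.awayToSection ℬ (φ g)
        (HomogeneousLocalization.Away.map φ g (HomogeneousLocalization.Away.mk 𝒜 hg k a (by simpa using ha))) := by
    rw [← Scheme.Hom.appLE_eq_app]
    exact congr($(Proj.awayToSection_comp_appLE φ hφ hg) (HomogeneousLocalization.Away.mk 𝒜 hg k a (by simpa using ha)))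
  have hinj : Function.Injective (Proj.awayToSection ℬ (φ g)) :=
    (ConcreteCategory.bijective_of_isIso (Proj.basicOpenIsoAway ℬ (φ g) (φ.2 hg) Nat.one_pos).hom).1
  refine (iff_of_eq (congrArg (· = 0) e)).trans (((injective_iff_map_eq_zero' _).1 hinj _).trans ?_)
  rw [HomogeneousLocalization.Away.map_mk,
    ← (HomogeneousLocalization.val_injective _).eq_iff, HomogeneousLocalization.val_zero,
    HomogeneousLocalization.Away.val_mk, mk_eq_zero_iff_exists_pow]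
  simp only [map_mul, map_pow]

include hf in
theorem exists_quotient_iso' [Finite ι] [IsClosedImmersion i] (hcov : ∀ x : Proj 𝒜, ∃ j, f j ∉ x.asHomogeneousIdeal) :
    ∃ (B : Type u) (_ : CommRing B) (_ : Algebra R B) (ℬ : ℕ → Submodule R B) (_ : GradedAlgebra ℬ)
      (φ : 𝒜 →+*ᵍ ℬ) (_ : Function.Surjective φ) (_ : ∀ r, φ (algebraMap R A r) = algebraMap R B r)
      (hφ : HomogeneousIdeal.irrelevant ℬ ≤ (HomogeneousIdeal.irrelevant 𝒜).map φ)
      (e : Z ≅ Proj ℬ), e.hom ≫ Proj.map φ hφ = i := by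
  let I := idealOf 𝒜 f hf i
  have hI : I.IsHomogeneous 𝒜 := idealOf_isHomogeneous 𝒜 f hf i
  letI := quotGradedAlgebra 𝒜 I hI
  let φ := quotHom 𝒜 I hI
  have hφ := irrelevant_quot_le 𝒜 I hI
  have hs : Function.Surjective φ := Ideal.Quotient.mk_surjective
  haveI := isClosedImmersion_map φ hφ hs
  have hker : (Proj.map φ hφ).ker = i.ker := by
    refine Scheme.IdealSheafData.ext_of_iSup_eq_top
      (fun j : ι => ⟨Proj.basicOpen 𝒜 (f j), Proj.isAffineOpen_basicOpen 𝒜 (f j) (hf j) Nat.one_pos⟩)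
      (top_le_iff.1 fun x _ => Opens.mem_iSup.2 (hcov x)) fun j => ?_
    rw [Scheme.Hom.ker_apply, Scheme.Hom.ker_apply]
    ext r
    obtain ⟨k, a, ha, rfl⟩ := exists_eq_ratio 𝒜 (hf j) r
    refine (map_app_ratio_eq_zero_iff 𝒜 _ φ hφ (hf j) ha).trans (Iff.trans ?_ (app_ratio_eq_zero_iff 𝒜 f hf i j ha).symm)
    exact exists_congr fun N => Ideal.Quotient.eq_zero_iff_mem
  haveI := IsClosedImmersion.isIso_lift (Proj.map φ hφ) i hker
  exact ⟨A ⧸ I, inferInstance, inferInstance, quotPiece 𝒜 I, inferInstance, φ, hs, fun _ => rfl, hφ,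
    asIso (IsClosedImmersion.lift (Proj.map φ hφ) i hker.le), IsClosedImmersion.lift_fac _ _ _⟩

include hf in
theorem exists_quotient_iso [Finite ι] [IsClosedImmersion i] (hcov : ∀ x : Proj 𝒜, ∃ j, f j ∉ x.asHomogeneousIdeal) :
    ∃ (B : Type u) (_ : CommRing B) (_ : Algebra R B) (ℬ : ℕ → Submodule R B) (_ : GradedAlgebra ℬ)
      (φ : 𝒜 →+*ᵍ ℬ) (_ : Function.Surjective φ)
      (hφ : HomogeneousIdeal.irrelevant ℬ ≤ (HomogeneousIdeal.irrelevant 𝒜).map φ)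
      (e : Z ≅ Proj ℬ), e.hom ≫ Proj.map φ hφ = i := by
  obtain ⟨B, h₁, h₂, ℬ, h₃, φ, hs, -, hφ, e, he⟩ := exists_quotient_iso' 𝒜 f hf i hcov
  exact ⟨B, h₁, h₂, ℬ, h₃, φ, hs, hφ, e, he⟩

end Groth.Agent.H11Proj
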