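import Groth.Agent.H11Proj.ProjectiveProps
import Groth.Agent.H11Proj.HProj
import Groth.Agent.H11Ample.ImmersionPn
import Groth.Agent.H11Ample.RelComp
import Groth.Agent.H11Proj.ClosedSub
import Groth.Agent.H11Proj.ProjSpace

/-!
# Proper quasi-projective morphisms over a base with an ample module are H-projective
-/

set_option autoImplicit false
set_option linter.style.haveILetI false

noncomputable section

universe u

open CategoryTheory CategoryTheory.Limits AlgebraicGeometry Opposite TopologicalSpace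
open Groth.Agent.H11Tilde Groth.Agent.H11Ample

namespace Groth.Agent.H11Proj

variable {X Y : Scheme.{u}} (f : X ⟶ Y) [IsProper f]

/-- A proper morphism from a scheme with an ample module is H-projective. -/
theorem isHProjective_of_isAmple [CompactSpace X] [QuasiSeparatedSpace X] {L : X.Modules} (hL : CohB1.IsAmple L) :
    RelProj.IsHProjective f := by
  obtain ⟨n, i, hi, hif⟩ := exists_immersion_projSpaceOver f hL
  haveI : IsProper (CohB1.ProjSpaceOver.toBase n Y) := H27Weil.isProper_toBase n Y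
  haveI : IsProper i := by
    haveI : IsProper (i ≫ CohB1.ProjSpaceOver.toBase n Y) := by rw [hif]; infer_instance
    exact IsProper.of_comp i (CohB1.ProjSpaceOver.toBase n Y)
  exact ⟨n, i, IsClosedImmersion.of_isPreimmersion i i.isClosedMap.isClosed_range, hif⟩

/-- A proper quasi-projective morphism to a scheme with an ample module is H-projective. -/
theorem isHProjective_of_isQuasiProjective (hY : ∃ M : Y.Modules, CohB1.IsAmple M)
    (hq : RelProj.IsQuasiProjective f) : RelProj.IsHProjective f := by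
  obtain ⟨M, hM⟩ := hY
  obtain ⟨-, -, L, hL⟩ := hq
  obtain ⟨n₀, -, h⟩ := eventually_isAmple_tensor_pullback f hL hM
  have hA := h n₀ le_rfl
  haveI := compactSpace_of_isAmple hA
  haveI := quasiSeparatedSpace_of_isAmple hA
  exact isHProjective_of_isAmple f hA

omit [IsProper f] in
theorem isProjective_iff_isHProjective (hY : ∃ M : Y.Modules, CohB1.IsAmple M) :
    RelProj.IsProjective f ↔ RelProj.IsHProjective f :=
  ⟨fun h => by
    haveI := isProper_of_isProjective h
    exact isHProjective_of_isQuasiProjective f hY (isQuasiProjective_of_isProjective h),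
    isProjective_of_isHProjective⟩

omit [IsProper f] in
/-- A projective scheme over `Spec A` is a closed subscheme of some `P^n_A`. -/
theorem exists_isClosedImmersion_projSpace_spec {A : Type u} [CommRing A] (g : X ⟶ Spec (CommRingCat.of A))
    (h : RelProj.IsProjective g) :
    ∃ (n : ℕ) (i : X ⟶ CohB1.ProjSpace n A), IsClosedImmersion i ∧ i ≫ CohB1.ProjSpace.toSpec n A = g := by
  let φ := (Scheme.ΓSpecIso (CommRingCat.of A))
  obtain ⟨𝒮, P, p, chart, e', hgen, hft, hP, rfl⟩ := h
  let U : (Spec (CommRingCat.of A)).Opens := ⊤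
  have hU : IsAffineOpen U := isAffineOpen_top _
  obtain ⟨T, hT, hspan⟩ := hft U hU
  let σ := T.equivFin.symm
  let str := φ.inv ≫ 𝒮.strZero U hU
  obtain ⟨j, hj, hje⟩ := DegOneProj.exists_isClosedImmersion_projSpace (𝒮.deg U hU) str
    (Fin.cons 0 fun i => (σ i : 𝒮.presheaf.obj (op U))) (Fin.cases (zero_mem _) fun i => hT (σ i).2)
    (hgen U hU) fun x hx => by
      obtain ⟨c, rfl⟩ := hspan x hx
      refine ⟨Fin.cons 0 fun i => φ.hom (c (σ i : 𝒮.presheaf.obj (op U))), ?_⟩
      have hstr : ∀ r, ((str.hom (φ.hom r) : _) : 𝒮.presheaf.obj (op U)) = (𝒮.str.app (op U)).hom r := fun r =>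
        congrArg (fun z => (((𝒮.strZero U hU).hom z : _) : 𝒮.presheaf.obj (op U))) (φ.hom_inv_id_apply r)
      rw [Fin.sum_univ_succ]
      erw [Fin.cons_zero, mul_zero, zero_add]
      simp only [Fin.cons_succ, hstr]
      rw [Equiv.sum_comp σ fun t : T => (𝒮.str.app (op U)).hom (c t) * t]
      exact (Finset.sum_coe_sort T fun t => (𝒮.str.app (op U)).hom (c t) * t).symm
  let c : P ⟶ Proj (𝒮.deg U hU) := P.topIso.inv ≫ (chart U hU).hom
  refine ⟨T.card, e'.hom ≫ c ≫ j, inferInstance, ?_⟩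
  rw [Category.assoc, Category.assoc, hje]
  refine congrArg (e'.hom ≫ ·) ?_
  have h1 : _ = _ := hP.chart_over U hU
  have h2 : hU.fromSpec = Spec.map φ.inv := by
    rw [IsAffineOpen.fromSpec_top, Scheme.isoSpec_Spec_inv]
  simp only [str, Spec.map_comp, c, Category.assoc]
  rw [← h2]
  exact (congrArg (P.topIso.inv ≫ ·) h1).trans (P.topIso.inv_hom_id_assoc p)

omit [IsProper f] in
/-- A projective scheme over `Spec A` is `Proj` of a graded `A`-algebra. -/
theorem exists_proj_iso_spec {A : Type u} [CommRing A] (g : X ⟶ Spec (CommRingCat.of A))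
    (h : RelProj.IsProjective g) :
    ∃ (S : Type u) (_ : CommRing S) (_ : Algebra A S) (𝒮 : ℕ → Submodule A S) (_ : GradedAlgebra 𝒮) (s : Finset S),
      Function.Surjective (algebraMap A (𝒮 0)) ∧ (∀ g ∈ s, g ∈ 𝒮 1) ∧
      (HomogeneousIdeal.irrelevant 𝒮).toIdeal = Ideal.span (s : Set S) ∧
      ∃ e : X ≅ Proj 𝒮,
        e.hom ≫ Proj.toSpecZero 𝒮 ≫ Spec.map (CommRingCat.ofHom (algebraMap A (𝒮 0))) = g := by
  classical
  obtain ⟨n, i, hi, hig⟩ := exists_isClosedImmersion_projSpace_spec g h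
  let 𝒜 := CohB1.polyGrading n A
  let i' : X ⟶ Proj 𝒜 := i
  haveI : IsClosedImmersion i' := hi
  obtain ⟨B, _, _, ℬ, _, φ, hs, hφC, hφ, e, he⟩ := exists_quotient_iso' 𝒜
    (fun j : ULift.{u} (Fin (n + 1)) => MvPolynomial.X j.down) (fun j => X_mem j.down) i' fun x => by
      obtain ⟨j, hj⟩ := exists_mem_basicOpen_X x
      exact ⟨⟨j⟩, hj⟩
  refine ⟨B, ‹_›, ‹_›, ℬ, ‹_›, Finset.univ.image fun j => φ (MvPolynomial.X j), fun b => ?_, ?_, ?_, e, ?_⟩
  · obtain ⟨a, ha, hab⟩ := exists_mem_of_surjective φ hs b.2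
    obtain ⟨r, rfl⟩ : ∃ r, MvPolynomial.C r = a :=
      ⟨a.coeff 0, (MvPolynomial.totalDegree_eq_zero_iff_eq_C.mp
        (Nat.le_zero.1 (MvPolynomial.IsHomogeneous.totalDegree_le ha))).symm⟩
    exact ⟨r, Subtype.ext ((hφC r).symm.trans hab)⟩
  · intro b hb
    obtain ⟨j, -, rfl⟩ := Finset.mem_image.1 hb
    exact φ.map_mem (X_mem j)
  · rw [Finset.coe_image, Finset.coe_univ, Set.image_univ]
    refine le_antisymm ((irrelevant_le_iff ℬ).2 fun d hd b hb => ?_) (Ideal.span_le.2 ?_)
    · obtain ⟨a, ha, rfl⟩ := exists_mem_of_surjective φ hs hb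
      have h1 := Ideal.mem_map_of_mem φ
        (ProjSpace.irrelevant_le_span n A (mem_irrelevant_of_pos 𝒜 hd ha))
      rwa [Ideal.map_span, ← Set.range_comp] at h1
    · rintro _ ⟨j, rfl⟩
      exact mem_irrelevant_of_pos ℬ Nat.one_pos (φ.map_mem (X_mem j))
  · have h0 : CommRingCat.ofHom (algebraMap A (𝒜 0)) ≫ CommRingCat.ofHom φ.gradedZeroRingHom =
        CommRingCat.ofHom (algebraMap A (ℬ 0)) := CommRingCat.hom_ext (RingHom.ext fun r => Subtype.ext (hφC r))
    rw [← hig]
    have h1 : CohB1.ProjSpace.toSpec n A =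
        Proj.toSpecZero 𝒜 ≫ Spec.map (CommRingCat.ofHom (algebraMap A (𝒜 0))) := rfl
    rw [h1, ← h0, Spec.map_comp, ← map_toSpecZero_assoc φ hφ]
    exact (Category.assoc _ _ _).symm.trans (congrArg (· ≫ _) he)

end Groth.Agent.H11Proj
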