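import Groth.Agent.H11Tilde.ProjUPUnique
import Groth.Agent.H11Proj.ProjSpace
import Groth.Agent.H27Weil.Geometry
import Groth.Agent.S10867
import Groth.Prelude.Def_ProjUP
import Mathlib.RingTheory.Nullstellensatz

/-!
# Closed immersions into projective space separate points and tangent vectors, and conversely
-/

set_option autoImplicit false
set_option linter.style.haveILetI false

noncomputable section

universe u

open CategoryTheory CategoryTheory.Limits AlgebraicGeometry Opposite TopologicalSpace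
open CohB1 HomogeneousLocalization

namespace Groth.Agent.H11Proj.SepPts

variable {n : ℕ} {k : Type u} [Field k]

/-- The `i`-th standard chart. -/
abbrev U (i : Fin (n + 1)) : (ProjSpace n k).Opens :=
  Proj.basicOpen (polyGrading n k) (MvPolynomial.X i)

/-- The scalars on a chart. -/
def κ (i : Fin (n + 1)) : k →+* Γ(ProjSpace n k, U i) :=
  (((ProjSpace n k).presheaf.map (homOfLE (le_top : U i ≤ ⊤)).op).hom).comp (ProjUP.toGlobal (ProjSpace.toSpec n k))

/-- The coordinates on a chart. -/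
def t (i j : Fin (n + 1)) : Γ(ProjSpace n k, U i) :=
  H11Tilde.ratio (polyGrading n k) (ProjSpace.X_mem n k i) (ProjSpace.X_mem n k j)

/-- The linear forms on a chart. -/
def lin (i : Fin (n + 1)) (c : Fin (n + 1) → k) : Γ(ProjSpace n k, U i) :=
  ∑ j, κ i (c j) * t i j

/-- The chart map, surjective. -/
def γ (i : Fin (n + 1)) : MvPolynomial {j : Fin (n + 1) // j ≠ i} k →+* Γ(ProjSpace n k, U i) :=
  (Proj.awayToSection (polyGrading n k) (MvPolynomial.X i)).hom.comp (ProjSpace.chartMap n k i)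

theorem κ_eq (i : Fin (n + 1)) : κ (k := k) i = (γ i).comp MvPolynomial.C := by
  haveI : IsIso (U (k := k) i).toSpecΓ := inferInstanceAs
    (IsIso (Proj.isAffineOpen_basicOpen (polyGrading n k) _ (ProjSpace.X_mem n k i) one_pos).isoSpec.hom)
  have h1 : (U i).ι ≫ ProjSpace.toSpec n k =
      (U i).toSpecΓ ≫ Spec.map (CommRingCat.ofHom ((γ (k := k) i).comp MvPolynomial.C)) := by
    have hι : (Proj.basicOpen (polyGrading n k) (MvPolynomial.X i)).ι =
        (Proj.basicOpenIsoSpec (polyGrading n k) _ (ProjSpace.X_mem n k i) one_pos).hom ≫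
          Proj.awayι (polyGrading n k) _ (ProjSpace.X_mem n k i) one_pos := by
      rw [← Proj.basicOpenIsoSpec_inv_ι, Iso.hom_inv_id_assoc]
    refine (congrArg (· ≫ _) hι).trans ?_
    erw [Category.assoc, ProjSpace.awayι_toSpec]
    rw [Proj.basicOpenIsoSpec_hom, Proj.basicOpenToSpec, Category.assoc, ← Spec.map_comp]
    rfl
  conv_lhs at h1 => rw [H11Tilde.hom_to_Spec_ext (ProjSpace.toSpec n k),
    ← Scheme.Opens.toSpecΓ_SpecMap_presheaf_map_top_assoc, ← Spec.map_comp]
  exact congrArg CommRingCat.Hom.hom (Spec.map_injective ((cancel_epi (U i).toSpecΓ).1 h1))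

theorem γ_X (i : Fin (n + 1)) (j : {j : Fin (n + 1) // j ≠ i}) :
    γ (k := k) i (MvPolynomial.X j) = t i j.1 := by
  change Proj.awayToSection _ _ (ProjSpace.chartMap n k i (MvPolynomial.X j)) = _
  rw [ProjSpace.chartMap, MvPolynomial.eval₂Hom_X']
  refine congrArg (Proj.awayToSection (polyGrading n k) (MvPolynomial.X i)) ?_
  refine HomogeneousLocalization.val_injective _ ?_
  rw [HomogeneousLocalization.Away.val_mk, HomogeneousLocalization.val_mk]
  exact congrArg (Localization.mk _) (Subtype.ext (pow_one _).symm)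

theorem γ_surjective (i : Fin (n + 1)) : Function.Surjective (γ (k := k) i) :=
  (ConcreteCategory.bijective_of_isIso
    (Proj.basicOpenIsoAway (polyGrading n k) _ (ProjSpace.X_mem n k i) one_pos).hom).2.comp
    (ProjSpace.chartMap_bijective n k i).2

theorem t_self (i : Fin (n + 1)) : t (k := k) i i = 1 := by
  refine Eq.trans ?_ (map_one (Proj.awayToSection (polyGrading n k) (MvPolynomial.X i)).hom)
  refine congrArg (Proj.awayToSection (polyGrading n k) (MvPolynomial.X i)) ?_
  refine HomogeneousLocalization.val_injective _ ?_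
  rw [HomogeneousLocalization.Away.val_mk, HomogeneousLocalization.val_one]
  exact (congrArg (Localization.mk _) (Subtype.ext (pow_one _))).trans (Localization.mk_self
    (⟨MvPolynomial.X i, ⟨1, pow_one _⟩⟩ : Submonoid.powers (MvPolynomial.X i : MvPolynomial (Fin (n + 1)) k)))

theorem lin_single (i j : Fin (n + 1)) : lin (k := k) i (Pi.single j 1) = t i j := by
  rw [lin, Finset.sum_eq_single j (fun b _ hb => by rw [Pi.single_eq_of_ne hb, map_zero, zero_mul])
    (fun h => absurd (Finset.mem_univ j) h), Pi.single_eq_same, map_one, one_mul]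

theorem lin_add (i : Fin (n + 1)) (c d : Fin (n + 1) → k) : lin i (c + d) = lin i c + lin i d := by
  simp only [lin, Pi.add_apply, map_add, add_mul, Finset.sum_add_distrib]

theorem lin_smul (i : Fin (n + 1)) (a : k) (c : Fin (n + 1) → k) : lin i (a • c) = κ i a * lin i c := by
  simp only [lin, Pi.smul_apply, smul_eq_mul, map_mul, mul_assoc, Finset.mul_sum]

/-- The form `T_j - a T_i` on the `i`-th chart. -/
theorem lin_sub_single (i j : Fin (n + 1)) (a : k) :
    lin i (Pi.single j 1 + (-a) • Pi.single i 1) = t i j - κ i a := by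
  rw [lin_add, lin_smul, lin_single, lin_single, t_self, map_neg, mul_one, sub_eq_add_neg]

theorem isAffineOpen_U (i : Fin (n + 1)) : IsAffineOpen (U (k := k) i) :=
  Proj.isAffineOpen_basicOpen (polyGrading n k) _ (ProjSpace.X_mem n k i) one_pos

section closedPoint

variable [IsAlgClosed k]

/-- A closed point of a chart has coordinates, and they cut it out. -/
theorem exists_coords {i : Fin (n + 1)} (p : Ideal Γ(ProjSpace n k, U i)) [p.IsMaximal] :
    ∃ a : Fin (n + 1) → k, (∀ j, t i j - κ i (a j) ∈ p) ∧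
      p = Ideal.span (Set.range fun j => t i j - κ i (a j)) := by
  classical
  obtain ⟨x, hx⟩ := (MvPolynomial.isMaximal_iff_eq_vanishingIdeal_singleton (K := k)).1
    (Ideal.comap_isMaximal_of_surjective (γ i) (γ_surjective i) (K := p))
  let a : Fin (n + 1) → k := fun j => if h : j = i then 1 else x ⟨j, h⟩
  have hmem : ∀ j, t i j - κ i (a j) ∈ p := fun j => by
    by_cases h : j = i
    · subst h
      simp only [a, dif_pos, t_self, map_one, sub_self, Submodule.zero_mem]
    · have h1 : MvPolynomial.X ⟨j, h⟩ - MvPolynomial.C (x ⟨j, h⟩) ∈ p.comap (γ i) := by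
        rw [hx]
        simp [MvPolynomial.mem_vanishingIdeal_iff]
      rw [Ideal.mem_comap, map_sub, γ_X] at h1
      simpa only [a, dif_neg h, κ_eq, RingHom.comp_apply] using h1
  refine ⟨a, hmem, le_antisymm (fun r hr => ?_) (Ideal.span_le.2 ?_)⟩
  · obtain ⟨q, rfl⟩ := γ_surjective i r
    let I : Ideal Γ(ProjSpace n k, U i) := Ideal.span (Set.range fun j => t i j - κ i (a j))
    have hq : MvPolynomial.eval x q = 0 := by
      have hq' : q ∈ p.comap (γ i) := hr
      rw [hx, MvPolynomial.mem_vanishingIdeal_iff] at hq'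
      simpa using hq' x rfl
    have key : (Ideal.Quotient.mk I).comp (γ i) =
        ((Ideal.Quotient.mk I).comp (κ i)).comp (MvPolynomial.eval x) := by
      refine MvPolynomial.ringHom_ext (fun c => ?_) (fun j => ?_)
      · simp [κ_eq]
      · simp only [RingHom.comp_apply, MvPolynomial.eval_X, γ_X]
        refine Ideal.Quotient.eq.2 (Ideal.subset_span ⟨j.1, ?_⟩)
        simp only [a, dif_neg j.2]
    have h2 := RingHom.congr_fun key q
    rw [RingHom.comp_apply, RingHom.comp_apply, hq, map_zero] at h2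
    exact Ideal.Quotient.eq_zero_iff_mem.1 h2
  · rintro _ ⟨j, rfl⟩
    exact hmem j

omit [IsAlgClosed k] in
theorem isMaximal_primeIdealOf {i : Fin (n + 1)} {y : ProjSpace n k} (hy : y ∈ U i)
    (hcl : IsClosed ({y} : Set (ProjSpace n k))) :
    ((isAffineOpen_U i).primeIdealOf ⟨y, hy⟩).asIdeal.IsMaximal :=
  IsAffineOpen.primeIdealOf_isMaximal_of_isClosed _ ⟨y, hy⟩ hcl

/-- The maximal ideal of a closed point is generated by the linear forms vanishing there. -/
theorem maximalIdeal_eq_span {i : Fin (n + 1)} {y : ProjSpace n k} (hy : y ∈ U i)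
    (hcl : IsClosed ({y} : Set (ProjSpace n k))) :
    IsLocalRing.maximalIdeal ((ProjSpace n k).presheaf.stalk y) =
      Ideal.span {b | ∃ c : Fin (n + 1) → k, b = (ProjSpace n k).presheaf.germ (U i) y hy (lin i c) ∧
        b ∈ IsLocalRing.maximalIdeal ((ProjSpace n k).presheaf.stalk y)} := by
  refine le_antisymm ?_ (Ideal.span_le.2 fun b hb => hb.choose_spec.2)
  letI := TopCat.Presheaf.algebra_section_stalk (ProjSpace n k).presheaf ⟨y, hy⟩
  haveI := (isAffineOpen_U (k := k) i).isLocalization_stalk ⟨y, hy⟩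
  haveI := isMaximal_primeIdealOf hy hcl
  obtain ⟨a, hmem, ha⟩ := exists_coords ((isAffineOpen_U i).primeIdealOf ⟨y, hy⟩).asIdeal
  rw [← IsLocalization.AtPrime.map_eq_maximalIdeal ((isAffineOpen_U i).primeIdealOf ⟨y, hy⟩).asIdeal
    ((ProjSpace n k).presheaf.stalk y)]
  conv_lhs => rw [ha, Ideal.map_span]
  refine Ideal.span_mono ?_
  rintro _ ⟨_, ⟨j, rfl⟩, rfl⟩
  refine ⟨Pi.single j 1 + (-a j) • Pi.single i 1, ?_, ?_⟩
  · rw [lin_sub_single]
    rfl
  · exact Ideal.mem_map_of_mem _ (hmem j)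

end closedPoint

variable {X : Scheme.{u}}

/-- The pulled back `O(1)`. -/
abbrev L (f : X ⟶ ProjSpace n k) : X.Modules :=
  (Scheme.Modules.pullback f).obj (Twist.twistProjSpace n k 1)

/-- The germ of the section attached to a linear form. -/
abbrev sec (f : X ⟶ ProjSpace n k) (pX : X ⟶ Spec (CommRingCat.of k)) (c : Fin (n + 1) → k) (x : X) :
    (L f).presheaf.stalk x :=
  ((L f).presheaf.germ ⊤ x trivial).hom
    (∑ j, ProjUP.toGlobal pX (c j) • ProjUP.pullSec f (Twist.twistProjSpace n k 1) (ProjUP.coord n k j))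

/-- `m_x L_x`. -/
abbrev mL (f : X ⟶ ProjSpace n k) (x : X) (e : ℕ) : Submodule (X.presheaf.stalk x) ((L f).presheaf.stalk x) :=
  IsLocalRing.maximalIdeal (X.presheaf.stalk x) ^ e • (⊤ : Submodule (X.presheaf.stalk x) ((L f).presheaf.stalk x))

/-- The generator at a point of a chart. -/
abbrev gen (f : X ⟶ ProjSpace n k) (x : X) (i : Fin (n + 1)) : (L f).presheaf.stalk x :=
  ((L f).presheaf.germ ⊤ x trivial).hom (ProjUP.pullSec f (Twist.twistProjSpace n k 1) (ProjUP.coord n k i))

theorem bijective_smul_gen (f : X ⟶ ProjSpace n k) {x : X} {i : Fin (n + 1)} (hx : f x ∈ U i) :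
    Function.Bijective fun r : X.presheaf.stalk x => r • gen f x i := by
  have h := H11Tilde.isGen_pullSec (polyGrading n k) f (ProjSpace.X_mem n k i) (le_refl (f ⁻¹ᵁ U i)) x hx
  rw [TopCat.Presheaf.germ_res_apply] at h
  exact h

theorem toGlobal_eq {f : X ⟶ ProjSpace n k} {pX : X ⟶ Spec (CommRingCat.of k)}
    (hf : f ≫ ProjSpace.toSpec n k = pX) (a : k) :
    ProjUP.toGlobal pX a = f.appTop (ProjUP.toGlobal (ProjSpace.toSpec n k) a) := by
  subst hf
  rw [ProjUP.toGlobal, ProjUP.toGlobal, Scheme.Hom.comp_appTop]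
  rfl

theorem sec_eq {f : X ⟶ ProjSpace n k} {pX : X ⟶ Spec (CommRingCat.of k)}
    (hf : f ≫ ProjSpace.toSpec n k = pX) {x : X} {i : Fin (n + 1)} (hx : f x ∈ U i) (c : Fin (n + 1) → k) :
    sec f pX c x = f.stalkMap x ((ProjSpace n k).presheaf.germ (U i) (f x) hx (lin i c)) • gen f x i := by
  simp only [sec, lin, map_sum, Finset.sum_smul]
  refine Finset.sum_congr rfl fun j _ => ?_
  rw [map_mul, map_mul, mul_smul]
  have hκ : f.stalkMap x ((ProjSpace n k).presheaf.germ (U i) (f x) hx (κ i (c j))) =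
      X.presheaf.germ ⊤ x trivial (ProjUP.toGlobal pX (c j)) := by
    rw [toGlobal_eq hf]
    refine (congrArg (f.stalkMap x) (TopCat.Presheaf.germ_res_apply _ _ _ _ _)).trans ?_
    exact Scheme.Hom.germ_stalkMap_apply f ⊤ x trivial _
  rw [hκ]
  refine (H06Mod.germ_smul (L f) ⊤ trivial _ _).trans (congrArg _ ?_)
  have h := congrArg ((L f).presheaf.germ (f ⁻¹ᵁ U i) x hx)
    (H11Tilde.pullSec_res (polyGrading n k) f (ProjSpace.X_mem n k j) (ProjSpace.X_mem n k i) (le_refl (f ⁻¹ᵁ U i)))
  refine ((TopCat.Presheaf.germ_res_apply (L f).presheaf _ _ _ _).symm.trans (h.trans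
    (H06Mod.germ_smul (L f) _ hx _ _))).trans (congrArg₂ (· • ·) ?_ (TopCat.Presheaf.germ_res_apply (L f).presheaf _ _ _ _))
  refine Eq.trans ?_ (Scheme.Hom.germ_stalkMap_apply f (U i) x hx _).symm
  exact congrArg (X.presheaf.germ (f ⁻¹ᵁ U i) x hx) (congrArg (fun φ => φ (t i j)) f.app_eq_appLE.symm)

theorem smul_gen_mem_iff {f : X ⟶ ProjSpace n k} {x : X} {i : Fin (n + 1)} (hx : f x ∈ U i)
    (I : Ideal (X.presheaf.stalk x)) (a : X.presheaf.stalk x) :
    a • gen f x i ∈ I • (⊤ : Submodule (X.presheaf.stalk x) ((L f).presheaf.stalk x)) ↔ a ∈ I := by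
  have htop : (⊤ : Submodule (X.presheaf.stalk x) ((L f).presheaf.stalk x)) = Submodule.span _ {gen f x i} := by
    refine (eq_top_iff.2 fun v _ => ?_).symm
    obtain ⟨r, rfl⟩ := (bijective_smul_gen f hx).2 v
    exact Submodule.smul_mem _ r (Submodule.mem_span_singleton_self _)
  rw [htop, Submodule.mem_smul_span_singleton]
  exact ⟨fun ⟨b, hb, he⟩ => (bijective_smul_gen f hx).1 he ▸ hb, fun h => ⟨a, h, rfl⟩⟩

/-- A linear form vanishes at `x` iff it lies in the prime of `f x`. -/
theorem sec_mem_iff {f : X ⟶ ProjSpace n k} {pX : X ⟶ Spec (CommRingCat.of k)}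
    (hf : f ≫ ProjSpace.toSpec n k = pX) {x : X} {i : Fin (n + 1)} (hx : f x ∈ U i) (c : Fin (n + 1) → k) :
    sec f pX c x ∈ IsLocalRing.maximalIdeal (X.presheaf.stalk x) •
        (⊤ : Submodule (X.presheaf.stalk x) ((L f).presheaf.stalk x)) ↔
      (ProjSpace n k).presheaf.germ (U i) (f x) hx (lin i c) ∈
        IsLocalRing.maximalIdeal ((ProjSpace n k).presheaf.stalk (f x)) := by
  rw [sec_eq hf hx, smul_gen_mem_iff hx, IsLocalRing.mem_maximalIdeal, IsLocalRing.mem_maximalIdeal, mem_nonunits_iff,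
    mem_nonunits_iff]
  exact not_congr ⟨fun h => (isUnit_map_iff (f.stalkMap x).hom _).1 h, fun h => h.map _⟩

theorem exists_chart (y : ProjSpace n k) : ∃ i, y ∈ U i :=
  Opens.mem_iSup.1 ((ProjSpace.iSup_basicOpen (n := n) (R := k)).ge trivial)

theorem germ_lin_mem_iff {i : Fin (n + 1)} {y : ProjSpace n k} (hy : y ∈ U i) (c : Fin (n + 1) → k) :
    (ProjSpace n k).presheaf.germ (U i) y hy (lin i c) ∈
        IsLocalRing.maximalIdeal ((ProjSpace n k).presheaf.stalk y) ↔
      lin i c ∈ ((isAffineOpen_U i).primeIdealOf ⟨y, hy⟩).asIdeal := by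
  letI := TopCat.Presheaf.algebra_section_stalk (ProjSpace n k).presheaf ⟨y, hy⟩
  haveI := (isAffineOpen_U (k := k) i).isLocalization_stalk ⟨y, hy⟩
  exact IsLocalization.AtPrime.to_map_mem_maximal_iff _ ((isAffineOpen_U i).primeIdealOf ⟨y, hy⟩).asIdeal _

theorem isClosed_image {f : X ⟶ ProjSpace n k} [IsProper f] {x : X} (hx : IsClosed ({x} : Set X)) :
    IsClosed ({f x} : Set (ProjSpace n k)) := by
  simpa using f.isClosedMap _ hx

variable [IsAlgClosed k]

/-- Linear forms separate closed points of projective space. -/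
theorem eq_of_vanishing {y y' : ProjSpace n k} (hy : IsClosed ({y} : Set (ProjSpace n k)))
    {i i' : Fin (n + 1)} (hi : y ∈ U i) (hi' : y' ∈ U i')
    (H : ∀ c, (ProjSpace n k).presheaf.germ (U i) y hi (lin i c) ∈ IsLocalRing.maximalIdeal _ →
      (ProjSpace n k).presheaf.germ (U i') y' hi' (lin i' c) ∈ IsLocalRing.maximalIdeal _)
    (H' : ∀ (h : y' ∈ U i) c, (ProjSpace n k).presheaf.germ (U i') y' hi' (lin i' c) ∈ IsLocalRing.maximalIdeal _ →
      (ProjSpace n k).presheaf.germ (U i) y' h (lin i c) ∈ IsLocalRing.maximalIdeal _) :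
    y = y' := by
  classical
  haveI := isMaximal_primeIdealOf hi hy
  obtain ⟨a, hmem, ha⟩ := exists_coords ((isAffineOpen_U i).primeIdealOf ⟨y, hi⟩).asIdeal
  have hc : ∀ j, lin i' (Pi.single j 1 + (-a j) • Pi.single i 1) ∈
      ((isAffineOpen_U i').primeIdealOf ⟨y', hi'⟩).asIdeal := fun j =>
    (germ_lin_mem_iff hi' _).1 (H _ ((germ_lin_mem_iff hi _).2 (by rw [lin_sub_single]; exact hmem j)))
  have hyi : y' ∈ U i := by
    by_contra hne
    have ht : t i' i ∈ ((isAffineOpen_U i').primeIdealOf ⟨y', hi'⟩).asIdeal := by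
      rw [← lin_single, ← germ_lin_mem_iff hi', lin_single, IsLocalRing.mem_maximalIdeal, mem_nonunits_iff,
        ← Scheme.mem_basicOpen _ _ _ hi']
      intro hb
      rw [t] at hb
      erw [H11Tilde.basicOpen_ratio_deg1] at hb
      exact hne hb.2
    have h1 := hc i'
    rw [lin_add, lin_smul, lin_single, lin_single, t_self] at h1
    exact ((isAffineOpen_U i').primeIdealOf ⟨y', hi'⟩).isPrime.ne_top
      ((Ideal.eq_top_iff_one _).2 (((Ideal.add_mem_iff_left _ (Ideal.mul_mem_left _ _ ht)).1 h1)))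
  have hle : ((isAffineOpen_U i).primeIdealOf ⟨y, hi⟩).asIdeal ≤
      ((isAffineOpen_U i).primeIdealOf ⟨y', hyi⟩).asIdeal := by
    refine ha.trans_le (Ideal.span_le.2 ?_)
    rintro _ ⟨j, rfl⟩
    have := (germ_lin_mem_iff hyi _).1 (H' hyi _ ((germ_lin_mem_iff hi' _).2 (hc j)))
    rwa [lin_sub_single] at this
  have heq := Ideal.IsMaximal.eq_of_le ‹_› ((isAffineOpen_U i).primeIdealOf ⟨y', hyi⟩).isPrime.ne_top hle
  have h2 := congrArg (isAffineOpen_U (k := k) i).fromSpec (PrimeSpectrum.ext heq)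
  rwa [IsAffineOpen.fromSpec_primeIdealOf, IsAffineOpen.fromSpec_primeIdealOf] at h2

/-- The condition on tangent vectors. -/
def SepTangents (f : X ⟶ ProjSpace n k) (pX : X ⟶ Spec (CommRingCat.of k)) : Prop :=
  ∀ P : X, IsClosed ({P} : Set X) →
    (IsLocalRing.maximalIdeal (X.presheaf.stalk P) • (⊤ : Submodule (X.presheaf.stalk P) ((L f).presheaf.stalk P))) ≤
      Submodule.span (X.presheaf.stalk P)
        {v | ∃ c : Fin (n + 1) → k, v = sec f pX c P ∧
          v ∈ IsLocalRing.maximalIdeal (X.presheaf.stalk P) •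
            (⊤ : Submodule (X.presheaf.stalk P) ((L f).presheaf.stalk P))} ⊔
      (IsLocalRing.maximalIdeal (X.presheaf.stalk P) ^ 2 •
        (⊤ : Submodule (X.presheaf.stalk P) ((L f).presheaf.stalk P)))

variable (f : X ⟶ ProjSpace n k) (pX : X ⟶ Spec (CommRingCat.of k))

/-- Closed immersions separate points, strongly. -/
theorem exists_separating (hf : f ≫ ProjSpace.toSpec n k = pX) [IsClosedImmersion f] {P Q : X}
    (hP : IsClosed ({P} : Set X)) (hne : P ≠ Q) :
    ∃ c, sec f pX c P ∈ IsLocalRing.maximalIdeal (X.presheaf.stalk P) •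
        (⊤ : Submodule (X.presheaf.stalk P) ((L f).presheaf.stalk P)) ∧
      sec f pX c Q ∉ IsLocalRing.maximalIdeal (X.presheaf.stalk Q) •
        (⊤ : Submodule (X.presheaf.stalk Q) ((L f).presheaf.stalk Q)) := by
  by_contra hcon
  push Not at hcon
  obtain ⟨i, hi⟩ := exists_chart (f P)
  obtain ⟨i', hi'⟩ := exists_chart (f Q)
  refine hne (f.isClosedEmbedding.injective ?_)
  refine eq_of_vanishing (isClosed_image hP) hi hi' (fun c hc => ?_) (fun h c hc => ?_)
  · exact (sec_mem_iff hf hi' c).1 (hcon c ((sec_mem_iff hf hi c).2 hc))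
  · exact (sec_mem_iff hf h c).1 ((sec_mem_iff hf hi' c).2 hc)

/-- Closed immersions separate tangent vectors. -/
theorem sepTangents (hf : f ≫ ProjSpace.toSpec n k = pX) [IsClosedImmersion f] : SepTangents f pX := by
  intro P hP v hv
  obtain ⟨i, hi⟩ := exists_chart (f P)
  obtain ⟨a, rfl⟩ := (bijective_smul_gen f hi).2 v
  have ha := (smul_gen_mem_iff hi _ a).1 hv
  obtain ⟨b, rfl⟩ := f.stalkMap_surjective P a
  have hb : b ∈ IsLocalRing.maximalIdeal ((ProjSpace n k).presheaf.stalk (f P)) := by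
    rw [IsLocalRing.mem_maximalIdeal, mem_nonunits_iff] at ha ⊢
    exact fun h => ha (h.map _)
  rw [maximalIdeal_eq_span hi (isClosed_image hP)] at hb
  refine Submodule.mem_sup_left ?_
  beta_reduce
  clear hv ha
  induction hb using Submodule.span_induction with
  | mem b hb =>
    obtain ⟨c, rfl, hc⟩ := hb
    refine Submodule.subset_span ⟨c, (sec_eq hf hi c).symm, ?_⟩
    simp only [← sec_eq hf hi c]
    exact (sec_mem_iff hf hi c).2 hc
  | zero => simp
  | add a b _ _ h1 h2 =>
    simp only [map_add, add_smul]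
    exact Submodule.add_mem _ h1 h2
  | smul r b _ h =>
    simp only [smul_eq_mul, map_mul, mul_smul]
    exact Submodule.smul_mem _ _ h

/-- Separation of points and tangent vectors gives a closed immersion. -/
theorem isClosedImmersion [IsProper pX] (hf : f ≫ ProjSpace.toSpec n k = pX)
    (hpts : ∀ P Q : X, IsClosed ({P} : Set X) → IsClosed ({Q} : Set X) → P ≠ Q → ∃ c,
      ¬ ((sec f pX c P ∈ IsLocalRing.maximalIdeal (X.presheaf.stalk P) •
          (⊤ : Submodule (X.presheaf.stalk P) ((L f).presheaf.stalk P))) ↔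
        (sec f pX c Q ∈ IsLocalRing.maximalIdeal (X.presheaf.stalk Q) •
          (⊤ : Submodule (X.presheaf.stalk Q) ((L f).presheaf.stalk Q)))))
    (htan : SepTangents f pX) : IsClosedImmersion f := by
  haveI : IsProper (f ≫ ProjSpace.toSpec n k) := hf ▸ inferInstance
  haveI := H27Weil.isProper_toSpec n k
  haveI : IsProper f := IsProper.of_comp f (ProjSpace.toSpec n k)
  refine Groth.Agent.S10867.result k f (ProjSpace.toSpec n k) ?_ ?_
  · intro P hP Q hQ he
    by_contra hne
    obtain ⟨c, hc⟩ := hpts P Q hP hQ hne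
    obtain ⟨i, hi⟩ := exists_chart (f P)
    have hi' : f Q ∈ U i := he ▸ hi
    refine hc ?_
    rw [sec_mem_iff hf hi, sec_mem_iff hf hi', germ_lin_mem_iff hi, germ_lin_mem_iff hi']
    simp only [show (⟨f P, hi⟩ : U (k := k) i) = ⟨f Q, hi'⟩ from Subtype.ext he]
  · intro P hP
    obtain ⟨i, hi⟩ := exists_chart (f P)
    refine le_antisymm (sup_le ?_ (Ideal.pow_le_self two_ne_zero)) fun a ha => ?_
    · refine Ideal.map_le_iff_le_comap.2 fun b hb => ?_
      rw [Ideal.mem_comap, IsLocalRing.mem_maximalIdeal, mem_nonunits_iff]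
      rw [IsLocalRing.mem_maximalIdeal, mem_nonunits_iff] at hb
      exact fun h => hb ((isUnit_map_iff (f.stalkMap P).hom _).1 h)
    let J : Ideal (X.presheaf.stalk P) :=
      Ideal.map (f.stalkMap P).hom (IsLocalRing.maximalIdeal ((ProjSpace n k).presheaf.stalk (f P))) ⊔
        IsLocalRing.maximalIdeal (X.presheaf.stalk P) ^ 2
    refine (smul_gen_mem_iff hi J a).1 (?_ : a • gen f P i ∈ J • (⊤ : Submodule (X.presheaf.stalk P) _))
    suffices key : _ ≤ J • (⊤ : Submodule (X.presheaf.stalk P) _) from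
      key (htan P hP ((smul_gen_mem_iff hi _ a).2 ha))
    refine sup_le ?_ ?_
    · rw [Submodule.span_le]
      rintro _ ⟨c, rfl, hc⟩
      rw [SetLike.mem_coe, sec_eq hf hi, smul_gen_mem_iff hi]
      exact Ideal.mem_sup_left (Ideal.mem_map_of_mem _ ((sec_mem_iff hf hi c).1 hc))
    · exact Submodule.smul_mono_left le_sup_right

omit [IsAlgClosed k] in
theorem isProper_of_projective (h : ∃ (N : ℕ) (ι : X ⟶ ProjSpace N k),
    IsClosedImmersion ι ∧ ι ≫ ProjSpace.toSpec N k = pX) : IsProper pX := by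
  obtain ⟨N, ι, hι, rfl⟩ := h
  haveI := H27Weil.isProper_toSpec N k
  infer_instance

end Groth.Agent.H11Proj.SepPts
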