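import Groth.Agent.H11Proj.ProjMap
import Mathlib.Algebra.Algebra.Operations

/-!
# `Proj.map` of a homomorphism surjective in high degrees
-/

set_option autoImplicit false
universe u

namespace Groth.Agent.H11Proj

open CategoryTheory CategoryTheory.Limits AlgebraicGeometry HomogeneousLocalization DirectSum

variable {A B σ τ : Type u} [CommRing A] [SetLike σ A] [AddSubgroupClass σ A]
  [CommRing B] [SetLike τ B] [AddSubgroupClass τ B]
variable {𝒜 : ℕ → σ} [GradedRing 𝒜] {ℬ : ℕ → τ} [GradedRing ℬ]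
variable (φ : 𝒜 →+*ᵍ ℬ) (hφ : HomogeneousIdeal.irrelevant ℬ ≤ (HomogeneousIdeal.irrelevant 𝒜).map φ)

theorem away_map_surjective_of_surjOn {d₀ : ℕ} (hs₀ : ∀ n : ℕ, d₀ ≤ n → Set.SurjOn φ (𝒜 n) (ℬ n))
    {i : ℕ} (hi : 0 < i) {s : A} (hs : s ∈ 𝒜 i) : Function.Surjective (Away.map φ s) := by
  intro z
  obtain ⟨n, a, ha, rfl⟩ := Away.mk_surjective ℬ (φ.2 hs) z
  have ha' : φ s ^ d₀ * a ∈ ℬ ((d₀ + n) • i) := by
    rw [add_smul]
    exact SetLike.mul_mem_graded (SetLike.pow_mem_graded _ (φ.2 hs)) ha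
  obtain ⟨b, hb, hbe⟩ := hs₀ ((d₀ + n) • i)
    (le_trans (Nat.le_add_right d₀ n) (Nat.le_mul_of_pos_right _ hi)) ha'
  refine ⟨Away.mk 𝒜 hs (d₀ + n) b hb, ?_⟩
  rw [Away.map_mk φ s hs (d₀ + n) b hb]
  apply val_injective
  simp only [Away.val_mk]
  rw [Localization.mk_eq_mk_iff, Localization.r_iff_exists]
  exact ⟨1, by simp [hbe]; ring⟩

theorem isClosedImmersion_map_of_surjOn {d₀ : ℕ} (hs₀ : ∀ n : ℕ, d₀ ≤ n → Set.SurjOn φ (𝒜 n) (ℬ n)) :
    IsClosedImmersion (Proj.map φ hφ) :=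
  map_of_away φ hφ fun _ _ hi hs =>
    IsClosedImmersion.spec_of_surjective _ (away_map_surjective_of_surjOn φ hs₀ hi hs)

theorem surjOn_of_degOne (hgen : Subring.closure ((ℬ 0 : Set B) ∪ (ℬ 1 : Set B)) = ⊤)
    (h₁ : Set.SurjOn φ (𝒜 1) (ℬ 1)) : ∀ n : ℕ, 1 ≤ n → Set.SurjOn φ (𝒜 n) (ℬ n) := by
  let M : Submodule (ℬ 0) B := Submodule.span (ℬ 0) (ℬ 1 : Set B)
  have hM1 : ∀ x ∈ M, x ∈ ℬ 1 := fun x hx => by
    refine Submodule.span_induction (fun y hy => hy) (zero_mem _) (fun _ _ _ _ => add_mem) (fun r y _ hy => ?_) hx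
    have h := SetLike.mul_mem_graded r.2 hy
    rwa [zero_add] at h
  have hpow : ∀ n : ℕ, ∀ x ∈ M ^ (n + 1), ∃ a ∈ 𝒜 (n + 1), φ a = x := by
    intro n
    induction n with
    | zero => intro x hx; rw [Submodule.pow_one] at hx; exact h₁ (hM1 x hx)
    | succ n ih =>
      intro x hx
      rw [Submodule.pow_succ] at hx
      refine Submodule.mul_induction_on hx (fun p hp q hq => ?_) fun p q ⟨a, ha, ea⟩ ⟨b, hb, eb⟩ =>
        ⟨a + b, add_mem ha hb, by rw [map_add, ea, eb]⟩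
      obtain ⟨a, ha, rfl⟩ := ih p hp
      obtain ⟨b, hb, rfl⟩ := h₁ (hM1 q hq)
      exact ⟨a * b, SetLike.mul_mem_graded ha hb, map_mul φ a b⟩
  have key : ∀ b : B, ∀ n, (decompose ℬ b n : B) ∈ M ^ n := by
    intro b
    classical
    have hb : b ∈ Subring.closure ((ℬ 0 : Set B) ∪ (ℬ 1 : Set B)) := hgen.symm ▸ Subring.mem_top b
    have h0 : ∀ y ∈ ℬ 0, ∀ n, (decompose ℬ y n : B) ∈ M ^ n := fun y hy n => by
      obtain rfl | hn := eq_or_ne n 0
      · rw [decompose_of_mem_same ℬ hy, Submodule.pow_zero, Submodule.mem_one]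
        exact ⟨⟨y, hy⟩, rfl⟩
      · rw [decompose_of_mem_ne ℬ hy hn.symm]
        exact zero_mem _
    refine Subring.closure_induction ?_ (h0 0 (zero_mem _)) (h0 1 SetLike.GradedOne.one_mem)
      (fun x y _ _ hx hy n => by simpa using add_mem (hx n) (hy n))
      (fun x _ hx n => by
        rw [decompose_neg]
        exact neg_mem (hx n)) (fun x y _ _ hx hy n => ?_) hb
    · rintro y (hy | hy) n
      · exact h0 y hy n
      · obtain rfl | hn := eq_or_ne n 1
        · rw [decompose_of_mem_same ℬ hy, Submodule.pow_one]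
          exact Submodule.subset_span hy
        · rw [decompose_of_mem_ne ℬ hy hn.symm]
          exact zero_mem _
    · rw [decompose_mul, DirectSum.coe_mul_apply]
      refine sum_mem fun p hp => ?_
      rw [← (Finset.mem_filter.1 hp).2]
      have h := Submodule.mul_mem_mul (hx p.1) (hy p.2)
      rcases Nat.eq_zero_or_pos p.2 with h2 | h2
      · rw [h2] at h ⊢
        rwa [Submodule.pow_zero, Submodule.mul_one] at h
      · rwa [Submodule.pow_add _ (by omega)]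
  intro n hn b hb
  obtain ⟨m, rfl⟩ : ∃ m, n = m + 1 := ⟨n - 1, by omega⟩
  have h := key b (m + 1)
  rw [decompose_of_mem_same ℬ hb] at h
  exact hpow m b h

end Groth.Agent.H11Proj
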