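import Groth.Agent.H11Proj.RelProjGlue
import Groth.Agent.H11Proj.ProjMap

/-!
# Morphisms of relative Proj induced by graded homomorphisms
-/

set_option autoImplicit false
universe u

namespace Groth.Agent.H11Proj

open CategoryTheory CategoryTheory.Limits AlgebraicGeometry TopologicalSpace Opposite RelProj
open scoped HomogeneousIdeal

section projCongr

variable {A B σ τ : Type u} [CommRing A] [SetLike σ A] [AddSubgroupClass σ A]
  [CommRing B] [SetLike τ B] [AddSubgroupClass τ B]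
variable {𝒜 : ℕ → σ} [GradedRing 𝒜] {ℬ : ℕ → τ} [GradedRing ℬ]

theorem map_congr {f g : 𝒜 →+*ᵍ ℬ} (h : f = g) (hf : ℬ₊ ≤ (𝒜₊).map f) (hg : ℬ₊ ≤ (𝒜₊).map g) :
    Proj.map f hf = Proj.map g hg := by
  subst h; rfl

end projCongr

variable {S PA PB : Scheme.{u}} {𝒜 ℬ : QCGrAlg S}

theorem res_comp_gradedHomAt (φ : 𝒜.toQCAlg ⟶ ℬ.toQCAlg) (hφ : IsGradedHom φ) {U V : S.Opens}
    (hU : IsAffineOpen U) (hV : IsAffineOpen V) (i : V ≤ U) :
    (ℬ.res hU hV i).comp (gradedHomAt φ hφ U hU) = (gradedHomAt φ hφ V hV).comp (𝒜.res hU hV i) := by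
  refine GradedRingHom.ext fun x => ?_
  exact (ConcreteCategory.congr_hom (φ.hom.naturality (homOfLE i).op) x).symm

/-- A square over an affine open of the base. -/
theorem preimage_square {PA PB : Scheme.{u}} {pA : PA ⟶ S} {pB : PB ⟶ S} (h : PB ⟶ PA) (w : h ≫ pA = pB)
    (U : S.Opens) (g : (pB ⁻¹ᵁ U : Scheme.{u}) ⟶ (pA ⁻¹ᵁ U : Scheme.{u}))
    (hg : (pB ⁻¹ᵁ U).ι ≫ h = g ≫ (pA ⁻¹ᵁ U).ι) :
    IsPullback g (pB ⁻¹ᵁ U).ι (pA ⁻¹ᵁ U).ι h := by
  refine IsOpenImmersion.isPullback _ _ _ _ hg ?_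
  rw [Scheme.Opens.opensRange_ι, Scheme.Opens.opensRange_ι, ← Scheme.Hom.comp_preimage, w]

/-- A morphism over the base has a property local at the target as soon as its restrictions over
the affine opens of the base do. -/
theorem of_preimage_squares {PA PB : Scheme.{u}} {pA : PA ⟶ S} {pB : PB ⟶ S} (h : PB ⟶ PA)
    (w : h ≫ pA = pB) {Q : MorphismProperty Scheme.{u}} [IsZariskiLocalAtTarget Q]
    (g : ∀ (U : S.Opens), IsAffineOpen U → ((pB ⁻¹ᵁ U : Scheme.{u}) ⟶ (pA ⁻¹ᵁ U : Scheme.{u})))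
    (hg : ∀ (U : S.Opens) (hU : IsAffineOpen U), (pB ⁻¹ᵁ U).ι ≫ h = g U hU ≫ (pA ⁻¹ᵁ U).ι)
    (H : ∀ (U : S.Opens) (hU : IsAffineOpen U), Q (g U hU)) : Q h := by
  refine IsZariskiLocalAtTarget.of_openCover (affinePreimageCover pA) fun (i : S.affineOpens) => ?_
  obtain ⟨U, hU⟩ := i
  change IsAffineOpen U at hU
  have hsq := (preimage_square h w U (g U hU) (hg U hU)).flip
  have hq := H U hU
  rw [← hsq.isoPullback_hom_snd] at hq
  exact (Q.cancel_left_of_respectsIso _ _).1 hq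

variable {pA : PA ⟶ S} {pB : PB ⟶ S}
variable {chartA : ∀ (U : S.Opens) (hU : IsAffineOpen U), (((pA ⁻¹ᵁ U : PA.Opens) : Scheme.{u}) ≅ Proj (𝒜.deg U hU))}
variable {chartB : ∀ (U : S.Opens) (hU : IsAffineOpen U), (((pB ⁻¹ᵁ U : PB.Opens) : Scheme.{u}) ≅ Proj (ℬ.deg U hU))}
variable {φ : 𝒜.toQCAlg ⟶ ℬ.toQCAlg} {hφ : IsGradedHom φ}
variable {hirr : ∀ (U : S.Opens) (hU : IsAffineOpen U),
  (ℬ.deg U hU)₊ ≤ ((𝒜.deg U hU)₊).map (gradedHomAt φ hφ U hU)}

theorem strZero_comp_gradedZero (U : S.Opens) (hU : IsAffineOpen U) :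
    𝒜.strZero U hU ≫ CommRingCat.ofHom (gradedHomAt φ hφ U hU).gradedZeroRingHom = ℬ.strZero U hU := by
  refine CommRingCat.hom_ext (RingHom.ext fun r => Subtype.ext ?_)
  have := ConcreteCategory.congr_hom (congrArg (fun f => f.app (op U)) φ.comm) r
  exact this

theorem existsUnique_relProjMap (hA : IsRelProj 𝒜 pA chartA) (hB : IsRelProj ℬ pB chartB) :
    ∃! h : PB ⟶ PA, IsRelProjMap φ hφ hirr chartA chartB h := by
  refine existsUnique_glue pB (fun U hU => (chartB U hU).hom ≫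
    Proj.map (gradedHomAt φ hφ U hU) (hirr U hU) ≫ (chartA U hU).inv ≫ (pA ⁻¹ᵁ U).ι) fun U hU r => ?_
  have hV := hU.basicOpen r
  rw [← Category.assoc, hB.chart_res U hU r, Category.assoc]
  congr 1
  rw [← Category.assoc, ← Proj.map_comp,
    map_congr (res_comp_gradedHomAt φ hφ hU hV (S.basicOpen_le r)) _
      (HomogeneousIdeal.irrelevant_le_map_comp (𝒜.irrelevant_le_map U hU r) (hirr _ hV)),
    Proj.map_comp _ _ (𝒜.irrelevant_le_map U hU r) (hirr _ hV), Category.assoc]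
  congr 1
  rw [← Scheme.homOfLE_ι PA (pA.preimage_mono (S.basicOpen_le r)), ← Category.assoc, ← Category.assoc]
  congr 1
  rw [Iso.comp_inv_eq, Category.assoc, hA.chart_res U hU r, Iso.inv_hom_id_assoc]

theorem relProjMap_over (hA : IsRelProj 𝒜 pA chartA) (hB : IsRelProj ℬ pB chartB) {h : PB ⟶ PA}
    (hh : IsRelProjMap φ hφ hirr chartA chartB h) : h ≫ pA = pB := by
  refine hom_ext_affinePreimage pB fun U hU => ?_
  rw [← Category.assoc, hh U hU, Category.assoc, Category.assoc, Category.assoc, ← hA.chart_over U hU,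
    Iso.inv_hom_id_assoc, ← hB.chart_over U hU, map_toSpecZero_assoc, ← Spec.map_comp_assoc,
    strZero_comp_gradedZero]

theorem relProjMap_of_charts (hA : IsRelProj 𝒜 pA chartA) (hB : IsRelProj ℬ pB chartB) {h : PB ⟶ PA}
    (hh : IsRelProjMap φ hφ hirr chartA chartB h) {Q : MorphismProperty Scheme.{u}}
    [IsZariskiLocalAtTarget Q]
    (H : ∀ (U : S.Opens) (hU : IsAffineOpen U), Q (Proj.map (gradedHomAt φ hφ U hU) (hirr U hU))) :
    Q h := by
  refine of_preimage_squares h (relProjMap_over hA hB hh)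
    (fun U hU => (chartB U hU).hom ≫ Proj.map (gradedHomAt φ hφ U hU) (hirr U hU) ≫ (chartA U hU).inv)
    (fun U hU => by rw [hh U hU]; simp) fun U hU => ?_
  exact (Q.cancel_left_of_respectsIso _ _).2 ((Q.cancel_right_of_respectsIso _ _).2 (H U hU))

end Groth.Agent.H11Proj
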