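import Groth.Prelude.Def_RelProj
import Mathlib.AlgebraicGeometry.Morphisms.Separated

/-!
# Glueing over the affine opens of the base, and chart lemmas for relative Proj
-/

set_option autoImplicit false
universe u

namespace Groth.Agent.H11Proj

open CategoryTheory CategoryTheory.Limits AlgebraicGeometry TopologicalSpace Opposite

variable {S P T : Scheme.{u}} (p : P ⟶ S)

/-- The preimages of the affine opens of the base form an open cover. -/
noncomputable def affinePreimageCover : P.OpenCover :=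
  P.openCoverOfIsOpenCover (fun U : S.affineOpens => p ⁻¹ᵁ U.1) (by
    change ⨆ U : S.affineOpens, p ⁻¹ᵁ U.1 = ⊤
    rw [← Scheme.Hom.preimage_iSup, iSup_affineOpens_eq_top, Scheme.Hom.preimage_top])

theorem hom_ext_affinePreimage {e e' : P ⟶ T}
    (h : ∀ (U : S.Opens), IsAffineOpen U → (p ⁻¹ᵁ U).ι ≫ e = (p ⁻¹ᵁ U).ι ≫ e') : e = e' :=
  (affinePreimageCover p).hom_ext _ _ fun U => h U.1 U.2

/-- A family of morphisms on the preimages of the affine opens of the base which is compatible with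
passage to basic opens glues. -/
theorem existsUnique_glue
    (g : ∀ (U : S.Opens), IsAffineOpen U → ((p ⁻¹ᵁ U : Scheme.{u}) ⟶ T))
    (h : ∀ (U : S.Opens) (hU : IsAffineOpen U) (r : Γ(S, U)),
      P.homOfLE (p.preimage_mono (S.basicOpen_le r)) ≫ g U hU =
        g (S.basicOpen r) (hU.basicOpen r)) :
    ∃! e : P ⟶ T, ∀ (U : S.Opens) (hU : IsAffineOpen U), (p ⁻¹ᵁ U).ι ≫ e = g U hU := by
  have hW : ∀ (U : S.Opens) (hU : IsAffineOpen U) (W : S.Opens) (hW : IsAffineOpen W) (r : Γ(S, U))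
      (hr : W = S.basicOpen r) (hle : W ≤ U),
      P.homOfLE (p.preimage_mono hle) ≫ g U hU = g W hW := by
    intro U hU W hW r hr hle; subst hr; exact h U hU r
  have key : ∀ (U V : S.affineOpens),
      pullback.fst (p ⁻¹ᵁ U.1).ι (p ⁻¹ᵁ V.1).ι ≫ g U.1 U.2 =
        pullback.snd (p ⁻¹ᵁ U.1).ι (p ⁻¹ᵁ V.1).ι ≫ g V.1 V.2 := by
    intro U V
    let k : pullback (p ⁻¹ᵁ U.1).ι (p ⁻¹ᵁ V.1).ι ⟶ P := pullback.fst _ _ ≫ (p ⁻¹ᵁ U.1).ι
    have hk : ∀ z, p (k z) ∈ U.1 ⊓ V.1 := fun z => by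
      refine ⟨(pullback.fst (p ⁻¹ᵁ U.1).ι (p ⁻¹ᵁ V.1).ι z).2, ?_⟩
      have e : k = pullback.snd _ _ ≫ (p ⁻¹ᵁ V.1).ι := pullback.condition
      rw [e]
      exact (pullback.snd (p ⁻¹ᵁ U.1).ι (p ⁻¹ᵁ V.1).ι z).2
    choose f g' hfg hmem using fun z => exists_basicOpen_le_affine_inter U.2 V.2 (p (k z)) (hk z)
    refine (Scheme.openCoverOfIsOpenCover _ (fun z => k ⁻¹ᵁ p ⁻¹ᵁ S.basicOpen (f z)) ?_).hom_ext _ _
      fun z => ?_
    · exact top_le_iff.1 fun z _ => Opens.mem_iSup.2 ⟨z, hmem z⟩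
    · let W := S.basicOpen (f z)
      have hWV : W ≤ V.1 := (hfg z).trans_le (S.basicOpen_le _)
      let O := k ⁻¹ᵁ p ⁻¹ᵁ W
      have hrange : Set.range (O.ι ≫ k) ⊆ Set.range (p ⁻¹ᵁ W).ι := by
        rintro _ ⟨w, rfl⟩
        rw [Scheme.Opens.range_ι]
        exact w.2
      let l := IsOpenImmersion.lift (p ⁻¹ᵁ W).ι (O.ι ≫ k) hrange
      have hl : l ≫ (p ⁻¹ᵁ W).ι = O.ι ≫ k := IsOpenImmersion.lift_fac _ _ _
      have e₁ : l ≫ P.homOfLE (p.preimage_mono (S.basicOpen_le (f z))) = O.ι ≫ pullback.fst _ _ := by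
        rw [← cancel_mono (p ⁻¹ᵁ U.1).ι, Category.assoc, Scheme.homOfLE_ι, hl, Category.assoc]
      have e₂ : l ≫ P.homOfLE (p.preimage_mono hWV) = O.ι ≫ pullback.snd _ _ := by
        rw [← cancel_mono (p ⁻¹ᵁ V.1).ι, Category.assoc, Scheme.homOfLE_ι, hl, Category.assoc,
          ← pullback.condition]
      change O.ι ≫ _ = O.ι ≫ _
      rw [← Category.assoc, ← e₁, ← Category.assoc, ← e₂, Category.assoc, Category.assoc,
        h U.1 U.2 (f z), hW V.1 V.2 W (U.2.basicOpen _) (g' z) (hfg z) hWV]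
  refine ⟨(affinePreimageCover p).glueMorphisms (fun U => g U.1 U.2) key,
    fun U hU => ?_, fun e he => ?_⟩
  · exact (affinePreimageCover p).ι_glueMorphisms (fun U => g U.1 U.2) key ⟨U, hU⟩
  · refine (affinePreimageCover p).hom_ext _ _ fun U => ?_
    exact (he U.1 U.2).trans ((affinePreimageCover p).ι_glueMorphisms (fun U => g U.1 U.2) key U).symm

section RelProj

open RelProj

variable {𝒮 : QCGrAlg S} {p}
variable {chart : ∀ (U : S.Opens) (hU : IsAffineOpen U),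
  (((p ⁻¹ᵁ U : P.Opens) : Scheme.{u}) ≅ Proj (𝒮.deg U hU))}

theorem morphismRestrict_relProj (hP : IsRelProj 𝒮 p chart) (U : S.Opens) (hU : IsAffineOpen U) :
    p ∣_ U = (chart U hU).hom ≫ Proj.toSpecZero (𝒮.deg U hU) ≫ Spec.map (𝒮.strZero U hU) ≫
      hU.isoSpec.inv := by
  rw [← cancel_mono U.ι, morphismRestrict_ι]
  simp only [Category.assoc, IsAffineOpen.isoSpec_inv_ι]
  exact (hP.chart_over U hU).symm

theorem relProj_of_charts (hP : IsRelProj 𝒮 p chart) {Q : MorphismProperty Scheme.{u}}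
    [IsZariskiLocalAtTarget Q]
    (H : ∀ (U : S.Opens) (hU : IsAffineOpen U),
      Q (Proj.toSpecZero (𝒮.deg U hU) ≫ Spec.map (𝒮.strZero U hU))) : Q p := by
  refine IsZariskiLocalAtTarget.of_iSup_eq_top (fun U : S.affineOpens => U.1) (iSup_affineOpens_eq_top S)
    fun U => ?_
  rw [morphismRestrict_relProj hP U.1 U.2]
  refine (Q.cancel_left_of_respectsIso _ _).2 ?_
  rw [← Category.assoc]
  exact (Q.cancel_right_of_respectsIso _ _).2 (H U.1 U.2)

theorem isSeparated_relProj (hP : IsRelProj 𝒮 p chart) : IsSeparated p :=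
  relProj_of_charts hP fun _ _ => inferInstance

end RelProj

end Groth.Agent.H11Proj
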