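import Groth.Agent.H11Proj.Family

/-!
# Very ample families of sections give projective morphisms
-/

set_option autoImplicit false
set_option linter.style.haveILetI false

noncomputable section

universe u

open CategoryTheory AlgebraicGeometry TopologicalSpace Opposite
open Groth.Agent.H11Tilde Groth.Agent.H11Ample

namespace Groth.Agent.H11Proj

variable {X S : Scheme.{u}} {f : X ⟶ S} {L : X.Modules}

variable (f) in
/-- The ring generated by the functions of the base and the coefficients of some sections in a chart. -/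
def gensRing {V : S.Opens} {k : ℕ} (a : Chart L) (s : Fin k → Γ(L, f ⁻¹ᵁ V)) :
    Subring Γ(X, a.V ⊓ f ⁻¹ᵁ V) :=
  Subring.closure (Set.range (f.appLE V (a.V ⊓ f ⁻¹ᵁ V) inf_le_right) ∪ Set.range fun l => a.coef (s l))

theorem coef_mem_gensRing {V : S.Opens} {k : ℕ} (a : Chart L) (s : Fin k → Γ(L, f ⁻¹ᵁ V)) {t : Γ(L, f ⁻¹ᵁ V)}
    (ht : SpanBy f L s t) : a.coef t ∈ gensRing f a s := by
  obtain ⟨c, rfl⟩ := ht
  rw [show a.coef (∑ l, f.app V (c l) • s l) = ∑ l, a.coef (f.app V (c l) • s l) from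
    map_sum (AddMonoidHom.mk' (a.coef (W := f ⁻¹ᵁ V)) a.coef_add) _ _]
  refine sum_mem fun l _ => ?_
  rw [Chart.coef_smul]
  refine mul_mem (Subring.subset_closure (Or.inl ⟨c l, ?_⟩)) (Subring.subset_closure (Or.inr ⟨l, rfl⟩))
  simp only [resF, Scheme.Hom.appLE, CommRingCat.comp_apply]

/-- Clearing denominators along a ring of generators. -/
theorem exists_clear_closure {A B : Type*} [CommRing A] [CommRing B] (φ : A →+* B) (R : Subring A) (a : A)
    (ha : a ∈ R) {G : Set B} (hG : ∀ g ∈ G, ∃ (n : ℕ) (q : A), q ∈ R ∧ φ q = φ a ^ n * g) {u : B}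
    (hu : u ∈ Subring.closure G) : ∃ (n : ℕ) (q : A), q ∈ R ∧ φ q = φ a ^ n * u := by
  induction hu using Subring.closure_induction with
  | mem x hx => exact hG x hx
  | zero => exact ⟨0, 0, zero_mem R, by simp⟩
  | one => exact ⟨0, 1, one_mem R, by simp⟩
  | add x y _ _ hx hy =>
    obtain ⟨n, p, hp, ep⟩ := hx
    obtain ⟨m, q, hq, eq⟩ := hy
    exact ⟨n + m, a ^ m * p + a ^ n * q, add_mem (mul_mem (pow_mem ha _) hp) (mul_mem (pow_mem ha _) hq), by
      simp only [map_add, map_mul, map_pow, ep, eq]; ring⟩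
  | neg x _ hx =>
    obtain ⟨n, p, hp, ep⟩ := hx
    exact ⟨n, -p, neg_mem hp, by rw [map_neg, ep, mul_neg]⟩
  | mul x y _ _ hx hy =>
    obtain ⟨n, p, hp, ep⟩ := hx
    obtain ⟨m, q, hq, eq⟩ := hy
    exact ⟨n + m, p * q, mul_mem hp hq, by rw [map_mul, ep, eq]; ring⟩

/-- A subring contains an element which it contains after multiplication by powers of a unit family. -/
theorem mem_of_pow_mul_mem {A ι : Type*} [CommRing A] [Fintype ι] (R : Subring A) (a : ι → A) (ha : ∀ i, a i ∈ R)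
    (c : ι → A) (hc : ∀ i, c i ∈ R) (h1 : ∑ i, c i * a i = 1) {y : A} (n : ι → ℕ)
    (hy : ∀ i, a i ^ n i * y ∈ R) : y ∈ R := by
  classical
  let N := Finset.univ.sup n
  have hN : ∀ i, a i ^ N * y ∈ R := fun i => by
    rw [← Nat.sub_add_cancel (show n i ≤ N from Finset.le_sup (f := n) (Finset.mem_univ i)), pow_add, mul_assoc]
    exact mul_mem (pow_mem (ha i) _) (hy i)
  have hspan : Ideal.span (Set.range fun i => (⟨a i, ha i⟩ : R)) = ⊤ := by
    rw [Ideal.eq_top_iff_one]
    refine (Ideal.mem_span_range_iff_exists_fun).2 ⟨fun i => ⟨c i, hc i⟩, Subtype.ext ?_⟩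
    simpa using h1
  have := Ideal.span_pow_eq_top _ hspan N
  rw [← Set.range_comp] at this
  obtain ⟨d, hd⟩ := Ideal.mem_span_range_iff_exists_fun.1 ((Ideal.eq_top_iff_one _).1 this)
  have hd' : ∑ i, (d i : A) * a i ^ N = 1 := by
    have := congrArg Subtype.val hd
    simpa using this
  rw [show y = ∑ i, (d i : A) * (a i ^ N * y) by simp only [← mul_assoc, ← Finset.sum_mul, hd', one_mul]]
  exact sum_mem fun i _ => mul_mem (d i).2 (hN i)

namespace Fam

variable (Y : Fam f L)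

/-- The sections of every member generate, with affine loci of generation, and the coefficients generate the
functions there. -/
structure IsVeryAmple : Prop where
  cover : ∀ (i : Y.ι) (x : X), f.base x ∈ Y.O i → ∃ l, x ∈ genAt L (Y.g i l)
  affine : ∀ (i : Y.ι) (l : Fin (Y.k i)) (V : S.Opens), IsAffineOpen V → V ≤ Y.O i →
    IsAffineOpen (genAt L (Y.g i l) ⊓ f ⁻¹ᵁ V)
  surj : ∀ (i : Y.ι) (l : Fin (Y.k i)) (V : S.Opens), IsAffineOpen V → ∀ (hV : V ≤ Y.O i),
    gensRing f (chartAt (Y.g i l)) (fun m => resS L (f.preimage_mono hV) (Y.g i m)) = ⊤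

variable {Y} (hY : Y.IsVeryAmple)

include hY in
/-- The sections in the span over an affine open also have affine loci of generation, with the functions there
generated by coefficients. -/
theorem IsVeryAmple.span {i : Y.ι} {V : S.Opens} (hV : IsAffineOpen V) (hi : V ≤ Y.O i) {s : Γ(L, f ⁻¹ᵁ V)}
    (hs : SpanBy f L (fun m => resS L (f.preimage_mono hi) (Y.g i m)) s) :
    IsAffineOpen (genAt L s) ∧
      gensRing f (chartAt s) (fun m => resS L (f.preimage_mono hi) (Y.g i m)) = ⊤ := by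
  classical
  let a := chartAt s
  let G := fun m => resS L (f.preimage_mono hi) (Y.g i m)
  let ρ := fun m => a.coef (G m)
  obtain ⟨c, hc⟩ := hs
  let κ := fun m => f.appLE V (a.V ⊓ f ⁻¹ᵁ V) inf_le_right (c m)
  have h1 : ∑ m, κ m * ρ m = 1 := by
    rw [← Chart.coef_chartAt_self s]
    conv_rhs => rw [show a.coef s = a.coef (∑ m, f.app V (c m) • G m) from congrArg a.coef hc,
      show a.coef (∑ m, f.app V (c m) • G m) = ∑ m, a.coef (f.app V (c m) • G m) from
      map_sum (AddMonoidHom.mk' (a.coef (W := f ⁻¹ᵁ V)) a.coef_add) _ _]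
    exact Finset.sum_congr rfl fun m _ => (a.coef_smul _ _).symm
  have hbas : ∀ m, X.basicOpen (ρ m) =
      X.basicOpen ((chartAt (Y.g i m)).coef s) := fun m => by
    rw [← Chart.genAt_inf, ← Chart.genAt_inf, genAt_res]
    change genAt L s ⊓ (genAt L (Y.g i m) ⊓ f ⁻¹ᵁ V) = genAt L (Y.g i m) ⊓ genAt L s
    rw [← inf_assoc, inf_comm (genAt L s), inf_eq_left.2 (inf_le_right.trans (genAt_le s))]
  have hW : IsAffineOpen (a.V ⊓ f ⁻¹ᵁ V) := by
    refine isAffineOpen_of_isAffineOpen_basicOpen _ (Set.range ρ) ?_ ?_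
    · rw [Ideal.eq_top_iff_one]
      exact Ideal.mem_span_range_iff_exists_fun.2 ⟨κ, h1⟩
    · rintro _ ⟨m, rfl⟩
      rw [hbas]
      exact (hY.affine i m V hV hi).basicOpen _
  refine ⟨?_, eq_top_iff.2 fun y _ => ?_⟩
  · have e : a.V ⊓ f ⁻¹ᵁ V = genAt L s := inf_eq_left.2 (genAt_le s)
    exact e ▸ hW
  let R := gensRing f a G
  have hρ : ∀ m, ρ m ∈ R := fun m => Subring.subset_closure (Or.inr ⟨m, rfl⟩)
  have hκ : ∀ m, κ m ∈ R := fun m => Subring.subset_closure (Or.inl ⟨c m, rfl⟩)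
  suffices h : ∀ m, ∃ n : ℕ, ρ m ^ n * y ∈ R by
    choose n hn using h
    exact mem_of_pow_mul_mem R ρ hρ κ hκ h1 n hn
  intro m
  let b := chartAt (Y.g i m)
  let E := X.basicOpen (ρ m)
  have hEa : E ≤ a.V ⊓ f ⁻¹ᵁ V := X.basicOpen_le _
  have hEb : E ≤ b.V ⊓ f ⁻¹ᵁ V := (hbas m).le.trans (X.basicOpen_le _)
  have htrans : ∀ (t : Γ(L, f ⁻¹ᵁ V)), resF hEa (a.coef t) = resF hEa (ρ m) * resF hEb (b.coef t) := fun t => by
    rw [Chart.coef_trans b a t (hEb.trans inf_le_left) (hEa.trans inf_le_left) (hEa.trans inf_le_right)]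
    refine congrArg (· * _) ?_
    simp only [ρ, G]
    rw [Chart.coef_res, resF_resF, Chart.coef_res, resF_resF]
  -- functions on the chart `b` are, up to powers of `ρ m`, in the ring
  have hu : ∀ u : Γ(X, b.V ⊓ f ⁻¹ᵁ V), ∃ (n : ℕ) (q : Γ(X, a.V ⊓ f ⁻¹ᵁ V)), q ∈ R ∧
      resF hEa q = resF hEa (ρ m) ^ n * resF hEb u := by
    intro u
    have hu : u ∈ gensRing f b G := (hY.surj i m V hV hi).ge (Subring.mem_top u)
    have h2 : resF hEb u ∈ Subring.closure (resF hEb '' (Set.range (f.appLE V (b.V ⊓ f ⁻¹ᵁ V) inf_le_right) ∪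
        Set.range fun l => b.coef (G l))) := by
      rw [← RingHom.map_closure]
      exact ⟨u, hu, rfl⟩
    refine exists_clear_closure (resF hEa) R (ρ m) (hρ m) ?_ h2
    rintro _ ⟨w, (⟨z, rfl⟩ | ⟨j, rfl⟩), rfl⟩
    · refine ⟨0, f.appLE V (a.V ⊓ f ⁻¹ᵁ V) inf_le_right z, Subring.subset_closure (Or.inl ⟨z, rfl⟩), ?_⟩
      rw [pow_zero, one_mul, resF, resF, ← ConcreteCategory.comp_apply, ← ConcreteCategory.comp_apply,
        Scheme.Hom.appLE_map, Scheme.Hom.appLE_map]
    · exact ⟨1, ρ j, hρ j, by rw [pow_one]; exact htrans (G j)⟩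
  haveI := (hY.affine i m V hV hi).isLocalization_basicOpen (b.coef s)
  obtain ⟨p, u, hyu⟩ : ∃ (p : ℕ) (u : Γ(X, b.V ⊓ f ⁻¹ᵁ V)), resF hEa y * resF hEb (b.coef s) ^ p = resF hEb u := by
    obtain ⟨p, u, h⟩ := IsLocalization.Away.surj (b.coef s) (resF (hbas m).ge (resF hEa y))
    refine ⟨p, u, ?_⟩
    have h' := congrArg (resF (hbas m).le) h
    rw [map_mul, map_pow, RingHom.algebraMap_toAlgebra] at h'
    simp only [resF_resF] at h'
    refine Eq.trans ?_ (h'.trans rfl)
    rfl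
  have hone : resF hEa (ρ m) * resF hEb (b.coef s) = 1 := by
    rw [← htrans, Chart.coef_chartAt_self, map_one]
  obtain ⟨n, q, hq, eq⟩ := hu u
  have hz : resF hEa (ρ m ^ n * y - ρ m ^ p * q) = 0 := by
    rw [map_sub, map_mul, map_mul, map_pow, map_pow, eq, ← hyu, sub_eq_zero]
    calc resF hEa (ρ m) ^ n * resF hEa y
        = resF hEa (ρ m) ^ n * resF hEa y * (resF hEa (ρ m) * resF hEb (b.coef s)) ^ p := by
          rw [hone, one_pow, mul_one]
      _ = _ := by ring
  haveI := hW.isLocalization_basicOpen (ρ m)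
  obtain ⟨⟨_, k, rfl⟩, hk⟩ := (IsLocalization.map_eq_zero_iff (Submonoid.powers (ρ m)) Γ(X, E) _).1 hz
  refine ⟨k + n, ?_⟩
  simp only [mul_sub, sub_eq_zero] at hk
  rw [pow_add, mul_assoc, hk]
  exact mul_mem (pow_mem (hρ m) _) (mul_mem (pow_mem (hρ m) _) hq)

variable [QuasiCompact f] [QuasiSeparated f] (hL : PicF.IsInvertible L) (hdom : Y.dom = ⊤)

omit [QuasiCompact f] [QuasiSeparated f] in
theorem range_hom_eq (D : Gens f L) {U : S.Opens} (hU : IsAffineOpen U) (a : Chart L) :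
    (SecAlg.hom D hU a).range = gensRing f a (D.g U hU) := by
  refine le_antisymm ?_ (Subring.closure_le.2 ?_)
  · rintro _ ⟨P, rfl⟩
    induction P using MvPolynomial.induction_on with
    | C r => rw [SecAlg.hom, MvPolynomial.eval₂Hom_C]; exact Subring.subset_closure (Or.inl ⟨r, rfl⟩)
    | add P Q hP hQ => rw [map_add]; exact add_mem hP hQ
    | mul_X P l hP =>
      rw [map_mul, show SecAlg.hom D hU a (MvPolynomial.X l) = a.coef (D.g U hU l) from
        MvPolynomial.eval₂Hom_X' _ _ l]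
      exact mul_mem hP (Subring.subset_closure (Or.inr ⟨l, rfl⟩))
  · rintro _ (⟨r, rfl⟩ | ⟨l, rfl⟩)
    · exact ⟨MvPolynomial.C r, MvPolynomial.eval₂Hom_C _ _ r⟩
    · exact ⟨MvPolynomial.X l, MvPolynomial.eval₂Hom_X' _ _ l⟩

include hY hL hdom in
/-- A morphism with a very ample covering family of sections is projective. -/
theorem IsVeryAmple.isProjective : RelProj.IsProjective f := by
  classical
  obtain ⟨D, hD⟩ := Y.exists_gens hL hdom
  refine SecAlg.isProjective D hL ⟨fun U hU x hx => ?_, fun U hU l => ?_, fun U hU l => ?_⟩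
  · obtain ⟨i, hi⟩ := Opens.mem_iSup.1 (Y.le_dom hdom U hx)
    obtain ⟨a, ha, hxa⟩ := hU.exists_basicOpen_le (V := Y.O i) ⟨f x, hi⟩ hx
    by_contra hne
    push Not at hne
    obtain ⟨m, hm⟩ := hY.cover i x hi
    -- extend the generating section after clearing denominators
    obtain ⟨n, z, hz, ez⟩ := Y.exists_clear hL hU le_rfl hU.isCompact (Y.le_dom hdom U) a (S.basicOpen_le a)
      (Y.mem_res ha (Y.mem_g i m))
    simp only [resS, H10Coh.mres_self] at hz
    obtain ⟨c, rfl⟩ := (hD U hU z).1 hz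
    have hgx : x ∈ genAt L (resS L (f.preimage_mono ha) (Y.g i m)) := by
      rw [genAt_res]; exact ⟨hm, hxa⟩
    let b := chartAt (resS L (f.preimage_mono ha) (Y.g i m))
    have hzx : x ∈ genAt L (∑ l, f.app U (c l) • D.g U hU l) := by
      have hunit : x ∈ X.basicOpen (f.app (S.basicOpen a)
          (S.presheaf.map (homOfLE (S.basicOpen_le a)).op (a ^ n))) := by
        rw [basicOpen_app_eq, Scheme.basicOpen_res]
        refine ⟨hxa, ?_⟩
        rcases Nat.eq_zero_or_pos n with rfl | hn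
        · rw [pow_zero, Scheme.basicOpen_of_isUnit S isUnit_one]
          exact hx
        · rw [Scheme.basicOpen_pow S a hn]
          exact hxa
      have hmem : x ∈ genAt L (resS L (f.preimage_mono (S.basicOpen_le a)) (∑ l, f.app U (c l) • D.g U hU l)) := by
        rw [ez]
        have h2 : b.V ⊓ genAt L (f.app _ (S.presheaf.map (homOfLE (S.basicOpen_le a)).op (a ^ n)) •
            resS L (f.preimage_mono ha) (Y.g i m)) = X.basicOpen _ := Chart.genAt_inf b _
        rw [Chart.coef_smul, Chart.coef_chartAt_self, mul_one, Scheme.basicOpen_res] at h2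
        exact (h2.ge ⟨⟨hgx, hxa⟩, hunit⟩).2
      rw [genAt_res] at hmem
      exact hmem.1
    -- a combination of non-generating sections does not generate
    let e := chartAt (∑ l, f.app U (c l) • D.g U hU l)
    have h1 : ∑ l, resF (inf_le_right : e.V ⊓ f ⁻¹ᵁ U ≤ f ⁻¹ᵁ U) (f.app U (c l)) * e.coef (D.g U hU l) = 1 := by
      rw [← Chart.coef_chartAt_self (∑ l, f.app U (c l) • D.g U hU l)]
      refine Eq.trans ?_ (map_sum (AddMonoidHom.mk' (e.coef (W := f ⁻¹ᵁ U)) e.coef_add) _ _).symm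
      exact Finset.sum_congr rfl fun l _ => (e.coef_smul _ _).symm
    have hxW : x ∈ e.V ⊓ f ⁻¹ᵁ U := ⟨hzx, hx⟩
    have hnon : ∀ l, ¬ IsUnit (X.presheaf.germ _ x hxW (e.coef (D.g U hU l))) := fun l hl => by
      have := (X.mem_basicOpen _ x hxW).2 hl
      rw [← Chart.genAt_inf] at this
      exact hne l this.2
    have h2 := congrArg (X.presheaf.germ (e.V ⊓ f ⁻¹ᵁ U) x hxW) h1
    rw [map_one, map_sum] at h2
    refine IsLocalRing.maximalIdeal.isMaximal (X.presheaf.stalk x) |>.ne_top ((Ideal.eq_top_iff_one _).2 ?_)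
    rw [← h2]
    refine Ideal.sum_mem _ fun l _ => ?_
    rw [map_mul]
    exact Ideal.mul_mem_left _ _ (hnon l)
  all_goals
    let s := D.g U hU l
    let A := chartAt s
    have hs : Y.Mem s := (hD U hU s).2 (SpanBy.self l)
    have hx : ∀ x : U, ∃ (a : Γ(S, U)) (i : Y.ι), S.basicOpen a ≤ Y.O i ∧ x.1 ∈ S.basicOpen a := fun x => by
      obtain ⟨i, hi⟩ := Opens.mem_iSup.1 (Y.le_dom hdom U x.2)
      obtain ⟨a, ha, hxa⟩ := hU.exists_basicOpen_le ⟨x.1, hi⟩ x.2
      exact ⟨a, i, ha, hxa⟩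
    choose a i ha hxa using hx
    obtain ⟨F, hF⟩ := hU.isCompact.elim_finite_subcover (fun x : U => (S.basicOpen (a x) : Set S))
      (fun x => (S.basicOpen (a x)).isOpen) (fun x hx => Set.mem_iUnion.2 ⟨⟨x, hx⟩, hxa _⟩)
    obtain ⟨c, hc⟩ : ∃ c : F → Γ(S, U), ∑ x : F, c x • a x.1 = 1 := by
      refine (Submodule.mem_span_range_iff_exists_fun Γ(S, U)).1 ((Ideal.eq_top_iff_one _).1 ?_)
      rw [← hU.iSup_basicOpen_eq_self_iff]
      refine le_antisymm (iSup_le fun z => S.basicOpen_le _) (fun x hx => ?_)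
      obtain ⟨y, hy, hxy⟩ := Set.mem_iUnion₂.1 (hF hx)
      exact Opens.mem_iSup.2 ⟨⟨_, ⟨y, hy⟩, rfl⟩, hxy⟩
    let α := fun x : F => f.appLE U (A.V ⊓ f ⁻¹ᵁ U) inf_le_right (a x.1)
    have h1 : ∑ x : F, f.appLE U (A.V ⊓ f ⁻¹ᵁ U) inf_le_right (c x) * α x = 1 := by
      simp only [α, ← map_mul, ← map_sum]
      simp only [smul_eq_mul] at hc
      rw [hc, map_one]
    have hα : ∀ x : F, X.basicOpen (α x) = genAt L (resS L (f.preimage_mono (S.basicOpen_le (a x.1))) s) := fun x => by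
      simp only [α, Scheme.Hom.appLE, CommRingCat.comp_apply, Scheme.basicOpen_res, basicOpen_app_eq, genAt_res]
      exact le_antisymm (inf_le_inf_right _ inf_le_left)
        (le_inf (le_inf inf_le_left (inf_le_left.trans (genAt_le s))) inf_le_right)
    have hsp : ∀ x : F, SpanBy f L (fun m => resS L (f.preimage_mono (ha x.1)) (Y.g (i x.1) m))
        (resS L (f.preimage_mono (S.basicOpen_le (a x.1))) s) := fun x =>
      Y.spanBy_of_mem hL (hU.basicOpen _) (ha x.1) (Y.mem_res (S.basicOpen_le _) hs)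
    have hWaff : IsAffineOpen (A.V ⊓ f ⁻¹ᵁ U) := by
      refine isAffineOpen_of_isAffineOpen_basicOpen _ (Set.range α) ?_ ?_
      · rw [Ideal.eq_top_iff_one]
        exact Ideal.mem_span_range_iff_exists_fun.2 ⟨_, h1⟩
      · rintro _ ⟨x, rfl⟩
        rw [hα]
        exact (hY.span (hU.basicOpen _) (ha x.1) (hsp x)).1
  · have e : A.V ⊓ f ⁻¹ᵁ U = genAt L s := inf_eq_left.2 (genAt_le s)
    exact e ▸ hWaff
  · intro y
    let R := gensRing f A (D.g U hU)
    suffices h : y ∈ R from (range_hom_eq D hU A).ge h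
    have hαR : ∀ x : F, α x ∈ R := fun x => Subring.subset_closure (Or.inl ⟨_, rfl⟩)
    suffices h : ∀ x : F, ∃ n : ℕ, α x ^ n * y ∈ R by
      choose n hn using h
      exact mem_of_pow_mul_mem R α hαR _ (fun x => Subring.subset_closure (Or.inl ⟨c x, rfl⟩)) h1 n hn
    intro x
    let V := S.basicOpen (a x.1)
    have hVU : V ≤ U := S.basicOpen_le _
    let B := chartAt (resS L (f.preimage_mono hVU) s)
    let E := B.V ⊓ f ⁻¹ᵁ V
    have hEA : E ≤ A.V ⊓ f ⁻¹ᵁ U :=
      inf_le_inf ((genAt_res _ _).le.trans inf_le_left) (f.preimage_mono hVU)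
    have hEbas : X.basicOpen (α x) ≤ E := le_inf (hα x).le ((hα x).le.trans (genAt_le _))
    have hcomp : ∀ z : Γ(S, U),
        resF hEA (f.appLE U (A.V ⊓ f ⁻¹ᵁ U) inf_le_right z) =
          f.appLE V E inf_le_right (S.presheaf.map (homOfLE hVU).op z) := fun z => by
      rw [resF, ← ConcreteCategory.comp_apply, Scheme.Hom.appLE_map, ← ConcreteCategory.comp_apply,
        Scheme.Hom.map_appLE]
    have hu : resF hEA y ∈ gensRing f B (fun m => resS L (f.preimage_mono (ha x.1)) (Y.g (i x.1) m)) :=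
      (hY.span (hU.basicOpen _) (ha x.1) (hsp x)).2.ge (Subring.mem_top _)
    obtain ⟨n, q, hq, eq⟩ := exists_clear_closure (resF hEA) R (α x) (hαR x) (by
      rintro _ (⟨z, rfl⟩ | ⟨j, rfl⟩)
      · haveI := hU.isLocalization_basicOpen (a x.1)
        obtain ⟨p, z', hz⟩ := IsLocalization.Away.surj (a x.1) z
        refine ⟨p, f.appLE U (A.V ⊓ f ⁻¹ᵁ U) inf_le_right z', Subring.subset_closure (Or.inl ⟨z', rfl⟩), ?_⟩
        rw [hcomp, hcomp, ← map_pow, ← map_mul, mul_comm]
        exact congrArg _ hz.symm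
      · obtain ⟨p, z, hz, ez⟩ := Y.exists_clear hL hU le_rfl hU.isCompact (Y.le_dom hdom U) (a x.1)
          (S.basicOpen_le _) (Y.mem_res (ha x.1) (Y.mem_g (i x.1) j))
        simp only [resS, H10Coh.mres_self] at hz
        refine ⟨p, A.coef z, coef_mem_gensRing A (D.g U hU) ((hD U hU z).1 hz), ?_⟩
        have e1 := congrArg B.coef ez
        rw [Chart.coef_res, Chart.coef_smul] at e1
        have e2 : resF hEA (A.coef z) = resF (inf_le_inf_left B.V (f.preimage_mono hVU)) (B.coef z) := by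
          rw [Chart.coef_trans A B z (U := E) (hEA.trans inf_le_left) inf_le_left (hEA.trans inf_le_right),
            show resF (le_inf inf_le_left (hEA.trans inf_le_left)) (B.coef A.e) = (1 : Γ(X, E)) from
              (B.eq_coef A.e (inf_le_left : E ≤ B.V) (hEA.trans inf_le_left) (c := 1) (by
                rw [one_smul]
                simp only [A, B, resS_resS])).symm, one_mul]
        rw [e2, e1, hcomp, ← map_pow, ← map_pow]
        exact congrArg (· * _) (by
          simp only [resF, Scheme.Hom.appLE, CommRingCat.comp_apply]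
          rfl)) hu
    have hz : resF (X.basicOpen_le (α x)) (α x ^ n * y - q) = 0 := by
      rw [← resF_resF hEbas hEA, map_sub, map_mul, map_pow, eq, sub_self, map_zero]
    haveI := hWaff.isLocalization_basicOpen (α x)
    obtain ⟨⟨_, k, rfl⟩, hk⟩ := (IsLocalization.map_eq_zero_iff (Submonoid.powers (α x))
      Γ(X, X.basicOpen (α x)) _).1 hz
    refine ⟨k + n, ?_⟩
    simp only [mul_sub, sub_eq_zero] at hk
    rw [pow_add, mul_assoc, hk]
    exact mul_mem (pow_mem (hαR x) _) hq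

end Fam

end Groth.Agent.H11Proj
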