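import Groth.Agent.H11Proj.PnGlobal
import Groth.Agent.H11Proj.FamilyAmple
import Groth.Agent.H11Ample.Restrict
import Groth.Agent.H11Ample.Converse
import Groth.Agent.H11Ample.AmpleOn

/-!
# Very ample sections over affine opens of the base
-/

set_option autoImplicit false
set_option linter.style.haveILetI false

noncomputable section

universe u

open CategoryTheory AlgebraicGeometry Opposite TopologicalSpace
open Groth.Agent.H11Tilde Groth.Agent.H11Ample

namespace Groth.Agent.H11Proj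

variable {X S : Scheme.{u}} {f : X ⟶ S} {M : X.Modules}

section restrict

variable (U : X.Opens)

/-- A function on an open subscheme as a function on the image. -/
abbrev toImgF {W : U.toScheme.Opens} (r : Γ(U.toScheme, W)) : Γ(X, U.ι ''ᵁ W) := r

theorem image_inf' (A B : U.toScheme.Opens) : U.ι ''ᵁ (A ⊓ B) = U.ι ''ᵁ A ⊓ U.ι ''ᵁ B :=
  Opens.ext (Set.image_inter U.ι.isOpenEmbedding.injective)

theorem toImg_smul' {W : U.toScheme.Opens} (r : Γ(U.toScheme, W)) (t : Γ(M.restrict U.ι, W)) :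
    toImg U M (r • t) = toImgF U r • toImg U M t := by
  rw [toImg_smul, Scheme.Opens.ι_appIso]; rfl

/-- A section over an open as a global section on the open subscheme. -/
def restrictTop (s : Γ(M, U)) : Γ(M.restrict U.ι, ⊤) := ofImg U M (resS M (U.ι_image_le ⊤) s)

/-- A global section on an open subscheme as a section over the open. -/
def extendTop (v : Γ(M.restrict U.ι, ⊤)) : Γ(M, U) := resS M U.ι_image_top.ge (toImg U M v)

theorem restrictTop_extendTop (v : Γ(M.restrict U.ι, ⊤)) : restrictTop U (extendTop U v) = v := by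
  unfold restrictTop extendTop
  rw [resS_resS]
  exact H10Coh.mres_self _ _ _

theorem res_restrictTop (s : Γ(M, U)) (W : U.toScheme.Opens) :
    toImg U M ((M.restrict U.ι).presheaf.map (homOfLE (le_top : W ≤ ⊤)).op (restrictTop U s)) =
      resS M (U.ι_image_le W) s :=
  (toImg_res U M (le_top : W ≤ ⊤) _).trans (resS_resS M (Scheme.Hom.image_mono U.ι le_top) (U.ι_image_le ⊤) s)

theorem isGen_toImg {W : U.toScheme.Opens} {t : Γ(M.restrict U.ι, W)} (ht : IsGen (M.restrict U.ι) t) :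
    IsGen M (toImg U M t) := by
  refine isGen_of_bijective fun V hV => ?_
  obtain ⟨V', rfl⟩ : ∃ V' : U.toScheme.Opens, U.ι ''ᵁ V' = V :=
    ⟨U.ι ⁻¹ᵁ V, by
      rw [Scheme.Hom.image_preimage_eq_opensRange_inf, Scheme.Opens.opensRange_ι,
        inf_eq_right.2 (hV.trans (U.ι_image_le W))]⟩
  have hV' : V' ≤ W := by
    have h := U.ι.preimage_mono hV
    rwa [Scheme.Hom.preimage_image_eq, Scheme.Hom.preimage_image_eq] at h
  refine Eq.mpr (congrArg Function.Bijective (funext fun r => ?_)) (ht.bijective hV')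
  exact (toImg_smul' U r _).symm

theorem image_gen (s : Γ(M, U)) : U.ι ''ᵁ gen (M.restrict U.ι) (restrictTop U s) = genAt M s := by
  refine le_antisymm ?_ ?_
  · refine le_genAt s (U.ι_image_le _) ?_
    rw [← res_restrictTop]
    exact isGen_toImg U (isGen_gen _)
  · have e : U.ι ''ᵁ (U.ι ⁻¹ᵁ genAt M s) = genAt M s := by
      rw [Scheme.Hom.image_preimage_eq_opensRange_inf, Scheme.Opens.opensRange_ι, inf_eq_right.2 (genAt_le s)]
    rw [← e]
    refine Scheme.Hom.image_mono U.ι fun y hy => mem_gen_of_isGen (W := U.ι ⁻¹ᵁ genAt M s) ?_ hy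
    have h := isGen_restrict U (isGen_genAt s) e.le
    have e2 : (M.restrict U.ι).presheaf.map (homOfLE (le_top : U.ι ⁻¹ᵁ genAt M s ≤ ⊤)).op (restrictTop U s) =
        ofImg U M (resS M e.le (resS M (genAt_le s) s)) :=
      (res_restrictTop U s _).trans (resS_resS M e.le (genAt_le s) s).symm
    rw [e2]
    exact h

end restrict

variable (f) in
/-- Sections over the preimage of an open of the base generate, with affine loci over affine opens inside it,
generated by the coefficients. -/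
structure VeryAmpleOn {V : S.Opens} {k : ℕ} (s : Fin k → Γ(M, f ⁻¹ᵁ V)) : Prop where
  cover : ∀ x : X, f.base x ∈ V → ∃ l, x ∈ genAt M (s l)
  affine : ∀ (l : Fin k) (W : S.Opens), IsAffineOpen W → W ≤ V → IsAffineOpen (genAt M (s l) ⊓ f ⁻¹ᵁ W)
  surj : ∀ (l : Fin k) (W : S.Opens), IsAffineOpen W → ∀ (hW : W ≤ V),
    gensRing f (chartAt (s l)) (fun m => resS M (f.preimage_mono hW) (s m)) = ⊤

theorem veryAmpleOn_of_globalVA {V : S.Opens} {k : ℕ} (s : Fin k → Γ(M, f ⁻¹ᵁ V))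
    (h : GlobalVA (f ∣_ V) (fun l => restrictTop (f ⁻¹ᵁ V) (s l))) : VeryAmpleOn f s := by
  let q := f ∣_ V
  let U' := f ⁻¹ᵁ V
  let v := fun l => restrictTop U' (s l)
  have hpre : ∀ {W : S.Opens}, IsAffineOpen W → W ≤ V →
      IsAffineOpen (V.ι ⁻¹ᵁ W) ∧ V.ι ''ᵁ (V.ι ⁻¹ᵁ W) = W := fun {W} hW hWV => by
    have e : V.ι ''ᵁ (V.ι ⁻¹ᵁ W) = W := by
      rw [Scheme.Hom.image_preimage_eq_opensRange_inf, Scheme.Opens.opensRange_ι, inf_eq_right.2 hWV]
    exact ⟨V.ι.isAffineOpen_iff_of_isOpenImmersion.1 (e.symm ▸ hW), e⟩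
  have himg : ∀ (l : Fin k) {W : S.Opens}, W ≤ V →
      U'.ι ''ᵁ (gen (M.restrict U'.ι) (v l) ⊓ q ⁻¹ᵁ (V.ι ⁻¹ᵁ W)) = genAt M (s l) ⊓ f ⁻¹ᵁ W := by
    intro l W hWV
    rw [image_inf', image_gen, image_morphismRestrict_preimage,
      Scheme.Hom.image_preimage_eq_opensRange_inf, Scheme.Opens.opensRange_ι, inf_eq_right.2 hWV]
  refine ⟨fun x hx => ?_, fun l W hW hWV => ?_, fun l W hW hWV => ?_⟩
  · obtain ⟨l, hl⟩ := h.cover ⟨x, hx⟩
    exact ⟨l, (image_gen U' (s l)).le ((Scheme.Opens.mem_ι_image_iff _).2 hl)⟩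
  · rw [← himg l hWV]
    exact (h.affine _ (hpre hW hWV).1 l).image_of_isOpenImmersion _
  · let a := chartAt (s l)
    let E' := gen (M.restrict U'.ι) (v l) ⊓ q ⁻¹ᵁ (V.ι ⁻¹ᵁ W)
    have eE : a.V ⊓ f ⁻¹ᵁ W = U'.ι ''ᵁ E' := (himg l hWV).symm
    let φ : Γ(U'.toScheme, E') →+* Γ(X, a.V ⊓ f ⁻¹ᵁ W) := resF eE.le
    let R := gensRing f a (fun m => resS M (f.preimage_mono hWV) (s m))
    suffices hR : Subring.closure (Set.range (q.appLE (V.ι ⁻¹ᵁ W) E' inf_le_right) ∪ globalCoefs v l E') ≤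
        R.comap φ by
      refine eq_top_iff.2 fun y _ => ?_
      have h1 : φ (resF eE.ge y) ∈ R := hR ((h.surj _ (hpre hW hWV).1 l).ge (Subring.mem_top (resF eE.ge y)))
      have h2 : φ (resF eE.ge y) = y := (resF_resF _ _ _).trans (resF_self y)
      rwa [h2] at h1
    rw [Subring.closure_le]
    rintro z (⟨r, rfl⟩ | ⟨m, hm⟩)
    · refine Subring.subset_closure (Or.inl ⟨S.presheaf.map (homOfLE (hpre hW hWV).2.ge).op r, ?_⟩)
      change _ = φ (q.appLE (V.ι ⁻¹ᵁ W) E' inf_le_right r)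
      rw [morphismRestrict_appLE]
      change _ = resF eE.le _
      rw [resF, ← ConcreteCategory.comp_apply, Scheme.Hom.map_appLE]
      exact (congr($(Scheme.Hom.appLE_map f _ _) r)).symm
    · refine Subring.subset_closure (Or.inr ⟨m, ?_⟩)
      have hm' := congrArg (fun t => resS M eE.le (toImg U' M t)) hm
      simp only [v, toImg_smul', res_restrictTop] at hm'
      rw [resS_resS, resS_smul, resS_resS] at hm'
      refine ((a.eq_coef (resS M (f.preimage_mono hWV) (s m)) (inf_le_left : a.V ⊓ f ⁻¹ᵁ W ≤ a.V)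
        inf_le_right (c := φ z) ?_).trans (resF_self _)).symm
      rw [resS_resS, resS_resS]
      exact hm'

/-- The converse for the sections over the whole open. -/
theorem VeryAmpleOn.global {V : S.Opens} (hV : IsAffineOpen V) {k : ℕ} {s : Fin k → Γ(M, f ⁻¹ᵁ V)}
    (hs : VeryAmpleOn f s) {k' : ℕ} (t : Fin k' → Γ(M, f ⁻¹ᵁ V)) (σ : Fin k → Fin k') (hσ : ∀ j, t (σ j) = s j) :
    (∀ x, ∃ j ∈ Set.range σ, x ∈ gen (M.restrict (f ⁻¹ᵁ V).ι) (restrictTop (f ⁻¹ᵁ V) (t j))) ∧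
      (∀ j ∈ Set.range σ, IsAffineOpen (gen (M.restrict (f ⁻¹ᵁ V).ι) (restrictTop (f ⁻¹ᵁ V) (t j)))) ∧
      ∀ j ∈ Set.range σ,
        Subring.closure (Set.range ((f ∣_ V).appLE ⊤ (gen (M.restrict (f ⁻¹ᵁ V).ι) (restrictTop (f ⁻¹ᵁ V) (t j))) le_top) ∪
          globalCoefs (fun l => restrictTop (f ⁻¹ᵁ V) (t l)) j
            (gen (M.restrict (f ⁻¹ᵁ V).ι) (restrictTop (f ⁻¹ᵁ V) (t j)))) = ⊤ := by
  let U' := f ⁻¹ᵁ V
  have himg : ∀ j, U'.ι ''ᵁ gen (M.restrict U'.ι) (restrictTop U' (s j)) = genAt M (s j) ⊓ f ⁻¹ᵁ V := fun j => by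
    rw [image_gen, inf_eq_left.2 (genAt_le _)]
  refine ⟨fun x => ?_, ?_, ?_⟩
  · obtain ⟨l, hl⟩ := hs.cover x.1 x.2
    refine ⟨σ l, ⟨l, rfl⟩, ?_⟩
    rw [hσ]
    exact (Scheme.Opens.mem_ι_image_iff _).1 ((image_gen U' (s l)).ge hl)
  · rintro _ ⟨l, rfl⟩
    rw [hσ, ← U'.ι.isAffineOpen_iff_of_isOpenImmersion, himg]
    exact hs.affine l V hV le_rfl
  · rintro _ ⟨l, rfl⟩
    suffices hh : ∀ G, G = gen (M.restrict U'.ι) (restrictTop U' (s l)) →
        Subring.closure (Set.range ((f ∣_ V).appLE ⊤ G le_top) ∪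
          globalCoefs (fun l => restrictTop U' (t l)) (σ l) G) = ⊤ from hh _ (by rw [hσ])
    rintro G rfl
    let a := chartAt (s l)
    let G := gen (M.restrict U'.ι) (restrictTop U' (s l))
    have eE : U'.ι ''ᵁ G = a.V ⊓ f ⁻¹ᵁ V := himg l
    let ψ : Γ(X, a.V ⊓ f ⁻¹ᵁ V) →+* Γ(U'.toScheme, G) := resF eE.le
    let R := Subring.closure (Set.range ((f ∣_ V).appLE ⊤ G le_top) ∪
      globalCoefs (fun l => restrictTop U' (t l)) (σ l) G)
    suffices hR : gensRing f a (fun m => resS M (f.preimage_mono (le_refl V)) (s m)) ≤ R.comap ψ by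
      refine eq_top_iff.2 fun y _ => ?_
      have h1 : ψ (resF eE.ge (y : Γ(X, U'.ι ''ᵁ G))) ∈ R :=
        hR ((hs.surj l V hV le_rfl).ge (Subring.mem_top _))
      have h2 : ψ (resF eE.ge (y : Γ(X, U'.ι ''ᵁ G))) = y := (resF_resF _ _ _).trans (resF_self _)
      rwa [h2] at h1
    rw [gensRing, Subring.closure_le]
    rintro z (⟨r, rfl⟩ | ⟨m, rfl⟩)
    · refine Subring.subset_closure (Or.inl ⟨S.presheaf.map (homOfLE V.ι_image_top.le).op r, ?_⟩)
      rw [morphismRestrict_appLE]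
      change _ = resF eE.le _
      exact (congr($(Scheme.Hom.map_appLE f _ _) r)).trans (congr($(Scheme.Hom.appLE_map f _ _) r)).symm
    · refine Subring.subset_closure (Or.inr ⟨σ m, ?_⟩)
      beta_reduce
      rw [hσ, hσ]
      have h := congrArg (resS M eE.le) (a.coef_spec (resS M (f.preimage_mono (le_refl V)) (s m)))
      rw [resS_smul, resS_resS, resS_resS, resS_resS, show a.e = resS M (genAt_le (s l)) (s l) from rfl,
        resS_resS] at h
      change toImg U' M _ = toImg U' M _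
      rw [toImg_smul', res_restrictTop, res_restrictTop]
      exact h

/-- Enlarging very ample sections over an affine open for a proper morphism. -/
theorem VeryAmpleOn.extend [IsProper f] (hM : PicF.IsInvertible M) {V : S.Opens} (hV : IsAffineOpen V) {k : ℕ}
    {s : Fin k → Γ(M, f ⁻¹ᵁ V)} (hs : VeryAmpleOn f s) {k' : ℕ} (t : Fin k' → Γ(M, f ⁻¹ᵁ V))
    (σ : Fin k → Fin k') (hσ : ∀ j, t (σ j) = s j) : VeryAmpleOn f t := by
  cases k' with
  | zero => exact ⟨fun x hx => (σ (hs.cover x hx).choose).elim0, fun l => l.elim0, fun l => l.elim0⟩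
  | succ n =>
    haveI : IsAffine V.toScheme := hV
    haveI : IsProper (f ∣_ V) := IsZariskiLocalAtTarget.restrict (P := @IsProper) inferInstance V
    have hM' : PicF.IsInvertible (M.restrict (f ⁻¹ᵁ V).ι) :=
      isInvertible_of_iso ((Scheme.Modules.restrictFunctorIsoPullback (f ⁻¹ᵁ V).ι).app M).symm
        (isInvertible_pullback _ hM)
    obtain ⟨h1, h2, h3⟩ := hs.global hV t σ hσ
    exact veryAmpleOn_of_globalVA t (globalVA_of_subfamily _ hM' _ _ h1 h2 h3)

theorem GlobalVA.iso {Y : Scheme.{u}} {q : X ⟶ Y} {N : X.Modules} {k : ℕ} {v : Fin k → Γ(M, ⊤)}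
    (h : GlobalVA q v) (φ : M ≅ N) : GlobalVA q fun l => φ.hom.app ⊤ (v l) := by
  refine ⟨fun x => ?_, fun U hU l => ?_, fun U hU l => ?_⟩
  · obtain ⟨l, hl⟩ := h.cover x
    exact ⟨l, by rw [gen_iso]; exact hl⟩
  · rw [gen_iso]
    exact h.affine U hU l
  · suffices hh : ∀ (G : X.Opens) (hG : G ≤ q ⁻¹ᵁ U), G = gen M (v l) ⊓ q ⁻¹ᵁ U →
        Subring.closure (Set.range (q.appLE U G hG) ∪ globalCoefs (fun l => φ.hom.app ⊤ (v l)) l G) = ⊤ from
      hh _ _ (by rw [gen_iso])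
    rintro G hG rfl
    rw [eq_top_iff, ← h.surj U hU l]
    refine Subring.closure_mono (Set.union_subset_union_right _ ?_)
    rintro c ⟨m, hm⟩
    refine ⟨m, ?_⟩
    rw [← app_map_apply, ← app_map_apply, hm, Scheme.Modules.Hom.app_smul]

/-- High powers of a relatively ample module have very ample sections over each affine open. -/
theorem eventually_veryAmpleOn [IsProper f] {L : X.Modules} (hL : RelAmple.IsRelAmple f L) {V : S.Opens}
    (hV : IsAffineOpen V) :
    ∃ m₀ : ℕ, ∀ m, m₀ ≤ m → ∃ (k : ℕ) (s : Fin k → Γ(CohB1.tensorPow L m, f ⁻¹ᵁ V)), VeryAmpleOn f s := by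
  haveI : IsAffine V.toScheme := hV
  haveI : IsProper (f ∣_ V) := IsZariskiLocalAtTarget.restrict (P := @IsProper) inferInstance V
  let U' := f ⁻¹ᵁ V
  have hA : CohB1.IsAmple ((Scheme.Modules.pullback U'.ι).obj L) :=
    (isAmple_restrict_iff L U').1 (hL.2 ⟨V, hV⟩)
  obtain ⟨m₀, h⟩ := eventually_globalVA (f ∣_ V) hA
  refine ⟨m₀, fun m hm => ?_⟩
  obtain ⟨n, v, hv⟩ := h m hm
  obtain ⟨ψ⟩ := exists_iso_pullback_tensorPow U'.ι (isInvertible_of_isRelAmple hL) m
  let φ := ψ.symm ≪≫ ((Scheme.Modules.restrictFunctorIsoPullback U'.ι).app (CohB1.tensorPow L m)).symm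
  refine ⟨n + 1, fun l => extendTop U' (φ.hom.app ⊤ (v l)), veryAmpleOn_of_globalVA _ ?_⟩
  have e : (fun l => restrictTop U' (extendTop U' (φ.hom.app ⊤ (v l)))) = fun l => φ.hom.app ⊤ (v l) :=
    funext fun l => restrictTop_extendTop U' _
  rw [e]
  exact hv.iso φ

end Groth.Agent.H11Proj
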