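import Groth.Agent.H11Proj.FamilyAmple
import Groth.Agent.H11Proj.ProjectiveProps

/-!
# The tautological family of sections of `O(1)` on a relative Proj
-/

set_option autoImplicit false
set_option linter.style.haveILetI false

noncomputable section

universe u

open CategoryTheory AlgebraicGeometry TopologicalSpace Opposite
open Groth.Agent.H11Tilde Groth.Agent.H11Ample

namespace Groth.Agent.H11Proj

section graded

variable {A σ : Type u} [CommRing A] [SetLike σ A] [AddSubgroupClass σ A] (𝒜 : ℕ → σ) [GradedRing 𝒜]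

/-- The section `a / 1` of `O(1)`. -/
def gs {a : A} (ha : a ∈ 𝒜 1) : Γ(GrTwist.twist 𝒜 1, ⊤) := GrTwist.globalOf 𝒜 (i := 1) ⟨a, ha⟩

theorem twist_ext {n : ℤ} {V : (Proj 𝒜).Opens} {s t : Γ(GrTwist.twist 𝒜 n, V)}
    (h : ∀ y : V, GrTwist.val s y = GrTwist.val t y) : s = t :=
  Subtype.ext (funext fun y => Subtype.ext (h y))

theorem val_smul {n : ℤ} {V : (Proj 𝒜).Opens} (r : Γ(Proj 𝒜, V)) (s : Γ(GrTwist.twist 𝒜 n, V)) (y : V) :
    GrTwist.val (r • s) y = fval 𝒜 r y * GrTwist.val s y := rfl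

theorem val_add {n : ℤ} {V : (Proj 𝒜).Opens} (s t : Γ(GrTwist.twist 𝒜 n, V)) (y : V) :
    GrTwist.val (s + t) y = GrTwist.val s y + GrTwist.val t y := rfl

theorem val_gs {a : A} (ha : a ∈ 𝒜 1) {V : (Proj 𝒜).Opens} (y : V) :
    GrTwist.val ((GrTwist.twist 𝒜 1).presheaf.map (homOfLE (le_top : V ≤ ⊤)).op (gs 𝒜 ha)) y =
      Localization.mk a ⟨1, one_notMem 𝒜 y.1⟩ := rfl

theorem gs_add {a b : A} (ha : a ∈ 𝒜 1) (hb : b ∈ 𝒜 1) {V : (Proj 𝒜).Opens} :
    (GrTwist.twist 𝒜 1).presheaf.map (homOfLE (le_top : V ≤ ⊤)).op (gs 𝒜 (add_mem ha hb)) =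
      (GrTwist.twist 𝒜 1).presheaf.map (homOfLE (le_top : V ≤ ⊤)).op (gs 𝒜 ha) +
        (GrTwist.twist 𝒜 1).presheaf.map (homOfLE (le_top : V ≤ ⊤)).op (gs 𝒜 hb) :=
  twist_ext 𝒜 fun y => by
    rw [val_add, val_gs, val_gs, val_gs, Localization.add_mk_self]

theorem smul_gs {c a : A} (ha : a ∈ 𝒜 1) (hca : c * a ∈ 𝒜 1) {V : (Proj 𝒜).Opens} (r : Γ(Proj 𝒜, V))
    (hr : ∀ y : V, fval 𝒜 r y = Localization.mk c ⟨1, one_notMem 𝒜 y.1⟩) :
    (GrTwist.twist 𝒜 1).presheaf.map (homOfLE (le_top : V ≤ ⊤)).op (gs 𝒜 hca) =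
      r • (GrTwist.twist 𝒜 1).presheaf.map (homOfLE (le_top : V ≤ ⊤)).op (gs 𝒜 ha) :=
  twist_ext 𝒜 fun y => by
    rw [val_smul, val_gs, val_gs, hr, Localization.mk_mul]
    exact congrArg (Localization.mk _) (Subtype.ext (one_mul 1).symm)

theorem isGen_gs {a : A} (ha : a ∈ 𝒜 1) :
    IsGen (GrTwist.twist 𝒜 1) ((GrTwist.twist 𝒜 1).presheaf.map
      (homOfLE (le_top : Proj.basicOpen 𝒜 a ≤ ⊤)).op (gs 𝒜 ha)) :=
  isGen_of_bijective fun W hW => by
    refine Eq.mpr (congrArg Function.Bijective (funext fun r => ?_))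
      (Groth.Agent.H11Tilde.bijective_smul_globalSec 𝒜 ha hW)
    rw [H10Coh.mres_mres]
    rfl

theorem gs_eq_ratio_smul {a f : A} (hf : f ∈ 𝒜 1) (ha : a ∈ 𝒜 1) :
    (GrTwist.twist 𝒜 1).presheaf.map (homOfLE (le_top : Proj.basicOpen 𝒜 f ≤ ⊤)).op (gs 𝒜 ha) =
      ratio 𝒜 hf ha •
        (GrTwist.twist 𝒜 1).presheaf.map (homOfLE (le_top : Proj.basicOpen 𝒜 f ≤ ⊤)).op (gs 𝒜 hf) := by
  refine twist_ext 𝒜 fun x => ?_
  rw [val_smul, val_gs, val_gs, fval_ratio, Localization.mk_mul]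
  exact Localization.mk_eq_mk_iff.2 (Localization.r_iff_exists.2 ⟨1, by simp [mul_comm]⟩)

theorem genLocus_gs (hgen : Subring.closure ((𝒜 0 : Set A) ∪ (𝒜 1 : Set A)) = ⊤) {a : A} (ha : a ∈ 𝒜 1) :
    gen (GrTwist.twist 𝒜 1) (gs 𝒜 ha) = Proj.basicOpen 𝒜 a := by
  refine le_antisymm (fun x hx => ?_) fun x hx => mem_gen_of_isGen (isGen_gs 𝒜 ha) hx
  obtain ⟨g, hg, hgx⟩ := exists_degOne_notMem 𝒜 hgen x
  have h := gen_inf_eq_basicOpen (isGen_gs 𝒜 hg) (gs 𝒜 ha) _ (gs_eq_ratio_smul 𝒜 hg ha)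
  have h2 := h.le ⟨hx, hgx⟩
  rw [basicOpen_ratio 𝒜 hg ha, Proj.basicOpen_mul] at h2
  exact h2.2

/-- The functions on `D₊(f)` are generated by the degree-zero constants and the ratios of generators. -/
theorem closure_ratio_eq_top {R : CommRingCat.{u}} (str : R ⟶ CommRingCat.of (𝒜 0)) {n : ℕ} (t : Fin (n + 1) → A)
    (ht : ∀ i, t i ∈ 𝒜 1) (hgen : Subring.closure ((𝒜 0 : Set A) ∪ (𝒜 1 : Set A)) = ⊤)
    (hspan : ∀ x ∈ 𝒜 1, ∃ c : Fin (n + 1) → R, x = ∑ i, (str.hom (c i) : A) * t i) {f : A} (hf : f ∈ 𝒜 1) :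
    Subring.closure ((Set.range fun r : R => ratio 𝒜 hf (str.hom r).2) ∪
      Set.range fun i => ratio 𝒜 hf (ht i)) = ⊤ := by
  classical
  refine eq_top_iff.2 fun y hy => ?_
  clear hy
  let R' := Subring.closure ((Set.range fun r : R => ratio 𝒜 hf (str.hom r).2) ∪
      Set.range fun i => ratio 𝒜 hf (ht i))
  let θ : A →+* Γ(Proj 𝒜, Proj.basicOpen 𝒜 f) := (Polynomial.evalRingHom 1).comp (dehom 𝒜 hf)
  have hθ : ∀ {k : ℕ} {a : A} (ha : a ∈ 𝒜 k), θ a = ratio 𝒜 hf ha := fun {k a} ha => by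
    simp only [θ, RingHom.comp_apply, dehom_of_mem 𝒜 hf ha, Polynomial.coe_evalRingHom, Polynomial.eval_monomial,
      one_pow, mul_one]
  obtain ⟨k, a, ha, rfl⟩ := exists_ratio 𝒜 hf y
  have ha' : a * f ∈ 𝒜 (k + 1) := SetLike.mul_mem_graded ha hf
  have e : ratio 𝒜 hf ha' = ratio 𝒜 hf ha := by
    rw [← hθ ha', map_mul, hθ ha, hθ hf, ratio_self, mul_one]
  obtain ⟨p, -, hp⟩ := DegOneProj.exists_polyHom_eq 𝒜 str t ht hgen hspan k.succ_pos ha'
  rw [← e, ← hθ ha', ← hp]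
  change θ (DegOneProj.polyHom 𝒜 str t ht p) ∈ R'
  clear hp
  induction p using MvPolynomial.induction_on with
  | C r =>
    have h : DegOneProj.polyHom 𝒜 str t ht (MvPolynomial.C r) = (str.hom r : A) :=
      MvPolynomial.eval₂Hom_C _ _ r
    rw [h, hθ (str.hom r).2]
    exact Subring.subset_closure (Or.inl ⟨r, rfl⟩)
  | add p q hp hq => rw [map_add, map_add]; exact add_mem hp hq
  | mul_X p i hp =>
    have h : DegOneProj.polyHom 𝒜 str t ht (MvPolynomial.X i) = t i := MvPolynomial.eval₂Hom_X' _ _ i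
    rw [map_mul, map_mul, h, hθ (ht i)]
    exact mul_mem hp (Subring.subset_closure (Or.inr ⟨i, rfl⟩))

/-- A morphism to `Spec R` through the degree-zero part, on a standard open. -/
theorem appLE_basicOpen {S : Scheme.{u}} {U : S.Opens} (hU : IsAffineOpen U)
    (str : Γ(S, U) ⟶ CommRingCat.of (𝒜 0)) {g : Proj 𝒜 ⟶ S}
    (hg : g = Proj.toSpecZero 𝒜 ≫ Spec.map str ≫ hU.fromSpec) {a : A} (ha : a ∈ 𝒜 1)
    (e : Proj.basicOpen 𝒜 a ≤ g ⁻¹ᵁ U) (r : Γ(S, U)) :
    g.appLE U (Proj.basicOpen 𝒜 a) e r = ratio 𝒜 ha (str.hom r).2 := by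
  let D := Proj.basicOpen 𝒜 a
  let φ := str ≫ CommRingCat.ofHom (HomogeneousLocalization.fromZeroRingHom 𝒜 (.powers a)) ≫ Proj.awayToSection 𝒜 a
  have hι : D.ι = (Proj.basicOpenIsoSpec 𝒜 a ha one_pos).hom ≫ Proj.awayι 𝒜 a ha one_pos := by
    rw [← Proj.basicOpenIsoSpec_inv_ι, Iso.hom_inv_id_assoc]
  have h1 : D.ι ≫ g = D.toSpecΓ ≫ Spec.map φ ≫ hU.fromSpec := by
    subst hg
    rw [hι, Category.assoc, Proj.awayι_toSpecZero_assoc, Proj.basicOpenIsoSpec_hom]
    simp only [φ, D, Proj.basicOpenToSpec, Category.assoc, Spec.map_comp]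
  have hD : IsAffineOpen D := Proj.isAffineOpen_basicOpen 𝒜 a ha one_pos
  rw [ι_comp_eq_fromSpec g hU D e] at h1
  haveI : IsIso D.toSpecΓ := by rw [← hD.isoSpec_hom]; infer_instance
  have h2 : g.appLE U D e = φ :=
    Spec.map_injective ((cancel_mono hU.fromSpec).1 ((cancel_epi D.toSpecΓ).1 h1))
  rw [h2]
  refine congrArg (Proj.awayToSection 𝒜 a) (HomogeneousLocalization.val_injective _ ?_)
  rw [HomogeneousLocalization.Away.val_mk]
  exact congrArg (Localization.mk ((str.hom r : A))) (Subtype.ext (pow_zero a).symm)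

end graded

variable {S P : Scheme.{u}} {𝒮 : RelProj.QCGrAlg S} {p : P ⟶ S}
  {chart : ∀ (U : S.Opens) (hU : IsAffineOpen U), (((p ⁻¹ᵁ U : P.Opens) : Scheme.{u}) ≅ Proj (𝒮.deg U hU))}
  {L : P.Modules} {lam : ∀ (U : S.Opens) (hU : IsAffineOpen U),
    L ⟶ (Scheme.Modules.pushforward (RelProj.emb p chart U hU)).obj (GrTwist.twist (𝒮.deg U hU) 1)}
  (hgen : 𝒮.IsGenDegOne) (hP : RelProj.IsRelProj 𝒮 p chart) (hL : RelProj.IsRelTwist 𝒮 p chart 1 L lam)

namespace Taut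

variable {U : S.Opens} (hU : IsAffineOpen U)

/-- The identification over `U`, on sections. -/
abbrev lamApp (lam : ∀ (U : S.Opens) (hU : IsAffineOpen U),
    L ⟶ (Scheme.Modules.pushforward (RelProj.emb p chart U hU)).obj (GrTwist.twist (𝒮.deg U hU) 1))
    (W : P.Opens) (s : Γ(L, W)) : Γ(GrTwist.twist (𝒮.deg U hU) 1, RelProj.emb p chart U hU ⁻¹ᵁ W) :=
  (lam U hU).app W s

theorem lamApp_smul (W : P.Opens) (r : Γ(P, W)) (s : Γ(L, W)) :
    lamApp hU lam W (r • s) = (RelProj.emb p chart U hU).app W r • lamApp hU lam W s :=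
  Scheme.Modules.Hom.app_smul (lam U hU) r s

include hL in
/-- The section of `L` of a degree-one element. -/
theorem exists_tw {a : 𝒮.presheaf.obj (op U)} (ha : a ∈ 𝒮.deg U hU 1) :
    ∃ s : Γ(L, p ⁻¹ᵁ U), lamApp hU lam _ s = (GrTwist.twist (𝒮.deg U hU) 1).presheaf.map
      (homOfLE le_top).op (gs (𝒮.deg U hU) ha) :=
  (hL.bijective U hU _ le_rfl).2 _

/-- The section of `L` of a degree-one element. -/
def tw {a : 𝒮.presheaf.obj (op U)} (ha : a ∈ 𝒮.deg U hU 1) : Γ(L, p ⁻¹ᵁ U) := (exists_tw hL hU ha).choose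

theorem tw_res {a : 𝒮.presheaf.obj (op U)} (ha : a ∈ 𝒮.deg U hU 1) {W : P.Opens} (h : W ≤ p ⁻¹ᵁ U) :
    lamApp hU lam W (resS L h (tw hL hU ha)) = (GrTwist.twist (𝒮.deg U hU) 1).presheaf.map
      (homOfLE le_top).op (gs (𝒮.deg U hU) ha) := by
  have h1 : lamApp hU lam W (resS L h (tw hL hU ha)) = (GrTwist.twist (𝒮.deg U hU) 1).presheaf.map
      (homOfLE ((RelProj.emb p chart U hU).preimage_mono h)).op (lamApp hU lam _ (tw hL hU ha)) :=
    app_map_apply (lam U hU) h (tw hL hU ha)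
  rw [h1, show lamApp hU lam _ (tw hL hU ha) = _ from (exists_tw hL hU ha).choose_spec, H10Coh.mres_mres]

theorem bijective_emb_app {W : P.Opens} (h : W ≤ p ⁻¹ᵁ U) :
    Function.Bijective ((RelProj.emb p chart U hU).app W) := by
  haveI := (RelProj.emb p chart U hU).isIso_app W (h.trans (opensRange_emb p chart U hU).ge)
  exact ConcreteCategory.bijective_of_isIso _

include hgen hL in
theorem genAt_tw {a : 𝒮.presheaf.obj (op U)} (ha : a ∈ 𝒮.deg U hU 1) :
    genAt L (tw hL hU ha) = RelProj.emb p chart U hU ''ᵁ Proj.basicOpen (𝒮.deg U hU) a := by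
  let j := RelProj.emb p chart U hU
  let T := GrTwist.twist (𝒮.deg U hU) 1
  let g := gs (𝒮.deg U hU) ha
  have hrange : ∀ W : (Proj (𝒮.deg U hU)).Opens, j ''ᵁ W ≤ p ⁻¹ᵁ U := fun W =>
    ((j.image_mono le_top).trans (j.image_top_eq_opensRange).le).trans (opensRange_emb p chart U hU).le
  have hiff : ∀ (W : P.Opens) (h : W ≤ p ⁻¹ᵁ U), (Function.Bijective fun r : Γ(P, W) => r • resS L h (tw hL hU ha)) ↔
      Function.Bijective fun r : Γ(Proj (𝒮.deg U hU), j ⁻¹ᵁ W) =>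
        r • T.presheaf.map (homOfLE (le_top : j ⁻¹ᵁ W ≤ ⊤)).op g := by
    intro W h
    have e : (lamApp hU lam W) ∘ (fun r : Γ(P, W) => r • resS L h (tw hL hU ha)) =
        (fun r : Γ(Proj (𝒮.deg U hU), j ⁻¹ᵁ W) =>
          r • T.presheaf.map (homOfLE (le_top : j ⁻¹ᵁ W ≤ ⊤)).op g) ∘ (j.app W) :=
      funext fun r => by
        change lamApp hU lam W (r • resS L h (tw hL hU ha)) = _
        rw [lamApp_smul, tw_res hL hU ha h]
        rfl
    rw [← Function.Bijective.of_comp_iff' (hL.bijective U hU W h),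
      ← Function.Bijective.of_comp_iff _ (bijective_emb_app (chart := chart) hU h)]
    exact Iff.of_eq (congrArg Function.Bijective e)
  refine le_antisymm ?_ ?_
  · let G := j ⁻¹ᵁ genAt L (tw hL hU ha)
    have hG : G ≤ Proj.basicOpen (𝒮.deg U hU) a := by
      have hloc : gen T g = Proj.basicOpen (𝒮.deg U hU) a :=
        genLocus_gs (𝒮.deg U hU) (hgen U hU) ha
      intro y hy
      refine hloc.le (mem_gen_of_isGen (W := G) (isGen_of_bijective fun W hW => ?_) hy)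
      have hW' : j ''ᵁ W ≤ genAt L (tw hL hU ha) := fun x hx => by
        obtain ⟨z, hz, rfl⟩ := hx
        exact hW hz
      have h2 := (isGen_genAt (tw hL hU ha)).bijective hW'
      simp only [resS, H10Coh.mres_mres] at h2
      have h3 := (hiff (j ''ᵁ W) (hrange W)).1 h2
      have key : ∀ W' : (Proj (𝒮.deg U hU)).Opens, W' = W →
          (Function.Bijective fun r : Γ(Proj (𝒮.deg U hU), W') =>
            r • T.presheaf.map (homOfLE (le_top : W' ≤ ⊤)).op g) →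
          Function.Bijective fun r : Γ(Proj (𝒮.deg U hU), W) =>
            r • T.presheaf.map (homOfLE (le_top : W ≤ ⊤)).op g := by
        rintro W' rfl h; exact h
      refine Eq.mpr (congrArg Function.Bijective (funext fun r => ?_)) (key _ (j.preimage_image_eq W) h3)
      rw [H10Coh.mres_mres]
    intro x hx
    obtain ⟨y, rfl⟩ := (opensRange_emb p chart U hU).ge (genAt_le _ hx)
    exact ⟨y, hG hx, rfl⟩
  · refine le_genAt _ (hrange _) (isGen_of_bijective fun W hW => ?_)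
    have h2 := (isGen_gs (𝒮.deg U hU) ha).bijective
      (fun y hy => by
        obtain ⟨z, hz, e⟩ := hW (show j.base y ∈ W from hy)
        exact j.isOpenEmbedding.injective e ▸ hz : j ⁻¹ᵁ W ≤ Proj.basicOpen (𝒮.deg U hU) a)
    simp only [H10Coh.mres_mres] at h2
    have h3 := (hiff W (hW.trans (hrange _))).2 h2
    simp only [resS, H10Coh.mres_mres] at h3 ⊢
    exact h3

include hgen hP in
/-- The value of a function pulled back from the base. -/
theorem fval_app (r : Γ(S, U)) (y : RelProj.emb p chart U hU ⁻¹ᵁ (p ⁻¹ᵁ U)) :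
    fval (𝒮.deg U hU) ((RelProj.emb p chart U hU).app (p ⁻¹ᵁ U) (p.app U r)) y =
      Localization.mk ((𝒮.str.app (op U)).hom r) ⟨1, one_notMem (𝒮.deg U hU) y.1⟩ := by
  obtain ⟨a, ha, hay⟩ := exists_degOne_notMem (𝒮.deg U hU) (hgen U hU) y.1
  let j := RelProj.emb p chart U hU
  let D := Proj.basicOpen (𝒮.deg U hU) a
  have hD : D ≤ j ⁻¹ᵁ (p ⁻¹ᵁ U) := fun z _ => (opensRange_emb p chart U hU).le ⟨z, rfl⟩
  have hg : j ≫ p = Proj.toSpecZero (𝒮.deg U hU) ≫ Spec.map (𝒮.strZero U hU) ≫ hU.fromSpec := by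
    rw [show j = (chart U hU).inv ≫ (p ⁻¹ᵁ U).ι from rfl, Category.assoc, ← hP.chart_over U hU,
      Iso.inv_hom_id_assoc]
  have h1 := appLE_basicOpen (𝒮.deg U hU) hU (𝒮.strZero U hU) hg ha hD r
  have h2 : (j ≫ p).appLE U D hD r = (Proj (𝒮.deg U hU)).presheaf.map (homOfLE hD).op (j.app _ (p.app U r)) := rfl
  rw [h2] at h1
  have h3 := congrArg (fun z => fval (𝒮.deg U hU) z (⟨y.1, hay⟩ : D)) h1
  simp only [fval_map, fval_ratio] at h3
  refine h3.trans (congrArg (Localization.mk _) (Subtype.ext ?_))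
  exact pow_zero a

theorem tw_congr {a b : 𝒮.presheaf.obj (op U)} (e : a = b) (ha : a ∈ 𝒮.deg U hU 1) (hb : b ∈ 𝒮.deg U hU 1) :
    tw hL hU ha = tw hL hU hb := by
  subst e; rfl

theorem tw_ext {s t : Γ(L, p ⁻¹ᵁ U)} (hL : RelProj.IsRelTwist 𝒮 p chart 1 L lam)
    (h : lamApp hU lam _ s = lamApp hU lam _ t) : s = t := (hL.bijective U hU _ le_rfl).1 h

theorem tw_add {a b : 𝒮.presheaf.obj (op U)} (ha : a ∈ 𝒮.deg U hU 1) (hb : b ∈ 𝒮.deg U hU 1) :
    tw hL hU (add_mem ha hb) = tw hL hU ha + tw hL hU hb := by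
  refine tw_ext hU hL ?_
  rw [show tw hL hU (add_mem ha hb) = resS L le_rfl (tw hL hU (add_mem ha hb)) from (H10Coh.mres_self _ _ _).symm,
    tw_res, lamApp, map_add,
    show (lam U hU).app _ (tw hL hU ha) = _ from (exists_tw hL hU ha).choose_spec,
    show (lam U hU).app _ (tw hL hU hb) = _ from (exists_tw hL hU hb).choose_spec]
  exact gs_add (𝒮.deg U hU) ha hb

include hgen hP in
theorem tw_smul (r : Γ(S, U)) {a : 𝒮.presheaf.obj (op U)} (ha : a ∈ 𝒮.deg U hU 1)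
    (h : (𝒮.str.app (op U)).hom r * a ∈ 𝒮.deg U hU 1) : tw hL hU h = p.app U r • tw hL hU ha := by
  refine tw_ext hU hL ?_
  rw [lamApp_smul, show lamApp hU lam _ (tw hL hU ha) = _ from (exists_tw hL hU ha).choose_spec,
    show lamApp hU lam _ (tw hL hU h) = _ from (exists_tw hL hU h).choose_spec]
  exact smul_gs (𝒮.deg U hU) ha h _ fun y => fval_app hgen hP hU r y

include hP in
theorem tw_res_basicOpen {V : S.Opens} (hV : IsAffineOpen V) (r : Γ(S, U)) (e : V = S.basicOpen r) (i : V ≤ U)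
    {a : 𝒮.presheaf.obj (op U)} (ha : a ∈ 𝒮.deg U hU 1) :
    resS L (p.preimage_mono i) (tw hL hU ha) = tw hL hV (𝒮.map_mem hU hV i ha) := by
  subst e
  refine tw_ext hV hL ?_
  rw [show lamApp hV lam _ (tw hL hV (𝒮.map_mem hU hV i ha)) = _ from
    (exists_tw hL hV (𝒮.map_mem hU hV i ha)).choose_spec]
  refine twist_ext (𝒮.deg _ hV) fun y => ?_
  have hy' : (RelProj.emb p chart U hU).base (ProjectiveSpectrum.comap
      (𝒮.res hU (hU.basicOpen r) (S.basicOpen_le r)) (𝒮.irrelevant_le_map U hU r) y.1) ∈ p ⁻¹ᵁ S.basicOpen r := by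
    have h := y.2
    rw [Scheme.Hom.mem_preimage] at h
    have e := RelProj.map_res_emb (chart := chart) hP U hU r
    rw [← congrArg (fun φ => φ.base y.1) e] at h
    exact h
  refine (hL.compat U hU r (p ⁻¹ᵁ S.basicOpen r) (resS L (p.preimage_mono i) (tw hL hU ha)) y.1 y.2 hy').trans ?_
  rw [show (lam U hU).app _ (resS L (p.preimage_mono i) (tw hL hU ha)) = _ from tw_res hL hU ha (p.preimage_mono i)]
  refine (GrTwist.locMap_mk _ _ _ a ⟨1, _⟩).trans ?_
  exact congrArg (Localization.mk _) (Subtype.ext (map_one _))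

end Taut

/-- A family of sections over affine opens, generating, with affine loci whose functions are generated by the
functions of the base and the coefficients. -/
structure Fam.IsAmpleData {X : Scheme.{u}} {f : X ⟶ S} {M : X.Modules} (Y : Fam f M) : Prop where
  aff : ∀ i, IsAffineOpen (Y.O i)
  dom : Y.dom = ⊤
  invertible : PicF.IsInvertible M
  cover : ∀ (i : Y.ι) (x : X), f.base x ∈ Y.O i → ∃ l, x ∈ genAt M (Y.g i l)
  affine : ∀ (i : Y.ι) (l : Fin (Y.k i)), IsAffineOpen (genAt M (Y.g i l))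
  surj : ∀ (i : Y.ι) (l : Fin (Y.k i)), gensRing f (chartAt (Y.g i l)) (Y.g i) = ⊤

/-- In degree one the restrictions to a basic open span. -/
theorem span_res_deg_one {U V : S.Opens} (hU : IsAffineOpen U) (hV : IsAffineOpen V) (r : Γ(S, U))
    (e : V = S.basicOpen r) (i : V ≤ U) {n : ℕ} (t : Fin (n + 1) → 𝒮.presheaf.obj (op U))
    (hspan : ∀ x ∈ 𝒮.deg U hU 1, ∃ c : Fin (n + 1) → Γ(S, U),
      x = ∑ l, (((𝒮.strZero U hU).hom (c l) : _) : 𝒮.presheaf.obj (op U)) * t l)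
    {b : 𝒮.presheaf.obj (op V)} (hb : b ∈ 𝒮.deg V hV 1) :
    ∃ c : Fin (n + 1) → Γ(S, V), b = ∑ l, (𝒮.str.app (op V)).hom (c l) * (𝒮.presheaf.map (homOfLE i).op).hom (t l) := by
  subst e
  let c₀ : 𝒮.deg U hU 0 := ⟨(𝒮.str.app (op U)).hom r, 𝒮.str_mem U hU r⟩
  let ψ := 𝒮.res hU hV i
  have hloc : letI := ψ.toRingHom.toAlgebra
      IsLocalization.Away ((c₀ : 𝒮.deg U hU 0) : 𝒮.presheaf.obj (op U)) (𝒮.presheaf.obj (op (S.basicOpen r))) :=
    𝒮.isQC U hU r
  obtain ⟨k, a, ha, hk⟩ := exists_eq_map ψ c₀ hloc hb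
  obtain ⟨c, hc⟩ := hspan a ha
  have hstr : ∀ z : Γ(S, U), (𝒮.presheaf.map (homOfLE i).op).hom ((𝒮.str.app (op U)).hom z) =
      (𝒮.str.app (op (S.basicOpen r))).hom (S.presheaf.map (homOfLE i).op z) := fun z =>
    (ConcreteCategory.congr_hom (𝒮.str.naturality (homOfLE i).op) z).symm
  obtain ⟨v, hv⟩ : IsUnit (S.presheaf.map (homOfLE i).op (r ^ k)) := by
    haveI := hU.isLocalization_basicOpen r
    exact IsLocalization.map_units (M := Submonoid.powers r) Γ(S, S.basicOpen r) ⟨_, k, rfl⟩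
  refine ⟨fun l => (↑v⁻¹ : Γ(S, S.basicOpen r)) * S.presheaf.map (homOfLE i).op (c l), ?_⟩
  have h1 : (𝒮.presheaf.map (homOfLE i).op).hom a = ∑ l, (𝒮.str.app (op (S.basicOpen r))).hom
      (S.presheaf.map (homOfLE i).op (c l)) * (𝒮.presheaf.map (homOfLE i).op).hom (t l) := by
    rw [hc, map_sum]
    refine Finset.sum_congr rfl fun l _ => ?_
    rw [map_mul]
    exact congrArg (· * _) (hstr (c l))
  simp only [map_mul, mul_assoc]
  rw [← Finset.mul_sum, ← h1]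
  have h2 : (𝒮.presheaf.map (homOfLE i).op).hom a = b * (𝒮.str.app (op (S.basicOpen r))).hom ↑v := by
    rw [hv, ← hstr, map_pow, map_pow]
    exact hk.symm
  rw [h2, mul_comm b, ← mul_assoc, ← map_mul, Units.inv_mul, map_one, one_mul]

namespace Taut

include hgen hP hL in
/-- The tautological family. -/
theorem exists_fam (hft : 𝒮.IsFTDeg 1) : ∃ Y : Fam p L, Y.IsAmpleData := by
  classical
  have hdata : ∀ U : S.affineOpens, ∃ (n : ℕ) (t : Fin (n + 1) → 𝒮.presheaf.obj (op U.1)),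
      (∀ l, t l ∈ 𝒮.deg U.1 U.2 1) ∧ ∀ x ∈ 𝒮.deg U.1 U.2 1, ∃ c : Fin (n + 1) → Γ(S, U.1),
        x = ∑ l, (((𝒮.strZero U.1 U.2).hom (c l) : _) : 𝒮.presheaf.obj (op U.1)) * t l := by
    rintro ⟨U, hU⟩
    obtain ⟨T, hT, hspan⟩ := hft U hU
    let e := T.equivFin.symm
    refine ⟨T.card, Fin.cons 0 fun i => (e i : 𝒮.presheaf.obj (op U)), Fin.cases (zero_mem _) fun i => hT (e i).2,
      fun x hx => ?_⟩
    obtain ⟨c, rfl⟩ := hspan x hx
    refine ⟨Fin.cons 0 fun i => c (e i : 𝒮.presheaf.obj (op U)), ?_⟩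
    rw [Fin.sum_univ_succ]
    erw [Fin.cons_zero, mul_zero, zero_add]
    simp only [Fin.cons_succ]
    rw [Equiv.sum_comp e fun t : T => (((𝒮.strZero U hU).hom (c t) : _) : 𝒮.presheaf.obj (op U)) * t]
    exact (Finset.sum_coe_sort T fun t => (𝒮.str.app (op U)).hom (c t) * t).symm
  choose n t ht hspan using hdata
  let g : ∀ U : S.affineOpens, Fin (n U + 1) → Γ(L, p ⁻¹ᵁ U.1) := fun U l => tw hL U.2 (ht U l)
  let Y : Fam p L :=
    { ι := S.affineOpens
      O := fun U => U.1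
      k := fun U => n U + 1
      g := g
      compat := fun U U' l x hx => by
        obtain ⟨r, r', hrr, hxr⟩ := exists_basicOpen_le_affine_inter U.2 U'.2 x hx
        let V := S.basicOpen r'
        have hVU : V ≤ U.1 := hrr.ge.trans (S.basicOpen_le r)
        have hVU' : V ≤ U'.1 := S.basicOpen_le r'
        have hV : IsAffineOpen V := U'.2.basicOpen r'
        refine ⟨V, hVU, hVU', hrr.le hxr, ?_⟩
        have e1 : resS L (p.preimage_mono hVU) (g U l) = _ := tw_res_basicOpen hP hL U.2 hV r hrr.symm hVU (ht U l)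
        rw [e1]
        obtain ⟨c, hc⟩ := span_res_deg_one U'.2 hV r' rfl hVU' (t U') (hspan U') (𝒮.map_mem U.2 hV hVU (ht U l))
        have hmem : ∀ m, (𝒮.str.app (op V)).hom (c m) * (𝒮.presheaf.map (homOfLE hVU').op).hom (t U' m) ∈
            𝒮.deg V hV 1 := fun m => by
          simpa using SetLike.mul_mem_graded (𝒮.str_mem V hV (c m)) (𝒮.map_mem U'.2 hV hVU' (ht U' m))
        suffices h : ∀ (F : Finset (Fin (n U' + 1))) (h : ∑ m ∈ F, (𝒮.str.app (op V)).hom (c m) *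
            (𝒮.presheaf.map (homOfLE hVU').op).hom (t U' m) ∈ 𝒮.deg V hV 1),
            SpanBy p L (fun m => resS L (p.preimage_mono hVU') (g U' m)) (tw hL hV h) by
          have hc' : ∑ m, (𝒮.str.app (op V)).hom (c m) * (𝒮.presheaf.map (homOfLE hVU').op).hom (t U' m) ∈
              𝒮.deg V hV 1 := sum_mem fun m _ => hmem m
          rw [tw_congr hL hV hc _ hc']
          exact h _ hc'
        intro F
        induction F using Finset.induction with
        | empty =>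
          intro h
          have h0 := tw_add hL hV h h
          rw [tw_congr hL hV (by simp) (add_mem h h) h, left_eq_add] at h0
          rw [h0]
          exact SpanBy.zero
        | insert m F hm ih =>
          intro h
          rw [tw_congr hL hV (Finset.sum_insert hm) h (add_mem (hmem m) (sum_mem fun m _ => hmem m)),
            tw_add hL hV (hmem m) (sum_mem fun m _ => hmem m)]
          refine SpanBy.add ?_ (ih _)
          rw [tw_smul hgen hP hL hV (c m) (𝒮.map_mem U'.2 hV hVU' (ht U' m)),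
            ← tw_res_basicOpen hP hL U'.2 hV r' rfl hVU' (ht U' m)]
          exact SpanBy.smul _ (SpanBy.self (g := fun m => resS L (p.preimage_mono hVU') (g U' m)) m) }
  refine ⟨Y, ⟨fun U => U.2, ?_, ?_, ?_, ?_, ?_⟩⟩
  · refine eq_top_iff.2 fun x _ => ?_
    obtain ⟨W, hW, hx⟩ := exists_isAffineOpen_mem x
    exact Opens.mem_iSup.2 ⟨⟨W, hW⟩, hx⟩
  · refine isInvertible_of_gen fun x => ?_
    obtain ⟨W, hW, hx⟩ := exists_isAffineOpen_mem (p x)
    obtain ⟨y, rfl⟩ := (opensRange_emb p chart W hW).ge (show x ∈ p ⁻¹ᵁ W from hx)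
    obtain ⟨a, ha, hay⟩ := exists_degOne_notMem (𝒮.deg W hW) (hgen W hW) y
    exact ⟨_, _, (genAt_tw hgen hL hW ha).ge ⟨y, hay, rfl⟩, isGen_genAt (tw hL hW ha)⟩
  · rintro U x hx
    obtain ⟨y, rfl⟩ := (opensRange_emb p chart U.1 U.2).ge (show x ∈ p ⁻¹ᵁ U.1 from hx)
    obtain ⟨a, ha, hay⟩ := exists_degOne_notMem (𝒮.deg U.1 U.2) (hgen U.1 U.2) y
    obtain ⟨c, rfl⟩ := hspan U a ha
    obtain ⟨l, hl⟩ : ∃ l, t U l ∉ y.asHomogeneousIdeal := by
      by_contra h
      push Not at h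
      exact hay (sum_mem fun l _ => Ideal.mul_mem_left _ _ (h l))
    exact ⟨l, (genAt_tw hgen hL U.2 (ht U l)).ge ⟨y, hl, rfl⟩⟩
  · intro U l
    rw [show genAt L (Y.g U l) = _ from genAt_tw hgen hL U.2 (ht U l)]
    exact (Proj.isAffineOpen_basicOpen (𝒮.deg U.1 U.2) _ (ht U l) one_pos).image_of_isOpenImmersion _
  · intro U l
    let a := chartAt (Y.g U l)
    let j := RelProj.emb p chart U.1 U.2
    let 𝒜 := 𝒮.deg U.1 U.2
    let f₀ := t U l
    let W := a.V ⊓ p ⁻¹ᵁ U.1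
    have hW : W ≤ p ⁻¹ᵁ U.1 := inf_le_right
    have hD : j ⁻¹ᵁ W = Proj.basicOpen 𝒜 f₀ := by
      have e : W = j ''ᵁ Proj.basicOpen 𝒜 f₀ :=
        (inf_eq_left.2 (genAt_le _)).trans (genAt_tw hgen hL U.2 (ht U l))
      rw [e, j.preimage_image_eq]
    let φ : Γ(P, W) →+* Γ(Proj 𝒜, Proj.basicOpen 𝒜 f₀) := (resF hD.ge).comp (j.app W).hom
    have hφ : Function.Injective φ := by
      intro y z e
      haveI : IsIso (homOfLE hD.ge) := homOfLE_isIso_of_eq _ hD.symm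
      exact (bijective_emb_app (chart := chart) U.2 hW).1
        ((ConcreteCategory.bijective_of_isIso ((Proj 𝒜).presheaf.map (homOfLE hD.ge).op)).1 e)
    let R := gensRing p a (Y.g U)
    suffices h : Subring.closure ((Set.range fun r : Γ(S, U.1) => ratio 𝒜 (ht U l) ((𝒮.strZero U.1 U.2).hom r).2) ∪
        Set.range fun i => ratio 𝒜 (ht U l) (ht U i)) ≤ R.map φ by
      refine eq_top_iff.2 fun y _ => ?_
      obtain ⟨z, hz, e⟩ := h ((closure_ratio_eq_top 𝒜 (𝒮.strZero U.1 U.2) (t U) (ht U) (hgen U.1 U.2)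
        (hspan U) (ht U l)).ge (Subring.mem_top (φ y)))
      exact hφ e ▸ hz
    rw [Subring.closure_le]
    rintro z (⟨r, rfl⟩ | ⟨m, rfl⟩)
    · refine ⟨p.appLE U.1 W hW r, Subring.subset_closure (Or.inl ⟨r, rfl⟩), ?_⟩
      have hg : j ≫ p = Proj.toSpecZero 𝒜 ≫ Spec.map (𝒮.strZero U.1 U.2) ≫ U.2.fromSpec := by
        rw [show j = (chart U.1 U.2).inv ≫ (p ⁻¹ᵁ U.1).ι from rfl, Category.assoc, ← hP.chart_over U.1 U.2,
          Iso.inv_hom_id_assoc]
      have hle : Proj.basicOpen 𝒜 f₀ ≤ (j ≫ p) ⁻¹ᵁ U.1 := hD.ge.trans (j.preimage_mono hW)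
      refine Eq.trans ?_ (appLE_basicOpen 𝒜 U.2 (𝒮.strZero U.1 U.2) hg (ht U l) hle r)
      rw [← Scheme.Hom.appLE_comp_appLE j p U.1 W (Proj.basicOpen 𝒜 f₀) hW hD.ge]
      rfl
    · refine ⟨a.coef (Y.g U m), Subring.subset_closure (Or.inr ⟨m, rfl⟩), ?_⟩
      let T := GrTwist.twist 𝒜 1
      have h1 := congrArg (T.presheaf.map (homOfLE hD.ge).op)
        (congrArg (lamApp U.2 lam W) (a.coef_spec (Y.g U m)))
      have hel : resS L (inf_le_left : W ≤ a.V) a.e = resS L hW (Y.g U l) := resS_resS L _ (genAt_le _) _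
      rw [hel, lamApp_smul, Scheme.Modules.map_smul, show lamApp U.2 lam W (resS L hW (Y.g U m)) = _ from
          tw_res hL U.2 (ht U m) hW,
        show lamApp U.2 lam W (resS L hW (Y.g U l)) = _ from tw_res hL U.2 (ht U l) hW,
        H10Coh.mres_mres, H10Coh.mres_mres, gs_eq_ratio_smul 𝒜 (ht U l) (ht U m)] at h1
      have h2 := ((isGen_gs 𝒜 (ht U l)).bijective le_rfl).1
        (a₁ := φ (a.coef (Y.g U m))) (a₂ := ratio 𝒜 (ht U l) (ht U m))
        (by beta_reduce; rw [H10Coh.mres_self]; exact h1.symm)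
      exact h2

end Taut

end Groth.Agent.H11Proj
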