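import Groth.Agent.H11Proj.VeryAmpleOn

/-!
# Proper morphisms with a relatively ample module over a qcqs base are projective
-/

set_option autoImplicit false
set_option linter.style.haveILetI false

noncomputable section

universe u

open CategoryTheory AlgebraicGeometry Opposite TopologicalSpace
open Groth.Agent.H11Tilde Groth.Agent.H11Ample

namespace Groth.Agent.H11Proj

variable {X S : Scheme.{u}} {f : X ⟶ S} {L : X.Modules}

namespace Fam

/-- One family of sections over one open. -/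
def single {V : S.Opens} {k : ℕ} (s : Fin k → Γ(L, f ⁻¹ᵁ V)) : Fam f L where
  ι := PUnit
  O := fun _ => V
  k := fun _ => k
  g := fun _ => s
  compat := fun _ _ l x hx => ⟨V, le_rfl, le_rfl, hx.1, by
    simp only [resS, H10Coh.mres_self]
    exact SpanBy.self l⟩

theorem single_dom {V : S.Opens} {k : ℕ} (s : Fin k → Γ(L, f ⁻¹ᵁ V)) : (single s).dom = V :=
  le_antisymm (iSup_le fun _ => le_rfl) (le_iSup (fun _ : PUnit.{u + 1} => V) PUnit.unit)

/-- A family defined on a quasi-compact open extends over an affine open. -/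
theorem exists_extend_affine [QuasiCompact f] [QuasiSeparated f] [QuasiSeparatedSpace S]
    (hL : PicF.IsInvertible L) (Y : Fam f L) (hc : IsCompact (Y.dom : Set S)) {U : S.Opens} (hU : IsAffineOpen U) :
    ∃ Y' : Fam f L, Y'.dom = Y.dom ⊔ U ∧
      ∀ (W : S.Opens) (s : Γ(L, f ⁻¹ᵁ W)), Y.Mem s → Y'.Mem s := by
  classical
  let O := Y.dom ⊓ U
  have hOc : IsCompact (O : Set S) :=
    QuasiSeparatedSpace.inter_isCompact _ _ Y.dom.isOpen hc U.isOpen hU.isCompact
  have hx : ∀ x : O, ∃ (a : Γ(S, U)) (i : Y.ι), S.basicOpen a ≤ O ∧ S.basicOpen a ≤ Y.O i ∧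
      x.1 ∈ S.basicOpen a := fun x => by
    obtain ⟨i, hi⟩ := Opens.mem_iSup.1 x.2.1
    obtain ⟨a, ha, hxa⟩ := hU.exists_basicOpen_le (V := O ⊓ Y.O i) ⟨x.1, x.2, hi⟩ x.2.2
    exact ⟨a, i, ha.trans inf_le_left, ha.trans inf_le_right, hxa⟩
  choose a i haO ha hxa using hx
  obtain ⟨A, hA⟩ := hOc.elim_finite_subcover (fun x : O => (S.basicOpen (a x) : Set S))
    (fun x => (S.basicOpen (a x)).isOpen) (fun x hx => Set.mem_iUnion.2 ⟨⟨x, hx⟩, hxa _⟩)
  let I : Type u := Σ y : A, ULift.{u} (Fin (Y.k (i y.1)))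
  haveI : Fintype I := Fintype.ofFinite I
  choose m z hzm hz using fun p : I => Y.exists_clear hL hU (inf_le_right : O ≤ U) hOc inf_le_left (a p.1.1)
    (haO p.1.1) (Y.mem_res (ha p.1.1) (Y.mem_g (i p.1.1) p.2.down))
  let e := Fintype.equivFin I
  let O' : Option Y.ι → S.Opens := fun o => o.elim U Y.O
  let k' : Option Y.ι → ℕ := fun o => o.elim (Fintype.card I) Y.k
  let g' : ∀ o, Fin (k' o) → Γ(L, f ⁻¹ᵁ O' o) := fun o => match o with
    | none => fun l => z (e.symm l)
    | some j => Y.g j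
  have hcompat : ∀ (o o' : Option Y.ι) (l : Fin (k' o)), ∀ x ∈ O' o ⊓ O' o', ∃ (V : S.Opens) (hi : V ≤ O' o)
      (hj : V ≤ O' o'), x ∈ V ∧
        SpanBy f L (fun m => resS L (f.preimage_mono hj) (g' o' m)) (resS L (f.preimage_mono hi) (g' o l)) := by
    rintro (_ | j) (_ | j') l x ⟨hx1, hx2⟩
    · exact ⟨U, le_rfl, le_rfl, hx1, by
        simp only [resS, H10Coh.mres_self]
        exact SpanBy.self l⟩
    · have hxO : x ∈ O := ⟨Opens.mem_iSup.2 ⟨j', hx2⟩, hx1⟩
      obtain ⟨V, hW, hj, hxV, hV⟩ := Y.spanBy_at (hzm (e.symm l)) j' hxO hx2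
      refine ⟨V, hW.trans inf_le_right, hj, hxV, ?_⟩
      simp only [resS_resS] at hV
      exact hV
    · have hxO : x ∈ O := ⟨Opens.mem_iSup.2 ⟨j, hx1⟩, hx2⟩
      obtain ⟨y, hy, hxy⟩ := Set.mem_iUnion₂.1 (hA hxO)
      obtain ⟨V₀, hj, hiy, hxV, hV⟩ := Y.compat j (i y) l x ⟨hx1, ha y hxy⟩
      refine ⟨V₀ ⊓ S.basicOpen (a y), inf_le_left.trans hj, inf_le_right.trans (S.basicOpen_le _),
        ⟨hxV, hxy⟩, ?_⟩
      have hV' := hV.res (inf_le_left : V₀ ⊓ S.basicOpen (a y) ≤ V₀)
      simp only [resS_resS] at hV'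
      refine SpanBy.trans (fun m' => ?_) hV'
      let p : I := ⟨⟨y, hy⟩, ⟨m'⟩⟩
      obtain ⟨v, hv⟩ : IsUnit (S.presheaf.map (homOfLE (S.basicOpen_le (a y))).op (a y ^ m p)) := by
        haveI := hU.isLocalization_basicOpen (a y)
        exact IsLocalization.map_units (M := Submonoid.powers (a y)) Γ(S, S.basicOpen (a y)) ⟨_, m p, rfl⟩
      have e1 : resS L (f.preimage_mono (ha y)) (Y.g (i y) m') =
          f.app _ (↑v⁻¹ : Γ(S, S.basicOpen (a y))) • resS L (f.preimage_mono (S.basicOpen_le (a y))) (z p) := by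
        rw [hz p, ← hv, smul_smul, ← map_mul, Units.inv_mul, map_one, one_smul]
      have h1 : SpanBy f L (fun l => resS L (f.preimage_mono (S.basicOpen_le (a y))) (z (e.symm l)))
          (resS L (f.preimage_mono (ha y)) (Y.g (i y) m')) := by
        rw [e1]
        have h := SpanBy.self (f := f) (L := L)
          (g := fun l => resS L (f.preimage_mono (S.basicOpen_le (a y))) (z (e.symm l))) (e p)
        rw [Equiv.symm_apply_apply] at h
        exact SpanBy.smul _ h
      have h2 := h1.res (inf_le_right : V₀ ⊓ S.basicOpen (a y) ≤ S.basicOpen (a y))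
      simp only [resS_resS] at h2
      exact h2
    · exact Y.compat j j' l x ⟨hx1, hx2⟩
  refine ⟨⟨Option Y.ι, O', k', g', hcompat⟩, ?_, fun W s hs x hx => ?_⟩
  · change ⨆ o, O' o = _
    rw [iSup_option, sup_comm]
    rfl
  · obtain ⟨j, V, hW, hj, hxV, hV⟩ := hs x hx
    exact ⟨some j, V, hW, hj, hxV, hV⟩

/-- Sections over an affine open generate a family over a finite union of affine opens. -/
theorem exists_fam_cover [QuasiCompact f] [QuasiSeparated f] [QuasiSeparatedSpace S] (hL : PicF.IsInvertible L)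
    {V : S.Opens} (hV : IsAffineOpen V) {k : ℕ} (s : Fin k → Γ(L, f ⁻¹ᵁ V)) (F : Finset S.affineOpens) :
    ∃ Y : Fam f L, IsCompact (Y.dom : Set S) ∧ (∀ W ∈ F, W.1 ≤ Y.dom) ∧ ∀ l, Y.Mem (s l) := by
  classical
  induction F using Finset.induction with
  | empty =>
    refine ⟨single s, by rw [single_dom]; exact hV.isCompact, fun W hW => absurd hW (Finset.notMem_empty _),
      fun l => (single s).mem_g PUnit.unit l⟩
  | insert W F _ ih =>
    obtain ⟨Y, hc, hF, hs⟩ := ih
    obtain ⟨Y', hd, hm⟩ := Y.exists_extend_affine hL hc W.2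
    refine ⟨Y', ?_, fun W' hW' => ?_, fun l => hm V _ (hs l)⟩
    · rw [hd, Opens.coe_sup]
      exact hc.union W.2.isCompact
    · rw [hd]
      rcases Finset.mem_insert.1 hW' with rfl | h
      · exact le_sup_right
      · exact (hF W' h).trans le_sup_left

end Fam

/-- A section in the span of the generators over a basic open is in the span of restricted generators. -/
theorem Gens.spanBy_res (D : Gens f L) {U : S.Opens} (hU : IsAffineOpen U) (r : Γ(S, U))
    {s : Γ(L, f ⁻¹ᵁ S.basicOpen r)} (hs : SpanBy f L (D.g _ (hU.basicOpen r)) s) :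
    SpanBy f L (fun l => resS L (f.preimage_mono (S.basicOpen_le r)) (D.g U hU l)) s := by
  refine SpanBy.trans (fun l => ?_) hs
  obtain ⟨m, z, hz, e⟩ := D.clear U hU r l
  obtain ⟨v, hv⟩ : IsUnit (S.presheaf.map (homOfLE (S.basicOpen_le r)).op r) :=
    RingedSpace.isUnit_res_basicOpen _ r
  have e1 : D.g _ (hU.basicOpen r) l =
      f.app _ ((↑v⁻¹ : Γ(S, S.basicOpen r)) ^ m) • resS L (f.preimage_mono (S.basicOpen_le r)) z := by
    rw [e, ← hv, smul_smul, ← map_pow, ← map_mul, ← mul_pow, Units.inv_mul, one_pow, map_one, one_smul]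
  rw [e1]
  exact SpanBy.smul _ (hz.res (S.basicOpen_le r))

/-- A proper morphism to a qcqs scheme with a relatively ample module is projective. -/
theorem isProjective_of_isRelAmple [IsProper f] [CompactSpace S] [QuasiSeparatedSpace S]
    (hA : RelAmple.IsRelAmple f L) : RelProj.IsProjective f := by
  classical
  obtain ⟨F, hF⟩ : ∃ F : Finset S.affineOpens, (Set.univ : Set S) ⊆ ⋃ W ∈ F, (W.1 : Set S) := by
    refine isCompact_univ.elim_finite_subcover (fun W : S.affineOpens => (W.1 : Set S)) (fun W => W.1.isOpen) ?_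
    intro x _
    obtain ⟨W, hW, hx⟩ := exists_isAffineOpen_mem x
    exact Set.mem_iUnion.2 ⟨⟨W, hW⟩, hx⟩
  choose m₀ hm₀ using fun a : F => eventually_veryAmpleOn hA a.1.2
  choose k s hs using fun a : F => hm₀ a (Finset.univ.sup m₀) (Finset.le_sup (Finset.mem_univ a))
  let M := CohB1.tensorPow L (Finset.univ.sup m₀)
  have hM : PicF.IsInvertible M := isInvertible_tensorPow (isInvertible_of_isRelAmple hA) _
  choose Y hYc hYF hYs using fun a : F => Fam.exists_fam_cover (f := f) hM a.1.2 (s a) F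
  have hdom : ∀ a, (Y a).dom = ⊤ := fun a => eq_top_iff.2 fun x _ => by
    obtain ⟨W, hW, hx⟩ := Set.mem_iUnion₂.1 (hF (Set.mem_univ x))
    exact hYF a W hW hx
  choose D hD using fun a : F => (Y a).exists_gens hM (hdom a)
  let I : F → Type u := fun a => ULift.{u} (Fin (k a)) ⊕ (Σ b : F, ULift.{u} (Fin ((D b).k a.1.1 a.1.2)))
  haveI : ∀ a, Fintype (I a) := fun a => Fintype.ofFinite _
  let e := fun a => Fintype.equivFin (I a)
  let g₀ : ∀ a, I a → Γ(M, f ⁻¹ᵁ a.1.1) := fun a =>
    Sum.elim (fun l => s a l.down) (fun p => (D p.1).g a.1.1 a.1.2 p.2.down)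
  let g : ∀ a, Fin (Fintype.card (I a)) → Γ(M, f ⁻¹ᵁ a.1.1) := fun a l => g₀ a ((e a).symm l)
  have hmem : ∀ a l, ∃ b, (Y b).Mem (g a l) := fun a l => by
    simp only [g]
    rcases (e a).symm l with j | ⟨b, j⟩
    · exact ⟨a, hYs a j.down⟩
    · exact ⟨b, (hD b _ a.1.2 _).2 (SpanBy.self j.down)⟩
  have hspan : ∀ (c : F) (r : Γ(S, c.1.1)) (b : F) (t : Γ(M, f ⁻¹ᵁ S.basicOpen r)), (Y b).Mem t →
      SpanBy f M (fun l => resS M (f.preimage_mono (S.basicOpen_le r)) (g c l)) t := by
    intro c r b t ht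
    refine SpanBy.trans (fun j => ?_) ((D b).spanBy_res c.1.2 r ((hD b _ (c.1.2.basicOpen r) t).1 ht))
    have h := SpanBy.self (f := f) (L := M)
      (g := fun l => resS M (f.preimage_mono (S.basicOpen_le r)) (g c l)) (e c (Sum.inr ⟨b, ⟨j⟩⟩))
    simp only [g, Equiv.symm_apply_apply] at h
    exact h
  let Z : Fam f M :=
    { ι := F
      O := fun a => a.1.1
      k := fun a => Fintype.card (I a)
      g := g
      compat := fun a c l x hx => by
        obtain ⟨r, r', hrr, hxr⟩ := exists_basicOpen_le_affine_inter a.1.2 c.1.2 x hx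
        obtain ⟨b, hb⟩ := hmem a l
        have hle : S.basicOpen r' ≤ a.1.1 := hrr.ge.trans (S.basicOpen_le r)
        exact ⟨S.basicOpen r', hle, S.basicOpen_le r', hrr.le hxr, hspan c r' b _ ((Y b).mem_res hle hb)⟩ }
  have hva : ∀ a, VeryAmpleOn f (g a) := fun a =>
    (hs a).extend hM a.1.2 (g a) (fun j => e a (Sum.inl ⟨j⟩)) fun j => by
      simp only [g, g₀, Equiv.symm_apply_apply, Sum.elim_inl]
  refine Fam.IsVeryAmple.isProjective (Y := Z) ⟨fun a x hx => (hva a).cover x hx,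
    fun a l V hV h => (hva a).affine l V hV h, fun a l V hV h => (hva a).surj l V hV h⟩ hM ?_
  refine eq_top_iff.2 fun x _ => ?_
  obtain ⟨W, hW, hx⟩ := Set.mem_iUnion₂.1 (hF (Set.mem_univ x))
  exact Opens.mem_iSup.2 ⟨⟨W, hW⟩, hx⟩

theorem isProjective_of_isQuasiProjective_qcqs [IsProper f] [CompactSpace S] [QuasiSeparatedSpace S]
    (hq : RelProj.IsQuasiProjective f) : RelProj.IsProjective f := by
  obtain ⟨-, -, L, hL⟩ := hq
  exact isProjective_of_isRelAmple hL

end Groth.Agent.H11Proj
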