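import Groth.Agent.H11Proj.ProjTransfer

/-!
# Fibre products of projective morphisms are projective (Segre)
-/

set_option autoImplicit false
set_option linter.style.haveILetI false

noncomputable section

universe u

open CategoryTheory CategoryTheory.Limits AlgebraicGeometry TopologicalSpace Opposite
open Groth.Agent.H11Tilde Groth.Agent.H11Ample

namespace Groth.Agent.H11Proj

variable {X S : Scheme.{u}} {f : X ⟶ S} {M N : X.Modules}

theorem genAt_tm (hM : PicF.IsInvertible M) (hN : PicF.IsInvertible N) {W : X.Opens} (s : Γ(M, W)) (t : Γ(N, W)) :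
    genAt (CohB1.tensorMod M N) (tm s t) = genAt M s ⊓ genAt N t := by
  refine le_antisymm (fun x hx => ?_) ?_
  · obtain ⟨a, ha⟩ := exists_chart hM x
    obtain ⟨b, hb⟩ := exists_chart hN x
    let c : Chart (CohB1.tensorMod M N) :=
      ⟨a.V ⊓ b.V, _, isGen_tm (a.isGen.res (inf_le_left : a.V ⊓ b.V ≤ a.V))
        (b.isGen.res (inf_le_right : a.V ⊓ b.V ≤ b.V))⟩
    have hle₁ : c.V ⊓ W ≤ a.V ⊓ W := inf_le_inf_right _ inf_le_left
    have hle₂ : c.V ⊓ W ≤ b.V ⊓ W := inf_le_inf_right _ inf_le_right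
    have hco : resF hle₁ (a.coef s) * resF hle₂ (b.coef t) = c.coef (tm s t) := by
      refine (c.eq_coef (tm s t) (inf_le_left : c.V ⊓ W ≤ c.V) inf_le_right
        (c := resF hle₁ (a.coef s) * resF hle₂ (b.coef t)) ?_).trans (resF_self _)
      have e1 := a.coef_spec' s ((inf_le_left : c.V ⊓ W ≤ c.V).trans inf_le_left) inf_le_right
      have e2 := b.coef_spec' t ((inf_le_left : c.V ⊓ W ≤ c.V).trans inf_le_right) inf_le_right
      simp only [resS, c] at e1 e2 ⊢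
      rw [tm_res, tm_res, e1, e2, tm_smul_left, tm_smul_right, smul_smul, H10Coh.mres_mres, H10Coh.mres_mres]
    have h := (c.genAt_inf (tm s t)).le (show x ∈ c.V ⊓ genAt _ (tm s t) from ⟨⟨ha, hb⟩, hx⟩)
    rw [← hco, Scheme.basicOpen_mul, Scheme.basicOpen_res, Scheme.basicOpen_res] at h
    exact ⟨((a.genAt_inf s).ge h.1.2).2, ((b.genAt_inf t).ge h.2.2).2⟩
  · refine le_genAt _ (inf_le_left.trans (genAt_le s)) ?_
    have h := isGen_tm ((isGen_genAt s).res (inf_le_left : genAt M s ⊓ genAt N t ≤ _))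
      ((isGen_genAt t).res (inf_le_right : genAt M s ⊓ genAt N t ≤ _))
    simp only [resS, H10Coh.mres_mres] at h ⊢
    rw [tm_res]
    exact h

theorem tm_sum_left {W : X.Opens} {ι : Type*} (F : Finset ι) (s : ι → Γ(M, W)) (t : Γ(N, W)) :
    tm (∑ i ∈ F, s i) t = ∑ i ∈ F, tm (s i) t := by
  classical
  induction F using Finset.induction with
  | empty =>
    rw [Finset.sum_empty, Finset.sum_empty]
    exact tm_zero_left t
  | insert i F hi ih => rw [Finset.sum_insert hi, Finset.sum_insert hi, tm_add_left, ih]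

theorem tm_sum_right {W : X.Opens} {ι : Type*} (F : Finset ι) (s : Γ(M, W)) (t : ι → Γ(N, W)) :
    tm s (∑ i ∈ F, t i) = ∑ i ∈ F, tm s (t i) := by
  classical
  induction F using Finset.induction with
  | empty =>
    rw [Finset.sum_empty, Finset.sum_empty, ← zero_smul Γ(X, W) (0 : Γ(N, W)), tm_smul_right, zero_smul]
  | insert i F hi ih => rw [Finset.sum_insert hi, Finset.sum_insert hi, tm_add_right, ih]

theorem spanBy_tm {U : S.Opens} {k k' : ℕ} {G : Fin k → Γ(M, f ⁻¹ᵁ U)} {H : Fin k' → Γ(N, f ⁻¹ᵁ U)}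
    {s : Γ(M, f ⁻¹ᵁ U)} {t : Γ(N, f ⁻¹ᵁ U)} (hs : SpanBy f M G s) (ht : SpanBy f N H t) :
    SpanBy f (CohB1.tensorMod M N)
      (fun l => tm (G (finProdFinEquiv.symm l).1) (H (finProdFinEquiv.symm l).2)) (tm s t) := by
  obtain ⟨c, rfl⟩ := hs
  obtain ⟨d, rfl⟩ := ht
  let K := fun l => tm (G (finProdFinEquiv.symm l).1) (H (finProdFinEquiv.symm l).2)
  have hK : ∀ a b, SpanBy f (CohB1.tensorMod M N) K (tm (G a) (H b)) := fun a b => by
    have h := SpanBy.self (f := f) (L := CohB1.tensorMod M N) (g := K) (finProdFinEquiv (a, b))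
    simp only [K, Equiv.symm_apply_apply] at h
    exact h
  rw [tm_sum_left]
  refine SpanBy.sum _ _ fun a _ => ?_
  rw [tm_sum_right]
  refine SpanBy.sum _ _ fun b _ => ?_
  rw [tm_smul_left, tm_smul_right]
  exact SpanBy.smul _ (SpanBy.smul _ (hK a b))

theorem resS_tm {U V : X.Opens} (h : V ≤ U) (s : Γ(M, U)) (t : Γ(N, U)) :
    resS (CohB1.tensorMod M N) h (tm s t) = tm (resS M h s) (resS N h t) := tm_res h s t

section pull

variable {X' S' : Scheme.{u}} {g : S' ⟶ S} {f' : X' ⟶ S'} {h : X' ⟶ X} (hc : f' ≫ g = h ≫ f)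

theorem genAt_pullSec (hM : PicF.IsInvertible M) {U : S.Opens} {V : S'.Opens} (e : V ≤ g ⁻¹ᵁ U)
    (s : Γ(M, f ⁻¹ᵁ U)) :
    genAt ((Scheme.Modules.pullback h).obj M) (pullSec hc e s) = h ⁻¹ᵁ genAt M s ⊓ f' ⁻¹ᵁ V := by
  unfold pullSec
  rw [genAt_res, genAt_pullSect hM]

theorem resS_pullSec_eq_smul {U : S.Opens} {V : S'.Opens} (e : V ≤ g ⁻¹ᵁ U) {s s₀ : Γ(M, f ⁻¹ᵁ U)} {A : X.Opens}
    (hA : A ≤ f ⁻¹ᵁ U) {c : Γ(X, A)} (he : resS M hA s = c • resS M hA s₀) {E : X'.Opens} (hEA : E ≤ h ⁻¹ᵁ A)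
    (hEV : E ≤ f' ⁻¹ᵁ V) :
    resS _ hEV (pullSec hc e s) = resF hEA (h.app A c) • resS _ hEV (pullSec hc e s₀) := by
  have e1 := congrArg (resS _ hEA) (congrArg (OmegaSh.pullSect h M A) he)
  rw [OmegaSh.pullSect_smul, resS_smul, show OmegaSh.pullSect h M A (resS M hA s) = _ from pullSect_res h M hA s,
    show OmegaSh.pullSect h M A (resS M hA s₀) = _ from pullSect_res h M hA s₀, resS_resS, resS_resS] at e1
  unfold pullSec
  rw [resS_resS, resS_resS]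
  exact e1

end pull

variable {X₁ X₂ : Scheme.{u}} {q₁ : X₁ ⟶ S} {q₂ : X₂ ⟶ S} {L₁ : X₁.Modules} {L₂ : X₂.Modules}

variable (q₁ q₂) in
theorem prod_hc₁ : (pullback.fst q₁ q₂ ≫ q₁) ≫ 𝟙 S = pullback.fst q₁ q₂ ≫ q₁ := Category.comp_id _

variable (q₁ q₂) in
theorem prod_hc₂ : (pullback.fst q₁ q₂ ≫ q₁) ≫ 𝟙 S = pullback.snd q₁ q₂ ≫ q₂ :=
  (Category.comp_id _).trans pullback.condition

/-- The Segre family on a fibre product. -/
def Fam.prod (Y₁ : Fam q₁ L₁) (Y₂ : Fam q₂ L₂) :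
    Fam (pullback.fst q₁ q₂ ≫ q₁) (CohB1.tensorMod ((Scheme.Modules.pullback (pullback.fst q₁ q₂)).obj L₁)
      ((Scheme.Modules.pullback (pullback.snd q₁ q₂)).obj L₂)) where
  ι := Σ ij : Y₁.ι × Y₂.ι, {V : S.Opens // IsAffineOpen V ∧ V ≤ Y₁.O ij.1 ∧ V ≤ Y₂.O ij.2}
  O p := p.2.1
  k p := Y₁.k p.1.1 * Y₂.k p.1.2
  g p l := tm (pullSec (prod_hc₁ q₁ q₂) (p.2.2.2.1 : p.2.1 ≤ 𝟙 S ⁻¹ᵁ Y₁.O p.1.1)
      (Y₁.g p.1.1 (finProdFinEquiv.symm l).1))
    (pullSec (prod_hc₂ q₁ q₂) (p.2.2.2.2 : p.2.1 ≤ 𝟙 S ⁻¹ᵁ Y₂.O p.1.2)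
      (Y₂.g p.1.2 (finProdFinEquiv.symm l).2))
  compat p q l x hx := by
    obtain ⟨W₁, hi₁, hj₁, hx₁, hW₁⟩ :=
      Y₁.compat p.1.1 q.1.1 (finProdFinEquiv.symm l).1 x ⟨p.2.2.2.1 hx.1, q.2.2.2.1 hx.2⟩
    obtain ⟨W₂, hi₂, hj₂, hx₂, hW₂⟩ :=
      Y₂.compat p.1.2 q.1.2 (finProdFinEquiv.symm l).2 x ⟨p.2.2.2.2 hx.1, q.2.2.2.2 hx.2⟩
    let V := p.2.1 ⊓ q.2.1 ⊓ (W₁ ⊓ W₂)
    refine ⟨V, inf_le_left.trans inf_le_left, inf_le_left.trans inf_le_right, ⟨hx, hx₁, hx₂⟩, ?_⟩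
    have h₁ := spanBy_pullSec (prod_hc₁ q₁ q₂) (inf_le_right.trans inf_le_left : V ≤ 𝟙 S ⁻¹ᵁ W₁) hW₁
    have h₂ := spanBy_pullSec (prod_hc₂ q₁ q₂) (inf_le_right.trans inf_le_right : V ≤ 𝟙 S ⁻¹ᵁ W₂) hW₂
    simp only [pullSec_resS _ hi₁, pullSec_resS _ hj₁] at h₁
    simp only [pullSec_resS _ hi₂, pullSec_resS _ hj₂] at h₂
    simp only [pullSec, resS, tm_res, H10Coh.mres_mres] at h₁ h₂ ⊢
    have h₃ := spanBy_tm h₁ h₂
    exact h₃

theorem Fam.prod_dom {Y₁ : Fam q₁ L₁} {Y₂ : Fam q₂ L₂} (h₁ : Y₁.dom = ⊤) (h₂ : Y₂.dom = ⊤) :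
    (Y₁.prod Y₂).dom = ⊤ := by
  refine eq_top_iff.2 fun x _ => ?_
  obtain ⟨i, hi⟩ := Opens.mem_iSup.1 (h₁.ge (Set.mem_univ x))
  obtain ⟨j, hj⟩ := Opens.mem_iSup.1 (h₂.ge (Set.mem_univ x))
  obtain ⟨V, hV, hxV, hle⟩ := exists_isAffineOpen_mem_and_subset (U := Y₁.O i ⊓ Y₂.O j) (x := x) ⟨hi, hj⟩
  exact Opens.mem_iSup.2 ⟨⟨(i, j), ⟨V, hV, le_trans hle inf_le_left, le_trans hle inf_le_right⟩⟩, hxV⟩

theorem Fam.IsVeryAmple.prod {Y₁ : Fam q₁ L₁} {Y₂ : Fam q₂ L₂} (hL₁ : PicF.IsInvertible L₁)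
    (hL₂ : PicF.IsInvertible L₂) (h₁ : Y₁.IsVeryAmple) (h₂ : Y₂.IsVeryAmple) : (Y₁.prod Y₂).IsVeryAmple := by
  let P₁ := pullback.fst q₁ q₂
  let P₂ := pullback.snd q₁ q₂
  let q := P₁ ≫ q₁
  let M₁ := (Scheme.Modules.pullback P₁).obj L₁
  let M₂ := (Scheme.Modules.pullback P₂).obj L₂
  have hq₂ : q = P₂ ≫ q₂ := pullback.condition
  have hgen : ∀ (p : (Y₁.prod Y₂).ι) (l : Fin ((Y₁.prod Y₂).k p)),
      genAt (CohB1.tensorMod M₁ M₂) ((Y₁.prod Y₂).g p l) =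
        (P₁ ⁻¹ᵁ genAt L₁ (Y₁.g p.1.1 (finProdFinEquiv.symm l).1) ⊓
          P₂ ⁻¹ᵁ genAt L₂ (Y₂.g p.1.2 (finProdFinEquiv.symm l).2)) ⊓ q ⁻¹ᵁ p.2.1 := fun p l => by
    refine (genAt_tm (isInvertible_pullback _ hL₁) (isInvertible_pullback _ hL₂) _ _).trans ?_
    refine (congrArg₂ (· ⊓ ·) (genAt_pullSec _ hL₁ _ _) (genAt_pullSec _ hL₂ _ _)).trans ?_
    exact (inf_inf_distrib_right _ _ _).symm
  refine ⟨fun p x hx => ?_, fun p l W hW hWV => ?_, fun p l W hW hWV => ?_⟩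
  · have hx₁ : q₁.base (P₁ x) ∈ Y₁.O p.1.1 := p.2.2.2.1 hx
    have hx₂ : q₂.base (P₂ x) ∈ Y₂.O p.1.2 := by
      have := p.2.2.2.2 hx
      change (P₂ ≫ q₂).base x ∈ _
      rw [← hq₂]
      exact this
    obtain ⟨l₁, hl₁⟩ := h₁.cover p.1.1 _ hx₁
    obtain ⟨l₂, hl₂⟩ := h₂.cover p.1.2 _ hx₂
    refine ⟨finProdFinEquiv (l₁, l₂), (hgen p _).ge ?_⟩
    rw [Equiv.symm_apply_apply]
    exact ⟨⟨hl₁, hl₂⟩, hx⟩
  all_goals
    let l₁ := (finProdFinEquiv.symm l).1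
    let l₂ := (finProdFinEquiv.symm l).2
    have hW₁ : W ≤ Y₁.O p.1.1 := le_trans hWV p.2.2.2.1
    have hW₂ : W ≤ Y₂.O p.1.2 := le_trans hWV p.2.2.2.2
    let a₁ := chartAt (Y₁.g p.1.1 l₁)
    let a₂ := chartAt (Y₂.g p.1.2 l₂)
    let A₁ := a₁.V ⊓ q₁ ⁻¹ᵁ W
    let A₂ := a₂.V ⊓ q₂ ⁻¹ᵁ W
    have hA₁ : IsAffineOpen A₁ := h₁.affine p.1.1 l₁ W hW hW₁
    have hA₂ : IsAffineOpen A₂ := h₂.affine p.1.2 l₂ W hW hW₂
    let Wp := P₁ ⁻¹ᵁ A₁ ⊓ P₂ ⁻¹ᵁ A₂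
    have hWp : IsAffineOpen Wp := isAffineOpen_fst_inf_snd q₁ q₂ hW hA₁ inf_le_right hA₂ inf_le_right
    have hE : genAt (CohB1.tensorMod M₁ M₂) ((Y₁.prod Y₂).g p l) ⊓ q ⁻¹ᵁ W = Wp := by
      rw [hgen p l]
      ext x
      simp only [Opens.coe_inf, Set.mem_inter_iff]
      refine ⟨fun h => ⟨⟨h.1.1.1, h.2⟩, ⟨h.1.1.2, ?_⟩⟩, fun h => ⟨⟨⟨h.1.1, h.2.1⟩, hWV h.1.2⟩, h.1.2⟩⟩
      change (P₂ ≫ q₂).base x ∈ W
      rw [← hq₂]
      exact h.2
  · exact hE ▸ hWp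
  · let a' := chartAt ((Y₁.prod Y₂).g p l)
    let E := a'.V ⊓ q ⁻¹ᵁ W
    have hE₁ : E ≤ P₁ ⁻¹ᵁ A₁ := hE.le.trans inf_le_left
    have hE₂ : E ≤ P₂ ⁻¹ᵁ A₂ := hE.le.trans inf_le_right
    let R := gensRing q a' (fun m => resS _ (q.preimage_mono hWV) ((Y₁.prod Y₂).g p m))
    refine eq_top_iff.2 fun y _ => ?_
    have hy : resF hE.ge y ∈ Subring.closure (Set.range (P₁.appLE A₁ Wp inf_le_left) ∪
        Set.range (P₂.appLE A₂ Wp inf_le_right)) :=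
      (closure_range_pullback (IsPullback.of_hasPullback q₁ q₂) hA₁ hA₂ hW inf_le_right inf_le_right hWp).ge
        (Subring.mem_top _)
    suffices hh : Subring.closure (Set.range (P₁.appLE A₁ Wp inf_le_left) ∪
        Set.range (P₂.appLE A₂ Wp inf_le_right)) ≤ R.comap (resF hE.le) by
      have := hh hy
      rw [Subring.mem_comap, resF_resF, resF_self] at this
      exact this
    rw [Subring.closure_le]
    have hE₁' : E ≤ (P₁ ⁻¹ᵁ a₁.V) := hE₁.trans (P₁.preimage_mono inf_le_left)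
    have hE₂' : E ≤ (P₂ ⁻¹ᵁ a₂.V) := hE₂.trans (P₂.preimage_mono inf_le_left)
    rintro w (⟨v, rfl⟩ | ⟨v, rfl⟩)
    · have e : resF hE.le (P₁.appLE A₁ Wp inf_le_left v) = P₁.appLE A₁ E hE₁ v :=
        congr($(Scheme.Hom.appLE_map P₁ (inf_le_left : Wp ≤ _) (homOfLE hE.le).op) v)
      change resF hE.le _ ∈ R
      rw [e]
      suffices hh : gensRing q₁ a₁ (fun m => resS L₁ (q₁.preimage_mono hW₁) (Y₁.g p.1.1 m)) ≤
          R.comap (P₁.appLE A₁ E hE₁).hom from hh ((h₁.surj p.1.1 l₁ W hW hW₁).ge (Subring.mem_top v))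
      rw [gensRing, Subring.closure_le]
      rintro c (⟨r, rfl⟩ | ⟨m, rfl⟩)
      · refine Subring.subset_closure (Or.inl ⟨r, ?_⟩)
        change q.appLE W E inf_le_right r = (q₁.appLE W A₁ inf_le_right ≫ P₁.appLE A₁ E hE₁) r
        rw [Scheme.Hom.appLE_comp_appLE]
      · refine Subring.subset_closure (Or.inr ⟨finProdFinEquiv (m, l₂), ?_⟩)
        refine ((a'.eq_coef _ (inf_le_left : E ≤ a'.V) inf_le_right
          (c := resF hE₁ (P₁.app A₁ (a₁.coef (resS L₁ (q₁.preimage_mono hW₁) (Y₁.g p.1.1 m))))) ?_).trans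
          (resF_self _)).symm
        have he : resS L₁ (inf_le_right.trans (q₁.preimage_mono hW₁) : A₁ ≤ q₁ ⁻¹ᵁ Y₁.O p.1.1) (Y₁.g p.1.1 m) =
            a₁.coef (resS L₁ (q₁.preimage_mono hW₁) (Y₁.g p.1.1 m)) •
              resS L₁ (inf_le_right.trans (q₁.preimage_mono hW₁)) (Y₁.g p.1.1 l₁) := by
          have := a₁.coef_spec (resS L₁ (q₁.preimage_mono hW₁) (Y₁.g p.1.1 m))
          rw [resS_resS] at this
          refine this.trans (congrArg _ ?_)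
          exact resS_resS L₁ _ (genAt_le _) _
        rw [resS_resS, show a'.e = resS _ (genAt_le _) ((Y₁.prod Y₂).g p l) from rfl, resS_resS]
        change resS _ _ (tm _ _) = _ • resS _ _ (tm _ _)
        rw [Equiv.symm_apply_apply, resS_tm, resS_tm]
        exact (congrArg (fun z => tm z _) (resS_pullSec_eq_smul (prod_hc₁ q₁ q₂) _ _ he hE₁ _)).trans
          (tm_smul_left _ _ _)
    · have e : resF hE.le (P₂.appLE A₂ Wp inf_le_right v) = P₂.appLE A₂ E hE₂ v :=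
        congr($(Scheme.Hom.appLE_map P₂ (inf_le_right : Wp ≤ _) (homOfLE hE.le).op) v)
      change resF hE.le _ ∈ R
      rw [e]
      suffices hh : gensRing q₂ a₂ (fun m => resS L₂ (q₂.preimage_mono hW₂) (Y₂.g p.1.2 m)) ≤
          R.comap (P₂.appLE A₂ E hE₂).hom from hh ((h₂.surj p.1.2 l₂ W hW hW₂).ge (Subring.mem_top v))
      rw [gensRing, Subring.closure_le]
      rintro c (⟨r, rfl⟩ | ⟨m, rfl⟩)
      · refine Subring.subset_closure (Or.inl ⟨r, ?_⟩)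
        change q.appLE W E inf_le_right r = (q₂.appLE W A₂ inf_le_right ≫ P₂.appLE A₂ E hE₂) r
        rw [Scheme.Hom.appLE_comp_appLE]
        exact congr($(Charts.appLE_congr_hom hq₂ _ _) r)
      · refine Subring.subset_closure (Or.inr ⟨finProdFinEquiv (l₁, m), ?_⟩)
        refine ((a'.eq_coef _ (inf_le_left : E ≤ a'.V) inf_le_right
          (c := resF hE₂ (P₂.app A₂ (a₂.coef (resS L₂ (q₂.preimage_mono hW₂) (Y₂.g p.1.2 m))))) ?_).trans
          (resF_self _)).symm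
        have he : resS L₂ (inf_le_right.trans (q₂.preimage_mono hW₂) : A₂ ≤ q₂ ⁻¹ᵁ Y₂.O p.1.2) (Y₂.g p.1.2 m) =
            a₂.coef (resS L₂ (q₂.preimage_mono hW₂) (Y₂.g p.1.2 m)) •
              resS L₂ (inf_le_right.trans (q₂.preimage_mono hW₂)) (Y₂.g p.1.2 l₂) := by
          have := a₂.coef_spec (resS L₂ (q₂.preimage_mono hW₂) (Y₂.g p.1.2 m))
          rw [resS_resS] at this
          refine this.trans (congrArg _ ?_)
          exact resS_resS L₂ _ (genAt_le _) _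
        rw [resS_resS, show a'.e = resS _ (genAt_le _) ((Y₁.prod Y₂).g p l) from rfl, resS_resS]
        change resS _ _ (tm _ _) = _ • resS _ _ (tm _ _)
        rw [Equiv.symm_apply_apply, resS_tm, resS_tm]
        exact (congrArg (tm _) (resS_pullSec_eq_smul (prod_hc₂ q₁ q₂) _ _ he hE₂ _)).trans (tm_smul_right _ _ _)

/-- A projective morphism has a very ample covering family. -/
theorem exists_isVeryAmple_of_isProjective (h : RelProj.IsProjective f) :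
    ∃ (L : X.Modules) (Y : Fam f L), PicF.IsInvertible L ∧ Y.IsVeryAmple ∧ Y.dom = ⊤ := by
  haveI := isProper_of_isProjective h
  obtain ⟨𝒮, P, p, chart, e, hgen, hft, hP, rfl⟩ := h
  obtain ⟨L, lam, hL⟩ := exists_isRelTwist hP 1
  obtain ⟨Y, hY⟩ := Taut.exists_fam hgen hP hL hft
  have hc : (e.hom ≫ p) ≫ 𝟙 S = e.hom ≫ p := Category.comp_id _
  haveI : IsClosedImmersion (pullback.lift e.hom (e.hom ≫ p) hc.symm : X ⟶ pullback p (𝟙 S)) := by
    haveI : IsIso (pullback.fst p (𝟙 S)) := inferInstance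
    haveI : IsClosedImmersion (pullback.lift e.hom (e.hom ≫ p) hc.symm ≫ pullback.fst p (𝟙 S)) := by
      rw [pullback.lift_fst]; infer_instance
    exact IsClosedImmersion.of_comp _ (pullback.fst p (𝟙 S))
  exact ⟨_, Y.pull hc, isInvertible_pullback _ hY.invertible, hY.isVeryAmple_pull hc, Fam.pull_dom hc hY.dom⟩

/-- A fibre product of projective morphisms is projective. -/
theorem isProjective_pullback_fst_comp (h₁ : RelProj.IsProjective q₁) (h₂ : RelProj.IsProjective q₂) :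
    RelProj.IsProjective (pullback.fst q₁ q₂ ≫ q₁) := by
  haveI := isProper_of_isProjective h₁
  haveI := isProper_of_isProjective h₂
  obtain ⟨L₁, Y₁, hL₁, hY₁, hd₁⟩ := exists_isVeryAmple_of_isProjective h₁
  obtain ⟨L₂, Y₂, hL₂, hY₂, hd₂⟩ := exists_isVeryAmple_of_isProjective h₂
  exact (hY₁.prod hL₁ hL₂ hY₂).isProjective
    (isInvertible_tensor (isInvertible_pullback _ hL₁) (isInvertible_pullback _ hL₂)) (Fam.prod_dom hd₁ hd₂)

end Groth.Agent.H11Proj
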