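import Groth.Agent.H11Proj.ClosedSub
import Groth.Agent.H11Tilde.ProjUP

/-!
The forms vanishing on a closed subscheme of `Proj`, through pulled back global sections of `O(d)`.
-/

set_option autoImplicit false

noncomputable section

universe u

open CategoryTheory AlgebraicGeometry TopologicalSpace Opposite

namespace Groth.Agent.H11Proj

open H11Tilde

variable {R A : Type u} [CommRing R] [CommRing A] [Algebra R A] (𝒜 : ℕ → Submodule R A) [GradedAlgebra 𝒜]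

theorem globalSec_pow_eq_ratio_smul {f : A} (hf : f ∈ 𝒜 1) {d : ℕ} {a : A} (ha : a ∈ 𝒜 d)
    (hfd : f ^ d ∈ 𝒜 d) :
    (GrTwist.twist 𝒜 (d : ℤ)).presheaf.map (homOfLE (le_top : Proj.basicOpen 𝒜 f ≤ ⊤)).op (globalSec 𝒜 ha) =
      ratio 𝒜 hf ha •
        (GrTwist.twist 𝒜 (d : ℤ)).presheaf.map (homOfLE (le_top : Proj.basicOpen 𝒜 f ≤ ⊤)).op
          (globalSec 𝒜 hfd) := by
  refine sval_ext 𝒜 𝒜 fun x => ?_
  erw [sval_smul, fval_ratio]
  change (Localization.mk a ⟨1, _⟩ : GrTwist.Loc 𝒜 x.1) =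
    Localization.mk a ⟨f ^ d, _⟩ * Localization.mk (f ^ d) ⟨1, _⟩
  rw [Localization.mk_mul]
  exact Localization.mk_eq_mk_iff.2 (Localization.r_iff_exists.2 ⟨1, by simp [mul_comm]⟩)

theorem isGen_globalSec_pow {f : A} (hf : f ∈ 𝒜 1) {d : ℕ} (hfd : f ^ d ∈ 𝒜 d) :
    IsGen (GrTwist.twist 𝒜 (d : ℤ))
      ((GrTwist.twist 𝒜 (d : ℤ)).presheaf.map (homOfLE (le_top : Proj.basicOpen 𝒜 f ≤ ⊤)).op
        (globalSec 𝒜 hfd)) :=
  isGen_of_bijective fun W hW => by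
    have hW' : W ≤ Proj.basicOpen 𝒜 (f ^ d) := fun x hx => by
      rw [Proj.mem_basicOpen]
      exact fun h => (hW hx) (x.isPrime.mem_of_pow_mem d h)
    refine Eq.mpr (congrArg Function.Bijective (funext fun r => ?_))
      (bijective_smul_globalSec 𝒜 hfd hW')
    rw [H10Coh.mres_mres]
    rfl

variable {ι : Type u} (f : ι → A) (hf : ∀ j, f j ∈ 𝒜 1) {Z : Scheme.{u}} (i : Z ⟶ Proj 𝒜)

theorem pullSec_eq_zero_iff (hcov : ∀ x : Proj 𝒜, ∃ j, f j ∉ x.asHomogeneousIdeal) {d : ℕ} {a : A}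
    (ha : a ∈ 𝒜 d) :
    ProjUP.pullSec i (GrTwist.twist 𝒜 (d : ℤ)) (globalSec 𝒜 ha) = 0 ↔ VanishAt 𝒜 f hf i d ⟨a, ha⟩ := by
  have hfd : ∀ j, f j ^ d ∈ 𝒜 d := fun j => by
    simpa using SetLike.pow_mem_graded d (hf j)
  let L := (Scheme.Modules.pullback i).obj (GrTwist.twist 𝒜 (d : ℤ))
  have hgen : ∀ j, IsGen L (L.presheaf.map (homOfLE (le_top : i ⁻¹ᵁ Proj.basicOpen 𝒜 (f j) ≤ ⊤)).op
      (ProjUP.pullSec i (GrTwist.twist 𝒜 (d : ℤ)) (globalSec 𝒜 (hfd j)))) := fun j => by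
    have h := (isGen_globalSec_pow 𝒜 (hf j) (hfd j)).pullSect i
    rw [pullSect_res] at h
    exact h
  have hloc : ∀ j, L.presheaf.map (homOfLE (le_top : i ⁻¹ᵁ Proj.basicOpen 𝒜 (f j) ≤ ⊤)).op
      (ProjUP.pullSec i (GrTwist.twist 𝒜 (d : ℤ)) (globalSec 𝒜 ha)) =
      i.app (Proj.basicOpen 𝒜 (f j)) (ratio 𝒜 (hf j) ha) •
        L.presheaf.map (homOfLE (le_top : i ⁻¹ᵁ Proj.basicOpen 𝒜 (f j) ≤ ⊤)).op
          (ProjUP.pullSec i (GrTwist.twist 𝒜 (d : ℤ)) (globalSec 𝒜 (hfd j))) := fun j => by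
    have h2 := congrArg (fun z => OmegaSh.pullSect i (GrTwist.twist 𝒜 (d : ℤ)) _ z)
      (globalSec_pow_eq_ratio_smul 𝒜 (hf j) ha (hfd j))
    beta_reduce at h2
    rw [OmegaSh.pullSect_smul, pullSect_res, pullSect_res] at h2
    exact h2
  constructor
  · intro h j
    have e := hloc j
    rw [h, map_zero] at e
    refine ((hgen j).bijective le_rfl).injective ?_
    simp only [zero_smul]
    rw [H10Coh.mres_mres]
    exact e.symm
  · intro h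
    refine H11Tilde.eq_of_locally (F := L) (W := ⊤) _ 0 fun x _ => ?_
    obtain ⟨j, hj⟩ := hcov (i x)
    refine ⟨i ⁻¹ᵁ Proj.basicOpen 𝒜 (f j), le_top, hj, ?_⟩
    refine (hloc j).trans ?_
    change i.app _ (ratio 𝒜 (hf j) ha) • _ = _
    rw [h j, zero_smul, map_zero]

include hf in
theorem exists_iso_proj_of_ker [Finite ι] [IsClosedImmersion i]
    (hcov : ∀ x : Proj 𝒜, ∃ j, f j ∉ x.asHomogeneousIdeal)
    {B : Type u} [CommRing B] [Algebra R B] (ℬ : ℕ → Submodule R B) [GradedAlgebra ℬ]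
    (φ : 𝒜 →+*ᵍ ℬ) (hs : Function.Surjective φ)
    (hker : ∀ (d : ℕ) (a : A) (ha : a ∈ 𝒜 d), φ a = 0 ↔ VanishAt 𝒜 f hf i d ⟨a, ha⟩)
    (hφ : HomogeneousIdeal.irrelevant ℬ ≤ (HomogeneousIdeal.irrelevant 𝒜).map φ) :
    ∃ e : Z ≅ Proj ℬ, e.hom ≫ Proj.map φ hφ = i := by
  haveI := isClosedImmersion_map φ hφ hs
  have hk : (Proj.map φ hφ).ker = i.ker := by
    refine Scheme.IdealSheafData.ext_of_iSup_eq_top
      (fun j : ι => ⟨Proj.basicOpen 𝒜 (f j), Proj.isAffineOpen_basicOpen 𝒜 (f j) (hf j) Nat.one_pos⟩)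
      (top_le_iff.1 fun x _ => Opens.mem_iSup.2 (hcov x)) fun j => ?_
    rw [Scheme.Hom.ker_apply, Scheme.Hom.ker_apply]
    ext r
    obtain ⟨k, a, ha, rfl⟩ := exists_eq_ratio 𝒜 (hf j) r
    refine (map_app_ratio_eq_zero_iff 𝒜 _ φ hφ (hf j) ha).trans
      (Iff.trans ?_ (app_ratio_eq_zero_iff 𝒜 f hf i j ha).symm)
    refine exists_congr fun N => ?_
    have hm : f j ^ N * a ∈ 𝒜 (N + k) :=
      SetLike.mul_mem_graded (by simpa using SetLike.pow_mem_graded N (hf j)) ha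
    rw [hker _ _ hm, mem_idealOf_iff 𝒜 f hf i hm]
  haveI := IsClosedImmersion.isIso_lift (Proj.map φ hφ) i hk
  exact ⟨asIso (IsClosedImmersion.lift (Proj.map φ hφ) i hk.le), IsClosedImmersion.lift_fac _ _ _⟩

end Groth.Agent.H11Proj
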