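import Groth.Agent.H11Proj.DegZeroProj
import Groth.Agent.H11Proj.ProjMap
import Mathlib.RingTheory.IsTensorProduct
import Mathlib.Algebra.Category.Ring.Constructions

/-!
# Base change of `Proj`
-/

set_option autoImplicit false
universe u

namespace Groth.Agent.H11Proj

open CategoryTheory CategoryTheory.Limits AlgebraicGeometry HomogeneousLocalization DirectSum TensorProduct

variable {R R' A B σ τ : Type u} [CommRing R] [CommRing R'] [Algebra R' R]
variable [CommRing B] [SetLike τ B] [AddSubgroupClass τ B] [CommRing A] [SetLike σ A] [AddSubgroupClass σ A]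
variable {ℬ : ℕ → τ} [GradedRing ℬ] {𝒜 : ℕ → σ} [GradedRing 𝒜]

/-- A ring homomorphism with values in degree zero. -/
def toDegZero {C ρ D : Type*} [CommRing C] [SetLike ρ C] [AddSubgroupClass ρ C] [CommRing D]
    (𝒞 : ℕ → ρ) [SetLike.GradedMonoid 𝒞] (g : D →+* C) (hg : ∀ r, g r ∈ 𝒞 0) : D →+* 𝒞 0 where
  toFun r := ⟨g r, hg r⟩
  map_one' := Subtype.ext (map_one g)
  map_mul' _ _ := Subtype.ext (map_mul g _ _)
  map_zero' := Subtype.ext (map_zero g)
  map_add' _ _ := Subtype.ext (map_add g _ _)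

theorem away_map_awayProj (φ : ℬ →+*ᵍ 𝒜) {d : ℕ} {f : B} (hf : f ∈ ℬ d) (hd : 0 < d) (b : B) :
    Away.map φ f (awayProj ℬ hf b) = awayProj 𝒜 (φ.2 hf) (φ b) := by
  refine eq_on_homogeneous ℬ (g₁ := (Away.map φ f).toAddMonoidHom.comp (awayProj ℬ hf))
    (g₂ := (awayProj 𝒜 (φ.2 hf)).comp φ.toRingHom.toAddMonoidHom) (fun k c hc => ?_) b
  simp only [AddMonoidHom.coe_comp, Function.comp_apply]
  change Away.map φ f (awayProj ℬ hf c) = awayProj 𝒜 (φ.2 hf) (φ c)
  by_cases h : d ∣ k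
  · obtain ⟨n, rfl⟩ := h
    have hc' : c ∈ ℬ (n • d) := by rwa [smul_eq_mul, mul_comm]
    rw [awayProj_mk ℬ hf hd hc', Away.map_mk φ f hf n c hc']
    exact (awayProj_mk 𝒜 (φ.2 hf) hd (φ.2 hc')).symm
  · rw [awayProj_of_not_dvd ℬ hf hc h, map_zero]
    exact (awayProj_of_not_dvd 𝒜 (φ.2 hf) (φ.2 hc) h).symm

variable [Algebra R' B] [Algebra R A] [Algebra R' A] [IsScalarTower R' R A]
variable [Algebra B A] [IsScalarTower R' B A] [Algebra.IsPushout R' R B A]

set_option linter.unusedSectionVars false in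
theorem away_isPushout (φ : ℬ →+*ᵍ 𝒜) (hφA : ∀ b : B, φ b = algebraMap B A b)
    (hB0 : ∀ r : R', algebraMap R' B r ∈ ℬ 0) (hA0 : ∀ r : R, algebraMap R A r ∈ 𝒜 0)
    {d : ℕ} (hd : 0 < d) {f : B} (hf : f ∈ ℬ d) :
    CategoryTheory.IsPushout (CommRingCat.ofHom (algebraMap R' R))
      (CommRingCat.ofHom ((fromZeroRingHom ℬ (Submonoid.powers f)).comp (toDegZero ℬ (algebraMap R' B) hB0)))
      (CommRingCat.ofHom ((fromZeroRingHom 𝒜 (Submonoid.powers (φ f))).comp (toDegZero 𝒜 (algebraMap R A) hA0)))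
      (CommRingCat.ofHom (Away.map φ f)) := by
  let gB := (fromZeroRingHom ℬ (Submonoid.powers f)).comp (toDegZero ℬ (algebraMap R' B) hB0)
  let gA := (fromZeroRingHom 𝒜 (Submonoid.powers (φ f))).comp (toDegZero 𝒜 (algebraMap R A) hA0)
  let _ : Algebra R' (Away ℬ f) := gB.toAlgebra
  let _ : Algebra R (Away 𝒜 (φ f)) := gA.toAlgebra
  let _ : Algebra R' (Away 𝒜 (φ f)) := (gA.comp (algebraMap R' R)).toAlgebra
  have : IsScalarTower R' R (Away 𝒜 (φ f)) := IsScalarTower.of_algebraMap_eq fun _ => rfl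
  have hcompat : (Away.map φ f).comp gB = gA.comp (algebraMap R' R) := by
    refine RingHom.ext fun r => ?_
    simp only [gB, gA, RingHom.comp_apply, away_map_fromZero]
    congr 1
    exact Subtype.ext (by
      change φ (algebraMap R' B r) = algebraMap R A (algebraMap R' R r)
      rw [hφA, ← IsScalarTower.algebraMap_apply R' B A, ← IsScalarTower.algebraMap_apply R' R A])
  let g : Away ℬ f →ₐ[R'] Away 𝒜 (φ f) :=
    { Away.map φ f with commutes' := fun r => RingHom.congr_fun hcompat r }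
  let μ : R ⊗[R'] Away ℬ f →ₐ[R] Away 𝒜 (φ f) :=
    Algebra.TensorProduct.lift (Algebra.ofId R _) g (fun _ _ => .all _ _)
  let L := awayProj ℬ hf
  let L' := awayProj 𝒜 (φ.2 hf)
  let T : B →ₗ[R'] R ⊗[R'] Away ℬ f :=
    { toFun := fun b => (1 : R) ⊗ₜ[R'] L b
      map_add' := fun x y => by simp only [map_add, TensorProduct.tmul_add]
      map_smul' := fun r x => by
        have h1 : L (r • x) = r • L x := by
          rw [Algebra.smul_def, Algebra.smul_def]
          exact awayProj_zero_mul ℬ hf hd ⟨algebraMap R' B r, hB0 r⟩ x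
        simp only [h1, TensorProduct.tmul_smul, RingHom.id_apply] }
  have h : IsBaseChange R (IsScalarTower.toAlgHom R' B A).toLinearMap := Algebra.IsPushout.out
  let Λ : A →ₗ[R] R ⊗[R'] Away ℬ f := h.lift T
  have hΛ : ∀ b : B, Λ (φ b) = (1 : R) ⊗ₜ L b := fun b => by
    rw [hφA]; exact h.lift_eq T b
  have hμΛ : ∀ a, μ (Λ a) = L' a := by
    intro a
    refine h.inductionOn a (motive := fun a => μ (Λ a) = L' a) (by simp) (fun b => ?_)
      (fun r x hx => ?_) (fun x y hx hy => by rw [map_add, map_add, map_add, hx, hy])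
    · change μ (Λ (algebraMap B A b)) = L' (algebraMap B A b)
      rw [← hφA, hΛ]
      simp only [μ, Algebra.TensorProduct.lift_tmul, map_one, one_mul]
      exact away_map_awayProj φ hf hd b
    · rw [map_smul, map_smul, hx, Algebra.smul_def, Algebra.smul_def]
      exact (awayProj_zero_mul 𝒜 (φ.2 hf) hd ⟨algebraMap R A r, hA0 r⟩ x).symm
  have hΛf : ∀ a, Λ (φ f * a) = Λ a := by
    intro a
    refine h.inductionOn a (motive := fun a => Λ (φ f * a) = Λ a) (by simp) (fun b => ?_)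
      (fun r x hx => by rw [mul_smul_comm, map_smul, map_smul, hx])
      (fun x y hx hy => by rw [mul_add, map_add, map_add, hx, hy])
    change Λ (φ f * algebraMap B A b) = Λ (algebraMap B A b)
    rw [← hφA, ← map_mul, hΛ, hΛ]
    exact congrArg _ (awayProj_mul_self ℬ hf hd b)
  have hΛpow : ∀ (l : ℕ) a, Λ (φ f ^ l * a) = Λ a := by
    intro l a
    induction l with
    | zero => simp
    | succ l ih => rw [pow_succ', mul_assoc, hΛf, ih]
  have hsurjΛ : ∀ w : R ⊗[R'] Away ℬ f, ∃ (n : ℕ) (a : A), a ∈ 𝒜 (n • d) ∧ Λ a = w := by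
    intro w
    induction w using TensorProduct.induction_on with
    | zero => exact ⟨0, 0, zero_mem _, map_zero Λ⟩
    | tmul r z =>
      obtain ⟨n, b, hb, rfl⟩ := Away.mk_surjective ℬ hf z
      refine ⟨n, r • φ b, ?_, ?_⟩
      · rw [Algebra.smul_def r (φ b)]
        have := graded_mul_mem 𝒜 (hA0 r) (φ.2 hb)
        rwa [zero_add] at this
      · rw [map_smul, hΛ, ← awayProj_mk ℬ hf hd hb, TensorProduct.smul_tmul', smul_eq_mul, mul_one]
    | add x y hx hy =>
      obtain ⟨n, a, ha, rfl⟩ := hx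
      obtain ⟨m, b, hb, rfl⟩ := hy
      refine ⟨m + n, φ f ^ m * a + φ f ^ n * b, add_mem ?_ ?_, by rw [map_add, hΛpow, hΛpow]⟩
      · rw [add_smul]; exact graded_mul_mem 𝒜 (SetLike.pow_mem_graded m (φ.2 hf)) ha
      · rw [add_comm, add_smul]; exact graded_mul_mem 𝒜 (SetLike.pow_mem_graded n (φ.2 hf)) hb
  have hbij : Function.Bijective μ := by
    refine ⟨(injective_iff_map_eq_zero _).2 fun w hw => ?_, fun z => ?_⟩
    · obtain ⟨n, a, ha, rfl⟩ := hsurjΛ w
      rw [hμΛ] at hw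
      have h0 := congrArg val hw
      rw [show L' a = Away.mk 𝒜 (φ.2 hf) n a ha from awayProj_mk 𝒜 (φ.2 hf) hd ha, val_zero,
        Away.val_mk, mk_eq_zero_iff_exists_pow] at h0
      obtain ⟨l, hl⟩ := h0
      exact (hΛpow l a).symm.trans ((congrArg Λ hl).trans (map_zero Λ))
    · obtain ⟨n, a, ha, rfl⟩ := Away.mk_surjective 𝒜 (φ.2 hf) z
      exact ⟨Λ a, (hμΛ a).trans (awayProj_mk 𝒜 (φ.2 hf) hd ha)⟩
  let e : R ⊗[R'] Away ℬ f ≃+* Away 𝒜 (φ f) := RingEquiv.ofBijective μ.toRingHom hbij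
  refine (CommRingCat.isPushout_tensorProduct R' R (Away ℬ f)).of_iso (Iso.refl _) (Iso.refl _) (Iso.refl _)
    e.toCommRingCatIso (by simp) (by simp; rfl) ?_ ?_
  · ext r
    refine congrArg val ?_
    change μ (r ⊗ₜ 1) = gA r
    simp [μ, Algebra.ofId_apply]
    rfl
  · ext z
    refine congrArg val ?_
    change μ (1 ⊗ₜ z) = Away.map φ f z
    simp [μ]
    rfl

theorem map_isPullback (φ : ℬ →+*ᵍ 𝒜) (hφA : ∀ b : B, φ b = algebraMap B A b)
    (hφ : HomogeneousIdeal.irrelevant 𝒜 ≤ (HomogeneousIdeal.irrelevant ℬ).map φ)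
    (hB0 : ∀ r : R', algebraMap R' B r ∈ ℬ 0) (hA0 : ∀ r : R, algebraMap R A r ∈ 𝒜 0) :
    IsPullback (Proj.map φ hφ)
      (Proj.toSpecZero 𝒜 ≫ Spec.map (CommRingCat.ofHom (toDegZero 𝒜 (algebraMap R A) hA0)))
      (Proj.toSpecZero ℬ ≫ Spec.map (CommRingCat.ofHom (toDegZero ℬ (algebraMap R' B) hB0)))
      (Spec.map (CommRingCat.ofHom (algebraMap R' R))) := by
  refine Scheme.isPullback_of_openCover _ _ _ _ (Proj.affineOpenCover ℬ).openCover
    fun (j : Σ i : PNat, ℬ i) => ?_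
  obtain ⟨⟨i, hi⟩, s, hs⟩ := j
  replace hs : s ∈ ℬ i := hs
  have hsq := (isPullback_awayι_map φ hφ hi s hs).flip
  have hP := isPullback_SpecMap_of_isPushout _ _ _ _ (away_isPushout (R := R) (R' := R') φ hφA hB0 hA0 hi hs)
  refine IsPullback.of_iso hP.flip hsq.isoPullback (Iso.refl _) (Iso.refl _) (Iso.refl _) ?_ ?_ ?_ ?_
  · change Spec.map _ ≫ 𝟙 _ = hsq.isoPullback.hom ≫ pullback.snd _ _
    rw [Category.comp_id]
    exact hsq.isoPullback_hom_snd.symm
  · change Spec.map _ ≫ 𝟙 _ = hsq.isoPullback.hom ≫ pullback.fst _ _ ≫ _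
    rw [hsq.isoPullback_hom_fst_assoc, Proj.awayι_toSpecZero_assoc, Category.comp_id, ← Spec.map_comp]
    rfl
  · change Spec.map _ ≫ 𝟙 _ = 𝟙 _ ≫ Proj.awayι ℬ s hs hi ≫ _
    rw [Category.id_comp, Category.comp_id, Proj.awayι_toSpecZero_assoc, ← Spec.map_comp]
    rfl
  · simp

end Groth.Agent.H11Proj
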