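import Groth.Agent.H11Proj.TwistFP
import Groth.Agent.H11Tilde.Rel
import Groth.Agent.H11Tilde.StalkGen
import Groth.Agent.H11Tilde.ProjHom
import Groth.Agent.H11Tilde.RelMap
import Groth.Agent.H8Props.FlatLocus.Sections
import Groth.Agent.S8285
import Mathlib.RingTheory.Flat.EquationalCriterion

/-!
# Flatness of the relative Proj of an algebra with eventually flat graded pieces
-/

set_option autoImplicit false
set_option linter.style.haveILetI false
set_option linter.unusedSectionVars false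

noncomputable section

universe u

open CategoryTheory AlgebraicGeometry TopologicalSpace Opposite HomogeneousLocalization
open Groth.Agent.H11Tilde

namespace Groth.Agent.H11Proj.AwayDeg

variable {A σ : Type u} [CommRing A] [SetLike σ A] [AddSubgroupClass σ A] (𝒜 : ℕ → σ) [GradedRing 𝒜]
variable {f : A} {e : ℕ} (hf : f ∈ 𝒜 e)

/-- `a / f ^ K`. -/
def frac (f : A) (K : ℕ) (a : A) : Localization.Away f :=
  algebraMap A _ a * (((uf f) ^ K)⁻¹ : (Localization.Away f)ˣ)

theorem frac_mul_pow (K : ℕ) (a : A) : frac f K a * algebraMap A _ f ^ K = algebraMap A _ a := by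
  rw [frac, ← coe_uf, ← Units.val_pow_eq_pow_val, mul_assoc, ← Units.val_mul, inv_mul_cancel, Units.val_one,
    mul_one]

theorem frac_pow_mul (K j : ℕ) (a : A) : frac f (K + j) (a * f ^ j) = frac f K a := by
  refine ((IsLocalization.Away.algebraMap_isUnit f).pow (K + j)).mul_right_cancel ?_
  rw [frac_mul_pow, map_mul, map_pow, pow_add, ← mul_assoc (frac f K a), frac_mul_pow]

theorem frac_add (K : ℕ) (a b : A) : frac f K (a + b) = frac f K a + frac f K b := by
  simp [frac, add_mul]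

theorem frac_mul (K : ℕ) (c a : A) : frac f K (c * a) = algebraMap A _ c * frac f K a := by
  simp [frac, mul_assoc]

include hf in
theorem flat_twist_sections {R : Type u} [CommRing R] [Algebra R A] (hR : ∀ r : R, algebraMap R A r ∈ 𝒜 0)
    (he : 0 < e) (d : ℤ) {d₀ : ℕ}
    (hflat : ∀ D : ℕ, d₀ ≤ D → Module.Flat R (Submodule.span R (𝒜 D : Set A)))
    [Module R Γ(GrTwist.twist 𝒜 d, Proj.basicOpen 𝒜 f)]
    (hact : ∀ (r : R) (s : Γ(GrTwist.twist 𝒜 d, Proj.basicOpen 𝒜 f)) (y : Proj.basicOpen 𝒜 f),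
      GrTwist.val (r • s) y = algebraMap A (GrTwist.Loc 𝒜 y.1) (algebraMap R A r) * GrTwist.val s y) :
    Module.Flat R Γ(GrTwist.twist 𝒜 d, Proj.basicOpen 𝒜 f) := by
  classical
  have hQ : ∀ (D : ℕ) (z : A), z ∈ Submodule.span R (𝒜 D : Set A) → z ∈ 𝒜 D := fun D z hz => by
    refine Submodule.span_induction (fun w hw => hw) (zero_mem _) (fun _ _ _ _ => add_mem) (fun r w _ hw => ?_) hz
    rw [Algebra.smul_def]
    simpa using SetLike.mul_mem_graded (hR r) hw
  refine Module.Flat.iff_forall_isTrivialRelation.2 fun {l} r x hrel => ?_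
  -- representatives
  have hrep : ∀ s : Γ(GrTwist.twist 𝒜 d, Proj.basicOpen 𝒜 f), ∃ (k i : ℕ) (a : A), a ∈ 𝒜 i ∧
      (i : ℤ) = k * e + d ∧ ∀ y, GrTwist.val s y = mapAt 𝒜 y (frac f k a) := by
    intro s
    obtain ⟨k, i, m, hm, hi, hs⟩ := exists_eq_fracAt 𝒜 𝒜 he hf s
    refine ⟨k, i, m, hm, hi, fun y => ?_⟩
    rw [mapAt_of_mul_pow 𝒜 y (frac_mul_pow k m) (pow_notMem 𝒜 y.2 k)]
    exact hs y (pow_notMem 𝒜 y.2 k)
  choose k i a ha hi hval using fun j => hrep (x j)
  let K : ℕ := d₀ + d.natAbs + Finset.univ.sup k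
  have hkK : ∀ j, k j ≤ K := fun j => le_add_left (Finset.le_sup (f := k) (Finset.mem_univ j))
  have hKe : (d₀ : ℤ) ≤ (K : ℤ) * e + d := by
    have h1 : (K : ℤ) ≤ (K : ℤ) * e := le_mul_of_one_le_right (by positivity) (by exact_mod_cast he)
    have h2 : (d₀ : ℤ) + d.natAbs ≤ K := by exact_mod_cast Nat.le_add_right _ _
    omega
  let D : ℕ := ((K : ℤ) * e + d).toNat
  have hD : (D : ℤ) = (K : ℤ) * e + d := Int.toNat_of_nonneg (by omega)
  let b : Fin l → A := fun j => a j * f ^ (K - k j)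
  have hb : ∀ j, b j ∈ 𝒜 D := fun j => by
    have : i j + (K - k j) * e = D := by
      zify [hkK j]
      rw [hD, hi j]
      ring
    rw [← this]
    simpa using SetLike.mul_mem_graded (ha j) (SetLike.pow_mem_graded (K - k j) hf)
  have hvalb : ∀ j y, GrTwist.val (x j) y = mapAt 𝒜 y (frac f K (b j)) := fun j y => by
    rw [hval j y]
    congr 1
    have := frac_pow_mul (f := f) (k j) (K - k j) (a j)
    rwa [Nat.add_sub_cancel' (hkK j), eq_comm] at this
  -- the relation in the graded ring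
  let c : A := ∑ j, algebraMap R A (r j) * b j
  have hc : c ∈ 𝒜 D := sum_mem fun j _ => by simpa using SetLike.mul_mem_graded (hR (r j)) (hb j)
  have hzero : frac f K c = 0 := by
    refine eq_zero_of_mapAt 𝒜 hf he (d := d) ⟨K, D, c, hc, hD, frac_mul_pow K c⟩ fun y => ?_
    let ev : Γ(GrTwist.twist 𝒜 d, Proj.basicOpen 𝒜 f) →+ GrTwist.Loc 𝒜 y.1 :=
      AddMonoidHom.mk' (fun s => GrTwist.val s y) fun s t => rfl
    have h := congrArg ev hrel
    rw [map_sum, map_zero] at h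
    rw [← h]
    have : frac f K c = ∑ j, algebraMap A (Localization.Away f) (algebraMap R A (r j)) * frac f K (b j) := by
      simp only [c, frac, map_sum, map_mul, Finset.sum_mul, mul_assoc]
    rw [this, map_sum]
    refine Finset.sum_congr rfl fun j _ => ?_
    rw [map_mul, mapAt_algebraMap, ← hvalb j y]
    exact (hact (r j) (x j) y).symm
  have h0 : algebraMap A (Localization.Away f) c = algebraMap A _ 0 := by
    rw [← frac_mul_pow K c, hzero, zero_mul, map_zero]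
  obtain ⟨M, hM⟩ := IsLocalization.Away.exists_of_eq (S := Localization.Away f) f h0
  rw [mul_zero] at hM
  -- lift to a flat piece
  let K' : ℕ := K + M
  let D' : ℕ := D + M * e
  have hD' : (D' : ℤ) = (K' : ℤ) * e + d := by
    push_cast [D', K']
    rw [hD]
    ring
  let Q := Submodule.span R (𝒜 D' : Set A)
  have hb' : ∀ j, b j * f ^ M ∈ Q := fun j =>
    Submodule.subset_span (by simpa [D'] using SetLike.mul_mem_graded (hb j) (SetLike.pow_mem_graded M hf))
  choose g hg using fun q : Q => exists_sec 𝒜 hf (d := d) (x := frac f K' q.1)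
    ⟨K', D', q.1, hQ D' q.1 q.2, hD', frac_mul_pow K' q.1⟩
  let φ : Q →ₗ[R] Γ(GrTwist.twist 𝒜 d, Proj.basicOpen 𝒜 f) :=
    { toFun := g
      map_add' := fun p q => val_ext 𝒜 fun y => by
        change GrTwist.val (g (p + q)) y = GrTwist.val (g p) y + GrTwist.val (g q) y
        rw [hg, hg, hg, Submodule.coe_add, frac_add, map_add]
      map_smul' := fun t q => val_ext 𝒜 fun y => by
        rw [RingHom.id_apply, hact, hg, hg, Submodule.coe_smul, Algebra.smul_def, frac_mul, map_mul,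
          mapAt_algebraMap] }
  haveI : Module.Flat R Q := hflat D' (by
    have : (d₀ : ℤ) ≤ D' := by
      push_cast [D']
      rw [hD]
      have : (0 : ℤ) ≤ (M : ℤ) * e := by positivity
      omega
    exact_mod_cast this)
  have hrelQ : ∑ j, r j • (⟨b j * f ^ M, hb' j⟩ : Q) = 0 := by
    refine Subtype.ext ?_
    rw [AddSubmonoidClass.coe_finsetSum, ZeroMemClass.coe_zero, ← hM]
    simp only [Submodule.coe_smul, Algebra.smul_def, c, Finset.mul_sum]
    exact Finset.sum_congr rfl fun j _ => by ring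
  obtain ⟨κ, A', z, hz, hA⟩ := Module.Flat.isTrivialRelation_of_sum_smul_eq_zero hrelQ
  refine ⟨κ, A', fun q => φ (z q), fun j => ?_, hA⟩
  have hxj : x j = φ ⟨b j * f ^ M, hb' j⟩ := val_ext 𝒜 fun y => by
    refine Eq.trans ?_ (hg _ y).symm
    rw [hvalb j y]
    exact congrArg (mapAt 𝒜 y) (frac_pow_mul K M (b j)).symm
  refine hxj.trans ((congrArg φ (hz j)).trans ?_)
  rw [map_sum]
  exact Finset.sum_congr rfl fun q _ => map_smul φ _ _

end Groth.Agent.H11Proj.AwayDeg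

namespace Groth.Agent.H11Proj.RelProjFlat

open Groth.Agent.H11Proj.AwayDeg

variable {S P : Scheme.{u}} {𝒮 : RelProj.QCGrAlg S} {p : P ⟶ S}
  {chart : ∀ (U : S.Opens) (hU : IsAffineOpen U), (((p ⁻¹ᵁ U : P.Opens) : Scheme.{u}) ≅ Proj (𝒮.deg U hU))}

/-- Functions of the base on a standard open of a chart. -/
theorem appLE_basicOpen_deg {U : S.Opens} (hU : IsAffineOpen U) {A σ : Type u} [CommRing A] [SetLike σ A]
    [AddSubgroupClass σ A] (𝒜 : ℕ → σ) [GradedRing 𝒜] (str : Γ(S, U) ⟶ CommRingCat.of (𝒜 0)) {g : Proj 𝒜 ⟶ S}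
    (hg : g = Proj.toSpecZero 𝒜 ≫ Spec.map str ≫ hU.fromSpec) {a : A} {e : ℕ} (he : 0 < e) (ha : a ∈ 𝒜 e)
    (le : Proj.basicOpen 𝒜 a ≤ g ⁻¹ᵁ U) (r : Γ(S, U)) (y : Proj.basicOpen 𝒜 a) :
    fval 𝒜 (g.appLE U (Proj.basicOpen 𝒜 a) le r) y =
      algebraMap A (GrTwist.Loc 𝒜 y.1) (str.hom r : A) := by
  let D := Proj.basicOpen 𝒜 a
  let φ := str ≫ CommRingCat.ofHom (HomogeneousLocalization.fromZeroRingHom 𝒜 (.powers a)) ≫ Proj.awayToSection 𝒜 a
  have hι : D.ι = (Proj.basicOpenIsoSpec 𝒜 a ha he).hom ≫ Proj.awayι 𝒜 a ha he := by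
    rw [← Proj.basicOpenIsoSpec_inv_ι, Iso.hom_inv_id_assoc]
  have h1 : D.ι ≫ g = D.toSpecΓ ≫ Spec.map φ ≫ hU.fromSpec := by
    subst hg
    rw [hι, Category.assoc, Proj.awayι_toSpecZero_assoc, Proj.basicOpenIsoSpec_hom]
    simp only [φ, D, Proj.basicOpenToSpec, Category.assoc, Spec.map_comp]
  have hD : IsAffineOpen D := Proj.isAffineOpen_basicOpen 𝒜 a ha he
  rw [ι_comp_eq_fromSpec g hU D le] at h1
  haveI : IsIso D.toSpecΓ := by rw [← hD.isoSpec_hom]; infer_instance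
  have h2 : g.appLE U D le = φ :=
    Spec.map_injective ((cancel_mono hU.fromSpec).1 ((cancel_epi D.toSpecΓ).1 h1))
  rw [h2]
  have h3 : HomogeneousLocalization.fromZeroRingHom 𝒜 (.powers a) (str.hom r) =
      HomogeneousLocalization.Away.mk 𝒜 ha 0 (str.hom r : A) (by simpa using (str.hom r).2) := by
    refine HomogeneousLocalization.val_injective _ ?_
    rw [HomogeneousLocalization.Away.val_mk]
    exact congrArg (Localization.mk ((str.hom r : A))) (Subtype.ext (pow_zero a).symm)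
  refine Eq.trans ?_ ((fval_awayToSection 𝒜 ha 0 (str.hom r : A) (by simpa using (str.hom r).2) y).trans ?_)
  · exact congrArg (fun z => fval 𝒜 (Proj.awayToSection 𝒜 a z) y) h3
  · rw [← Localization.mk_one_eq_algebraMap]
    exact congrArg (Localization.mk _) (Subtype.ext (pow_zero a))

variable (hP : RelProj.IsRelProj 𝒮 p chart)
variable (hflat : ∃ d₀ : ℕ, ∀ d : ℕ, d₀ ≤ d → ∀ (U : S.Opens) (hU : IsAffineOpen U),
      letI := (𝒮.str.app (op U)).hom.toAlgebra
      Module.Flat Γ(S, U) ↥(Submodule.span Γ(S, U) (𝒮.deg U hU d : Set (𝒮.presheaf.obj (op U)))))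

/-- Functions of the base act on the sections over a standard open of a chart through degree zero. -/
theorem fval_appLE (hP : RelProj.IsRelProj 𝒮 p chart) (U : S.Opens) (hU : IsAffineOpen U) {f : 𝒮.presheaf.obj (op U)} {e : ℕ} (he : 0 < e)
    (hf : f ∈ 𝒮.deg U hU e) (hle : Proj.basicOpen (𝒮.deg U hU) f ≤ (RelProj.emb p chart U hU ≫ p) ⁻¹ᵁ U)
    (r : Γ(S, U)) (y : Proj.basicOpen (𝒮.deg U hU) f) :
    fval (𝒮.deg U hU) ((RelProj.emb p chart U hU ≫ p).appLE U _ hle r) y =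
      algebraMap _ (GrTwist.Loc (𝒮.deg U hU) y.1) ((𝒮.str.app (op U)).hom r) := by
  have hg : RelProj.emb p chart U hU ≫ p =
      Proj.toSpecZero (𝒮.deg U hU) ≫ Spec.map (𝒮.strZero U hU) ≫ hU.fromSpec := by
    rw [show RelProj.emb p chart U hU = (chart U hU).inv ≫ (p ⁻¹ᵁ U).ι from rfl, Category.assoc,
      ← hP.chart_over U hU, Iso.inv_hom_id_assoc]
  exact appLE_basicOpen_deg hU (𝒮.deg U hU) (𝒮.strZero U hU) hg he hf hle r y

include hP hflat in
/-- The functions on a standard open of a chart are flat over the base. -/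
theorem flat_appLE_basicOpen (U : S.Opens) (hU : IsAffineOpen U) {f : 𝒮.presheaf.obj (op U)} {e : ℕ} (he : 0 < e)
    (hf : f ∈ 𝒮.deg U hU e) (hle : Proj.basicOpen (𝒮.deg U hU) f ≤ (RelProj.emb p chart U hU ≫ p) ⁻¹ᵁ U) :
    ((RelProj.emb p chart U hU ≫ p).appLE U _ hle).hom.Flat := by
  obtain ⟨d₀, hd₀⟩ := hflat
  let 𝒜 := 𝒮.deg U hU
  let D := Proj.basicOpen 𝒜 f
  let ρ := ((RelProj.emb p chart U hU ≫ p).appLE U _ hle).hom
  letI := (𝒮.str.app (op U)).hom.toAlgebra
  letI : Module Γ(S, U) Γ(GrTwist.twist 𝒜 (0 : ℤ), D) := Module.compHom _ ρ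
  haveI : Module.Flat Γ(S, U) Γ(GrTwist.twist 𝒜 (0 : ℤ), D) :=
    flat_twist_sections 𝒜 hf (fun r => ((𝒮.strZero U hU).hom r).2) he 0 (fun k hk => hd₀ k hk U hU)
      fun r s y => (val_smul_twist 𝒜 (ρ r) s y).trans
        (congrArg (· * GrTwist.val s y) (fval_appLE hP U hU he hf hle r y))
  let one : Γ(GrTwist.twist 𝒜 (0 : ℤ), D) := secOf 𝒜 𝒜 (SetLike.one_mem_graded 𝒜) (SetLike.one_mem_graded 𝒜)
    (V := D) (fun x _ => one_notMem 𝒜 x) (by simp)
  letI := ρ.toAlgebra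
  show Module.Flat Γ(S, U) Γ(Proj 𝒜, D)
  let Φ : Γ(Proj 𝒜, D) →ₗ[Γ(S, U)] Γ(GrTwist.twist 𝒜 (0 : ℤ), D) :=
    { toFun := fun r => r • one
      map_add' := fun a b => add_smul a b one
      map_smul' := fun c a => mul_smul (ρ c) a one }
  refine Module.Flat.of_linearEquiv (LinearEquiv.ofBijective Φ
    (bijective_smul_gen 𝒜 (SetLike.one_mem_graded 𝒜) (SetLike.one_mem_graded 𝒜) (fun x _ => one_notMem 𝒜 x)
      (fun x _ => one_notMem 𝒜 x) (by simp) one fun x => rfl))

include hP hflat in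
/-- The relative Proj of an algebra with eventually flat pieces is flat. -/
theorem flat_relProj : AlgebraicGeometry.Flat p := by
  have hpt : ∀ x : P, ∃ (U : S.Opens) (hU : IsAffineOpen U) (y : Proj (𝒮.deg U hU)) (e : ℕ)
      (f : 𝒮.presheaf.obj (op U)), 0 < e ∧ f ∈ 𝒮.deg U hU e ∧ f ∉ y.asHomogeneousIdeal ∧
        (RelProj.emb p chart U hU).base y = x := fun x => by
    obtain ⟨⟨U, hU⟩, y, hy⟩ := exists_mem_range_emb p chart x
    obtain ⟨e, f, he, hf, hfy⟩ := exists_posHom_notMem (𝒮.deg U hU) y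
    exact ⟨U, hU, y, e, f, he, hf, hfy, hy⟩
  choose V hV yy ee ff hee hff hffy hyy using hpt
  refine IsZariskiLocalAtSource.of_iSup_eq_top (P := @AlgebraicGeometry.Flat)
    (fun x => (RelProj.emb p chart (V x) (hV x)) ''ᵁ Proj.basicOpen (𝒮.deg (V x) (hV x)) (ff x))
    (eq_top_iff.2 fun x _ => Opens.mem_iSup.2 ⟨x, yy x, hffy x, hyy x⟩) fun x => ?_
  let U := V x
  let hU := hV x
  let f := ff x
  let e := ee x
  have he := hee x
  have hf := hff x
  let j := RelProj.emb p chart U hU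
  let D := Proj.basicOpen (𝒮.deg U hU) f
  have hle : D ≤ (j ≫ p) ⁻¹ᵁ U := fun z _ => (opensRange_emb p chart U hU).le ⟨z, rfl⟩
  have hD : IsAffineOpen D := Proj.isAffineOpen_basicOpen _ f hf he
  have hflat' : AlgebraicGeometry.Flat (D.ι ≫ j ≫ p) := by
    rw [ι_comp_eq_fromSpec (j ≫ p) hU D hle]
    haveI : IsIso D.toSpecΓ := by rw [← hD.isoSpec_hom]; infer_instance
    haveI : AlgebraicGeometry.Flat (Spec.map ((j ≫ p).appLE U D hle)) :=
      (HasRingHomProperty.Spec_iff (P := @AlgebraicGeometry.Flat)).2 (flat_appLE_basicOpen hP hflat U hU he hf hle)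
    infer_instance
  show AlgebraicGeometry.Flat ((j ''ᵁ D).ι ≫ p)
  have e1 : (j ''ᵁ D).ι ≫ p = (j.isoImage D).inv ≫ D.ι ≫ j ≫ p := by
    rw [← Category.assoc D.ι, ← j.isoImage_hom_ι D, Category.assoc, Iso.inv_hom_id_assoc]
  rw [e1]
  haveI := hflat'
  infer_instance

/-- The twisting sheaves of the relative Proj of an algebra with eventually flat pieces are flat over the base. -/
theorem isFlatOver_relTwist (hP : RelProj.IsRelProj 𝒮 p chart)
    (hflat : ∃ d₀ : ℕ, ∀ d : ℕ, d₀ ≤ d → ∀ (U : S.Opens) (hU : IsAffineOpen U),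
      letI := (𝒮.str.app (op U)).hom.toAlgebra
      Module.Flat Γ(S, U) ↥(Submodule.span Γ(S, U) (𝒮.deg U hU d : Set (𝒮.presheaf.obj (op U)))))
    (n : ℤ) (L : P.Modules) (lam : ∀ (U : S.Opens) (hU : IsAffineOpen U),
      L ⟶ (Scheme.Modules.pushforward (RelProj.emb p chart U hU)).obj (GrTwist.twist (𝒮.deg U hU) n))
    (hL : RelProj.IsRelTwist 𝒮 p chart n L lam) : FlatMod.IsFlatOver p L := by
  intro x
  obtain ⟨d₀, hd₀⟩ := hflat
  obtain ⟨⟨U, hU⟩, y, hy⟩ := exists_mem_range_emb p chart x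
  obtain ⟨e, f, he, hf, hfy⟩ := exists_posHom_notMem (𝒮.deg U hU) y
  let 𝒜 := 𝒮.deg U hU
  let j := RelProj.emb p chart U hU
  let D := Proj.basicOpen 𝒜 f
  let W := j ''ᵁ D
  have hWle : W ≤ j.opensRange := j.image_le_opensRange _
  have hWU : W ≤ p ⁻¹ᵁ U := hWle.trans (opensRange_emb p chart U hU).le
  have hW : IsAffineOpen W := (Proj.isAffineOpen_basicOpen 𝒜 f hf he).image_of_isOpenImmersion _
  have hqc : Coh.IsQCoh L := Groth.Agent.S8285.result 𝒮 p chart hP n L lam hL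
  have hpre : j ⁻¹ᵁ W = D := j.preimage_image_eq D
  letI := Module.compHom Γ(L, W) (p.appLE U W hWU).hom
  suffices Module.Flat Γ(S, U) Γ(L, W) from
    (Groth.Agent.H8Props.FlatLocus.flat_sections_over_iff p L hqc hU hW hWU).1 this ⟨x, y, hfy, hy⟩
  letI := (𝒮.str.app (op U)).hom.toAlgebra
  have hR : ∀ r : Γ(S, U), algebraMap Γ(S, U) (𝒮.presheaf.obj (op U)) r ∈ 𝒜 0 := fun r =>
    ((𝒮.strZero U hU).hom r).2
  have hDW : D ≤ j ⁻¹ᵁ W := hpre.ge
  let ι : Γ(Proj 𝒜, j ⁻¹ᵁ W) →+* Γ(Proj 𝒜, D) := ((Proj 𝒜).presheaf.map (homOfLE hDW).op).hom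
  let ρ : Γ(S, U) →+* Γ(Proj 𝒜, D) := ι.comp ((j.app W).hom.comp (p.appLE U W hWU).hom)
  letI : Module Γ(S, U) Γ(GrTwist.twist 𝒜 n, D) := Module.compHom _ ρ
  have hρ : ∀ r y, fval 𝒜 (ρ r) y =
      algebraMap _ (GrTwist.Loc 𝒜 y.1) (algebraMap Γ(S, U) (𝒮.presheaf.obj (op U)) r) := by
    intro r y
    have hg : j ≫ p = Proj.toSpecZero 𝒜 ≫ Spec.map (𝒮.strZero U hU) ≫ hU.fromSpec := by
      rw [show j = (chart U hU).inv ≫ (p ⁻¹ᵁ U).ι from rfl, Category.assoc, ← hP.chart_over U hU,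
        Iso.inv_hom_id_assoc]
    have hle : D ≤ (j ≫ p) ⁻¹ᵁ U := fun z hz => hWU (hDW hz)
    have h1 := appLE_basicOpen_deg hU 𝒜 (𝒮.strZero U hU) hg he hf hle r y
    refine Eq.trans (congrArg (fun z => fval 𝒜 z y) ?_) h1
    show (p.appLE U W hWU ≫ j.app W ≫ (Proj 𝒜).presheaf.map (homOfLE hDW).op) r = (j ≫ p).appLE U D hle r
    congr 2
    rw [← Scheme.Hom.appLE_comp_appLE j p U W D hWU hDW]
    rfl
  haveI : Module.Flat Γ(S, U) Γ(GrTwist.twist 𝒜 n, D) :=
    flat_twist_sections 𝒜 hf hR he n (fun k hk => hd₀ k hk U hU) fun r s y => by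
      refine (val_smul_twist 𝒜 (ρ r) s y).trans ?_
      rw [hρ]
  let R₀ := ((GrTwist.twist 𝒜 n).presheaf.map (homOfLE hDW).op)
  haveI : IsIso R₀ := by
    have : homOfLE hDW = eqToHom hpre.symm := Subsingleton.elim _ _
    simp only [R₀, this]
    infer_instance
  refine Module.Flat.of_linearEquiv
    (LinearEquiv.ofBijective
      { toFun := fun s => R₀ ((lam U hU).app W s)
        map_add' := fun a b => by rw [map_add]; exact map_add R₀.hom _ _
        map_smul' := fun r s => by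
          rw [RingHom.id_apply]
          show R₀ ((lam U hU).app W ((p.appLE U W hWU) r • s)) = ρ r • R₀ ((lam U hU).app W s)
          rw [Scheme.Modules.Hom.app_smul]
          exact Scheme.Modules.map_smul (GrTwist.twist 𝒜 n) _ _ _ }
      ((ConcreteCategory.bijective_of_isIso R₀).comp (hL.bijective U hU W hWU)))

end Groth.Agent.H11Proj.RelProjFlat
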