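import Groth.Agent.H11Proj.TwistFP
import Groth.Agent.H11Proj.RelProjFlat
import Groth.Agent.H11Tilde.TransposeCover

/-!
# Twisting sheaves under base change of graded rings
-/

set_option autoImplicit false
set_option linter.style.haveILetI false
set_option linter.unusedSectionVars false

noncomputable section

universe u

open CategoryTheory AlgebraicGeometry TopologicalSpace Opposite HomogeneousLocalization
open Groth.Agent.H11Tilde
open scoped TensorProduct HomogeneousIdeal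

namespace Groth.Agent.H11Proj.TwistBaseChange

variable {A σ : Type u} [CommRing A] [SetLike σ A] [AddSubgroupClass σ A] {𝒜 : ℕ → σ} [GradedRing 𝒜]
variable {B σ' : Type u} [CommRing B] [SetLike σ' B] [AddSubgroupClass σ' B] {ℬ : ℕ → σ'} [GradedRing ℬ]

section sec

variable (𝒜) {f : A} {e : ℕ} (hf : f ∈ 𝒜 e) (n : ℤ)

/-- The section `a_D / f ^ K` of `O(n)` on `D₊(f)`, with `D = K e + n`. -/
def sec {K D : ℕ} (hD : (D : ℤ) = (K : ℤ) * e + n) (a : A) : Γ(GrTwist.twist 𝒜 n, Proj.basicOpen 𝒜 f) :=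
  secOf 𝒜 𝒜 (DirectSum.decompose 𝒜 a D).2
    (show f ^ K ∈ 𝒜 (K * e) by simpa using SetLike.pow_mem_graded K hf)
    (fun _ hy => pow_notMem 𝒜 hy K) (by push_cast; exact hD)

theorem val_sec {K D : ℕ} (hD : (D : ℤ) = (K : ℤ) * e + n) (a : A) (y : Proj.basicOpen 𝒜 f) :
    GrTwist.val (sec 𝒜 hf n hD a) y =
      Localization.mk (DirectSum.decompose 𝒜 a D : A) ⟨f ^ K, pow_notMem 𝒜 y.2 K⟩ := rfl

theorem val_sec_of_mem {K D : ℕ} (hD : (D : ℤ) = (K : ℤ) * e + n) {a : A} (ha : a ∈ 𝒜 D) (y : Proj.basicOpen 𝒜 f) :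
    GrTwist.val (sec 𝒜 hf n hD a) y = Localization.mk a ⟨f ^ K, pow_notMem 𝒜 y.2 K⟩ := by
  rw [val_sec]
  simp only [DirectSum.decompose_of_mem_same 𝒜 ha]

/-- `sec` as an additive map. -/
def secHom {K D : ℕ} (hD : (D : ℤ) = (K : ℤ) * e + n) : A →+ Γ(GrTwist.twist 𝒜 n, Proj.basicOpen 𝒜 f) :=
  AddMonoidHom.mk' (sec 𝒜 hf n hD) fun a b => AwayDeg.val_ext 𝒜 fun y => by
    change _ = GrTwist.val (sec 𝒜 hf n hD a) y + GrTwist.val (sec 𝒜 hf n hD b) y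
    rw [val_sec, val_sec, val_sec, DirectSum.decompose_add, DFinsupp.add_apply, Localization.add_mk_self]
    rfl

theorem sec_decompose {K D : ℕ} (hD : (D : ℤ) = (K : ℤ) * e + n) (a : A) :
    sec 𝒜 hf n hD (DirectSum.decompose 𝒜 a D) = sec 𝒜 hf n hD a :=
  AwayDeg.val_ext 𝒜 fun y => by rw [val_sec_of_mem 𝒜 hf n hD (DirectSum.decompose 𝒜 a D).2, val_sec]

theorem sec_pow_mul {K D : ℕ} (hD : (D : ℤ) = (K : ℤ) * e + n) (j : ℕ)
    (hD' : ((D + j * e : ℕ) : ℤ) = ((K + j : ℕ) : ℤ) * e + n) {a : A} (ha : a ∈ 𝒜 D) :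
    sec 𝒜 hf n hD' (a * f ^ j) = sec 𝒜 hf n hD a := by
  have hm : a * f ^ j ∈ 𝒜 (D + j * e) :=
    SetLike.mul_mem_graded ha (by simpa using SetLike.pow_mem_graded j hf)
  refine AwayDeg.val_ext 𝒜 fun y => ?_
  rw [val_sec_of_mem 𝒜 hf n hD' hm, val_sec_of_mem 𝒜 hf n hD ha, Localization.mk_eq_mk_iff, Localization.r_iff_exists]
  exact ⟨1, by simp only [OneMemClass.coe_one, one_mul]; ring⟩

theorem exists_eq_sec (he : 0 < e) (s : Γ(GrTwist.twist 𝒜 n, Proj.basicOpen 𝒜 f)) :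
    ∃ K₀ : ℕ, ∀ K, K₀ ≤ K → ∀ (D : ℕ) (hD : (D : ℤ) = (K : ℤ) * e + n),
      ∃ a : A, a ∈ 𝒜 D ∧ sec 𝒜 hf n hD a = s := by
  obtain ⟨k, i, m, hm, hi, hs⟩ := exists_eq_fracAt 𝒜 𝒜 he hf s
  refine ⟨k, fun K hK D hD => ⟨m * f ^ (K - k), ?_, ?_⟩⟩
  · have : i + (K - k) * e = D := by
      zify [hK]; rw [hD, hi]; ring
    rw [← this]
    exact SetLike.mul_mem_graded hm (by simpa using SetLike.pow_mem_graded (K - k) hf)
  · obtain ⟨j, rfl⟩ := Nat.exists_eq_add_of_le hK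
    have hD₁ : D = i + j * e := by zify; rw [hD, hi]; push_cast; ring
    subst hD₁
    rw [Nat.add_sub_cancel_left, sec_pow_mul 𝒜 hf n hi j hD hm]
    refine AwayDeg.val_ext 𝒜 fun y => ?_
    rw [val_sec_of_mem 𝒜 hf n hi hm]
    exact (hs y (pow_notMem 𝒜 y.2 k)).symm

/-- A degree zero element as a function on `D₊(f)`. -/
def const (c : A) (hc : c ∈ 𝒜 0) : Γ(Proj 𝒜, Proj.basicOpen 𝒜 f) :=
  Proj.awayToSection 𝒜 f (Away.mk 𝒜 hf 0 c (by simpa using hc))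

theorem fval_const (c : A) (hc : c ∈ 𝒜 0) (y : Proj.basicOpen 𝒜 f) :
    fval 𝒜 (const 𝒜 hf c hc) y = algebraMap A (GrTwist.Loc 𝒜 y.1) c := by
  rw [const, fval_awayToSection, ← Localization.mk_one_eq_algebraMap, Localization.mk_eq_mk_iff,
    Localization.r_iff_exists]
  exact ⟨1, by simp⟩

theorem fval_ext {U : (Proj 𝒜).Opens} {r r' : Γ(Proj 𝒜, U)} (h : ∀ x, fval 𝒜 r x = fval 𝒜 r' x) : r = r' :=
  Subtype.ext (funext fun x => HomogeneousLocalization.val_injective _ (h x))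

end sec

variable (ψ : 𝒜 →+*ᵍ ℬ) (hψ : ℬ₊ ≤ (𝒜₊).map ψ)

theorem fval_app (V : (Proj 𝒜).Opens) (r : Γ(Proj 𝒜, V)) (y : (Proj.map ψ hψ ⁻¹ᵁ V : (Proj ℬ).Opens)) :
    fval ℬ ((Proj.map ψ hψ).app V r) y =
      GrTwist.locMap ψ hψ y.1 (fval 𝒜 r ⟨ProjectiveSpectrum.comap ψ hψ y.1, y.2⟩) :=
  HomogeneousLocalization.val_localRingHom (f := ψ) (hIJ := rfl) _

theorem fval_add' {U : (Proj ℬ).Opens} (r s : Γ(Proj ℬ, U)) (x : U) :
    fval ℬ (r + s) x = fval ℬ r x + fval ℬ s x := HomogeneousLocalization.val_add _ _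

theorem fval_mul' {U : (Proj ℬ).Opens} (r s : Γ(Proj ℬ, U)) (x : U) :
    fval ℬ (r * s) x = fval ℬ r x * fval ℬ s x := HomogeneousLocalization.val_mul _ _

/-- The comparison on `D₊(f)`, on a pure tensor. -/
theorem val_lift (n : ℤ) (V : (Proj 𝒜).Opens) :
    letI := ((Proj.map ψ hψ).app V).hom.toAlgebra
    letI := Module.compHom Γ(GrTwist.twist ℬ n, Proj.map ψ hψ ⁻¹ᵁ V) ((Proj.map ψ hψ).app V).hom
    haveI : IsScalarTower Γ(Proj 𝒜, V) Γ(Proj ℬ, Proj.map ψ hψ ⁻¹ᵁ V)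
        Γ(GrTwist.twist ℬ n, Proj.map ψ hψ ⁻¹ᵁ V) := .of_algebraMap_smul fun _ _ => rfl
    ∀ (c : Γ(Proj ℬ, Proj.map ψ hψ ⁻¹ᵁ V)) (m : Γ(GrTwist.twist 𝒜 n, V))
      (y : (Proj.map ψ hψ ⁻¹ᵁ V : (Proj ℬ).Opens)),
      GrTwist.val (LinearMap.liftBaseChange Γ(Proj ℬ, Proj.map ψ hψ ⁻¹ᵁ V)
        (TransposeCover.appLin (Proj.map ψ hψ) (GrTwist.comap ψ hψ n) V) (c ⊗ₜ m)) y =
      fval ℬ c y * GrTwist.locMap ψ hψ y.1 (GrTwist.val m ⟨ProjectiveSpectrum.comap ψ hψ y.1, y.2⟩) := by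
  intro c m y
  rw [LinearMap.liftBaseChange_tmul, AwayDeg.val_smul_twist]
  rfl

theorem val_add' {n : ℤ} {U : (Proj ℬ).Opens} (s t : Γ(GrTwist.twist ℬ n, U)) (x : U) :
    GrTwist.val (s + t) x = GrTwist.val s x + GrTwist.val t x := rfl

theorem val_zero' {n : ℤ} {U : (Proj ℬ).Opens} (x : U) :
    GrTwist.val (0 : Γ(GrTwist.twist ℬ n, U)) x = 0 := rfl

theorem val_map' {n : ℤ} {U V : (Proj ℬ).Opens} (h : V ≤ U) (s : Γ(GrTwist.twist ℬ n, U)) (x : V) :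
    GrTwist.val ((GrTwist.twist ℬ n).presheaf.map (homOfLE h).op s) x = GrTwist.val s ⟨x.1, h x.2⟩ := rfl

/-- `b / s` as an additive map in the numerator. -/
def mkHom {C : Type u} [CommRing C] {S : Submonoid C} (s : S) : C →+ Localization S :=
  AddMonoidHom.mk' (fun b => Localization.mk b s) fun b b' => (Localization.add_mk_self b _ b').symm

theorem mkHom_apply {C : Type u} [CommRing C] {S : Submonoid C} (s : S) (b : C) :
    mkHom s b = Localization.mk b s := rfl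

variable {R R' : Type u} [CommRing R'] [CommRing R] [Algebra R' R] [Algebra R' A] [Algebra R B]

theorem exists_basicOpen (y : ProjectiveSpectrum ℬ) :
    ∃ (e : ℕ) (f : A), 0 < e ∧ f ∈ 𝒜 e ∧ ProjectiveSpectrum.comap ψ hψ y ∈ Proj.basicOpen 𝒜 f := by
  classical
  obtain ⟨f, hf, hfy⟩ := SetLike.not_le_iff_exists.1 (ProjectiveSpectrum.comap ψ hψ y).not_irrelevant_le
  by_contra! h
  refine hfy ?_
  rw [← DirectSum.sum_support_decompose 𝒜 f]
  refine sum_mem fun i _ => ?_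
  rcases Nat.eq_zero_or_pos i with rfl | hi
  · rw [show (DirectSum.decompose 𝒜 f 0 : A) = 0 from hf]
    exact zero_mem _
  · by_contra hn
    exact h i _ hi (DirectSum.decompose 𝒜 f i).2 hn

theorem bijective_transpose (hR' : ∀ r, algebraMap R' A r ∈ 𝒜 0) (hR : ∀ r, algebraMap R B r ∈ ℬ 0)
    (hψR : ∀ r, ψ (algebraMap R' A r) = algebraMap R B (algebraMap R' R r))
    (hspan : ∀ D, ∀ b ∈ ℬ D, b ∈ Submodule.span R ((fun a => ψ a) '' (𝒜 D : Set A)))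
    (hinj : ∀ (ι : Type u) [Fintype ι] (r : ι → R) (a : ι → A),
      (∑ i, algebraMap R B (r i) * ψ (a i)) = 0 → ∑ i, r i ⊗ₜ[R'] a i = (0 : R ⊗[R'] A))
    {f : A} {e : ℕ} (he : 0 < e) (hf : f ∈ 𝒜 e) (n : ℤ) :
    letI := ((Proj.map ψ hψ).app (Proj.basicOpen 𝒜 f)).hom.toAlgebra
    letI := Module.compHom Γ(GrTwist.twist ℬ n, Proj.map ψ hψ ⁻¹ᵁ Proj.basicOpen 𝒜 f)
      ((Proj.map ψ hψ).app (Proj.basicOpen 𝒜 f)).hom
    haveI : IsScalarTower Γ(Proj 𝒜, Proj.basicOpen 𝒜 f) Γ(Proj ℬ, Proj.map ψ hψ ⁻¹ᵁ Proj.basicOpen 𝒜 f)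
        Γ(GrTwist.twist ℬ n, Proj.map ψ hψ ⁻¹ᵁ Proj.basicOpen 𝒜 f) := .of_algebraMap_smul fun _ _ => rfl
    Function.Bijective (LinearMap.liftBaseChange Γ(Proj ℬ, Proj.map ψ hψ ⁻¹ᵁ Proj.basicOpen 𝒜 f)
      (TransposeCover.appLin (Proj.map ψ hψ) (GrTwist.comap ψ hψ n) (Proj.basicOpen 𝒜 f))) := by
  classical
  let g := Proj.map ψ hψ
  let V := Proj.basicOpen 𝒜 f
  letI := (g.app V).hom.toAlgebra
  letI := Module.compHom Γ(GrTwist.twist ℬ n, g ⁻¹ᵁ V) (g.app V).hom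
  haveI : IsScalarTower Γ(Proj 𝒜, V) Γ(Proj ℬ, g ⁻¹ᵁ V) Γ(GrTwist.twist ℬ n, g ⁻¹ᵁ V) :=
    .of_algebraMap_smul fun _ _ => rfl
  let L := LinearMap.liftBaseChange Γ(Proj ℬ, g ⁻¹ᵁ V) (TransposeCover.appLin g (GrTwist.comap ψ hψ n) V)
  let T := Γ(Proj ℬ, g ⁻¹ᵁ V) ⊗[Γ(Proj 𝒜, V)] Γ(GrTwist.twist 𝒜 n, V)
  have hψf : ψ f ∈ ℬ e := ψ.map_mem hf
  have hW : g ⁻¹ᵁ V = Proj.basicOpen ℬ (ψ f) := Proj.map_preimage_basicOpen ψ hψ f
  -- constants of `R`
  let ρ : R → Γ(Proj ℬ, g ⁻¹ᵁ V) := fun r =>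
    (Proj ℬ).presheaf.map (homOfLE hW.le).op (const ℬ hψf (algebraMap R B r) (hR r))
  have hρ : ∀ r y, fval ℬ (ρ r) y = algebraMap B (GrTwist.Loc ℬ y.1) (algebraMap R B r) := fun r y =>
    (fval_map ℬ hW.le _ y).trans (fval_const ℬ hψf _ _ _)
  let ρ' : R' → Γ(Proj 𝒜, V) := fun r => const 𝒜 hf (algebraMap R' A r) (hR' r)
  have hρ_add : ∀ r s, ρ (r + s) = ρ r + ρ s := fun r s => fval_ext ℬ fun y => by
    rw [fval_add', hρ, hρ, hρ, map_add, map_add]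
  have hρ_mul : ∀ r s, ρ (r * algebraMap R' R s) = g.app V (ρ' s) * ρ r := fun r s => fval_ext ℬ fun y => by
    rw [fval_mul', hρ, hρ, fval_app, fval_const, map_mul, map_mul, ← hψR, mul_comm, ← Localization.mk_one_eq_algebraMap,
      ← Localization.mk_one_eq_algebraMap, ← Localization.mk_one_eq_algebraMap, GrTwist.locMap_mk]
    simp only [OneMemClass.coe_one, map_one]
    rfl
  -- the presentation by `R ⊗ A`
  have hΦsmul : ∀ {K D : ℕ} (hD : (D : ℤ) = (K : ℤ) * e + n) (s : R') (a : A),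
      sec 𝒜 hf n hD (s • a) = ρ' s • sec 𝒜 hf n hD a := fun {K D} hD s a => AwayDeg.val_ext 𝒜 fun y => by
    rw [AwayDeg.val_smul_twist, fval_const, val_sec, val_sec, Algebra.smul_def,
      DirectSum.coe_decompose_mul_of_left_mem_zero 𝒜 (hR' s), ← Localization.mk_one_eq_algebraMap,
      Localization.mk_mul, one_mul]
  let F : ∀ (K D : ℕ), ((D : ℤ) = (K : ℤ) * e + n) → (R ⊗[R'] A →+ T) := fun K D hD =>
    TensorProduct.liftAddHom
      (AddMonoidHom.mk' (fun r => ((TensorProduct.mk Γ(Proj 𝒜, V) Γ(Proj ℬ, g ⁻¹ᵁ V) _ (ρ r)).toAddMonoidHom).comp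
          (secHom 𝒜 hf n hD))
        fun r s => AddMonoidHom.ext fun a => by
          change ρ (r + s) ⊗ₜ _ = ρ r ⊗ₜ _ + ρ s ⊗ₜ _
          rw [hρ_add, TensorProduct.add_tmul])
      fun r' r a => by
        change ρ (r' • r) ⊗ₜ sec 𝒜 hf n hD a = ρ r ⊗ₜ sec 𝒜 hf n hD (r' • a)
        rw [hΦsmul, Algebra.smul_def, mul_comm, hρ_mul, ← TensorProduct.smul_tmul]
        rfl
  have hFtmul : ∀ {K D : ℕ} (hD : (D : ℤ) = (K : ℤ) * e + n) (r : R) (a : A),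
      F _ _ hD (r ⊗ₜ a) = ρ r ⊗ₜ sec 𝒜 hf n hD a := fun _ _ _ => rfl
  have hval : ∀ {K D : ℕ} (hD : (D : ℤ) = (K : ℤ) * e + n) (r : R) (a : A) (y : (g ⁻¹ᵁ V : (Proj ℬ).Opens)),
      GrTwist.val (L (F _ _ hD (r ⊗ₜ a))) y =
        Localization.mk (algebraMap R B r * ψ (DirectSum.decompose 𝒜 a D))
          ⟨ψ (f ^ K), pow_notMem 𝒜 (x := ProjectiveSpectrum.comap ψ hψ y.1) y.2 K⟩ := fun {K D} hD r a y => by
    rw [hFtmul]
    refine (val_lift ψ hψ n V (ρ r) _ y).trans ?_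
    rw [hρ, val_sec, GrTwist.locMap_mk, ← Localization.mk_one_eq_algebraMap, Localization.mk_mul, one_mul]
  have hshift : ∀ {K D : ℕ} (hD : (D : ℤ) = (K : ℤ) * e + n) (j : ℕ)
      (hD' : ((D + j * e : ℕ) : ℤ) = ((K + j : ℕ) : ℤ) * e + n) (r : R) {a : A}, a ∈ 𝒜 D →
      F _ _ hD' (r ⊗ₜ (a * f ^ j)) = F _ _ hD (r ⊗ₜ a) := fun {K D} hD j hD' r {a} ha => by
    rw [hFtmul, hFtmul, sec_pow_mul 𝒜 hf n hD j hD' ha]
  -- degrees
  let K₀ : ℕ := n.natAbs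
  let deg : ℕ → ℕ := fun K => ((K : ℤ) * e + n).toNat
  have hdeg : ∀ K, K₀ ≤ K → (deg K : ℤ) = (K : ℤ) * e + n := fun K hK => by
    refine Int.toNat_of_nonneg ?_
    have h1 : (K : ℤ) ≤ (K : ℤ) * e := le_mul_of_one_le_right (by positivity) (by exact_mod_cast he)
    omega
  -- every tensor comes from `R ⊗ A`
  have hnorm : ∀ z : T, ∃ K₁ : ℕ, ∀ K, K₁ ≤ K → ∀ (D : ℕ) (hD : (D : ℤ) = (K : ℤ) * e + n), z ∈ (F K D hD).range := by
    intro z
    induction z using TensorProduct.induction_on with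
    | zero => exact ⟨0, fun _ _ _ hD => zero_mem _⟩
    | add x y hx hy =>
      obtain ⟨K₁, h₁⟩ := hx
      obtain ⟨K₂, h₂⟩ := hy
      exact ⟨max K₁ K₂, fun K hK D hD => add_mem (h₁ K (le_trans (le_max_left _ _) hK) D hD)
        (h₂ K (le_trans (le_max_right _ _) hK) D hD)⟩
    | tmul c m =>
      obtain ⟨k, x, hx, hc⟩ := exists_fval_eq ℬ he hψf ((Proj ℬ).presheaf.map (homOfLE hW.ge).op c)
      have hc' : ∀ y : (g ⁻¹ᵁ V : (Proj ℬ).Opens), ∀ hy : ψ f ^ k ∉ y.1.asHomogeneousIdeal,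
          fval ℬ c y = Localization.mk x ⟨ψ f ^ k, hy⟩ := fun y hy =>
        ((fval_map ℬ hW.ge c ⟨y.1, hW.le y.2⟩).symm).trans (hc ⟨y.1, hW.le y.2⟩ hy)
      obtain ⟨l, r, a, hax⟩ := (Submodule.mem_span_image_iff_exists_fun R).1 (hspan _ _ hx)
      have hal : ∀ j : l, (j : A) ∈ 𝒜 (k • e) := fun j => by simpa using r j.2
      let α : l → Γ(Proj 𝒜, V) := fun j => Proj.awayToSection 𝒜 f (Away.mk 𝒜 hf k (j : A) (hal j))
      have hce : c = ∑ j : l, α j • ρ (a j) := fval_ext ℬ fun y => by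
        let ev : Γ(Proj ℬ, g ⁻¹ᵁ V) →+ GrTwist.Loc ℬ y.1 := AddMonoidHom.mk' (fun t => fval ℬ t y) fun a b => fval_add' a b y
        change fval ℬ c y = ev _
        rw [map_sum, hc' y (pow_notMem ℬ (hW.le y.2) k), ← hax]
        have : ∀ j : l, ev (α j • ρ (a j)) =
            Localization.mk (a j • ψ (j : A)) ⟨ψ f ^ k, pow_notMem ℬ (hW.le y.2) k⟩ := fun j => by
          refine (fval_mul' (g.app V (α j)) (ρ (a j)) y).trans ?_
          rw [hρ, fval_app, fval_awayToSection, GrTwist.locMap_mk, ← Localization.mk_one_eq_algebraMap,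
            Localization.mk_mul, mul_one, Algebra.smul_def]
          simp only [map_pow, mul_comm]
        rw [Finset.sum_congr rfl fun j _ => this j]
        exact map_sum (mkHom (⟨ψ f ^ k, pow_notMem ℬ (hW.le y.2) k⟩ : y.1.asHomogeneousIdeal.toIdeal.primeCompl)) _ _
      obtain ⟨K₁, h₁⟩ := exists_eq_sec 𝒜 hf n he m
      refine ⟨K₁ + k + K₀, fun K hK D hD => ?_⟩
      rw [hce, TensorProduct.sum_tmul]
      refine sum_mem fun j _ => ?_
      have hK' := hdeg (K - k) (by omega)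
      obtain ⟨a', ha', hm⟩ := h₁ (K - k) (by omega) _ hK'
      have hD' : k • e + deg (K - k) = D := by
        rw [smul_eq_mul]
        zify at hK' ⊢
        rw [hK', hD]
        have : ((K - k : ℕ) : ℤ) = K - k := by omega
        rw [this]; ring
      refine ⟨a j ⊗ₜ ((j : A) * a'), ?_⟩
      rw [hFtmul, TensorProduct.smul_tmul]
      refine congrArg (ρ (a j) ⊗ₜ ·) (AwayDeg.val_ext 𝒜 fun y => ?_)
      rw [AwayDeg.val_smul_twist, ← hm, val_sec_of_mem 𝒜 hf n hK' ha',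
        val_sec_of_mem 𝒜 hf n hD (hD' ▸ SetLike.mul_mem_graded (hal j) ha'), fval_awayToSection,
        Localization.mk_mul]
      refine congrArg (Localization.mk _) (Subtype.ext ?_)
      rw [Submonoid.coe_mul, ← pow_add, Nat.add_sub_cancel' (by omega)]
  refine ⟨(injective_iff_map_eq_zero L).2 fun z hz => ?_, fun s => ?_⟩
  · obtain ⟨K₁, h₁⟩ := hnorm z
    let K := K₁ + K₀
    have hD := hdeg K (by omega)
    obtain ⟨w, hw⟩ := h₁ K (by omega) _ hD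
    obtain ⟨t, hwt⟩ := TensorProduct.exists_finset w
    let D := deg K
    let pr : (i : t) → A := fun i => (DirectSum.decompose 𝒜 i.1.2 D : A)
    let b : B := ∑ i : t, algebraMap R B i.1.1 * ψ (pr i)
    have hz' : z = ∑ i : t, F _ _ hD (i.1.1 ⊗ₜ pr i) := by
      rw [← hw, hwt, map_sum, ← Finset.sum_coe_sort]
      refine Finset.sum_congr rfl fun i _ => ?_
      rw [hFtmul, hFtmul, sec_decompose]
    have hb : b ∈ ℬ D := sum_mem fun i _ => by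
      have := SetLike.mul_mem_graded (hR i.1.1) (ψ.map_mem (DirectSum.decompose 𝒜 i.1.2 D).2)
      rwa [zero_add] at this
    have h0 : AwayDeg.frac (ψ f) K b = 0 := by
      refine AwayDeg.eq_zero_of_mapAt ℬ hψf he (d := n) ⟨K, D, b, hb, hD, AwayDeg.frac_mul_pow K b⟩ fun y => ?_
      rw [AwayDeg.mapAt_of_mul_pow ℬ y (AwayDeg.frac_mul_pow K b) (pow_notMem ℬ y.2 K)]
      let y' : (g ⁻¹ᵁ V : (Proj ℬ).Opens) := ⟨y.1, hW.ge y.2⟩
      let ev : T →+ GrTwist.Loc ℬ y.1 := AddMonoidHom.mk' (fun x => GrTwist.val (L x) y') fun u v => by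
        rw [map_add]; exact val_add' _ _ _
      have h := congrArg ev hz'
      rw [map_sum, show ev z = 0 by change GrTwist.val (L z) y' = 0; rw [hz]; rfl] at h
      rw [h]
      refine (map_sum (mkHom (⟨ψ f ^ K, pow_notMem ℬ y.2 K⟩ : y.1.asHomogeneousIdeal.toIdeal.primeCompl)) _ _).trans ?_
      refine Finset.sum_congr rfl fun i _ => ?_
      change _ = GrTwist.val (L (F _ _ hD (i.1.1 ⊗ₜ pr i))) y'
      rw [hval]
      rw [show (DirectSum.decompose 𝒜 (pr i) (deg K) : A) = pr i from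
        DirectSum.decompose_of_mem_same 𝒜 (DirectSum.decompose 𝒜 i.1.2 D).2, mkHom_apply]
      simp only [map_pow, pr, y']
    have h0' : algebraMap B (Localization.Away (ψ f)) b = algebraMap B _ 0 := by
      rw [← AwayDeg.frac_mul_pow K b, h0, zero_mul, map_zero]
    obtain ⟨M, hM⟩ := IsLocalization.Away.exists_of_eq (S := Localization.Away (ψ f)) (ψ f) h0'
    rw [mul_zero] at hM
    have hD' : ((D + M * e : ℕ) : ℤ) = ((K + M : ℕ) : ℤ) * e + n := by push_cast; rw [hD]; ring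
    have hsum := hinj t (fun i => i.1.1) (fun i => pr i * f ^ M) (by
      rw [← hM, Finset.mul_sum]
      exact Finset.sum_congr rfl fun i _ => by rw [map_mul, map_pow]; ring)
    rw [hz', ← Finset.sum_congr rfl fun i _ => hshift hD M hD' i.1.1 (DirectSum.decompose 𝒜 i.1.2 D).2, ← map_sum,
      hsum, map_zero]
  · obtain ⟨K₁, h₁⟩ := exists_eq_sec ℬ hψf n he ((GrTwist.twist ℬ n).presheaf.map (homOfLE hW.ge).op s)
    let K := K₁ + K₀
    have hD := hdeg K (by omega)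
    obtain ⟨b, hb, hs⟩ := h₁ K (by omega) _ hD
    obtain ⟨l, r, a, hab⟩ := (Submodule.mem_span_image_iff_exists_fun R).1 (hspan _ _ hb)
    refine ⟨∑ j : l, F _ _ hD (a j ⊗ₜ (j : A)), AwayDeg.val_ext ℬ fun y => ?_⟩
    let ev : T →+ GrTwist.Loc ℬ y.1 := AddMonoidHom.mk' (fun x => GrTwist.val (L x) y) fun u v => by
      rw [map_add]; exact val_add' _ _ _
    change ev _ = GrTwist.val s y
    rw [map_sum]
    have hsy : GrTwist.val s y = Localization.mk b ⟨ψ f ^ K, pow_notMem ℬ (hW.le y.2) K⟩ := by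
      rw [← val_sec_of_mem ℬ hψf n hD hb ⟨y.1, hW.le y.2⟩, hs]
      rfl
    rw [hsy, ← hab]
    refine Eq.trans ?_ (map_sum (mkHom (⟨ψ f ^ K, pow_notMem ℬ (hW.le y.2) K⟩ : y.1.asHomogeneousIdeal.toIdeal.primeCompl)) _ _).symm
    refine Finset.sum_congr rfl fun j _ => ?_
    change GrTwist.val (L (F _ _ hD (a j ⊗ₜ (j : A)))) y = _
    rw [hval]
    simp only [DirectSum.decompose_of_mem_same 𝒜 (r j.2), map_pow, Algebra.smul_def]
    rfl

/-- **Twisting sheaves commute with base change.** -/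
theorem isIso_transpose (hR' : ∀ r, algebraMap R' A r ∈ 𝒜 0) (hR : ∀ r, algebraMap R B r ∈ ℬ 0)
    (hψR : ∀ r, ψ (algebraMap R' A r) = algebraMap R B (algebraMap R' R r))
    (hspan : ∀ D, ∀ b ∈ ℬ D, b ∈ Submodule.span R ((fun a => ψ a) '' (𝒜 D : Set A)))
    (hinj : ∀ (ι : Type u) [Fintype ι] (r : ι → R) (a : ι → A),
      (∑ i, algebraMap R B (r i) * ψ (a i)) = 0 → ∑ i, r i ⊗ₜ[R'] a i = (0 : R ⊗[R'] A))
    (n : ℤ) :
    IsIso (((Scheme.Modules.pullbackPushforwardAdjunction (Proj.map ψ hψ)).homEquiv _ _).symm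
      (GrTwist.comap ψ hψ n)) := by
  refine TransposeCover.isIso_transpose_of_cover (Proj.map ψ hψ) (GrTwist.comap ψ hψ n)
    (Groth.Agent.H11Tilde.tilde_isQuasicoherent 𝒜 𝒜 n) (Groth.Agent.H11Tilde.tilde_isQuasicoherent ℬ ℬ n)
    (fun V => ∃ (e : ℕ) (f : A), 0 < e ∧ f ∈ 𝒜 e ∧ V = Proj.basicOpen 𝒜 f) (fun y => ?_) ?_
  · obtain ⟨e, f, he, hf, hy⟩ := exists_basicOpen ψ hψ y
    refine ⟨Proj.basicOpen 𝒜 f, ⟨e, f, he, hf, rfl⟩, Proj.isAffineOpen_basicOpen 𝒜 f hf he, ?_, hy⟩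
    rw [Proj.map_preimage_basicOpen]
    exact Proj.isAffineOpen_basicOpen ℬ _ (ψ.map_mem hf) he
  · rintro V ⟨e, f, he, hf, rfl⟩ _
    exact bijective_transpose ψ hψ hR' hR hψR hspan hinj he hf n

end Groth.Agent.H11Proj.TwistBaseChange
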