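import Groth.Agent.H11Proj.Regrade
import Groth.Agent.H11Tilde.QCoh

/-!
# `M~` along the Veronese isomorphism
-/

set_option autoImplicit false
set_option linter.style.haveILetI false
set_option linter.unusedSectionVars false

noncomputable section

universe u

open CategoryTheory CategoryTheory.Limits AlgebraicGeometry TopologicalSpace Opposite HomogeneousLocalization
open Groth.Agent.H11Tilde GrMod

namespace Groth.Agent.H11Proj.Regrade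

variable {A B σ τ : Type u} [CommRing A] [SetLike σ A] [AddSubgroupClass σ A]
  [CommRing B] [SetLike τ B] [AddSubgroupClass τ B]
variable {𝒜 : ℕ → σ} [GradedRing 𝒜] {ℬ : ℕ → τ} [GradedRing ℬ]
variable {φ : B →+* A} {d : ℕ}
variable (hφ : ∀ (n : ℕ) (b : B), b ∈ ℬ n → φ b ∈ 𝒜 (n * d)) (hd : 0 < d)
  (hrad : ∀ (k : ℕ), 0 < k → ∀ a ∈ 𝒜 k, ∃ m, ∃ n, 0 < n ∧ ∃ b ∈ ℬ n, φ b = a ^ (m + 1))
variable (p : Proj 𝒜 ⟶ Proj ℬ) (hp : ∀ (n : ℕ) (g : B) (hn : 0 < n) (hg : g ∈ ℬ n),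
  Proj.awayι 𝒜 (φ g) (hφ _ _ hg) (Nat.mul_pos hn hd) ≫ p =
    Spec.map (CommRingCat.ofHom (awayHom hφ hg)) ≫ Proj.awayι ℬ g hg hn)

theorem appLE_awayι_val {C ι : Type u} [CommRing C] [SetLike ι C] [AddSubgroupClass ι C] (𝒞 : ℕ → ι) [GradedRing 𝒞]
    {e : ℕ} (he : 0 < e) {h : C} (hh : h ∈ 𝒞 e)
    (hle : (⊤ : (Spec (CommRingCat.of (Away 𝒞 h))).Opens) ≤ (Proj.awayι 𝒞 h hh he) ⁻¹ᵁ Proj.basicOpen 𝒞 h)
    (z : Away 𝒞 h) :
    (Proj.awayι 𝒞 h hh he).appLE _ ⊤ hle (Proj.awayToSection 𝒞 h z) = (Scheme.ΓSpecIso _).inv z := by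
  let D := Proj.basicOpen 𝒞 h
  let τ := Proj.basicOpenIsoSpec 𝒞 h hh he
  have e1 : τ.hom.appTop ((Scheme.ΓSpecIso _).inv z) = D.topIso.inv (Proj.awayToSection 𝒞 h z) := by
    rw [show τ.hom = Proj.basicOpenToSpec 𝒞 h from Proj.basicOpenIsoSpec_hom _ _ _ _]
    have h1 := congr($(Proj.basicOpenToSpec_app_top 𝒞 h) ((Scheme.ΓSpecIso _).inv z))
    simp only [CommRingCat.comp_apply, Iso.inv_hom_id_apply] at h1
    exact h1
  have e2 : τ.inv.appTop (τ.hom.appTop ((Scheme.ΓSpecIso _).inv z)) = (Scheme.ΓSpecIso _).inv z := by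
    rw [← CommRingCat.comp_apply, ← Scheme.Hom.comp_appTop, Iso.inv_hom_id, Scheme.Hom.id_appTop]
    rfl
  rw [e1] at e2
  refine Eq.trans ?_ e2
  have hι : (⊤ : D.toScheme.Opens) ≤ D.ι ⁻¹ᵁ D := fun x _ => x.2
  have e3 : D.ι.appLE D ⊤ hι = D.topIso.inv := by
    rw [Scheme.Opens.ι_appLE, Scheme.Opens.topIso_inv]
    rfl
  have e4 : τ.inv.appTop = τ.inv.appLE ⊤ ⊤ (fun _ _ => trivial) := (Scheme.Hom.appLE_eq_app _).symm
  rw [← e3, e4]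
  exact (congr($(Scheme.Hom.appLE_comp_appLE τ.inv D.ι D ⊤ ⊤ hι (fun _ _ => trivial))
    (Proj.awayToSection 𝒞 h z))).symm

include hp in
theorem appLE_awayToSection {n : ℕ} {g : B} (hg : g ∈ ℬ n) (hn : 0 < n)
    (hle : Proj.basicOpen 𝒜 (φ g) ≤ p ⁻¹ᵁ Proj.basicOpen ℬ g) (z : Away ℬ g) :
    p.appLE (Proj.basicOpen ℬ g) (Proj.basicOpen 𝒜 (φ g)) hle (Proj.awayToSection ℬ g z) =
      Proj.awayToSection 𝒜 (φ g) (awayHom hφ hg z) := by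
  let l := Proj.awayι 𝒜 (φ g) (hφ _ _ hg) (Nat.mul_pos hn hd)
  have hl : (⊤ : (Spec (CommRingCat.of (Away 𝒜 (φ g)))).Opens) ≤ l ⁻¹ᵁ Proj.basicOpen 𝒜 (φ g) := by
    rw [← Proj.opensRange_awayι 𝒜 (φ g) (hφ _ _ hg) (Nat.mul_pos hn hd), Scheme.Hom.preimage_opensRange]
  have hbij : Function.Bijective (l.appLE (Proj.basicOpen 𝒜 (φ g)) ⊤ hl) := by
    haveI := l.isIso_app (Proj.basicOpen 𝒜 (φ g)) (Proj.opensRange_awayι 𝒜 (φ g) (hφ _ _ hg) (Nat.mul_pos hn hd)).ge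
    haveI : IsIso (homOfLE hl) := homOfLE_isIso_of_eq _ (le_antisymm hl le_top)
    haveI : IsIso (l.appLE (Proj.basicOpen 𝒜 (φ g)) ⊤ hl) := by
      rw [Scheme.Hom.appLE]
      infer_instance
    exact ConcreteCategory.bijective_of_isIso (l.appLE (Proj.basicOpen 𝒜 (φ g)) ⊤ hl)
  refine hbij.1 ?_
  let ψ := CommRingCat.ofHom (awayHom (𝒜 := 𝒜) (φ := φ) hφ hg)
  have hc : (⊤ : (Spec (CommRingCat.of (Away ℬ g))).Opens) ≤ Proj.awayι ℬ g hg hn ⁻¹ᵁ Proj.basicOpen ℬ g := by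
    rw [← Proj.opensRange_awayι ℬ g hg hn, Scheme.Hom.preimage_opensRange]
  have htop : (⊤ : (Spec (CommRingCat.of (Away 𝒜 (φ g)))).Opens) ≤ Spec.map ψ ⁻¹ᵁ ⊤ := fun _ _ => trivial
  rw [appLE_awayι_val 𝒜 (Nat.mul_pos hn hd) (hφ _ _ hg) hl]
  have h1 : ∀ w, l.appLE _ ⊤ hl (p.appLE _ _ hle w) =
      (Spec.map ψ).appLE ⊤ ⊤ htop ((Proj.awayι ℬ g hg hn).appLE _ ⊤ hc w) := by
    intro w
    rw [← CommRingCat.comp_apply, ← CommRingCat.comp_apply, Scheme.Hom.appLE_comp_appLE,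
      Scheme.Hom.appLE_comp_appLE]
    have key : ∀ (F G : Spec (CommRingCat.of (Away 𝒜 (φ g))) ⟶ Proj ℬ) (hF : _ ≤ F ⁻¹ᵁ Proj.basicOpen ℬ g)
        (hG : _ ≤ G ⁻¹ᵁ Proj.basicOpen ℬ g), F = G →
        F.appLE (Proj.basicOpen ℬ g) ⊤ hF = G.appLE (Proj.basicOpen ℬ g) ⊤ hG := by
      rintro F G hF hG rfl
      rfl
    exact congr($(key _ _ _ _ (hp n g hn hg)) _)
  rw [h1, appLE_awayι_val ℬ hn hg hc]
  exact congr($((Scheme.Hom.appLE_eq_app (Spec.map ψ) (U := ⊤)).trans rfl) _).trans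
    congr($((Scheme.ΓSpecIso_inv_naturality ψ).symm) z)

include hp hrad in
theorem notMem_iff (x : Proj 𝒜) (b : B) :
    b ∉ (p.base x).asHomogeneousIdeal ↔ φ b ∉ x.asHomogeneousIdeal :=
  not_congr (SetLike.ext_iff.1 (map_point hφ hd hrad p hp x) b)

include hp hrad in
theorem exists_fval_app {U : (Proj ℬ).Opens} (r : Γ(Proj ℬ, U)) (x : (p ⁻¹ᵁ U : (Proj 𝒜).Opens)) :
    ∃ (a s : B) (hs : s ∉ (p.base x.1).asHomogeneousIdeal),
      fval ℬ r ⟨p.base x.1, x.2⟩ = Localization.mk a ⟨s, hs⟩ ∧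
      fval 𝒜 (p.app U r) x = Localization.mk (φ a) ⟨φ s, (notMem_iff hφ hd hrad p hp x.1 s).1 hs⟩ := by
  obtain ⟨x, hx⟩ := x
  obtain ⟨k₀, hk₀, g₀, hg₀, hg₀y⟩ : ∃ k, 0 < k ∧ ∃ c ∈ ℬ k, c ∉ (p.base x).asHomogeneousIdeal := by
    by_contra hc
    push Not at hc
    exact (p.base x).not_irrelevant_le
      ((irrelevant_le_iff ℬ).2 fun d hd a ha => hc d hd a ha)
  obtain ⟨e, g, he, hg, hgy, hgU⟩ := exists_basicOpen_nhd ℬ hk₀ hg₀ hg₀y (V := U) hx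
  have hle : Proj.basicOpen ℬ g ≤ U := fun y hy => (hgU y hy).1
  have hpre : Proj.basicOpen 𝒜 (φ g) ≤ p ⁻¹ᵁ Proj.basicOpen ℬ g :=
    (preimage_basicOpen hφ hd hrad p hp hg he).ge
  obtain ⟨z, hz⟩ := (ConcreteCategory.bijective_of_isIso (Proj.basicOpenIsoAway ℬ g hg he).hom).2
    ((Proj ℬ).presheaf.map (homOfLE hle).op r)
  obtain ⟨k, a, ha, rfl⟩ := Away.mk_surjective ℬ hg z
  have hz' : Proj.awayToSection ℬ g (Away.mk ℬ hg k a ha) = (Proj ℬ).presheaf.map (homOfLE hle).op r := hz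
  have hxg : φ g ∉ x.asHomogeneousIdeal := (notMem_iff hφ hd hrad p hp x g).1 hgy
  refine ⟨a, g ^ k, pow_notMem ℬ hgy k, ?_, ?_⟩
  · have h1 := fval_map ℬ hle r ⟨p.base x, hgy⟩
    rw [← hz'] at h1
    exact h1.symm.trans (fval_awayToSection ℬ hg k a ha _)
  · have h2 := appLE_awayToSection hφ hd p hp hg he hpre (Away.mk ℬ hg k a ha)
    rw [hz', ← CommRingCat.comp_apply, Scheme.Hom.map_appLE] at h2
    have h3 : fval 𝒜 (p.app U r) ⟨x, hx⟩ =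
        fval 𝒜 (p.appLE U (Proj.basicOpen 𝒜 (φ g)) (hpre.trans (p.preimage_mono hle)) r) ⟨x, hxg⟩ := rfl
    have ha' : φ a ∈ 𝒜 (k • (e * d)) := by
      rw [smul_eq_mul, ← mul_assoc, ← smul_eq_mul k e]
      exact hφ _ _ ha
    rw [h3, h2, awayHom_mk hφ hg ha ha', fval_awayToSection]
    exact Localization.mk_eq_mk_iff.2 (Localization.r_iff_exists.2 ⟨1, by simp [map_pow]⟩)

variable {M σM : Type u} [AddCommGroup M] [Module A M] [SetLike σM M] [AddSubgroupClass σM M] (ℳ : ℕ → σM)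
  [SetLike.GradedSMul 𝒜 ℳ]
variable {N σN : Type u} [AddCommGroup N] [Module B N] [SetLike σN N] [AddSubgroupClass σN N] (𝒩 : ℕ → σN)
  [SetLike.GradedSMul ℬ 𝒩]
variable (v : N →ₛₗ[φ] M)

/-- The map on localised modules. -/
def locV (x : Proj 𝒜) (q : LocMod ℬ (M := N) (p.base x)) : LocMod 𝒜 (M := M) x :=
  LocalizedModule.liftOn q
    (fun c => fracAt 𝒜 x (v c.1) (φ c.2.1) ((notMem_iff hφ hd hrad p hp x c.2.1).1 c.2.2))
    (fun c c' ⟨u, hu⟩ => by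
      refine LocalizedModule.mk_eq.2 ⟨⟨φ u.1, (notMem_iff hφ hd hrad p hp x u.1).1 u.2⟩, ?_⟩
      simp only [Submonoid.smul_def] at hu ⊢
      have := congrArg v hu
      simpa only [LinearMap.map_smulₛₗ] using this)

theorem locV_frac (x : Proj 𝒜) (m : N) (s : B) (hs : s ∉ (p.base x).asHomogeneousIdeal) :
    locV hφ hd hrad p hp v x (fracAt ℬ (p.base x) m s hs) =
      fracAt 𝒜 x (v m) (φ s) ((notMem_iff hφ hd hrad p hp x s).1 hs) :=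
  LocalizedModule.liftOn_mk _ _ _

theorem locV_zero (x : Proj 𝒜) : locV hφ hd hrad p hp v x 0 = 0 := by
  rw [← fracAt_zero ℬ (p.base x) 1 (one_notMem ℬ _), locV_frac, map_zero, fracAt_zero]

theorem locV_add (x : Proj 𝒜) (q q' : LocMod ℬ (M := N) (p.base x)) :
    locV hφ hd hrad p hp v x (q + q') = locV hφ hd hrad p hp v x q + locV hφ hd hrad p hp v x q' := by
  induction q using LocalizedModule.induction_on with
  | h m s =>
    induction q' using LocalizedModule.induction_on with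
    | h m' s' =>
      rw [LocalizedModule.mk_add_mk]
      refine (locV_frac hφ hd hrad p hp v x _ _ (s * s').2).trans ?_
      refine Eq.trans ?_ (congrArg₂ (· + ·) (locV_frac hφ hd hrad p hp v x m s.1 s.2)
        (locV_frac hφ hd hrad p hp v x m' s'.1 s'.2)).symm
      simp only [fracAt, LocalizedModule.mk_add_mk, Submonoid.smul_def, map_add, LinearMap.map_smulₛₗ]
      refine LocalizedModule.mk_eq.2 ⟨1, ?_⟩
      simp [Submonoid.smul_def]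

theorem locV_smul (x : Proj 𝒜) (a s : B) (hs : s ∉ (p.base x).asHomogeneousIdeal)
    (q : LocMod ℬ (M := N) (p.base x)) :
    locV hφ hd hrad p hp v x ((Localization.mk a ⟨s, hs⟩ : GrTwist.Loc ℬ (p.base x)) • q) =
      (Localization.mk (φ a) ⟨φ s, (notMem_iff hφ hd hrad p hp x s).1 hs⟩ : GrTwist.Loc 𝒜 x) •
        locV hφ hd hrad p hp v x q := by
  induction q using LocalizedModule.induction_on with
  | h m t =>
    obtain ⟨t, ht⟩ := t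
    refine (congrArg (locV hφ hd hrad p hp v x) (smul_fracAt_pair ℬ _ a s hs m t ht)).trans ?_
    refine (locV_frac hφ hd hrad p hp v x _ _ _).trans ?_
    refine Eq.trans ?_ (congrArg _ (locV_frac hφ hd hrad p hp v x m t ht)).symm
    refine Eq.trans ?_ (smul_fracAt_pair 𝒜 _ _ _ _ _ _ _).symm
    exact fracAt_congr 𝒜 x _ _ (LinearMap.map_smulₛₗ v a m) (map_mul φ s t)
where
  smul_fracAt_pair {C ι P : Type u} [CommRing C] [SetLike ι C] [AddSubgroupClass ι C] (𝒞 : ℕ → ι) [GradedRing 𝒞]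
    [AddCommGroup P] [Module C P] (z : ProjectiveSpectrum 𝒞) (a s : C) (hs : s ∉ z.asHomogeneousIdeal) (m : P) (t : C)
    (ht : t ∉ z.asHomogeneousIdeal) :
    (Localization.mk a ⟨s, hs⟩ : GrTwist.Loc 𝒞 z) • fracAt 𝒞 z m t ht =
      fracAt 𝒞 z (a • m) (s * t) (H11Tilde.mul_notMem 𝒞 hs ht) :=
    LocalizedModule.mk_smul_mk _ _ _ _

variable (hvdeg : ∀ n : ℕ, ∀ m ∈ 𝒩 n, v m ∈ ℳ (n * d))

include hvdeg in
theorem locV_mem (n : ℤ) (x : Proj 𝒜) (q : tildeAt ℬ 𝒩 n (p.base x)) :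
    locV hφ hd hrad p hp v x q.1 ∈ tildeAt 𝒜 ℳ (n * d) x := by
  rcases exists_eq_fracAt_of_mem ℬ 𝒩 (p.base x) q with h0 | ⟨i, j, m, s, hs, hm, hsj, hij, hq⟩
  · rw [h0, locV_zero]; exact zero_mem _
  · rw [hq, locV_frac]
    exact Submodule.subset_span ⟨i * d, j * d, ⟨v m, hvdeg i m hm⟩, ⟨φ s, hφ j s hsj⟩, _,
      by push_cast; rw [hij]; ring, rfl⟩

/-- The map on sections. -/
def vFun (n : ℤ) (U : (Proj ℬ).Opens) (s : Γ(tilde ℬ 𝒩 n, U)) : Γ(tilde 𝒜 ℳ (n * d), p ⁻¹ᵁ U) :=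
  (show sect 𝒜 ℳ (n * d) (op (p ⁻¹ᵁ U)) from
  ⟨fun x => ⟨locV hφ hd hrad p hp v x.1 (sval ℬ 𝒩 s ⟨p.base x.1, x.2⟩), locV_mem hφ hd hrad p hp ℳ 𝒩 v hvdeg n x.1 _⟩,
   fun x => by
    obtain ⟨V, hxV, iV, i, j, ⟨m, hm⟩, ⟨c, hc⟩, cnin, hdg, hw⟩ :=
      (show sect ℬ 𝒩 n (op U) from s).2 ⟨p.base x.1, x.2⟩
    refine ⟨p ⁻¹ᵁ V, hxV, homOfLE (p.preimage_mono iV.le), i * d, j * d, ⟨v m, hvdeg i m hm⟩, ⟨φ c, hφ j c hc⟩,
      fun y => (notMem_iff hφ hd hrad p hp y.1 c).1 (cnin ⟨p.base y.1, y.2⟩), ?_, fun y => ?_⟩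
    · rcases (show (i : ℤ) = j + n ∨ m = 0 from hdg) with h | h
      · exact Or.inl (by push_cast; rw [h]; ring)
      · exact Or.inr (show v m = 0 by rw [h, map_zero])
    · exact (congrArg (locV hφ hd hrad p hp v y.1) (hw ⟨p.base y.1, y.2⟩)).trans
        (locV_frac hφ hd hrad p hp v y.1 m c _)⟩)

/-- The comparison map. -/
def vMap (n : ℤ) : tilde ℬ 𝒩 n ⟶ (Scheme.Modules.pushforward p).obj (tilde 𝒜 ℳ (n * d)) :=
  ⟨PresheafOfModules.homMk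
    { app := fun W => AddCommGrpCat.ofHom
        (AddMonoidHom.mk' (vFun hφ hd hrad p hp ℳ 𝒩 v hvdeg n W.unop) fun a b =>
          sval_ext 𝒜 ℳ fun x => locV_add hφ hd hrad p hp v x.1 (sval ℬ 𝒩 a ⟨p.base x.1, x.2⟩) _)
      naturality := fun W W' i => by
        ext s
        rfl }
    fun W (r : Γ(Proj ℬ, W.unop)) (s : Γ(tilde ℬ 𝒩 n, W.unop)) =>
      sval_ext 𝒜 ℳ fun x => by
        obtain ⟨a, c, hc, h1, h2⟩ := exists_fval_app hφ hd hrad p hp r x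
        refine (congrArg (locV hφ hd hrad p hp v x.1) ((sval_smul ℬ 𝒩 r s _).trans (congrArg (· • _) h1))).trans ?_
        refine (locV_smul hφ hd hrad p hp v x.1 a c hc _).trans ?_
        exact (congrArg (· • _) h2.symm).trans (sval_smul 𝒜 ℳ (p.app W.unop r) (vFun hφ hd hrad p hp ℳ 𝒩 v hvdeg n W.unop s) x).symm⟩

variable (hinj : Function.Injective φ) (hsurj : ∀ (n : ℕ) (a : A), a ∈ 𝒜 (n * d) → ∃ b ∈ ℬ n, φ b = a)
  (hv : Function.Injective v) (hvsurj : ∀ (n : ℕ), ∀ m ∈ ℳ (n * d), ∃ m' ∈ 𝒩 n, v m' = m)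
  [DirectSum.Decomposition ℳ]

include hsurj in
theorem exists_pow_preimage {j : ℕ} {t : A} (ht : t ∈ 𝒜 j) : ∃ s ∈ ℬ j, φ s = t ^ d := by
  refine hsurj j _ ?_
  rw [mul_comm, ← smul_eq_mul]
  exact SetLike.pow_mem_graded d ht

include hsurj hv in
theorem locV_eq_zero (x : Proj 𝒜) {i : ℕ} {m : N} (hm : m ∈ 𝒩 i) (hvdeg : ∀ n : ℕ, ∀ m ∈ 𝒩 n, v m ∈ ℳ (n * d))
    (s : B) (hs : s ∉ (p.base x).asHomogeneousIdeal) (h : locV hφ hd hrad p hp v x (fracAt ℬ _ m s hs) = 0) :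
    fracAt ℬ (p.base x) m s hs = 0 := by
  classical
  rw [locV_frac, fracAt_eq_zero_iff] at h
  obtain ⟨t, htx, ht⟩ := h
  obtain ⟨j, hj⟩ : ∃ j, (DirectSum.decompose 𝒜 t j : A) ∉ x.asHomogeneousIdeal := by
    by_contra hc
    push Not at hc
    refine htx ?_
    rw [← DirectSum.sum_support_decompose 𝒜 t]
    exact sum_mem fun j _ => hc j
  have h0 := H11Tilde.smul_component_eq_zero 𝒜 ℳ (hvdeg i m hm) ht j
  obtain ⟨t', -, ht'⟩ := exists_pow_preimage hsurj (DirectSum.decompose 𝒜 t j).2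
  rw [fracAt_eq_zero_iff]
  refine ⟨t', (notMem_iff hφ hd hrad p hp x t').2 (ht' ▸ pow_notMem 𝒜 hj d), hv ?_⟩
  rw [map_zero, LinearMap.map_smulₛₗ, ht']
  obtain ⟨d', rfl⟩ := Nat.exists_eq_succ_of_ne_zero hd.ne'
  rw [pow_succ, mul_smul, h0, smul_zero]

include hsurj hv hvdeg in
theorem locV_injOn (n : ℤ) (x : Proj 𝒜) (q q' : tildeAt ℬ 𝒩 n (p.base x))
    (h : locV hφ hd hrad p hp v x q.1 = locV hφ hd hrad p hp v x q'.1) : q = q' := by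
  refine sub_eq_zero.1 (Subtype.ext ?_)
  have h0 : locV hφ hd hrad p hp v x (q - q').1 = 0 := by
    have := locV_add hφ hd hrad p hp v x (q - q').1 q'.1
    rw [AddSubgroupClass.coe_sub, sub_add_cancel, h] at this
    exact add_eq_right.1 this.symm
  rcases exists_eq_fracAt_of_mem ℬ 𝒩 (p.base x) (q - q') with h1 | ⟨i, j, m, s, hs, hm, hsj, hij, hq⟩
  · exact h1
  · rw [hq] at h0 ⊢
    exact locV_eq_zero hφ hd hrad p hp ℳ 𝒩 v hsurj hv x hm hvdeg s hs h0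

include hd hsurj hvsurj in
theorem exists_preimage_frac {n : ℤ} {i j : ℕ} {m : M} {s : A} (hm : m ∈ ℳ i) (hs : s ∈ 𝒜 j)
    (hij : (i : ℤ) = j + n * d ∨ m = 0) :
    ∃ (i' : ℕ) (m' : N) (s' : B), m' ∈ 𝒩 i' ∧ s' ∈ ℬ j ∧ ((i' : ℤ) = j + n ∨ m' = 0) ∧ φ s' = s ^ d ∧
      v m' = s ^ (d - 1) • m := by
  obtain ⟨s', hs', hφs⟩ := exists_pow_preimage hsurj hs
  rcases hij with hij | rfl
  · have hle : 0 ≤ (j : ℤ) + n := by
      have h1 : (0 : ℤ) ≤ (d - 1 : ℕ) * j + i := by positivity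
      have h2 : ((d - 1 : ℕ) : ℤ) * j + i = ((j : ℤ) + n) * d := by
        rw [hij, Nat.cast_sub hd]
        push_cast
        ring
      nlinarith [h1, h2, (show (0 : ℤ) < d by exact_mod_cast hd)]
    obtain ⟨i', hi'⟩ := Int.eq_ofNat_of_zero_le hle
    have hmem : s ^ (d - 1) • m ∈ ℳ (i' * d) := by
      have h := SetLike.GradedSMul.smul_mem (SetLike.pow_mem_graded (d - 1) hs) hm
      have e : (d - 1) • j + i = i' * d := by
        zify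
        rw [smul_eq_mul, Nat.cast_mul, Nat.cast_sub hd, hij, ← hi']
        push_cast
        ring
      rw [← e]
      exact h
    obtain ⟨m', hm', hvm⟩ := hvsurj i' _ hmem
    exact ⟨i', m', s', hm', hs', Or.inl hi'.symm, hφs, hvm⟩
  · exact ⟨0, 0, s', zero_mem _, hs', Or.inr rfl, hφs, by rw [map_zero, smul_zero]⟩

include hsurj hv hvsurj in
theorem bijective_vMap [IsIso p] (n : ℤ) (U : (Proj ℬ).Opens) :
    Function.Bijective ((vMap hφ hd hrad p hp ℳ 𝒩 v hvdeg n).app U) := by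
  classical
  have hpt : ∀ y : Proj ℬ, ∃ x : Proj 𝒜, p.base x = y := fun y => ⟨(inv p).base y, by
    rw [← Scheme.Hom.comp_apply, IsIso.inv_hom_id]; rfl⟩
  refine ⟨fun s t h => sval_ext ℬ 𝒩 fun y => ?_, fun t => ?_⟩
  · obtain ⟨x, hx⟩ := hpt y.1
    obtain ⟨y, hy⟩ := y
    subst hx
    exact congrArg Subtype.val (locV_injOn hφ hd hrad p hp ℳ 𝒩 v hvdeg hsurj hv n x
      ((show sect ℬ 𝒩 n (op U) from s).1 ⟨_, hy⟩) ((show sect ℬ 𝒩 n (op U) from t).1 ⟨_, hy⟩)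
      (congrArg (fun a => sval 𝒜 ℳ a (⟨x, hy⟩ : (p ⁻¹ᵁ U : (Proj 𝒜).Opens))) h))
  · have hloc : ∀ y : U, ∃ q : tildeAt ℬ 𝒩 n y.1, ∀ (x : (p ⁻¹ᵁ U : (Proj 𝒜).Opens)) (hx : p.base x.1 = y.1),
        locV hφ hd hrad p hp v x.1 (hx ▸ q).1 = sval 𝒜 ℳ t x := by
      intro y
      obtain ⟨x, hx⟩ := hpt y.1
      obtain ⟨y, hy⟩ := y
      subst hx
      obtain ⟨V, hxV, iV, i, j, ⟨m, hm⟩, ⟨c, hc⟩, cnin, hdg, hw⟩ :=
        (show sect 𝒜 ℳ (n * d) (op (p ⁻¹ᵁ U)) from t).2 ⟨x, hy⟩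
      obtain ⟨i', m', s', hm', hs', hd', hφs, hvm⟩ :=
        exists_preimage_frac hd ℳ 𝒩 v hsurj hvsurj hm hc hdg
      have hnin : s' ∉ (p.base x).asHomogeneousIdeal :=
        (notMem_iff hφ hd hrad p hp x s').2 (hφs ▸ pow_notMem 𝒜 (cnin ⟨x, hxV⟩) d)
      have hmem : fracAt ℬ (p.base x) m' s' hnin ∈ tildeAt ℬ 𝒩 n (p.base x) := by
        rcases hd' with hd' | hd'
        · exact Submodule.subset_span ⟨i', j, ⟨m', hm'⟩, ⟨s', hs'⟩, hnin, hd', rfl⟩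
        · rw [hd', fracAt_zero]; exact zero_mem _
      refine ⟨⟨_, hmem⟩, fun x' hx' => ?_⟩
      obtain rfl : x' = ⟨x, hy⟩ := Subtype.ext (p.homeomorph.injective hx')
      refine Eq.trans ?_ (hw ⟨x, hxV⟩).symm
      refine (locV_frac hφ hd hrad p hp v x m' s' hnin).trans ?_
      refine fracAt_eq_of 𝒜 x _ _ ?_
      rw [hφs, hvm, smul_smul]
      congr 1
      rw [mul_comm, ← pow_succ, Nat.sub_add_cancel hd]
    choose q hq using hloc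
    refine ⟨(show sect ℬ 𝒩 n (op U) from ⟨q, fun y => ?_⟩), sval_ext 𝒜 ℳ fun x => hq ⟨p.base x.1, x.2⟩ x rfl⟩
    obtain ⟨x, hx⟩ := hpt y.1
    obtain ⟨y, hy⟩ := y
    subst hx
    obtain ⟨V, hxV, iV, i, j, ⟨m, hm⟩, ⟨c, hc⟩, cnin, hdg, hw⟩ :=
      (show sect 𝒜 ℳ (n * d) (op (p ⁻¹ᵁ U)) from t).2 ⟨x, hy⟩
    obtain ⟨i', m', s', hm', hs', hd', hφs, hvm⟩ := exists_preimage_frac hd ℳ 𝒩 v hsurj hvsurj hm hc hdg
    let V' : (Proj ℬ).Opens := (inv p) ⁻¹ᵁ V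
    have hinv : ∀ x : Proj 𝒜, (inv p).base (p.base x) = x := fun x => by
      rw [← Scheme.Hom.comp_apply, IsIso.hom_inv_id]; rfl
    have hV' : V' ≤ U := fun y hy' => by
      obtain ⟨z, rfl⟩ := hpt y
      have hz : z ∈ V := (hinv z) ▸ hy'
      exact iV.le hz
    have hmemV : ∀ z : Proj 𝒜, p.base z ∈ V' → z ∈ V := fun z hz => (hinv z) ▸ hz
    have hnin : ∀ y : V', s' ∉ y.1.asHomogeneousIdeal := fun y => by
      obtain ⟨z, hz⟩ := hpt y.1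
      rw [← hz]
      exact (notMem_iff hφ hd hrad p hp z s').2 (hφs ▸ pow_notMem 𝒜 (cnin ⟨z, hmemV z (hz ▸ y.2)⟩) d)
    refine ⟨V', (show (inv p).base (p.base x) ∈ V from (hinv x).symm ▸ hxV), homOfLE hV', i', j, ⟨m', hm'⟩,
      ⟨s', hs'⟩, hnin, hd', ?_⟩
    rintro ⟨y, hy'⟩
    obtain ⟨z, rfl⟩ := hpt y
    have hzV : z ∈ V := hmemV z hy'
    have hmem : fracAt ℬ (p.base z) m' s' (hnin ⟨_, hy'⟩) ∈ tildeAt ℬ 𝒩 n (p.base z) := by
      rcases hd' with hd' | hd'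
      · exact Submodule.subset_span ⟨i', j, ⟨m', hm'⟩, ⟨s', hs'⟩, _, hd', rfl⟩
      · rw [hd', fracAt_zero]; exact zero_mem _
    refine congrArg Subtype.val (locV_injOn hφ hd hrad p hp ℳ 𝒩 v hvdeg hsurj hv n z (q ⟨_, hV' hy'⟩)
      ⟨_, hmem⟩ ((hq ⟨_, hV' hy'⟩ ⟨z, hV' hy'⟩ rfl).trans ?_))
    refine (hw ⟨z, hzV⟩).trans ?_
    refine Eq.trans ?_ (locV_frac hφ hd hrad p hp v z m' s' _).symm
    refine fracAt_eq_of 𝒜 z _ _ ?_
    rw [hφs, hvm, smul_smul]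
    congr 1
    rw [mul_comm, ← pow_succ, Nat.sub_add_cancel hd]

include hp hrad hvdeg hsurj hv hvsurj in
/-- `M~` along the Veronese isomorphism. -/
theorem nonempty_tilde_iso_pullback [IsIso p] (n : ℤ) :
    Nonempty (tilde 𝒜 ℳ (n * d) ≅ (Scheme.Modules.pullback p).obj (tilde ℬ 𝒩 n)) := by
  let Φ := vMap hφ hd hrad p hp ℳ 𝒩 v hvdeg n
  haveI : IsIso Φ := by
    rw [Scheme.Modules.Hom.isIso_iff_isIso_app]
    exact fun U => (ConcreteCategory.isIso_iff_bijective _).2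
      (bijective_vMap hφ hd hrad p hp ℳ 𝒩 v hvdeg hsurj hv hvsurj n U)
  exact ⟨((asIso (Scheme.Modules.restrictAdjunction p).counit).app _).symm ≪≫
    (Scheme.Modules.restrictFunctorIsoPullback p).app _ ≪≫ (Scheme.Modules.pullback p).mapIso (asIso Φ).symm⟩

end Groth.Agent.H11Proj.Regrade
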