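import Groth.Agent.H11Proj.Monomials

/-!
# Veronese subalgebras, presented by an injective map
-/

set_option autoImplicit false

namespace Groth.Agent.H11Proj

open DirectSum

variable {R A B : Type*} [CommRing R] [CommRing A] [Algebra R A] [CommRing B] [Algebra R B]
variable (𝒜 : ℕ → Submodule R A) [GradedAlgebra 𝒜] (ℬ : ℕ → Submodule R B) [GradedAlgebra ℬ]
variable (d : ℕ) (φ : B →ₐ[R] A) (hdeg : ∀ n : ℕ, Submodule.map φ.toLinearMap (ℬ n) = 𝒜 (n * d))

omit [GradedAlgebra 𝒜] [GradedAlgebra ℬ] in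
include hdeg in
theorem map_mem_veronese {n : ℕ} {b : B} (hb : b ∈ ℬ n) : φ b ∈ 𝒜 (n * d) :=
  hdeg n ▸ Submodule.mem_map_of_mem hb

omit [GradedAlgebra 𝒜] [GradedAlgebra ℬ] in
include hdeg in
theorem exists_preimage_veronese {n : ℕ} {x : A} (hx : x ∈ 𝒜 (n * d)) : ∃ b ∈ ℬ n, φ b = x := by
  rw [← hdeg n] at hx; exact hx

include hdeg in
theorem veronese_finiteType (hd : 0 < d) (hφ : Function.Injective φ) [Algebra.FiniteType (𝒜 0) A] :
    Algebra.FiniteType (ℬ 0) B := by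
  classical
  obtain ⟨E, hE, htop⟩ := exists_finset_posHom_adjoin 𝒜
  obtain ⟨deg, hdegE, -⟩ := exists_degree_fun 𝒜 hE
  let v : E → A := fun e => e
  let dv : E → ℕ := fun e => deg e
  let T : Set A := Set.range (fun e : E => v e ^ d) ∪
    Set.range (fun r : E → Fin d => ∏ e, v e ^ (r e : ℕ))
  have hT : T.Finite := (Set.finite_range _).union (Set.finite_range _)
  let G : Finset B := (hT.preimage hφ.injOn).toFinset
  refine ⟨⟨G, top_le_iff.1 fun b _ => ?_⟩⟩
  suffices H : ∀ n, ∀ x ∈ 𝒜 (n * d), ∃ s ∈ Algebra.adjoin (ℬ 0) (G : Set B), φ s = x by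
    rw [← sum_support_decompose ℬ b]
    refine sum_mem fun n _ => ?_
    obtain ⟨s, hs, he⟩ := H n _ (map_mem_veronese 𝒜 ℬ d φ hdeg (decompose ℬ b n).2)
    exact hφ he ▸ hs
  intro n x hx
  refine graded_induction 𝒜 v dv (fun e => hdegE _ e.2) (by simpa [v] using htop)
    (P := fun x => ∃ s ∈ Algebra.adjoin (ℬ 0) (G : Set B), φ s = x) ⟨0, zero_mem _, map_zero φ⟩ ?_ (fun c hc a ha => ?_) hx
  · rintro _ _ ⟨s, hs, rfl⟩ ⟨t, ht, rfl⟩
    exact ⟨s + t, add_mem hs ht, map_add φ s t⟩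
  obtain ⟨c0, hc0, rfl⟩ := exists_preimage_veronese 𝒜 ℬ d φ hdeg (n := 0) (x := c) (by rwa [zero_mul])
  have h1 : ∀ e : E, v e ^ d ∈ 𝒜 (dv e * d) := fun e => by
    simpa [dv, v, mul_comm] using SetLike.pow_mem_graded d (hdegE _ e.2) (A := 𝒜)
  choose p hp hpe using fun e => exists_preimage_veronese 𝒜 ℬ d φ hdeg (h1 e)
  have hsum : ∑ e, a e * dv e = d * ∑ e, a e / d * dv e + ∑ e, a e % d * dv e := by
    rw [Finset.mul_sum, ← Finset.sum_add_distrib]
    refine Finset.sum_congr rfl fun e _ => ?_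
    rw [← mul_assoc, ← add_mul, Nat.div_add_mod]
  obtain ⟨k, hk⟩ : d ∣ ∑ e, a e % d * dv e := by
    have h2 : d ∣ ∑ e, a e * dv e := ha ▸ dvd_mul_left d n
    rw [hsum] at h2
    exact (Nat.dvd_add_right (dvd_mul_right d _)).1 h2
  obtain ⟨q, hq, hqe⟩ := exists_preimage_veronese 𝒜 ℬ d φ hdeg (n := k)
    (x := ∏ e, v e ^ (a e % d))
    (by rw [mul_comm, ← hk]; exact prod_pow_mem 𝒜 v dv (fun e => hdegE _ e.2) _)
  refine ⟨c0 * ((∏ e, p e ^ (a e / d)) * q), ?_, ?_⟩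
  · refine mul_mem (Subalgebra.algebraMap_mem _ (⟨c0, hc0⟩ : ℬ 0))
      (mul_mem ?_ (Algebra.subset_adjoin ?_))
    · refine prod_mem fun e _ => pow_mem (Algebra.subset_adjoin ?_) _
      simp only [G, Set.Finite.coe_toFinset, Set.mem_preimage, hpe]
      exact Or.inl ⟨e, rfl⟩
    · simp only [G, Set.Finite.coe_toFinset, Set.mem_preimage, hqe]
      exact Or.inr ⟨fun e => ⟨a e % d, Nat.mod_lt _ hd⟩, rfl⟩
  · simp only [map_mul, map_prod, map_pow, hpe, hqe, ← Finset.prod_mul_distrib, ← pow_mul, ← pow_add,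
      Nat.div_add_mod]

include hdeg in
theorem veronese_isNoetherianRing (hd : 0 < d) (hφ : Function.Injective φ) [IsNoetherianRing A] :
    IsNoetherianRing B := by
  obtain ⟨h0, _⟩ := (isNoetherianRing_iff 𝒜).1 ‹_›
  refine (isNoetherianRing_iff ℬ).2 ⟨?_, veronese_finiteType 𝒜 ℬ d φ hdeg hd hφ⟩
  let f : ℬ 0 →+* 𝒜 0 :=
    { toFun := fun b => ⟨φ b, by simpa using map_mem_veronese 𝒜 ℬ d φ hdeg b.2⟩
      map_one' := Subtype.ext (by simp)
      map_mul' := fun x y => Subtype.ext (by simp)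
      map_zero' := Subtype.ext (by simp)
      map_add' := fun x y => Subtype.ext (by simp) }
  have hb : Function.Bijective f := by
    refine ⟨fun x y h => Subtype.ext (hφ (congrArg Subtype.val h)), fun y => ?_⟩
    obtain ⟨b, hb, he⟩ := exists_preimage_veronese 𝒜 ℬ d φ hdeg (n := 0) (x := (y : A))
      (by simpa using y.2)
    exact ⟨⟨b, hb⟩, Subtype.ext he⟩
  exact isNoetherianRing_of_ringEquiv _ (RingEquiv.ofBijective f hb).symm

end Groth.Agent.H11Proj
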