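import Groth.Agent.H11Proj.AwayOne
import Mathlib.RingTheory.GradedAlgebra.Homogeneous.Maps
import Mathlib.Algebra.Polynomial.Laurent

/-!
# Dehomogenisation at an element of degree one

For `f` of degree one, `A_f = A_(f)[t, t⁻¹]`, and for `B = A[z]` (`z` of degree one) `B_(f) = A_(f)[T]`.
-/

set_option autoImplicit false
universe u

namespace Groth.Agent.H11Proj.PolyAway

open HomogeneousLocalization DirectSum

variable {A σ : Type u} [CommRing A] [SetLike σ A] [AddSubgroupClass σ A] (𝒜 : ℕ → σ) [GradedRing 𝒜]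
  {f : A} (hf : f ∈ 𝒜 1)

/-- The degree-`n` component of `expand`. -/
noncomputable def expandComp (n : ℕ) : 𝒜 n →+ Polynomial (Away 𝒜 f) where
  toFun a := Polynomial.monomial n (awayProjHom 𝒜 hf (a : A))
  map_zero' := by simp
  map_add' a b := by simp

/-- The expansion `a ↦ Σ (aₙ / fⁿ) Tⁿ`. -/
noncomputable def expand : A →+* Polynomial (Away 𝒜 f) :=
  (DirectSum.toSemiring (expandComp 𝒜 hf)
    (by
      change Polynomial.monomial 0 (awayProjHom 𝒜 hf (1 : A)) = 1
      simp)
    (fun {i j} a b => by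
      change Polynomial.monomial (i + j) (awayProjHom 𝒜 hf ((a : A) * (b : A))) = _
      rw [map_mul]
      exact (Polynomial.monomial_mul_monomial ..).symm)).comp (decomposeRingEquiv 𝒜).toRingHom

theorem expand_of_mem {n : ℕ} {a : A} (ha : a ∈ 𝒜 n) :
    expand 𝒜 hf a = Polynomial.monomial n (awayProjHom 𝒜 hf a) := by
  have e : (decomposeRingEquiv 𝒜).toRingHom a = DirectSum.of (fun i => 𝒜 i) n ⟨a, ha⟩ := decompose_of_mem 𝒜 ha
  rw [expand, RingHom.comp_apply, e, toSemiring_of]
  rfl

theorem expand_self : expand 𝒜 hf f = Polynomial.X := by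
  rw [expand_of_mem 𝒜 hf hf, awayProjHom_self, Polynomial.monomial_one_one_eq_X]

theorem awayProjHom_val {n : ℕ} {a : A} (ha : a ∈ 𝒜 n) :
    algebraMap (Away 𝒜 f) (Localization.Away f) (awayProjHom 𝒜 hf a) * algebraMap A (Localization.Away f) f ^ n =
      algebraMap A (Localization.Away f) a := by
  have ha' : a ∈ 𝒜 (n • 1) := by rwa [smul_eq_mul, mul_one]
  rw [awayProjHom_mk 𝒜 hf ha', HomogeneousLocalization.algebraMap_apply, Away.val_mk, Localization.mk_eq_mk',
    ← map_pow]
  exact IsLocalization.mk'_spec (Localization.Away f) a ⟨f ^ n, pow_mem (Submonoid.mem_powers _) n⟩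

/-- `A_(f)[t, t⁻¹] → A_f`, `t ↦ f`. -/
noncomputable def laurentHom : LaurentPolynomial (Away 𝒜 f) →+* Localization.Away f :=
  LaurentPolynomial.eval₂ (algebraMap (Away 𝒜 f) (Localization.Away f))
    (IsLocalization.Away.algebraMap_isUnit (S := Localization.Away f) f).unit

theorem laurentHom_C (c : Away 𝒜 f) :
    laurentHom 𝒜 (LaurentPolynomial.C c) = algebraMap (Away 𝒜 f) (Localization.Away f) c :=
  LaurentPolynomial.eval₂_C _ _ _

theorem isUnit_expand : IsUnit (Polynomial.toLaurent (expand 𝒜 hf f)) := by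
  rw [expand_self, Polynomial.toLaurent_X]
  exact LaurentPolynomial.isUnit_T 1

/-- The inverse of `laurentHom`. -/
noncomputable def laurentInv : Localization.Away f →+* LaurentPolynomial (Away 𝒜 f) :=
  IsLocalization.Away.lift f (g := Polynomial.toLaurent.comp (expand 𝒜 hf)) (isUnit_expand 𝒜 hf)

theorem laurentInv_algebraMap (a : A) :
    laurentInv 𝒜 hf (algebraMap A (Localization.Away f) a) = Polynomial.toLaurent (expand 𝒜 hf a) :=
  IsLocalization.Away.lift_eq _ _ a

include hf in
theorem laurentHom_bijective : Function.Bijective (laurentHom 𝒜 (f := f)) := by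
  have h1 : (laurentHom 𝒜).comp (laurentInv 𝒜 hf) = RingHom.id _ := by
    refine IsLocalization.ringHom_ext (Submonoid.powers f) (RingHom.ext fun a => ?_)
    simp only [RingHom.comp_apply, RingHom.id_apply, laurentInv_algebraMap]
    refine eq_on_homogeneous 𝒜
      (g₁ := ((laurentHom 𝒜).comp (Polynomial.toLaurent.comp (expand 𝒜 hf))).toAddMonoidHom)
      (g₂ := (algebraMap A (Localization.Away f)).toAddMonoidHom) (fun n b hb => ?_) a
    change laurentHom 𝒜 (Polynomial.toLaurent (expand 𝒜 hf b)) = algebraMap A (Localization.Away f) b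
    rw [expand_of_mem 𝒜 hf hb, laurentHom, LaurentPolynomial.eval₂_toLaurent, Polynomial.eval₂_monomial,
      IsUnit.unit_spec, awayProjHom_val 𝒜 hf hb]
  have h2 : ∀ c : Away 𝒜 f,
      laurentInv 𝒜 hf (algebraMap (Away 𝒜 f) (Localization.Away f) c) = LaurentPolynomial.C c := by
    intro c
    obtain ⟨n, a, ha, rfl⟩ := Away.mk_surjective 𝒜 hf c
    have hn : a ∈ 𝒜 n := by rwa [smul_eq_mul, mul_one] at ha
    have e := congrArg (laurentInv 𝒜 hf) (awayProjHom_val 𝒜 hf hn)
    rw [map_mul, map_pow, laurentInv_algebraMap, laurentInv_algebraMap, expand_of_mem 𝒜 hf hn, expand_self,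
      awayProjHom_mk 𝒜 hf ha, ← map_pow, Polynomial.toLaurent_X_pow, Polynomial.toLaurent_C_mul_T] at e
    exact ((LaurentPolynomial.isUnit_T n).mul_left_inj).1 e
  have hT : laurentInv 𝒜 hf (laurentHom 𝒜 (LaurentPolynomial.T 1)) = LaurentPolynomial.T 1 := by
    rw [laurentHom, LaurentPolynomial.eval₂_T, zpow_one, IsUnit.unit_spec, laurentInv_algebraMap, expand_self,
      Polynomial.toLaurent_X]
  refine ⟨Function.LeftInverse.injective (g := laurentInv 𝒜 hf) fun p => ?_,
    fun y => ⟨laurentInv 𝒜 hf y, RingHom.congr_fun h1 y⟩⟩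
  have h3 : ((laurentInv 𝒜 hf).comp (laurentHom 𝒜)) = RingHom.id _ := by
    refine IsLocalization.ringHom_ext (Submonoid.powers (Polynomial.X : Polynomial (Away 𝒜 f))) ?_
    refine Polynomial.ringHom_ext (fun c => ?_) ?_
    · simp only [RingHom.comp_apply, LaurentPolynomial.algebraMap_eq_toLaurent, RingHom.id_apply,
        Polynomial.toLaurent_C, laurentHom_C]
      exact h2 c
    · simp [LaurentPolynomial.algebraMap_eq_toLaurent, hT]
  exact RingHom.congr_fun h3 p

section poly

variable {B τ : Type u} [CommRing B] [SetLike τ B] [AddSubgroupClass τ B] {ℬ : ℕ → τ} [GradedRing ℬ]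
  {𝒜} (φ : 𝒜 →+*ᵍ ℬ) (i : A →+* B) (hi : ∀ a, φ a = i a) {z : B} (hz : z ∈ ℬ 1)

/-- `A_(f)[T] → B_(φ f)`, `T ↦ z / φ f`. -/
noncomputable def polyHom : Polynomial (Away 𝒜 f) →+* Away ℬ (φ f) :=
  Polynomial.eval₂RingHom (Away.map φ f) (awayProjHom ℬ (show φ f ∈ ℬ 1 from φ.2 hf) z)

theorem polyHom_comp_C : (polyHom hf φ (z := z)).comp Polynomial.C = Away.map φ f :=
  RingHom.ext fun c => by simp [polyHom]

include hi hz in
theorem polyHom_bijective (hbij : Function.Bijective (Polynomial.eval₂RingHom i z)) :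
    Function.Bijective (polyHom hf φ (z := z)) := by
  have hf' : φ f ∈ ℬ 1 := φ.2 hf
  let E := RingEquiv.ofBijective _ hbij
  let β : B →+* Polynomial (Away 𝒜 f) := (Polynomial.mapRingHom (awayProjHom 𝒜 hf)).comp E.symm.toRingHom
  have hβi : ∀ a, β (i a) = Polynomial.C (awayProjHom 𝒜 hf a) := fun a => by
    have e : E.symm (i a) = Polynomial.C a := by
      rw [RingEquiv.symm_apply_eq]
      exact (Polynomial.eval₂_C i z).symm
    simp [β, e]
  have hβz : β z = Polynomial.X := by
    have e : E.symm z = Polynomial.X := by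
      rw [RingEquiv.symm_apply_eq]
      exact (Polynomial.eval₂_X i z).symm
    simp [β, e]
  have hu1 : β (φ f) = 1 := by rw [hi, hβi, awayProjHom_self, map_one]
  have hu : IsUnit (β (φ f)) := hu1 ▸ isUnit_one
  let γ : Away ℬ (φ f) →+* Polynomial (Away 𝒜 f) :=
    (IsLocalization.Away.lift (φ f) (g := β) hu).comp (algebraMap (Away ℬ (φ f)) (Localization.Away (φ f)))
  have hγ : ∀ (n : ℕ) (b : B) (hb : b ∈ ℬ (n • 1)), γ (Away.mk ℬ hf' n b hb) = β b := by
    intro n b hb
    have hb' : b ∈ ℬ n := by rwa [smul_eq_mul, mul_one] at hb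
    have e := congrArg (IsLocalization.Away.lift (S := Localization.Away (φ f)) (φ f) (g := β) hu)
      (awayProjHom_val ℬ hf' hb')
    rw [map_mul, map_pow, IsLocalization.Away.lift_eq, IsLocalization.Away.lift_eq, hu1, one_pow, mul_one,
      awayProjHom_mk ℬ hf' hb] at e
    exact e
  have hφ : ∀ a, awayProjHom ℬ hf' (φ a) = Away.map φ f (awayProjHom 𝒜 hf a) := by
    intro a
    refine eq_on_homogeneous 𝒜
      (g₁ := (awayProjHom ℬ hf').toAddMonoidHom.comp φ.toRingHom.toAddMonoidHom)
      (g₂ := ((Away.map φ f).comp (awayProjHom 𝒜 hf)).toAddMonoidHom) (fun n b hb => ?_) a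
    have hb' : b ∈ 𝒜 (n • 1) := by rwa [smul_eq_mul, mul_one]
    change awayProjHom ℬ hf' (φ b) = Away.map φ f (awayProjHom 𝒜 hf b)
    rw [awayProjHom_mk 𝒜 hf hb', Away.map_mk φ f hf n b hb']
    exact awayProjHom_mk ℬ hf' (φ.2 hb')
  constructor
  · refine Function.LeftInverse.injective (g := γ) fun p => ?_
    have h : γ.comp (polyHom hf φ (z := z)) = RingHom.id _ := by
      refine Polynomial.ringHom_ext (fun c => ?_) ?_
      · obtain ⟨n, a, ha, rfl⟩ := Away.mk_surjective 𝒜 hf c
        rw [RingHom.comp_apply, polyHom, Polynomial.coe_eval₂RingHom, Polynomial.eval₂_C,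
          Away.map_mk φ f hf n a ha, hγ, hi, hβi, awayProjHom_mk 𝒜 hf ha]
        rfl
      · have hz' : z ∈ ℬ (1 • 1) := by rwa [one_smul]
        rw [RingHom.comp_apply, polyHom, Polynomial.coe_eval₂RingHom, Polynomial.eval₂_X,
          awayProjHom_mk ℬ hf' hz', hγ, hβz]
        rfl
    exact RingHom.congr_fun h p
  · intro y
    obtain ⟨n, b, hb, rfl⟩ := Away.mk_surjective ℬ hf' y
    refine ⟨β b, ?_⟩
    rw [← awayProjHom_mk ℬ hf' hb]
    obtain ⟨p, rfl⟩ := hbij.2 b
    have h : ((polyHom hf φ (z := z)).comp β).comp (Polynomial.eval₂RingHom i z) =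
        (awayProjHom ℬ hf').comp (Polynomial.eval₂RingHom i z) := by
      refine Polynomial.ringHom_ext (fun c => ?_) ?_
      · simp only [RingHom.comp_apply, Polynomial.coe_eval₂RingHom, Polynomial.eval₂_C, hβi]
        rw [polyHom, Polynomial.coe_eval₂RingHom, Polynomial.eval₂_C]
        exact (hφ c).symm.trans (congrArg _ (hi c))
      · simp only [RingHom.comp_apply, Polynomial.coe_eval₂RingHom, Polynomial.eval₂_X, hβz]
        rw [polyHom, Polynomial.coe_eval₂RingHom, Polynomial.eval₂_X]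
    exact RingHom.congr_fun h p

end poly

end Groth.Agent.H11Proj.PolyAway
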