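import Mathlib

/-!
# The degree-`d` projection of a graded ring to the fractions with denominators powers of `f`

For a homogeneous `f` of degree `e`, the additive map `P d : A → A_f` sends a homogeneous `a` of degree `k`
to `a / f ^ m` if `k - d = m * e` and to `0` otherwise.  It kills `(f - 1) * A`, and exhibits the degree-`d`
part of `A_f` as a direct summand of `A / (f - 1)` over the degree-zero part.
-/

set_option autoImplicit false
set_option linter.unusedSectionVars false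

noncomputable section

universe u

open DirectSum

namespace Groth.Agent.H11Proj.AwayDeg

variable {A σ : Type u} [CommRing A] [SetLike σ A] [AddSubgroupClass σ A] (𝒜 : ℕ → σ) [GradedRing 𝒜]

/-- `f` as a unit of `A_f`. -/
def uf (f : A) : (Localization.Away f)ˣ := (IsLocalization.Away.algebraMap_isUnit f).unit

theorem coe_uf (f : A) : ((uf f : (Localization.Away f)ˣ) : Localization.Away f) = algebraMap A _ f := rfl

open Classical in
/-- The component in degree `d` on `𝒜 k`. -/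
def phi (f : A) (e : ℕ) (d : ℤ) (k : ℕ) : 𝒜 k →+ Localization.Away f :=
  if (e : ℤ) ∣ (k : ℤ) - d then
    AddMonoidHom.mk' (fun a => algebraMap A _ (a : A) *
        ((uf f ^ (-(((k : ℤ) - d) / e)) : (Localization.Away f)ˣ) : Localization.Away f))
      (fun a b => by simp [add_mul])
  else 0

/-- The projection to degree `d`. -/
def P (f : A) (e : ℕ) (d : ℤ) : A →+ Localization.Away f :=
  (DirectSum.toAddMonoid (phi 𝒜 f e d)).comp (DirectSum.decomposeAddEquiv 𝒜).toAddMonoidHom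

theorem P_eq_phi (f : A) (e : ℕ) (d : ℤ) {k : ℕ} {a : A} (ha : a ∈ 𝒜 k) :
    P 𝒜 f e d a = phi 𝒜 f e d k ⟨a, ha⟩ := by
  classical
  change DirectSum.toAddMonoid (phi 𝒜 f e d) (DirectSum.decompose 𝒜 a) = _
  rw [DirectSum.decompose_of_mem 𝒜 ha, DirectSum.toAddMonoid_of]

theorem P_of_mem {f : A} {e : ℕ} (he : 0 < e) {d : ℤ} {k : ℕ} {a : A} (ha : a ∈ 𝒜 k) {m : ℤ}
    (hm : (k : ℤ) - d = e * m) :
    P 𝒜 f e d a = algebraMap A _ a * ((uf f ^ (-m) : (Localization.Away f)ˣ) : Localization.Away f) := by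
  classical
  rw [P_eq_phi 𝒜 f e d ha, phi, if_pos ⟨m, hm⟩]
  have : ((k : ℤ) - d) / e = m := by rw [hm]; exact Int.mul_ediv_cancel_left m (by omega)
  simp [this]

theorem P_of_not_dvd {f : A} {e : ℕ} {d : ℤ} {k : ℕ} {a : A} (ha : a ∈ 𝒜 k)
    (hm : ¬ (e : ℤ) ∣ (k : ℤ) - d) : P 𝒜 f e d a = 0 := by
  classical
  rw [P_eq_phi 𝒜 f e d ha, phi, if_neg hm]
  rfl

/-- `x` is one fraction of degree `d`. -/
def IsFracDeg {f : A} (e : ℕ) (d : ℤ) (x : Localization.Away f) : Prop :=
  ∃ (K i : ℕ) (a : A), a ∈ 𝒜 i ∧ (i : ℤ) = K * e + d ∧ x * algebraMap A _ f ^ K = algebraMap A _ a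

variable {f : A} {e : ℕ} (hf : f ∈ 𝒜 e)

include hf in
theorem isFracDeg_zero (he : 0 < e) (d : ℤ) : IsFracDeg 𝒜 e d (0 : Localization.Away f) := by
  have : 0 ≤ (d.natAbs : ℤ) * e + d := by
    have h1 : (d.natAbs : ℤ) ≤ d.natAbs * e := le_mul_of_one_le_right (by positivity) (by omega)
    omega
  exact ⟨d.natAbs, ((d.natAbs : ℤ) * e + d).toNat, 0, zero_mem _, by omega, by simp⟩

include hf in
theorem IsFracDeg.add {d : ℤ} {x y : Localization.Away f} (hx : IsFracDeg 𝒜 e d x)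
    (hy : IsFracDeg 𝒜 e d y) : IsFracDeg 𝒜 e d (x + y) := by
  obtain ⟨K, i, a, ha, hi, hxa⟩ := hx
  obtain ⟨K', i', a', ha', hi', hya⟩ := hy
  have h1 : a * f ^ K' ∈ 𝒜 (i + K' * e) := by
    simpa using SetLike.mul_mem_graded ha (SetLike.pow_mem_graded K' hf)
  have h2 : a' * f ^ K ∈ 𝒜 (i + K' * e) := by
    have e' : i' + K * e = i + K' * e := by zify; linarith
    rw [← e']
    simpa using SetLike.mul_mem_graded ha' (SetLike.pow_mem_graded K hf)
  refine ⟨K + K', i + K' * e, a * f ^ K' + a' * f ^ K, add_mem h1 h2, by push_cast; linarith, ?_⟩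
  rw [map_add, map_mul, map_mul, ← hxa, ← hya, map_pow, map_pow]
  ring

include hf in
theorem isFracDeg_P (he : 0 < e) (d : ℤ) (a : A) : IsFracDeg 𝒜 e d (P 𝒜 f e d a) := by
  classical
  induction a using DirectSum.Decomposition.inductionOn 𝒜 with
  | zero => rw [map_zero]; exact isFracDeg_zero 𝒜 hf he d
  | add a b ha hb => rw [map_add]; exact ha.add 𝒜 hf hb
  | @homogeneous k a =>
    obtain ⟨a, ha⟩ := a
    dsimp only
    by_cases hd : (e : ℤ) ∣ (k : ℤ) - d
    · obtain ⟨m, hm⟩ := hd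
      rw [P_of_mem 𝒜 he ha hm]
      rcases le_total 0 m with h | h
      · refine ⟨m.toNat, k, a, ha, ?_, ?_⟩
        · rw [Int.toNat_of_nonneg h, mul_comm]
          omega
        · rw [mul_assoc, ← coe_uf, ← Units.val_pow_eq_pow_val, ← Units.val_mul, ← zpow_natCast (uf f) m.toNat,
            Int.toNat_of_nonneg h, ← zpow_add, neg_add_cancel, zpow_zero, Units.val_one, mul_one]
      · refine ⟨0, k + (-m).toNat * e, a * f ^ (-m).toNat, ?_, ?_, ?_⟩
        · simpa using SetLike.mul_mem_graded ha (SetLike.pow_mem_graded (-m).toNat hf)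
        · push_cast [Int.toNat_of_nonneg (neg_nonneg.2 h)]
          linarith
        · rw [pow_zero, mul_one, map_mul, map_pow, ← coe_uf, ← Units.val_pow_eq_pow_val,
            ← zpow_natCast (uf f) (-m).toNat, Int.toNat_of_nonneg (neg_nonneg.2 h)]
    · rw [P_of_not_dvd 𝒜 ha hd]
      exact isFracDeg_zero 𝒜 hf he d

include hf in
theorem P_mul_self (he : 0 < e) (d : ℤ) (a : A) : P 𝒜 f e d (f * a) = P 𝒜 f e d a := by
  classical
  induction a using DirectSum.Decomposition.inductionOn 𝒜 with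
  | zero => simp
  | add a b ha hb => rw [mul_add, map_add, map_add, ha, hb]
  | @homogeneous k a =>
    obtain ⟨a, ha⟩ := a
    dsimp only
    have hfa : f * a ∈ 𝒜 (e + k) := SetLike.mul_mem_graded hf ha
    by_cases hd : (e : ℤ) ∣ (k : ℤ) - d
    · obtain ⟨m, hm⟩ := hd
      rw [P_of_mem 𝒜 he ha hm, P_of_mem 𝒜 he hfa (m := m + 1) (by push_cast; linarith), map_mul, neg_add,
        zpow_add, Units.val_mul, ← coe_uf]
      rw [show (uf f ^ (-1 : ℤ)) = (uf f)⁻¹ from zpow_neg_one _]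
      calc (uf f : Localization.Away f) * algebraMap A _ a *
            (((uf f ^ (-m) : (Localization.Away f)ˣ) : Localization.Away f) * (((uf f)⁻¹ : (Localization.Away f)ˣ) : Localization.Away f))
          = algebraMap A _ a * ((uf f ^ (-m) : (Localization.Away f)ˣ) : Localization.Away f) *
              ((uf f : Localization.Away f) * (((uf f)⁻¹ : (Localization.Away f)ˣ) : Localization.Away f)) := by ring
        _ = _ := by rw [Units.mul_inv, mul_one]
    · rw [P_of_not_dvd 𝒜 ha hd, P_of_not_dvd 𝒜 hfa]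
      intro h
      apply hd
      obtain ⟨m, hm⟩ := h
      exact ⟨m - 1, by push_cast at hm; rw [mul_sub, ← hm]; ring⟩

include hf in
theorem P_mul_frac (he : 0 < e) (d : ℤ) {x : Localization.Away f} {n : ℕ} {a : A} (ha : a ∈ 𝒜 (n * e))
    (hx : x * algebraMap A _ f ^ n = algebraMap A _ a) (b : A) :
    P 𝒜 f e d (a * b) = x * P 𝒜 f e d b := by
  classical
  induction b using DirectSum.Decomposition.inductionOn 𝒜 with
  | zero => simp
  | add b c hb hc => rw [mul_add, map_add, map_add, hb, hc, mul_add]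
  | @homogeneous k b =>
    obtain ⟨b, hb⟩ := b
    dsimp only
    have hab : a * b ∈ 𝒜 (n * e + k) := SetLike.mul_mem_graded ha hb
    by_cases hd : (e : ℤ) ∣ (k : ℤ) - d
    · obtain ⟨m, hm⟩ := hd
      rw [P_of_mem 𝒜 he hb hm, P_of_mem 𝒜 he hab (m := n + m) (by push_cast; linarith), map_mul, neg_add,
        zpow_add, Units.val_mul]
      have hn : algebraMap A (Localization.Away f) a *
          ((uf f ^ (-(n : ℤ)) : (Localization.Away f)ˣ) : Localization.Away f) = x := by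
        rw [← hx, mul_assoc, ← coe_uf, ← Units.val_pow_eq_pow_val, ← Units.val_mul, zpow_neg, zpow_natCast,
          mul_inv_cancel, Units.val_one, mul_one]
      rw [← hn]
      ring
    · rw [P_of_not_dvd 𝒜 hb hd, mul_zero, P_of_not_dvd 𝒜 hab]
      intro h
      apply hd
      obtain ⟨m, hm⟩ := h
      exact ⟨m - n, by push_cast at hm; rw [mul_sub, ← hm]; ring⟩

/-- `A_f → A / (f - 1)`. -/
def eta (f : A) : Localization.Away f →+* A ⧸ Ideal.span {f - 1} :=
  IsLocalization.Away.lift f (g := Ideal.Quotient.mk (Ideal.span {f - 1})) (by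
    have : Ideal.Quotient.mk (Ideal.span {f - 1}) f = 1 := by
      rw [← map_one (Ideal.Quotient.mk (Ideal.span {f - 1})), Ideal.Quotient.eq]
      exact Ideal.mem_span_singleton_self _
    rw [this]
    exact isUnit_one)

theorem mk_self (f : A) : Ideal.Quotient.mk (Ideal.span {f - 1}) f = 1 := by
  rw [← map_one (Ideal.Quotient.mk (Ideal.span {f - 1})), Ideal.Quotient.eq]
  exact Ideal.mem_span_singleton_self _

theorem eta_algebraMap (f a : A) : eta f (algebraMap A _ a) = Ideal.Quotient.mk _ a :=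
  IsLocalization.Away.lift_eq _ _ _

theorem eta_of_mul_pow {x : Localization.Away f} {K : ℕ} {a : A}
    (hx : x * algebraMap A _ f ^ K = algebraMap A _ a) : eta f x = Ideal.Quotient.mk _ a := by
  rw [← eta_algebraMap, ← hx, map_mul, map_pow, eta_algebraMap, mk_self, one_pow, mul_one]

include hf in
theorem P_eq_of_mk_eq (he : 0 < e) (d : ℤ) {a b : A}
    (h : Ideal.Quotient.mk (Ideal.span {f - 1}) a = Ideal.Quotient.mk _ b) :
    P 𝒜 f e d a = P 𝒜 f e d b := by
  obtain ⟨c, hc⟩ := Ideal.mem_span_singleton'.1 (Ideal.Quotient.eq.1 h)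
  have : a = b + (f * c - c) := by linear_combination -hc
  rw [this, map_add, map_sub, P_mul_self 𝒜 hf he d c, sub_self, add_zero]

/-- The projection to degree `d`, on the quotient. -/
def Pbar (e : ℕ) (d : ℤ) (b : A ⧸ Ideal.span {f - 1}) : Localization.Away f :=
  P 𝒜 f e d (Quotient.out b)

include hf in
theorem Pbar_mk (he : 0 < e) (d : ℤ) (a : A) :
    Pbar 𝒜 (f := f) e d (Ideal.Quotient.mk _ a) = P 𝒜 f e d a :=
  P_eq_of_mk_eq 𝒜 hf he d (Quotient.out_eq _)

include hf in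
theorem isFracDeg_Pbar (he : 0 < e) (d : ℤ) (b : A ⧸ Ideal.span {f - 1}) :
    IsFracDeg 𝒜 e d (Pbar 𝒜 e d b) := isFracDeg_P 𝒜 hf he d _

include hf in
theorem Pbar_add (he : 0 < e) (d : ℤ) (b c : A ⧸ Ideal.span {f - 1}) :
    Pbar 𝒜 e d (b + c) = Pbar 𝒜 e d b + Pbar 𝒜 e d c := by
  obtain ⟨b, rfl⟩ := Ideal.Quotient.mk_surjective b
  obtain ⟨c, rfl⟩ := Ideal.Quotient.mk_surjective c
  rw [← map_add, Pbar_mk 𝒜 hf he, Pbar_mk 𝒜 hf he, Pbar_mk 𝒜 hf he, map_add]

include hf in
theorem Pbar_eta (he : 0 < e) (d : ℤ) {x : Localization.Away f} (hx : IsFracDeg 𝒜 e d x) :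
    Pbar 𝒜 e d (eta f x) = x := by
  obtain ⟨K, i, a, ha, hi, hxa⟩ := hx
  rw [eta_of_mul_pow hxa, Pbar_mk 𝒜 hf he, P_of_mem 𝒜 he ha (m := K) (by linarith), ← hxa, mul_assoc, ← coe_uf,
    ← Units.val_pow_eq_pow_val, ← Units.val_mul, zpow_neg, zpow_natCast, mul_inv_cancel, Units.val_one, mul_one]

include hf in
theorem Pbar_mul (he : 0 < e) (d : ℤ) {x : Localization.Away f} (hx : IsFracDeg 𝒜 e 0 x)
    (b : A ⧸ Ideal.span {f - 1}) : Pbar 𝒜 e d (eta f x * b) = x * Pbar 𝒜 e d b := by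
  obtain ⟨n, i, a, ha, hi, hxa⟩ := hx
  obtain ⟨b, rfl⟩ := Ideal.Quotient.mk_surjective b
  have hin : i = n * e := by zify; linarith
  rw [eta_of_mul_pow hxa, ← map_mul, Pbar_mk 𝒜 hf he, Pbar_mk 𝒜 hf he,
    P_mul_frac 𝒜 hf he d (hin ▸ ha) hxa b]

end Groth.Agent.H11Proj.AwayDeg
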