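import Groth.Agent.H11Proj.AwayDeg
import Mathlib

/-!
# The degree-zero localizations of a finitely presented graded algebra are finitely presented
-/

set_option autoImplicit false
set_option linter.unusedSectionVars false
set_option linter.style.haveILetI false

noncomputable section

universe u

open DirectSum HomogeneousLocalization

namespace Groth.Agent.H11Proj.AwayDeg

variable {A σ : Type u} [CommRing A] [SetLike σ A] [AddSubgroupClass σ A] (𝒜 : ℕ → σ) [GradedRing 𝒜]
variable {f : A} {e : ℕ} (hf : f ∈ 𝒜 e)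

/-- `A_(f) → A / (f - 1)`. -/
def rho (f : A) : Away 𝒜 f →+* A ⧸ Ideal.span {f - 1} :=
  (eta f).comp (algebraMap (Away 𝒜 f) (Localization.Away f))

theorem rho_apply (c : Away 𝒜 f) : rho 𝒜 f c = eta f c.val := rfl

include hf in
theorem isFracDeg_val (c : Away 𝒜 f) : IsFracDeg 𝒜 e 0 c.val := by
  obtain ⟨n, a, ha, rfl⟩ := Away.mk_surjective 𝒜 hf c
  refine ⟨n, n * e, a, by simpa using ha, by simp, ?_⟩
  rw [Away.val_mk, ← map_pow, ← Localization.mk_one_eq_algebraMap, Localization.mk_mul,
    ← Localization.mk_one_eq_algebraMap, Localization.mk_eq_mk_iff, Localization.r_iff_exists]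
  exact ⟨1, by simp; ring⟩

include hf in
theorem exists_val_eq {x : Localization.Away f} (hx : IsFracDeg 𝒜 e 0 x) : ∃ c : Away 𝒜 f, c.val = x := by
  obtain ⟨n, i, a, ha, hi, hxa⟩ := hx
  have hin : i = n * e := by zify; linarith
  subst hin
  refine ⟨Away.mk 𝒜 hf n a (by simpa using ha), ?_⟩
  rw [Away.val_mk]
  refine (IsLocalization.Away.algebraMap_pow_isUnit f n).mul_right_cancel ?_
  rw [← map_pow] at hxa
  rw [← map_pow, hxa, ← Localization.mk_one_eq_algebraMap, Localization.mk_mul,
    ← Localization.mk_one_eq_algebraMap, Localization.mk_eq_mk_iff, Localization.r_iff_exists]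
  exact ⟨1, by simp; ring⟩

include hf in
theorem Pbar_rho_mul (he : 0 < e) (d : ℤ) (c : Away 𝒜 f) (b : A ⧸ Ideal.span {f - 1}) :
    Pbar 𝒜 e d (rho 𝒜 f c * b) = c.val * Pbar 𝒜 e d b :=
  Pbar_mul 𝒜 hf he d (isFracDeg_val 𝒜 hf c) b

variable {R : Type u} [CommRing R]

/-- The structure map of `A / (f - 1)` is finite. -/
theorem finite_rho (he : 0 < e) (hf : f ∈ 𝒜 e) [Algebra (Away 𝒜 f) (A ⧸ Ideal.span {f - 1})]
    (hρ : algebraMap (Away 𝒜 f) (A ⧸ Ideal.span {f - 1}) = rho 𝒜 f)
    [Algebra.FiniteType (Away 𝒜 f) (A ⧸ Ideal.span {f - 1})] :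
    Module.Finite (Away 𝒜 f) (A ⧸ Ideal.span {f - 1}) := by
  classical
  haveI : Algebra.IsIntegral (Away 𝒜 f) (A ⧸ Ideal.span {f - 1}) := by
    refine ⟨fun b => ?_⟩
    obtain ⟨a, rfl⟩ := Ideal.Quotient.mk_surjective b
    rw [← DirectSum.sum_support_decompose 𝒜 a, map_sum]
    refine IsIntegral.sum _ fun k _ => ?_
    set y := (DirectSum.decompose 𝒜 a k : A)
    have hy : y ^ e ∈ 𝒜 (k • e) := by
      rw [smul_eq_mul, mul_comm]
      exact SetLike.pow_mem_graded e (DirectSum.decompose 𝒜 a k).2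
    refine IsIntegral.of_pow he ?_
    rw [← map_pow]
    have h : algebraMap (Away 𝒜 f) (A ⧸ Ideal.span {f - 1}) (Away.mk 𝒜 hf k (y ^ e) hy) =
        Ideal.Quotient.mk _ (y ^ e) := by
      rw [hρ, rho_apply, Away.val_mk]
      refine eta_of_mul_pow (K := k) ?_
      rw [← map_pow, ← Localization.mk_one_eq_algebraMap, Localization.mk_mul,
        ← Localization.mk_one_eq_algebraMap, Localization.mk_eq_mk_iff, Localization.r_iff_exists]
      exact ⟨1, by simp; ring⟩
    rw [← h]
    exact isIntegral_algebraMap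
  exact Algebra.IsIntegral.finite

/-- The maps used to transport finiteness from `A`. -/
theorem finiteType_zero (s : R →+* 𝒜 0) (hs : ((algebraMap (𝒜 0) A).comp s).FiniteType) :
    s.FiniteType := by
  algebraize [s, (algebraMap (𝒜 0) A).comp s]
  let π : A →ₐ[R] (𝒜 0) :=
    { GradedRing.projZeroRingHom' 𝒜 with
      commutes' := fun r => GradedRing.projZeroRingHom'_apply_coe 𝒜 (s r) }
  haveI : Algebra.FiniteType R A := hs
  exact Algebra.FiniteType.of_surjective π (GradedRing.projZeroRingHom'_surjective 𝒜)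

theorem finiteType_away (s : R →+* 𝒜 0) (hs : ((algebraMap (𝒜 0) A).comp s).FiniteType) (hf : f ∈ 𝒜 e) :
    ((fromZeroRingHom 𝒜 (Submonoid.powers f)).comp s).FiniteType := by
  haveI : Algebra.FiniteType (𝒜 0) A := by
    have h : (algebraMap (𝒜 0) A).FiniteType := RingHom.FiniteType.of_comp_finiteType hs
    rw [RingHom.finiteType_algebraMap] at h
    exact h
  exact RingHom.FiniteType.comp (RingHom.finiteType_algebraMap.2 (Away.finiteType f e hf))
    (finiteType_zero 𝒜 s hs)

include hf in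
theorem exists_retraction (he : 0 < e) [Algebra (Away 𝒜 f) (A ⧸ Ideal.span {f - 1})]
    (hρ : algebraMap (Away 𝒜 f) (A ⧸ Ideal.span {f - 1}) = rho 𝒜 f) :
    ∃ π : (A ⧸ Ideal.span {f - 1}) →ₗ[Away 𝒜 f] Away 𝒜 f,
      π ∘ₗ Algebra.linearMap (Away 𝒜 f) (A ⧸ Ideal.span {f - 1}) = LinearMap.id := by
  choose g hg using fun b => exists_val_eq 𝒜 hf (isFracDeg_Pbar 𝒜 hf he 0 b)
  refine ⟨{ toFun := g, map_add' := fun b c => ?_, map_smul' := fun c b => ?_ }, ?_⟩
  · exact val_injective _ (by rw [HomogeneousLocalization.val_add, hg, hg, hg, Pbar_add 𝒜 hf he])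
  · exact val_injective _ (by
      rw [RingHom.id_apply, smul_eq_mul, HomogeneousLocalization.val_mul, hg, hg, Algebra.smul_def, hρ,
        Pbar_rho_mul 𝒜 hf he])
  · refine LinearMap.ext fun c => val_injective _ ?_
    change (g (algebraMap _ _ c)).val = c.val
    rw [hg, hρ, rho_apply, Pbar_eta 𝒜 hf he 0 (isFracDeg_val 𝒜 hf c)]

/-- A finite module quotient by an idempotent: kernels of split surjections from finite modules are fg. -/
theorem fg_ker_of_split {P M N : Type*} [CommRing P] [AddCommGroup M] [Module P M] [AddCommGroup N]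
    [Module P N] [Module.Finite P M] (π : M →ₗ[P] N) (ι : N →ₗ[P] M) (h : π ∘ₗ ι = LinearMap.id) :
    (LinearMap.ker π).FG := by
  have : LinearMap.ker π = LinearMap.range (LinearMap.id - ι ∘ₗ π) := by
    ext x
    constructor
    · intro hx
      exact ⟨x, by simp [LinearMap.mem_ker.1 hx]⟩
    · rintro ⟨y, rfl⟩
      simp [← LinearMap.comp_apply π ι, h]
  rw [this, LinearMap.range_eq_map]
  exact Module.Finite.fg_top.map _

include hf in
/-- **The degree-zero localizations of a finitely presented graded algebra are finitely presented.** -/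
theorem finitePresentation_away (he : 0 < e) (s : R →+* 𝒜 0)
    (hs : ((algebraMap (𝒜 0) A).comp s).FinitePresentation) :
    ((fromZeroRingHom 𝒜 (Submonoid.powers f)).comp s).FinitePresentation := by
  classical
  have hC := finiteType_away 𝒜 s (RingHom.FiniteType.of_finitePresentation hs) hf
  letI : Algebra R A := ((algebraMap (𝒜 0) A).comp s).toAlgebra
  letI : Algebra R (Away 𝒜 f) := ((fromZeroRingHom 𝒜 (Submonoid.powers f)).comp s).toAlgebra
  letI : Algebra (Away 𝒜 f) (A ⧸ Ideal.span {f - 1}) := (rho 𝒜 f).toAlgebra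
  haveI : IsScalarTower R (Away 𝒜 f) (A ⧸ Ideal.span {f - 1}) := by
    refine IsScalarTower.of_algebraMap_eq fun r => ?_
    change Ideal.Quotient.mk (Ideal.span {f - 1}) ((algebraMap (𝒜 0) A) (s r)) =
      rho 𝒜 f (fromZeroRingHom 𝒜 (Submonoid.powers f) (s r))
    exact (eta_algebraMap f (s r : A)).symm
  haveI : Algebra.FiniteType R (Away 𝒜 f) := hC
  haveI : Algebra.FinitePresentation R A := hs
  haveI : Algebra.FinitePresentation R (A ⧸ Ideal.span {f - 1}) :=
    Algebra.FinitePresentation.quotient (Submodule.fg_span_singleton _)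
  haveI : Algebra.FiniteType (Away 𝒜 f) (A ⧸ Ideal.span {f - 1}) :=
    Algebra.FiniteType.of_restrictScalars_finiteType R (Away 𝒜 f) _
  haveI := finite_rho 𝒜 he hf rfl
  obtain ⟨n, g, hg⟩ := Algebra.FiniteType.iff_quotient_mvPolynomial''.1 hC
  letI : Algebra (MvPolynomial (Fin n) R) (Away 𝒜 f) := g.toRingHom.toAlgebra
  letI : Algebra (MvPolynomial (Fin n) R) (A ⧸ Ideal.span {f - 1}) :=
    ((rho 𝒜 f).comp g.toRingHom).toAlgebra
  haveI : IsScalarTower (MvPolynomial (Fin n) R) (Away 𝒜 f) (A ⧸ Ideal.span {f - 1}) :=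
    IsScalarTower.of_algebraMap_eq' rfl
  haveI : IsScalarTower R (MvPolynomial (Fin n) R) (A ⧸ Ideal.span {f - 1}) := by
    refine IsScalarTower.of_algebraMap_eq fun r => ?_
    change _ = rho 𝒜 f (g (algebraMap R _ r))
    rw [g.commutes]
    exact IsScalarTower.algebraMap_apply R (Away 𝒜 f) _ r
  haveI : Algebra.FinitePresentation (MvPolynomial (Fin n) R) (A ⧸ Ideal.span {f - 1}) :=
    Algebra.FinitePresentation.of_restrict_scalars_finitePresentation R (MvPolynomial (Fin n) R) _
  haveI : Module.Finite (MvPolynomial (Fin n) R) (Away 𝒜 f) :=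
    Module.Finite.of_surjective (Algebra.linearMap (MvPolynomial (Fin n) R) (Away 𝒜 f)) hg
  haveI : Module.Finite (MvPolynomial (Fin n) R) (A ⧸ Ideal.span {f - 1}) :=
    Module.Finite.trans (Away 𝒜 f) _
  haveI : Module.FinitePresentation (MvPolynomial (Fin n) R) (A ⧸ Ideal.span {f - 1}) :=
    Module.FinitePresentation.of_finite_of_finitePresentation _ _
  obtain ⟨π, hπ⟩ := exists_retraction 𝒜 hf he (rfl :
    algebraMap (Away 𝒜 f) (A ⧸ Ideal.span {f - 1}) = rho 𝒜 f)
  have hπP : π.restrictScalars (MvPolynomial (Fin n) R) ∘ₗ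
      (Algebra.linearMap (Away 𝒜 f) (A ⧸ Ideal.span {f - 1})).restrictScalars (MvPolynomial (Fin n) R) =
      LinearMap.id := LinearMap.ext fun c => LinearMap.congr_fun hπ c
  haveI : Module.FinitePresentation (MvPolynomial (Fin n) R) (Away 𝒜 f) :=
    Module.finitePresentation_of_surjective (π.restrictScalars (MvPolynomial (Fin n) R))
      (fun c => ⟨_, LinearMap.congr_fun hπP c⟩) (fg_ker_of_split _ _ hπP)
  exact Algebra.FinitePresentation.of_surjective hg
    (Module.FinitePresentation.fg_ker (Algebra.linearMap (MvPolynomial (Fin n) R) (Away 𝒜 f)) hg)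

end Groth.Agent.H11Proj.AwayDeg
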