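import Groth.Agent.H11Proj.ImageAlg
import Mathlib

/-!
# The graded algebra of a family of charts with coordinate ratios
-/

set_option autoImplicit false
set_option linter.style.haveILetI false

noncomputable section

universe u

open CategoryTheory AlgebraicGeometry TopologicalSpace Opposite MvPolynomial

namespace Groth.Agent.H11Proj

variable {X S : Scheme.{u}} (f : X ⟶ S) {n : ℕ} (V : Fin (n + 1) → X.Opens)
  (ρ : ∀ j, Fin (n + 1) → Γ(X, V j))

namespace ChartAlg

/-- Dehomogenisation in the chart `j` over `U`. -/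
def hom (j : Fin (n + 1)) (U : S.Opens) : MvPolynomial (Fin (n + 1)) Γ(S, U) →+* Γ(X, V j ⊓ f ⁻¹ᵁ U) :=
  eval₂Hom (f.appLE U (V j ⊓ f ⁻¹ᵁ U) inf_le_right).hom
    (fun l => X.presheaf.map (homOfLE (inf_le_left : V j ⊓ f ⁻¹ᵁ U ≤ V j)).op (ρ j l))

theorem res_hom (j : Fin (n + 1)) {U U' : S.Opens} (i : U' ≤ U) (P : MvPolynomial (Fin (n + 1)) Γ(S, U)) :
    X.presheaf.map (homOfLE (inf_le_inf_left (V j) (f.preimage_mono i))).op (hom f V ρ j U P) =
      hom f V ρ j U' (MvPolynomial.map (S.presheaf.map (homOfLE i).op).hom P) := by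
  have h : (X.presheaf.map (homOfLE (inf_le_inf_left (V j) (f.preimage_mono i))).op).hom.comp (hom f V ρ j U) =
      (hom f V ρ j U').comp (MvPolynomial.map (S.presheaf.map (homOfLE i).op).hom) := by
    refine MvPolynomial.ringHom_ext (fun r => ?_) (fun l => ?_)
    · simp only [RingHom.comp_apply, hom, map_C, eval₂Hom_C]
      rw [← ConcreteCategory.comp_apply, ← ConcreteCategory.comp_apply, Scheme.Hom.appLE_map,
        Scheme.Hom.map_appLE]
    · simp only [RingHom.comp_apply, hom, map_X, eval₂Hom_X']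
      rw [← ConcreteCategory.comp_apply, ← Functor.map_comp]
      rfl
  exact RingHom.congr_fun h P

/-- Restriction of the coefficients. -/
def resCoeff (j : Fin (n + 1)) {W W' : S.Opens} (i : W' ≤ W) :
    Γ(X, V j ⊓ f ⁻¹ᵁ W) →+* Γ(X, V j ⊓ f ⁻¹ᵁ W') :=
  (X.presheaf.map (homOfLE (inf_le_inf_left (V j) (f.preimage_mono i))).op).hom

/-- The ambient sheaf of algebras: power series in the degree variable, chart by chart. -/
def amb : TopCat.Presheaf CommRingCat.{u} S.carrier where
  obj W := CommRingCat.of (∀ j, PowerSeries Γ(X, V j ⊓ f ⁻¹ᵁ W.unop))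
  map i := CommRingCat.ofHom
    (Pi.ringHom fun j => (PowerSeries.map (resCoeff f V j i.unop.le)).comp (Pi.evalRingHom _ j))
  map_id W := by
    refine CommRingCat.hom_ext (RingHom.ext fun x => funext fun j => PowerSeries.ext fun d => ?_)
    change PowerSeries.coeff d (PowerSeries.map _ (x j)) = PowerSeries.coeff d (x j)
    rw [PowerSeries.coeff_map, resCoeff]
    exact ConcreteCategory.congr_hom (X.presheaf.map_id _) _
  map_comp i i' := by
    refine CommRingCat.hom_ext (RingHom.ext fun x => funext fun j => PowerSeries.ext fun d => ?_)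
    change PowerSeries.coeff d (PowerSeries.map _ (x j)) =
      PowerSeries.coeff d (PowerSeries.map _ (PowerSeries.map _ (x j)))
    rw [PowerSeries.coeff_map, PowerSeries.coeff_map, PowerSeries.coeff_map]
    simp only [resCoeff]
    rw [← ConcreteCategory.comp_apply, ← Functor.map_comp]
    rfl

theorem coeff_amb_map {W W' : S.Opens} (i : W' ⟶ W) (x : (amb f V).obj (op W)) (j : Fin (n + 1)) (d : ℕ) :
    PowerSeries.coeff d (((amb f V).map i.op x : ∀ j, PowerSeries Γ(X, V j ⊓ f ⁻¹ᵁ W')) j) =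
      X.presheaf.map (homOfLE (inf_le_inf_left (V j) (f.preimage_mono i.le))).op
        (PowerSeries.coeff d ((x : ∀ j, PowerSeries Γ(X, V j ⊓ f ⁻¹ᵁ W)) j)) :=
  PowerSeries.coeff_map _ _ _

theorem amb_isSheaf : (amb f V).IsSheaf := by
  rw [TopCat.Presheaf.isSheaf_iff_isSheafUniqueGluing]
  intro ι W sf hsf
  have key : ∀ (j : Fin (n + 1)) (d : ℕ), ∃! c : Γ(X, V j ⊓ f ⁻¹ᵁ iSup W), ∀ i : ι,
      X.presheaf.map (homOfLE (inf_le_inf_left (V j) (f.preimage_mono (le_iSup W i)))).op c =
        PowerSeries.coeff d ((sf i : ∀ j, PowerSeries Γ(X, V j ⊓ f ⁻¹ᵁ W i)) j) := fun j d => by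
    refine X.sheaf.existsUnique_gluing' (fun i => V j ⊓ f ⁻¹ᵁ W i) (V j ⊓ f ⁻¹ᵁ iSup W)
      (fun i => homOfLE (inf_le_inf_left (V j) (f.preimage_mono (le_iSup W i)))) ?_
      (fun i => PowerSeries.coeff d ((sf i : ∀ j, PowerSeries Γ(X, V j ⊓ f ⁻¹ᵁ W i)) j)) fun a b => ?_
    · rintro x ⟨hx, hx'⟩
      obtain ⟨i, hi⟩ := Opens.mem_iSup.1 hx'
      exact Opens.mem_iSup.2 ⟨i, hx, hi⟩
    · have h : PowerSeries.coeff d (((amb f V).map (Opens.infLELeft (W a) (W b)).op (sf a) :
          ∀ j, PowerSeries Γ(X, V j ⊓ f ⁻¹ᵁ (W a ⊓ W b))) j) =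
          PowerSeries.coeff d (((amb f V).map (Opens.infLERight (W a) (W b)).op (sf b) :
          ∀ j, PowerSeries Γ(X, V j ⊓ f ⁻¹ᵁ (W a ⊓ W b))) j) := by
        rw [hsf a b]
      rw [coeff_amb_map, coeff_amb_map] at h
      have hle : (V j ⊓ f ⁻¹ᵁ W a) ⊓ (V j ⊓ f ⁻¹ᵁ W b) ≤ V j ⊓ f ⁻¹ᵁ (W a ⊓ W b) :=
        le_inf (inf_le_left.trans inf_le_left) (le_inf (inf_le_left.trans inf_le_right) (inf_le_right.trans inf_le_right))
      have h' := congrArg (X.presheaf.map (homOfLE hle).op) h
      rw [← ConcreteCategory.comp_apply, ← Functor.map_comp, ← ConcreteCategory.comp_apply, ← Functor.map_comp] at h'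
      exact h'
  choose c hc hc' using key
  refine ⟨fun j => PowerSeries.mk (c j), fun i => funext fun j => PowerSeries.ext fun d => ?_, fun y hy => ?_⟩
  · rw [coeff_amb_map, PowerSeries.coeff_mk]
    exact hc j d i
  · refine funext fun j => PowerSeries.ext fun d => ?_
    rw [PowerSeries.coeff_mk]
    refine hc' j d _ fun i => ?_
    rw [← hy i]
    exact (coeff_amb_map f V _ y j d).symm

/-- The structure map. -/
def ambStr : S.presheaf ⟶ amb f V where
  app W := CommRingCat.ofHom (Pi.ringHom fun j =>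
    PowerSeries.C.comp (f.appLE W.unop (V j ⊓ f ⁻¹ᵁ W.unop) inf_le_right).hom)
  naturality {W W'} i := by
    refine CommRingCat.hom_ext (RingHom.ext fun r => funext fun j => ?_)
    change PowerSeries.C (f.appLE W'.unop _ inf_le_right (S.presheaf.map i r)) =
      PowerSeries.map _ (PowerSeries.C (f.appLE W.unop _ inf_le_right r))
    rw [PowerSeries.map_C, resCoeff, ← ConcreteCategory.comp_apply, ← ConcreteCategory.comp_apply,
      Scheme.Hom.appLE_map]
    rw [show i = (homOfLE i.unop.le).op from rfl, Scheme.Hom.map_appLE]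

/-- The coordinate sections. -/
def coordSec (l : Fin (n + 1)) : (amb f V).obj (op (⊤ : S.Opens)) :=
  fun j => PowerSeries.C (X.presheaf.map (homOfLE (inf_le_left : V j ⊓ f ⁻¹ᵁ ⊤ ≤ V j)).op (ρ j l)) * PowerSeries.X

/-- Evaluation of polynomials, chart by chart. -/
def evJ (j : Fin (n + 1)) (U : S.Opens) : MvPolynomial (Fin (n + 1)) Γ(S, U) →+*
    PowerSeries Γ(X, V j ⊓ f ⁻¹ᵁ U) :=
  eval₂Hom (PowerSeries.C.comp (f.appLE U (V j ⊓ f ⁻¹ᵁ U) inf_le_right).hom)
    (fun l => PowerSeries.C (X.presheaf.map (homOfLE (inf_le_left : V j ⊓ f ⁻¹ᵁ U ≤ V j)).op (ρ j l)) * PowerSeries.X)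

/-- The `j`-th component. -/
def comp (j : Fin (n + 1)) (U : S.Opens) : (amb f V).obj (op U) →+* PowerSeries Γ(X, V j ⊓ f ⁻¹ᵁ U) :=
  Pi.evalRingHom (fun j => PowerSeries Γ(X, V j ⊓ f ⁻¹ᵁ U)) j

theorem comp_ev (j : Fin (n + 1)) (U : S.Opens) (P : MvPolynomial (Fin (n + 1)) Γ(S, U)) :
    comp f V j U (ImageAlg.ev (amb f V) (ambStr f V) (coordSec f V ρ) U P) = evJ f V ρ j U P := by
  have h : (comp f V j U).comp (ImageAlg.ev (amb f V) (ambStr f V) (coordSec f V ρ) U) = evJ f V ρ j U := by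
    refine MvPolynomial.ringHom_ext (fun r => ?_) (fun l => ?_)
    · rw [RingHom.comp_apply]
      simp only [ImageAlg.ev, evJ, eval₂Hom_C]
      rfl
    · rw [RingHom.comp_apply]
      simp only [ImageAlg.ev, evJ, eval₂Hom_X']
      change PowerSeries.map (resCoeff f V j le_top) (coordSec f V ρ l j) = _
      simp only [coordSec, map_mul, PowerSeries.map_C, PowerSeries.map_X, resCoeff]
      rw [← ConcreteCategory.comp_apply, ← Functor.map_comp]
      rfl
  exact RingHom.congr_fun h P

theorem evJ_C (j : Fin (n + 1)) (U : S.Opens) (r : Γ(S, U)) :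
    evJ f V ρ j U (C r) = PowerSeries.C (hom f V ρ j U (C r)) := by
  simp only [evJ, hom, eval₂Hom_C, RingHom.comp_apply]

theorem evJ_X (j : Fin (n + 1)) (U : S.Opens) (l : Fin (n + 1)) :
    evJ f V ρ j U (MvPolynomial.X l) =
      PowerSeries.C (hom f V ρ j U (MvPolynomial.X l)) * PowerSeries.X := by
  simp only [evJ, hom, eval₂Hom_X']

theorem evJ_homogeneous (j : Fin (n + 1)) (U : S.Opens) {d : ℕ} {P : MvPolynomial (Fin (n + 1)) Γ(S, U)}
    (hP : P.IsHomogeneous d) : evJ f V ρ j U P = PowerSeries.C (hom f V ρ j U P) * PowerSeries.X ^ d := by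
  classical
  rw [P.as_sum, map_sum, map_sum, map_sum, Finset.sum_mul]
  refine Finset.sum_congr rfl fun e he => ?_
  have hd : e.sum (fun _ m => m) = d := by
    have := hP (MvPolynomial.mem_support_iff.1 he)
    simpa [Finsupp.weight_apply] using this
  rw [monomial_eq, map_mul, map_mul, map_mul, evJ_C, Finsupp.prod, map_prod, map_prod, map_prod]
  simp only [map_pow, evJ_X, mul_pow]
  rw [Finset.prod_mul_distrib, Finset.prod_pow_eq_pow_sum, show e.support.sum (fun l => e l) = d from hd]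
  ring

theorem coeff_evJ (j : Fin (n + 1)) (U : S.Opens) (d : ℕ) (P : MvPolynomial (Fin (n + 1)) Γ(S, U)) :
    PowerSeries.coeff d (evJ f V ρ j U P) = hom f V ρ j U (homogeneousComponent d P) := by
  classical
  conv_lhs => rw [← sum_homogeneousComponent P, map_sum, map_sum]
  simp only [evJ_homogeneous f V ρ j U (homogeneousComponent_isHomogeneous _ P), PowerSeries.coeff_C_mul,
    PowerSeries.coeff_X_pow, mul_ite, mul_one, mul_zero]
  rw [Finset.sum_ite_eq, ite_eq_left_iff]
  intro hd
  rw [homogeneousComponent_eq_zero _ _ (by simpa using hd), map_zero]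

theorem ev_eq_zero_iff (U : S.Opens) (P : MvPolynomial (Fin (n + 1)) Γ(S, U)) :
    ImageAlg.ev (amb f V) (ambStr f V) (coordSec f V ρ) U P = 0 ↔
      ∀ j d, hom f V ρ j U (homogeneousComponent d P) = 0 := by
  constructor
  · intro h j d
    rw [← coeff_evJ, ← comp_ev, h, map_zero, map_zero]
  · intro h
    refine funext fun j => PowerSeries.ext fun d => ?_
    change PowerSeries.coeff d (comp f V j U (ImageAlg.ev (amb f V) (ambStr f V) (coordSec f V ρ) U P)) =
      PowerSeries.coeff d (comp f V j U 0)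
    rw [comp_ev, coeff_evJ, h, map_zero, map_zero]

theorem homog : ImageAlg.Homog (amb f V) (ambStr f V) (coordSec f V ρ) := fun U _ P hP d => by
  rw [ev_eq_zero_iff] at hP ⊢
  intro j e
  rw [homogeneousComponent_of_mem (homogeneousComponent_isHomogeneous d P)]
  split_ifs
  · exact hP j d
  · exact map_zero _

theorem killed (haff : ∀ (U : S.Opens), IsAffineOpen U → ∀ j, IsAffineOpen (V j ⊓ f ⁻¹ᵁ U)) :
    ImageAlg.Killed (amb f V) (ambStr f V) (coordSec f V ρ) := by
  classical
  intro U hU r P hP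
  rw [ImageAlg.res_ev, ev_eq_zero_iff] at hP
  have hm : ∀ j d, ∃ m : ℕ, f.appLE U (V j ⊓ f ⁻¹ᵁ U) inf_le_right r ^ m *
      hom f V ρ j U (homogeneousComponent d P) = 0 := fun j d => by
    let a := f.appLE U (V j ⊓ f ⁻¹ᵁ U) inf_le_right r
    haveI := (haff U hU j).isLocalization_basicOpen a
    have hle : X.basicOpen a ≤ V j ⊓ f ⁻¹ᵁ S.basicOpen r := by
      refine le_inf ((X.basicOpen_le a).trans inf_le_left) ?_
      rw [Scheme.preimage_basicOpen]
      change X.basicOpen a ≤ X.basicOpen (f.app U r)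
      simp only [a, Scheme.Hom.appLE, CommRingCat.comp_apply, Scheme.basicOpen_res]
      exact inf_le_right
    have h0 := congrArg (X.presheaf.map (homOfLE hle).op) (hP j d)
    have hmap : homogeneousComponent d (MvPolynomial.map (S.presheaf.map (homOfLE (S.basicOpen_le r)).op).hom P) =
        MvPolynomial.map (S.presheaf.map (homOfLE (S.basicOpen_le r)).op).hom (homogeneousComponent d P) := by
      ext e
      simp only [coeff_homogeneousComponent, coeff_map]
      split_ifs <;> simp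
    rw [hmap, ← res_hom, map_zero, ← ConcreteCategory.comp_apply, ← Functor.map_comp] at h0
    obtain ⟨⟨_, m, rfl⟩, hm⟩ := (IsLocalization.map_eq_zero_iff (Submonoid.powers a)
      Γ(X, X.basicOpen a) (hom f V ρ j U (homogeneousComponent d P))).1 h0
    exact ⟨m, hm⟩
  choose m hm using hm
  let M := Finset.univ.sup fun j => (Finset.range (P.totalDegree + 1)).sup (m j)
  refine ⟨M, funext fun j => PowerSeries.ext fun d => ?_⟩
  change PowerSeries.coeff d (comp f V j U (ImageAlg.ev (amb f V) (ambStr f V) (coordSec f V ρ) U (C r ^ M * P))) =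
    PowerSeries.coeff d (comp f V j U 0)
  rw [comp_ev, map_zero (comp f V j U), map_zero]
  rw [← map_pow, map_mul, evJ_C, PowerSeries.coeff_C_mul, coeff_evJ, map_pow C, map_pow]
  simp only [hom, eval₂Hom_C]
  rcases Nat.lt_or_ge P.totalDegree d with h | h
  · rw [homogeneousComponent_eq_zero _ _ h, map_zero, mul_zero]
  · have hle : m j d ≤ M := (Finset.le_sup (f := m j) (Finset.mem_range.2 (Nat.lt_succ_of_le h))).trans
      (Finset.le_sup (f := fun j => (Finset.range (P.totalDegree + 1)).sup (m j)) (Finset.mem_univ j))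
    rw [← Nat.sub_add_cancel hle, pow_add, mul_assoc]
    erw [hm j d]
    rw [mul_zero]

end ChartAlg

end Groth.Agent.H11Proj
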