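import Groth.Agent.H11Proj.ChartAlg
import Groth.Agent.H11Proj.RelProjMap
import Groth.Agent.H11Proj.RelProjExists
import Groth.Agent.H11Proj.ProjSpace
import Groth.Agent.H11Tilde.ProjHom

/-!
# A scheme with coordinate charts is the relative Proj of its graded algebra
-/

set_option autoImplicit false
set_option linter.style.haveILetI false

noncomputable section

universe u

open CategoryTheory CategoryTheory.Limits AlgebraicGeometry TopologicalSpace Opposite MvPolynomial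
open Groth.Agent.H11Tilde

namespace Groth.Agent.H11Proj

/-- Charts with coordinate ratios, affine over affine opens of the base and generated there by the ratios. -/
structure Charts {X S : Scheme.{u}} (f : X ⟶ S) (n : ℕ) where
  V : Fin (n + 1) → X.Opens
  ρ : ∀ j, Fin (n + 1) → Γ(X, V j)
  cover : ∀ x, ∃ j, x ∈ V j
  ρ_self : ∀ j, ρ j j = 1
  basicOpen_eq : ∀ j l, X.basicOpen (ρ j l) = V j ⊓ V l
  cocycle : ∀ i j l, X.presheaf.map (homOfLE (inf_le_right : V i ⊓ V j ≤ V j)).op (ρ j l) =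
    X.presheaf.map (homOfLE (inf_le_right : V i ⊓ V j ≤ V j)).op (ρ j i) *
      X.presheaf.map (homOfLE (inf_le_left : V i ⊓ V j ≤ V i)).op (ρ i l)
  affine : ∀ (U : S.Opens), IsAffineOpen U → ∀ j, IsAffineOpen (V j ⊓ f ⁻¹ᵁ U)
  surj : ∀ (U : S.Opens), IsAffineOpen U → ∀ j, Function.Surjective (ChartAlg.hom f V ρ j U)

namespace Charts

theorem appLE_congr_hom {X Y : Scheme.{u}} {g g' : X ⟶ Y} (h : g = g') {U : Y.Opens} {V : X.Opens}
    (e : V ≤ g ⁻¹ᵁ U) (e' : V ≤ g' ⁻¹ᵁ U) : g.appLE U V e = g'.appLE U V e' := by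
  subst h; rfl

theorem eval₂_scale {σ R B : Type*} [CommRing R] [CommRing B] (g : R →+* B) (r r' : σ → B) (c : B)
    (h : ∀ l, r' l = c * r l) {d : ℕ} {P : MvPolynomial σ R} (hP : P.IsHomogeneous d) :
    eval₂Hom g r' P = c ^ d * eval₂Hom g r P := by
  classical
  rw [P.as_sum, map_sum, map_sum, Finset.mul_sum]
  refine Finset.sum_congr rfl fun e he => ?_
  have hd : e.support.sum (fun l => e l) = d := by
    have := hP (MvPolynomial.mem_support_iff.1 he)
    simpa [Finsupp.weight_apply, Finsupp.sum] using this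
  simp only [eval₂Hom_monomial, Finsupp.prod, h, mul_pow]
  rw [Finset.prod_mul_distrib, Finset.prod_pow_eq_pow_sum, hd]
  ring

variable {X S : Scheme.{u}} {f : X ⟶ S} {n : ℕ} (C : Charts f n)

/-- The graded algebra of the charts. -/
def alg : RelProj.QCGrAlg S :=
  ImageAlg.qcGrAlg (ChartAlg.amb_isSheaf f C.V) (ChartAlg.killed f C.V C.ρ C.affine) (ChartAlg.homog f C.V C.ρ)

theorem alg_isGenDegOne : C.alg.IsGenDegOne :=
  ImageAlg.isGenDegOne (ChartAlg.amb_isSheaf f C.V) (ChartAlg.killed f C.V C.ρ C.affine) (ChartAlg.homog f C.V C.ρ)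

theorem alg_isFTDeg_one : C.alg.IsFTDeg 1 :=
  ImageAlg.isFTDeg_one (ChartAlg.amb_isSheaf f C.V) (ChartAlg.killed f C.V C.ρ C.affine) (ChartAlg.homog f C.V C.ρ)

variable {U : S.Opens} (hU : IsAffineOpen U)

/-- The polynomial sections over an open. -/
def poly (U : S.Opens) : MvPolynomial (Fin (n + 1)) Γ(S, U) →+* C.alg.presheaf.obj (op U) :=
  (ImageAlg.ev (ChartAlg.amb f C.V) (ChartAlg.ambStr f C.V) (ChartAlg.coordSec f C.V C.ρ) U).codRestrict
    (ImageAlg.sub (ChartAlg.amb f C.V) (ChartAlg.ambStr f C.V) (ChartAlg.coordSec f C.V C.ρ) U)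
    (ImageAlg.ev_mem_sub _ _ _)

include hU in
theorem poly_surjective : Function.Surjective (C.poly U) := fun x => by
  obtain ⟨P, hP⟩ := ImageAlg.exists_ev_eq' (ChartAlg.amb_isSheaf f C.V) (ChartAlg.killed f C.V C.ρ C.affine) hU x
  exact ⟨P, Subtype.ext hP⟩

theorem poly_mem {d : ℕ} {P : MvPolynomial (Fin (n + 1)) Γ(S, U)} (hP : P.IsHomogeneous d) :
    C.poly U P ∈ C.alg.deg U hU d := ⟨P, hP, rfl⟩

theorem exists_poly {d : ℕ} {a : C.alg.presheaf.obj (op U)} (ha : a ∈ C.alg.deg U hU d) :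
    ∃ P : MvPolynomial (Fin (n + 1)) Γ(S, U), P.IsHomogeneous d ∧ C.poly U P = a := by
  obtain ⟨P, hP, e⟩ := ha
  exact ⟨P, hP, Subtype.ext e⟩

theorem str_eq (r : Γ(S, U)) : (C.alg.str.app (op U)).hom r = C.poly U (MvPolynomial.C r) :=
  Subtype.ext (eval₂Hom_C _ _ r).symm

theorem res_poly {U' : S.Opens} (i : U' ≤ U) (P : MvPolynomial (Fin (n + 1)) Γ(S, U)) :
    (C.alg.presheaf.map (homOfLE i).op) (C.poly U P) =
      C.poly U' (MvPolynomial.map (S.presheaf.map (homOfLE i).op).hom P) :=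
  Subtype.ext (ImageAlg.res_ev (ChartAlg.amb f C.V) (ChartAlg.ambStr f C.V) (ChartAlg.coordSec f C.V C.ρ) i P)

theorem poly_eq_zero_iff (P : MvPolynomial (Fin (n + 1)) Γ(S, U)) :
    C.poly U P = 0 ↔ ∀ j d, ChartAlg.hom f C.V C.ρ j U (homogeneousComponent d P) = 0 :=
  Subtype.ext_iff.trans (ChartAlg.ev_eq_zero_iff f C.V C.ρ U P)

theorem hom_eq_zero (j : Fin (n + 1)) {P : MvPolynomial (Fin (n + 1)) Γ(S, U)} (h : C.poly U P = 0) :
    ChartAlg.hom f C.V C.ρ j U P = 0 := by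
  rw [← sum_homogeneousComponent P, map_sum]
  exact Finset.sum_eq_zero fun d _ => (C.poly_eq_zero_iff P).1 h j d

/-- Dehomogenisation on the algebra. -/
def dehomAt (j : Fin (n + 1)) : C.alg.presheaf.obj (op U) →+* Γ(X, C.V j ⊓ f ⁻¹ᵁ U) :=
  (C.poly U).liftOfSurjective (C.poly_surjective hU)
    ⟨ChartAlg.hom f C.V C.ρ j U, fun _ hP => C.hom_eq_zero j hP⟩

theorem dehomAt_poly (j : Fin (n + 1)) (P : MvPolynomial (Fin (n + 1)) Γ(S, U)) :
    C.dehomAt hU j (C.poly U P) = ChartAlg.hom f C.V C.ρ j U P :=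
  RingHom.liftOfRightInverse_comp_apply _ _ _ _ P

/-- The coordinates. -/
def coord (U : S.Opens) (j : Fin (n + 1)) : C.alg.presheaf.obj (op U) := C.poly U (MvPolynomial.X j)

theorem coord_mem (j : Fin (n + 1)) : C.coord U j ∈ C.alg.deg U hU 1 := C.poly_mem hU (isHomogeneous_X _ j)

theorem dehomAt_coord (i j : Fin (n + 1)) : C.dehomAt hU j (C.coord U i) =
    X.presheaf.map (homOfLE (inf_le_left : C.V j ⊓ f ⁻¹ᵁ U ≤ C.V j)).op (C.ρ j i) := by
  rw [coord, dehomAt_poly, ChartAlg.hom, eval₂Hom_X']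

theorem dehomAt_trans (i j : Fin (n + 1)) {k : ℕ} {a : C.alg.presheaf.obj (op U)} (ha : a ∈ C.alg.deg U hU k)
    {W : X.Opens} (hi : W ≤ C.V i ⊓ f ⁻¹ᵁ U) (hj : W ≤ C.V j ⊓ f ⁻¹ᵁ U) :
    X.presheaf.map (homOfLE hj).op (C.dehomAt hU j a) =
      X.presheaf.map (homOfLE hj).op (C.dehomAt hU j (C.coord U i)) ^ k *
        X.presheaf.map (homOfLE hi).op (C.dehomAt hU i a) := by
  obtain ⟨P, hP, rfl⟩ := C.exists_poly hU ha
  rw [dehomAt_coord, dehomAt_poly, dehomAt_poly, ← ConcreteCategory.comp_apply, ← Functor.map_comp]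
  have hW : ∀ l, W ≤ C.V l ⊓ f ⁻¹ᵁ U → W ≤ f ⁻¹ᵁ U := fun _ h => h.trans inf_le_right
  have e : ∀ (l : Fin (n + 1)) (hl : W ≤ C.V l ⊓ f ⁻¹ᵁ U), X.presheaf.map (homOfLE hl).op (ChartAlg.hom f C.V C.ρ l U P) =
      eval₂Hom (f.appLE U W (hW l hl)).hom
        (fun m => X.presheaf.map (homOfLE (hl.trans inf_le_left)).op (C.ρ l m)) P := fun l hl => by
    refine RingHom.congr_fun (f := (X.presheaf.map (homOfLE hl).op).hom.comp (ChartAlg.hom f C.V C.ρ l U))
      (MvPolynomial.ringHom_ext (fun r => ?_) (fun m => ?_)) P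
    · simp only [RingHom.comp_apply, ChartAlg.hom, eval₂Hom_C]
      rw [← ConcreteCategory.comp_apply, Scheme.Hom.appLE_map]
    · simp only [RingHom.comp_apply, ChartAlg.hom, eval₂Hom_X']
      rw [← ConcreteCategory.comp_apply, ← Functor.map_comp]
      rfl
  rw [e j hj, e i hi]
  refine eval₂_scale _ _ _ _ (fun m => ?_) hP
  have hij : W ≤ C.V i ⊓ C.V j := le_inf (hi.trans inf_le_left) (hj.trans inf_le_left)
  have h := congrArg (X.presheaf.map (homOfLE hij).op) (C.cocycle i j m)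
  rw [map_mul, ← ConcreteCategory.comp_apply, ← Functor.map_comp, ← ConcreteCategory.comp_apply,
    ← Functor.map_comp, ← ConcreteCategory.comp_apply, ← Functor.map_comp] at h
  exact h

/-- The chart opens of the preimage of an affine open. -/
abbrev piece (U : S.Opens) (j : Fin (n + 1)) : (f ⁻¹ᵁ U).toScheme.Opens := (f ⁻¹ᵁ U).ι ⁻¹ᵁ (C.V j ⊓ f ⁻¹ᵁ U)

theorem bijective_piece (U : S.Opens) (j : Fin (n + 1)) :
    Function.Bijective ((f ⁻¹ᵁ U).ι.app (C.V j ⊓ f ⁻¹ᵁ U)) := by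
  haveI : IsIso ((f ⁻¹ᵁ U).ι.app (C.V j ⊓ f ⁻¹ᵁ U)) :=
    Scheme.Hom.isIso_app _ _ (by rw [Scheme.Opens.opensRange_ι]; exact inf_le_right)
  exact ConcreteCategory.bijective_of_isIso ((f ⁻¹ᵁ U).ι.app (C.V j ⊓ f ⁻¹ᵁ U))

theorem isAffineOpen_piece (j : Fin (n + 1)) (hU : IsAffineOpen U) : IsAffineOpen (C.piece U j) := by
  rw [← (f ⁻¹ᵁ U).ι.isAffineOpen_iff_of_isOpenImmersion, Scheme.Hom.image_preimage_eq_opensRange_inf,
    Scheme.Opens.opensRange_ι, inf_eq_right.2 inf_le_right]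
  exact C.affine U hU j

theorem res_ι_app {W W' : X.Opens} (h : W' ≤ W) (y : Γ(X, W)) :
    (f ⁻¹ᵁ U).toScheme.presheaf.map (homOfLE ((f ⁻¹ᵁ U).ι.preimage_mono h)).op ((f ⁻¹ᵁ U).ι.app W y) =
      (f ⁻¹ᵁ U).ι.app W' (X.presheaf.map (homOfLE h).op y) :=
  (congr($((f ⁻¹ᵁ U).ι.naturality (homOfLE h).op) y)).symm

/-- The dehomogenisations on the preimage of an affine open. -/
def homData : HomData (C.alg.deg U hU) (f ⁻¹ᵁ U).toScheme where
  J := ULift.{u} (Fin (n + 1))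
  V j := C.piece U j.down
  cover x := by
    obtain ⟨j, hj⟩ := C.cover x.1
    exact ⟨⟨j⟩, hj, x.2⟩
  f j := C.coord U j.down
  deg j := C.coord_mem hU j.down
  h j := ((f ⁻¹ᵁ U).ι.app _).hom.comp (C.dehomAt hU j.down)
  h_one j := by
    rw [RingHom.comp_apply, dehomAt_coord, C.ρ_self, map_one, map_one]
  trans i j k a ha := by
    have hle : (f ⁻¹ᵁ U).ι ⁻¹ᵁ ((C.V i.down ⊓ f ⁻¹ᵁ U) ⊓ (C.V j.down ⊓ f ⁻¹ᵁ U)) =
        C.piece U i.down ⊓ C.piece U j.down := rfl
    simp only [RingHom.comp_apply]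
    erw [res_ι_app (inf_le_right : (C.V i.down ⊓ f ⁻¹ᵁ U) ⊓ (C.V j.down ⊓ f ⁻¹ᵁ U) ≤ _),
      res_ι_app (inf_le_right : (C.V i.down ⊓ f ⁻¹ᵁ U) ⊓ (C.V j.down ⊓ f ⁻¹ᵁ U) ≤ _),
      res_ι_app (inf_le_left : (C.V i.down ⊓ f ⁻¹ᵁ U) ⊓ (C.V j.down ⊓ f ⁻¹ᵁ U) ≤ _)]
    refine Eq.trans (congrArg _ (C.dehomAt_trans hU i.down j.down ha inf_le_left inf_le_right)) ?_
    rw [map_mul, map_pow]
    rfl

/-- The morphism to Proj over an affine open. -/
def toProj : (f ⁻¹ᵁ U).toScheme ⟶ Proj (C.alg.deg U hU) := (C.homData hU).exists_hom.choose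

theorem toProj_spec : ∀ j, ((C.homData hU).V j).ι ≫ C.toProj hU = (C.homData hU).chart j :=
  (C.homData hU).exists_hom.choose_spec

theorem piece_le (j : Fin (n + 1)) :
    C.piece U j ≤ C.toProj hU ⁻¹ᵁ Proj.basicOpen (C.alg.deg U hU) (C.coord U j) :=
  HomData.le_preimage (C.toProj_spec hU) ⟨j⟩

theorem toProj_appLE (j : Fin (n + 1)) {k : ℕ} {a : C.alg.presheaf.obj (op U)} (ha : a ∈ C.alg.deg U hU k) :
    (C.toProj hU).appLE _ (C.piece U j) (C.piece_le hU j) (ratio (C.alg.deg U hU) (C.coord_mem hU j) ha) =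
      (f ⁻¹ᵁ U).ι.app _ (C.dehomAt hU j a) :=
  HomData.appLE_ratio (d := C.homData hU) (C.toProj_spec hU) ⟨j⟩ ha

theorem toProj_over :
    C.toProj hU ≫ Proj.toSpecZero (C.alg.deg U hU) ≫ Spec.map (C.alg.strZero U hU) ≫ hU.fromSpec =
      (f ⁻¹ᵁ U).ι ≫ f := by
  let 𝒜 := C.alg.deg U hU
  refine (Scheme.openCoverOfIsOpenCover _ (fun j => C.piece U j) ?_).hom_ext _ _ fun j => ?_
  · exact top_le_iff.1 fun x _ => Opens.mem_iSup.2 (by obtain ⟨j, hj⟩ := C.cover x.1; exact ⟨j, hj, x.2⟩)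
  change (C.piece U j).ι ≫ _ = (C.piece U j).ι ≫ _
  have hle : C.piece U j ≤ ((f ⁻¹ᵁ U).ι ≫ f) ⁻¹ᵁ U := fun x _ => x.2
  rw [ι_comp_eq_fromSpec ((f ⁻¹ᵁ U).ι ≫ f) hU (C.piece U j) hle]
  have hι : (Proj.basicOpen 𝒜 (C.coord U j)).ι =
      (Proj.basicOpenIsoSpec 𝒜 (C.coord U j) (C.coord_mem hU j) one_pos).hom ≫
        Proj.awayι 𝒜 (C.coord U j) (C.coord_mem hU j) one_pos := by
    rw [← Proj.basicOpenIsoSpec_inv_ι, Iso.hom_inv_id_assoc]
  rw [← Scheme.Hom.resLE_comp_ι_assoc _ (C.piece_le hU j), hι, Category.assoc, Proj.awayι_toSpecZero_assoc,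
    Proj.basicOpenIsoSpec_hom, Proj.basicOpenToSpec, Category.assoc,
    reassoc_of% (resLE_toSpecΓ (C.toProj hU) _ (C.piece U j) (C.piece_le hU j))]
  simp only [← Spec.map_comp_assoc, Category.assoc]
  congr 3
  refine CommRingCat.hom_ext (RingHom.ext fun r => ?_)
  have e : Proj.awayToSection 𝒜 (C.coord U j)
      (HomogeneousLocalization.fromZeroRingHom 𝒜 _ ((C.alg.strZero U hU).hom r)) =
      ratio 𝒜 (C.coord_mem hU j) (C.alg.str_mem U hU r) := by
    refine congrArg (Proj.awayToSection 𝒜 (C.coord U j)) (HomogeneousLocalization.val_injective _ ?_)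
    rw [HomogeneousLocalization.Away.val_mk]
    exact congrArg (Localization.mk ((C.alg.str.app (op U)).hom r)) (Subtype.ext (pow_zero (C.coord U j)).symm)
  change (C.toProj hU).appLE _ _ (C.piece_le hU j) (Proj.awayToSection 𝒜 (C.coord U j)
    (HomogeneousLocalization.fromZeroRingHom 𝒜 _ ((C.alg.strZero U hU).hom r))) = _
  rw [e, toProj_appLE, str_eq, dehomAt_poly, ChartAlg.hom, eval₂Hom_C, ← Scheme.Hom.appLE_comp_appLE _ f U
    (C.V j ⊓ f ⁻¹ᵁ U) (C.piece U j) inf_le_right le_rfl, ← Scheme.Hom.app_eq_appLE]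
  rfl

theorem preimage_basicOpen (l : Fin (n + 1)) :
    C.toProj hU ⁻¹ᵁ Proj.basicOpen (C.alg.deg U hU) (C.coord U l) = C.piece U l := by
  refine le_antisymm (fun x hx => ?_) (C.piece_le hU l)
  obtain ⟨j, hj⟩ := C.cover x.1
  let s := ratio (C.alg.deg U hU) (C.coord_mem hU j) (C.coord_mem hU l)
  have hxj : x ∈ C.piece U j := ⟨hj, x.2⟩
  have h1 : x ∈ (f ⁻¹ᵁ U).toScheme.basicOpen ((C.toProj hU).appLE _ _ (C.piece_le hU j) s) := by
    rw [Scheme.Hom.appLE, CommRingCat.comp_apply, Scheme.basicOpen_res, ← Scheme.preimage_basicOpen,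
      basicOpen_ratio_deg1]
    exact ⟨hxj, C.piece_le hU j hxj, hx⟩
  rw [toProj_appLE, dehomAt_coord, ← Scheme.preimage_basicOpen] at h1
  have h2 : x.1 ∈ X.basicOpen (X.presheaf.map (homOfLE (inf_le_left : C.V j ⊓ f ⁻¹ᵁ U ≤ C.V j)).op (C.ρ j l)) := h1
  rw [Scheme.basicOpen_res, C.basicOpen_eq] at h2
  exact ⟨h2.2.2, x.2⟩

theorem ratio_eq_zero_of_dehomAt (j : Fin (n + 1)) {k : ℕ} {a : C.alg.presheaf.obj (op U)}
    (ha : a ∈ C.alg.deg U hU k) (h : C.dehomAt hU j a = 0) :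
    ratio (C.alg.deg U hU) (C.coord_mem hU j) ha = 0 := by
  classical
  obtain ⟨P, hP, rfl⟩ := C.exists_poly hU ha
  have hm : ∀ l, ∃ m : ℕ, C.dehomAt hU l (C.coord U j) ^ m * C.dehomAt hU l (C.poly U P) = 0 := fun l => by
    let b := C.dehomAt hU l (C.coord U j)
    haveI := (C.affine U hU l).isLocalization_basicOpen b
    have hl : X.basicOpen b ≤ C.V l ⊓ f ⁻¹ᵁ U := X.basicOpen_le b
    have hj : X.basicOpen b ≤ C.V j ⊓ f ⁻¹ᵁ U := by
      refine le_inf ?_ (hl.trans inf_le_right)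
      simp only [b, dehomAt_coord, Scheme.basicOpen_res, C.basicOpen_eq]
      exact inf_le_right.trans inf_le_right
    have h0 : X.presheaf.map (homOfLE hl).op (C.dehomAt hU l (C.poly U P)) = 0 := by
      rw [C.dehomAt_trans hU j l ha hj hl, h, map_zero, mul_zero]
    obtain ⟨⟨_, m, rfl⟩, hm⟩ := (IsLocalization.map_eq_zero_iff (Submonoid.powers b) Γ(X, X.basicOpen b) _).1 h0
    exact ⟨m, hm⟩
  choose m hm using hm
  let M := Finset.univ.sup m
  have hz : C.coord U j ^ M * C.poly U P = 0 := by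
    rw [coord, ← map_pow, ← map_mul, poly_eq_zero_iff]
    intro l d
    rw [homogeneousComponent_of_mem ((isHomogeneous_X_pow j M).mul hP)]
    split_ifs
    · have hle : m l ≤ M := Finset.le_sup (f := m) (Finset.mem_univ l)
      rw [← dehomAt_poly C hU, map_mul, map_pow, map_mul, map_pow,
        ← Nat.sub_add_cancel hle, pow_add, mul_assoc]
      erw [hm l]
      rw [mul_zero]
    · exact map_zero _
  have e1 : ratio (C.alg.deg U hU) (C.coord_mem hU j)
      (SetLike.mul_mem_graded (SetLike.pow_mem_graded M (C.coord_mem hU j)) ha) = 0 := by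
    refine fval_ext _ fun x => ?_
    rw [fval_ratio, fval_zero, hz, Localization.mk_zero]
  rwa [ratio_mul _ (C.coord_mem hU j) (SetLike.pow_mem_graded M (C.coord_mem hU j)) ha,
    ratio_pow _ (C.coord_mem hU j) (C.coord_mem hU j), ratio_self, one_pow, one_mul] at e1

theorem bijective_app (j : Fin (n + 1)) :
    Function.Bijective ((C.toProj hU).appLE _ (C.piece U j) (C.piece_le hU j)) := by
  constructor
  · rw [injective_iff_map_eq_zero]
    intro s hs
    obtain ⟨k, a, ha, rfl⟩ := H11Tilde.exists_ratio (C.alg.deg U hU) (C.coord_mem hU j) s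
    rw [toProj_appLE] at hs
    exact C.ratio_eq_zero_of_dehomAt hU j ha
      ((injective_iff_map_eq_zero' _).1 (C.bijective_piece U j).1 _ |>.1 hs)
  · intro y
    obtain ⟨z, rfl⟩ := (C.bijective_piece U j).2 y
    obtain ⟨P, rfl⟩ := C.surj U hU j z
    refine ⟨∑ d ∈ Finset.range (P.totalDegree + 1), ratio (C.alg.deg U hU) (C.coord_mem hU j)
      (C.poly_mem hU (homogeneousComponent_isHomogeneous d P)), ?_⟩
    rw [map_sum]
    simp only [toProj_appLE, dehomAt_poly]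
    rw [← map_sum, ← map_sum, sum_homogeneousComponent]

theorem irrelevant_le_span :
    (HomogeneousIdeal.irrelevant (C.alg.deg U hU)).toIdeal ≤ Ideal.span (Set.range (C.coord U)) := by
  rw [irrelevant_le_iff]
  intro d hd a ha
  obtain ⟨P, hP, rfl⟩ := C.exists_poly hU ha
  have h := Ideal.mem_map_of_mem (C.poly U) (ProjSpace.irrelevant_le_span n Γ(S, U)
    (mem_irrelevant_of_pos (CohB1.polyGrading n Γ(S, U)) hd (MvPolynomial.mem_homogeneousSubmodule d P |>.2 hP)))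
  rw [Ideal.map_span, ← Set.range_comp] at h
  exact h

theorem isIso_toProj : IsIso (C.toProj hU) := by
  let 𝒜 := C.alg.deg U hU
  change MorphismProperty.isomorphisms Scheme (C.toProj hU)
  refine IsZariskiLocalAtTarget.of_iSup_eq_top (fun j => Proj.basicOpen 𝒜 (C.coord U j))
    (Proj.iSup_basicOpen_eq_top 𝒜 _ (C.irrelevant_le_span hU)) fun j => ?_
  let D := Proj.basicOpen 𝒜 (C.coord U j)
  have hD : IsAffineOpen D := Proj.isAffineOpen_basicOpen 𝒜 _ (C.coord_mem hU j) one_pos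
  have he : C.toProj hU ⁻¹ᵁ D = C.piece U j := C.preimage_basicOpen hU j
  have hV : IsAffineOpen (C.toProj hU ⁻¹ᵁ D) := he.symm ▸ C.isAffineOpen_piece j hU
  have hb : Function.Bijective ((C.toProj hU).appLE D (C.toProj hU ⁻¹ᵁ D) le_rfl) := by
    have key : ∀ (V : (f ⁻¹ᵁ U).toScheme.Opens) (e : V ≤ C.toProj hU ⁻¹ᵁ D), V = C.piece U j →
        Function.Bijective ((C.toProj hU).appLE D V e) := fun V e hV => by
      subst hV; exact C.bijective_app hU j
    exact key _ le_rfl he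
  haveI := (ConcreteCategory.isIso_iff_bijective ((C.toProj hU).appLE D (C.toProj hU ⁻¹ᵁ D) le_rfl)).2 hb
  haveI : IsIso (C.toProj hU ⁻¹ᵁ D).toSpecΓ := by rw [← hV.isoSpec_hom]; infer_instance
  have e : C.toProj hU ∣_ D = (C.toProj hU ⁻¹ᵁ D).toSpecΓ ≫
      Spec.map ((C.toProj hU).appLE D (C.toProj hU ⁻¹ᵁ D) le_rfl) ≫ hD.isoSpec.inv := by
    rw [← cancel_mono D.ι, morphismRestrict_ι, ι_comp_eq_fromSpec (C.toProj hU) hD _ le_rfl]
    simp only [Category.assoc, IsAffineOpen.isoSpec_inv_ι]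
  change IsIso (C.toProj hU ∣_ D)
  rw [e]
  infer_instance

theorem toProj_res (r : Γ(S, U)) :
    X.homOfLE (f.preimage_mono (S.basicOpen_le r)) ≫ C.toProj hU =
      C.toProj (hU.basicOpen r) ≫
        Proj.map (C.alg.res hU (hU.basicOpen r) (S.basicOpen_le r)) (C.alg.irrelevant_le_map U hU r) := by
  let U' := S.basicOpen r
  have hU' : IsAffineOpen U' := hU.basicOpen r
  have hle : U' ≤ U := S.basicOpen_le r
  let ψ := C.alg.res hU hU' hle
  have hψ := C.alg.irrelevant_le_map U hU r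
  have hcoord : ∀ j, ψ (C.coord U j) = C.coord U' j := fun j => by
    change (C.alg.presheaf.map (homOfLE hle).op) (C.poly U (MvPolynomial.X j)) = _
    rw [res_poly, map_X]
    rfl
  have hdehom : ∀ (j : Fin (n + 1)) (a : C.alg.presheaf.obj (op U)), C.dehomAt hU' j (ψ a) =
      X.presheaf.map (homOfLE (inf_le_inf_left (C.V j) (f.preimage_mono hle))).op (C.dehomAt hU j a) := fun j a => by
    obtain ⟨P, rfl⟩ := C.poly_surjective hU a
    change C.dehomAt hU' j ((C.alg.presheaf.map (homOfLE hle).op) (C.poly U P)) = _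
    rw [res_poly, dehomAt_poly, dehomAt_poly, ChartAlg.res_hom]
  refine (Scheme.openCoverOfIsOpenCover _ (fun j => C.piece U' j) ?_).hom_ext _ _ fun j => ?_
  · exact top_le_iff.1 fun x _ => Opens.mem_iSup.2 (by obtain ⟨j, hj⟩ := C.cover x.1; exact ⟨j, hj, x.2⟩)
  change (C.piece U' j).ι ≫ _ = (C.piece U' j).ι ≫ _
  let g := X.homOfLE (f.preimage_mono hle)
  let D := Proj.basicOpen (C.alg.deg U hU) (C.coord U j)
  have hD : IsAffineOpen D := Proj.isAffineOpen_basicOpen _ _ (C.coord_mem hU j) one_pos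
  have hg : C.piece U' j ≤ g ⁻¹ᵁ C.piece U j := by
    intro x hx
    have e : (f ⁻¹ᵁ U).ι (g x) = (f ⁻¹ᵁ U').ι x := by
      rw [← Scheme.Hom.comp_apply, Scheme.homOfLE_ι]
    change (f ⁻¹ᵁ U).ι (g x) ∈ C.V j ⊓ f ⁻¹ᵁ U
    rw [e]
    exact ⟨hx.1, hle hx.2⟩
  have e2 : C.piece U' j ≤ C.toProj hU' ⁻¹ᵁ Proj.basicOpen (C.alg.deg U' hU') (ψ (C.coord U j)) := by
    rw [hcoord]; exact C.piece_le hU' j
  have hm : Proj.basicOpen (C.alg.deg U' hU') (ψ (C.coord U j)) ≤ Proj.map ψ hψ ⁻¹ᵁ D :=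
    (Proj.map_preimage_basicOpen ψ hψ (C.coord U j)).ge
  refine hom_ext_on hD _ (hg.trans (g.preimage_mono (C.piece_le hU j)))
    (e2.trans ((C.toProj hU').preimage_mono hm)) ?_
  rw [← Scheme.Hom.appLE_comp_appLE g (C.toProj hU) D (C.piece U j) (C.piece U' j) (C.piece_le hU j) hg,
    ← Scheme.Hom.appLE_comp_appLE (C.toProj hU') (Proj.map ψ hψ) D
      (Proj.basicOpen (C.alg.deg U' hU') (ψ (C.coord U j))) (C.piece U' j) hm e2]
  refine ringHom_ext_ratio _ (C.coord_mem hU j) fun k a ha => ?_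
  rw [CommRingCat.comp_apply, CommRingCat.comp_apply, toProj_appLE]
  have e3 : (Proj.map ψ hψ).appLE D (Proj.basicOpen (C.alg.deg U' hU') (ψ (C.coord U j))) hm
      (ratio (C.alg.deg U hU) (C.coord_mem hU j) ha) =
      ratio (C.alg.deg U' hU') (ψ.map_mem (C.coord_mem hU j)) (ψ.map_mem ha) := by
    refine Eq.trans (congr($(Proj.awayToSection_comp_appLE ψ hψ (C.coord_mem hU j))
      (HomogeneousLocalization.Away.mk (C.alg.deg U hU) (C.coord_mem hU j) k a (by simpa using ha)))) ?_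
    rw [CommRingCat.comp_apply]
    refine congrArg (Proj.awayToSection _ _) ?_
    exact HomogeneousLocalization.Away.map_mk ψ (C.coord U j) (C.coord_mem hU j) k a (by simpa using ha)
  have key : ∀ (t : C.alg.presheaf.obj (op U')) (ht : t ∈ C.alg.deg U' hU' 1)
      (e : C.piece U' j ≤ C.toProj hU' ⁻¹ᵁ Proj.basicOpen (C.alg.deg U' hU') t)
      (b : C.alg.presheaf.obj (op U')) (hb : b ∈ C.alg.deg U' hU' k), t = C.coord U' j →
      (C.toProj hU').appLE _ _ e (ratio (C.alg.deg U' hU') ht hb) = (f ⁻¹ᵁ U').ι.app _ (C.dehomAt hU' j b) := by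
    rintro t ht e b hb rfl
    exact C.toProj_appLE hU' j hb
  rw [e3, key _ _ e2 _ _ (hcoord j)]
  erw [hdehom]
  rw [← CommRingCat.comp_apply, ← CommRingCat.comp_apply, Scheme.Hom.app_eq_appLE, Scheme.Hom.app_eq_appLE,
    Scheme.Hom.appLE_comp_appLE, Scheme.Hom.map_appLE]
  exact congr($(appLE_congr_hom (X.homOfLE_ι (f.preimage_mono hle)) _ _) (C.dehomAt hU j a))

include C in
/-- A scheme with such charts is projective over the base. -/
theorem isProjective : RelProj.IsProjective f := by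
  obtain ⟨P, p, chart, hP⟩ := exists_isRelProj C.alg
  obtain ⟨e, he, -⟩ := existsUnique_glue f
    (fun U hU => C.toProj hU ≫ (chart U hU).inv ≫ (p ⁻¹ᵁ U).ι) fun U hU r => by
      have h := hP.chart_res U hU r
      rw [reassoc_of% (C.toProj_res hU r)]
      congr 1
      rw [← Scheme.homOfLE_ι P (p.preimage_mono (S.basicOpen_le r)), ← Category.assoc, ← Category.assoc]
      congr 1
      rw [Iso.comp_inv_eq, Category.assoc, h, Iso.inv_hom_id_assoc]
  have hp : e ≫ p = f := hom_ext_affinePreimage f fun U hU => by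
    rw [← Category.assoc, he U hU, Category.assoc, Category.assoc, ← hP.chart_over U hU,
      Iso.inv_hom_id_assoc, C.toProj_over hU]
  haveI : IsIso e := of_preimage_squares (Q := MorphismProperty.isomorphisms Scheme) e hp
    (fun U hU => C.toProj hU ≫ (chart U hU).inv) (fun U hU => by rw [he U hU, Category.assoc])
    (fun U hU => by
      haveI := C.isIso_toProj hU
      exact (inferInstance : IsIso (C.toProj hU ≫ (chart U hU).inv)))
  exact ⟨C.alg, P, p, chart, asIso e, C.alg_isGenDegOne, C.alg_isFTDeg_one, hP, hp⟩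

end Charts

end Groth.Agent.H11Proj
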