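import Groth.Agent.H11Proj.Scheme

/-!
# The projection of a graded ring onto a homogeneous localization
-/

set_option autoImplicit false
universe u

namespace Groth.Agent.H11Proj

open HomogeneousLocalization DirectSum

variable {A σ : Type u} [CommRing A] [SetLike σ A] [AddSubgroupClass σ A]
variable (𝒜 : ℕ → σ) [GradedRing 𝒜] {d : ℕ} {f : A} (hf : f ∈ 𝒜 d)

/-- The components of `awayProj`. -/
noncomputable def awayProjComp (k : ℕ) : 𝒜 k →+ Away 𝒜 f where
  toFun a := if h : d ∣ k then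
    Away.mk 𝒜 hf (k / d) a (by rw [smul_eq_mul, Nat.div_mul_cancel h]; exact a.2) else 0
  map_zero' := by
    split_ifs
    · apply val_injective; simp [Localization.mk_zero]
    · rfl
  map_add' a b := by
    split_ifs
    · apply val_injective; simp [Localization.add_mk_self]
    · rw [add_zero]

/-- The additive map sending a homogeneous element `a` of degree `n * d` to `a / f ^ n`, and the
homogeneous elements of degree not divisible by `d` to zero. -/
noncomputable def awayProj : A →+ Away 𝒜 f :=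
  (DirectSum.toAddMonoid (awayProjComp 𝒜 hf)).comp (decomposeAddEquiv 𝒜).toAddMonoidHom

theorem awayProj_of_mem {k : ℕ} {a : A} (ha : a ∈ 𝒜 k) :
    awayProj 𝒜 hf a = awayProjComp 𝒜 hf k ⟨a, ha⟩ := by
  change DirectSum.toAddMonoid (awayProjComp 𝒜 hf) (decompose 𝒜 a) = _
  rw [decompose_of_mem 𝒜 ha, toAddMonoid_of]

theorem awayProj_mk (hd : 0 < d) {n : ℕ} {a : A} (ha : a ∈ 𝒜 (n • d)) :
    awayProj 𝒜 hf a = Away.mk 𝒜 hf n a ha := by
  rw [awayProj_of_mem 𝒜 hf ha, awayProjComp]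
  simp only [AddMonoidHom.coe_mk, ZeroHom.coe_mk]
  rw [dif_pos (by simp)]
  congr 1
  rw [smul_eq_mul, Nat.mul_div_cancel _ hd]

theorem awayProj_of_not_dvd {k : ℕ} {a : A} (ha : a ∈ 𝒜 k) (h : ¬ d ∣ k) : awayProj 𝒜 hf a = 0 := by
  rw [awayProj_of_mem 𝒜 hf ha]
  simp [awayProjComp, h]

theorem eq_on_homogeneous {M : Type*} [AddCommGroup M] {g₁ g₂ : A →+ M}
    (h : ∀ (k : ℕ), ∀ a ∈ 𝒜 k, g₁ a = g₂ a) (a : A) : g₁ a = g₂ a := by
  classical
  rw [← sum_support_decompose 𝒜 a, map_sum, map_sum]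
  exact Finset.sum_congr rfl fun k _ => h k _ (decompose 𝒜 a k).2

theorem awayProj_zero_mul (hd : 0 < d) (c : 𝒜 0) (a : A) :
    awayProj 𝒜 hf ((c : A) * a) = fromZeroRingHom 𝒜 (Submonoid.powers f) c * awayProj 𝒜 hf a := by
  refine eq_on_homogeneous 𝒜 (g₁ := (awayProj 𝒜 hf).comp (AddMonoidHom.mulLeft (c : A)))
    (g₂ := (AddMonoidHom.mulLeft (fromZeroRingHom 𝒜 (Submonoid.powers f) c)).comp (awayProj 𝒜 hf))
    (fun k b hb => ?_) a
  simp only [AddMonoidHom.coe_comp, Function.comp_apply, AddMonoidHom.coe_mulLeft]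
  have hcb : (c : A) * b ∈ 𝒜 k := by simpa using graded_mul_mem 𝒜 c.2 hb
  by_cases h : d ∣ k
  · obtain ⟨n, rfl⟩ := h
    have hb' : b ∈ 𝒜 (n • d) := by rwa [smul_eq_mul, mul_comm]
    have hcb' : (c : A) * b ∈ 𝒜 (n • d) := by rwa [smul_eq_mul, mul_comm n d]
    rw [awayProj_mk 𝒜 hf hd hb', awayProj_mk 𝒜 hf hd hcb']
    apply val_injective
    simp only [val_mul, Away.val_mk, fromZeroRingHom, RingHom.coe_mk, MonoidHom.coe_mk, OneHom.coe_mk,
      val_mk, Localization.mk_mul]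
    rw [Localization.mk_eq_mk_iff, Localization.r_iff_exists]
    exact ⟨1, by simp⟩
  · rw [awayProj_of_not_dvd 𝒜 hf hb h, awayProj_of_not_dvd 𝒜 hf hcb h, mul_zero]

theorem awayProj_mul_self (hd : 0 < d) (a : A) : awayProj 𝒜 hf (f * a) = awayProj 𝒜 hf a := by
  refine eq_on_homogeneous 𝒜 (g₁ := (awayProj 𝒜 hf).comp (AddMonoidHom.mulLeft f)) (g₂ := awayProj 𝒜 hf)
    (fun k b hb => ?_) a
  simp only [AddMonoidHom.coe_comp, Function.comp_apply, AddMonoidHom.coe_mulLeft]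
  have hfb : f * b ∈ 𝒜 (d + k) := graded_mul_mem 𝒜 hf hb
  by_cases h : d ∣ k
  · obtain ⟨n, rfl⟩ := h
    have hb' : b ∈ 𝒜 (n • d) := by rwa [smul_eq_mul, mul_comm]
    have hfb' : f * b ∈ 𝒜 ((n + 1) • d) := by rwa [smul_eq_mul, Nat.succ_mul, add_comm, mul_comm n d]
    rw [awayProj_mk 𝒜 hf hd hb', awayProj_mk 𝒜 hf hd hfb']
    apply val_injective
    simp only [Away.val_mk]
    rw [Localization.mk_eq_mk_iff, Localization.r_iff_exists]
    exact ⟨1, by simp [pow_succ]; ring⟩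
  · rw [awayProj_of_not_dvd 𝒜 hf hb h, awayProj_of_not_dvd 𝒜 hf hfb]
    rwa [Nat.dvd_add_right (dvd_refl d)]

theorem awayProj_pow_mul (hd : 0 < d) (l : ℕ) (a : A) : awayProj 𝒜 hf (f ^ l * a) = awayProj 𝒜 hf a := by
  induction l with
  | zero => simp
  | succ l ih => rw [pow_succ', mul_assoc, awayProj_mul_self 𝒜 hf hd, ih]

theorem awayProj_mul (hd : 0 < d) {n : ℕ} {a : A} (ha : a ∈ 𝒜 (n • d)) (b : A) :
    awayProj 𝒜 hf (a * b) = awayProj 𝒜 hf a * awayProj 𝒜 hf b := by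
  refine eq_on_homogeneous 𝒜 (g₁ := (awayProj 𝒜 hf).comp (AddMonoidHom.mulLeft a))
    (g₂ := (AddMonoidHom.mulLeft (awayProj 𝒜 hf a)).comp (awayProj 𝒜 hf)) (fun k c hc => ?_) b
  simp only [AddMonoidHom.coe_comp, Function.comp_apply, AddMonoidHom.coe_mulLeft]
  have hac : a * c ∈ 𝒜 (n • d + k) := graded_mul_mem 𝒜 ha hc
  by_cases h : d ∣ k
  · obtain ⟨m, rfl⟩ := h
    have hc' : c ∈ 𝒜 (m • d) := by rwa [smul_eq_mul, mul_comm]
    have hac' : a * c ∈ 𝒜 ((n + m) • d) := by rw [add_smul]; exact graded_mul_mem 𝒜 ha hc'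
    rw [awayProj_mk 𝒜 hf hd ha, awayProj_mk 𝒜 hf hd hc', awayProj_mk 𝒜 hf hd hac']
    apply val_injective
    simp only [val_mul, Away.val_mk, Localization.mk_mul]
    rw [Localization.mk_eq_mk_iff, Localization.r_iff_exists]
    exact ⟨1, by simp [pow_add]⟩
  · rw [awayProj_of_not_dvd 𝒜 hf hc h, awayProj_of_not_dvd 𝒜 hf hac, mul_zero]
    rwa [Nat.dvd_add_right (by rw [smul_eq_mul]; exact dvd_mul_left d n)]

theorem awayProj_self (hd : 0 < d) : awayProj 𝒜 hf f = 1 := by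
  have hf1 : f ∈ 𝒜 (1 • d) := by rwa [one_smul]
  rw [awayProj_mk 𝒜 hf hd hf1]
  apply val_injective
  rw [val_one, Away.val_mk, ← Localization.mk_one, Localization.mk_eq_mk_iff, Localization.r_iff_exists]
  exact ⟨1, by simp⟩

end Groth.Agent.H11Proj
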