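import Groth.Agent.H11Proj.PCone
import Mathlib.RingTheory.GradedAlgebra.FiniteType
import Mathlib.RingTheory.GradedAlgebra.Radical

/-!
# A graded algebra with the Proj of its degree-one subalgebra is eventually generated in degree one
-/

set_option autoImplicit false

universe u

open CategoryTheory AlgebraicGeometry HomogeneousLocalization
open scoped HomogeneousIdeal

namespace Groth.Agent.H11Proj

variable {R A B : Type u} [CommRing R] [CommRing A] [Algebra R A]
  {𝒜 : ℕ → Submodule R A} [GradedAlgebra 𝒜] [CommRing B] [Algebra R B] {ℬ : ℕ → Submodule R B} [GradedAlgebra ℬ]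

/-- Homogeneous members of an ideal spanned by homogeneous elements, with homogeneous coefficients. -/
theorem mem_closure_of_mem_span_deg (S : Set B) (e : B → ℕ) (hS : ∀ g ∈ S, g ∈ ℬ (e g)) {n : ℕ} {x : B}
    (hx : x ∈ ℬ n) (hxS : x ∈ Ideal.span S) :
    x ∈ AddSubgroup.closure {y | ∃ g ∈ S, e g ≤ n ∧ ∃ c ∈ ℬ (n - e g), y = c * g} := by
  classical
  let T := AddSubgroup.closure {y | ∃ g ∈ S, e g ≤ n ∧ ∃ c ∈ ℬ (n - e g), y = c * g}
  suffices h : ∀ y ∈ Ideal.span S, ∀ c : B, (DirectSum.decompose ℬ (c * y) n : B) ∈ T by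
    have := h x hxS 1
    rwa [one_mul, DirectSum.decompose_of_mem_same ℬ hx] at this
  intro y hy
  induction hy using Submodule.span_induction with
  | mem g hg =>
    intro c
    by_cases hle : e g ≤ n
    · rw [DirectSum.coe_decompose_mul_of_right_mem_of_le ℬ (hS g hg) hle]
      exact AddSubgroup.subset_closure ⟨g, hg, hle, _, SetLike.coe_mem _, rfl⟩
    · rw [DirectSum.coe_decompose_mul_of_right_mem_of_not_le ℬ (hS g hg) hle]
      exact T.zero_mem
  | zero =>
    intro c
    rw [mul_zero, DirectSum.decompose_zero]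
    exact T.zero_mem
  | add a b _ _ ha hb =>
    intro c
    rw [mul_add, DirectSum.decompose_add, DirectSum.add_apply, AddMemClass.coe_add]
    exact T.add_mem (ha c) (hb c)
  | smul r a _ ha =>
    intro c
    rw [smul_eq_mul, ← mul_assoc]
    exact ha _

variable (φ : 𝒜 →+*ᵍ ℬ)

/-- An isomorphism of the chart rings: elements of degree `k` become values of the map after
multiplication by a power. -/
theorem exists_pow_mul_mem_range {f : A} (hf : f ∈ 𝒜 1)
    (hs : Function.Surjective (Away.map φ f)) {k : ℕ} {b : B} (hb : b ∈ ℬ k) :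
    ∃ m : ℕ, φ f ^ m * b ∈ φ.toRingHom.range := by
  obtain ⟨z, hz⟩ := hs (Away.mk ℬ (φ.2 hf) k b (by simpa using hb))
  obtain ⟨l, a, ha, rfl⟩ := Away.mk_surjective 𝒜 hf z
  rw [Away.map_mk φ f hf l a ha] at hz
  have h := congrArg HomogeneousLocalization.val hz
  rw [Away.val_mk, Away.val_mk, Localization.mk_eq_mk_iff, Localization.r_iff_exists] at h
  obtain ⟨⟨_, m, rfl⟩, hm⟩ := h
  refine ⟨m + l, f ^ (m + k) * a, ?_⟩
  simp only [map_mul, map_pow] at hm ⊢
  show φ f ^ (m + k) * φ a = φ f ^ (m + l) * b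
  rw [pow_add, pow_add, mul_assoc, mul_assoc]
  exact hm

/-- If the degree-one subalgebra has the same Proj, the high degrees are generated in degree one. -/
theorem eventually_eq_pow_degOne [Algebra.FiniteType (ℬ 0) B]
    (h0 : Set.BijOn φ (𝒜 0) (ℬ 0)) (h1 : Set.BijOn φ (𝒜 1) (ℬ 1))
    (hgen : ∀ n : ℕ, 1 ≤ n → 𝒜 n = 𝒜 1 ^ n) (hdom : PCone.dom φ = ⊤)
    (p : (PCone.dom φ : Scheme.{u}) ⟶ Proj 𝒜)
    (hp : ∀ (d : ℕ) (f : A) (hd : 0 < d) (hf : f ∈ 𝒜 d),
      PCone.chart φ hf hd ≫ p =
        Spec.map (CommRingCat.ofHom (Away.map φ f)) ≫ Proj.awayι 𝒜 f hf hd)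
    [IsIso p] : ∃ n₀ : ℕ, ∀ n : ℕ, n₀ ≤ n → ℬ n = ℬ 1 ^ n := by
  classical
  -- the chart maps are surjective
  have hsurj : ∀ f ∈ 𝒜 1, Function.Surjective (Away.map φ f) := fun f hf => by
    have h := (PConeLib.isPullback_chart φ p hp hf one_pos).isIso_fst_of_isIso
    have h2 : IsIso (CommRingCat.ofHom (Away.map φ f)) := by
      have h3 : IsIso (Scheme.Spec.map (CommRingCat.ofHom (Away.map φ f)).op) := h
      have := isIso_of_reflects_iso (CommRingCat.ofHom (Away.map φ f)).op Scheme.Spec
      exact isIso_of_op _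
    exact (ConcreteCategory.bijective_of_isIso (CommRingCat.ofHom (Away.map φ f))).2
  -- generators
  obtain ⟨t, ht, ht'⟩ := GradedAlgebra.exists_finset_adjoin_eq_top_and_homogeneous_ne_zero ℬ
  choose! e he hte using ht'
  let J : Ideal B := Ideal.span (t : Set B)
  have hJ : ∀ {n : ℕ} {x : B}, 0 < n → x ∈ ℬ n → x ∈ J := by
    intro n x hn hx
    have key : ∀ y : B, y - GradedRing.projZeroRingHom ℬ y ∈ J := fun y => by
      have := (ht.ge Algebra.mem_top : y ∈ Algebra.adjoin (ℬ 0) (t : Set B))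
      induction this using Algebra.adjoin_induction with
      | mem z hz =>
        rw [GradedRing.projZeroRingHom_apply, DirectSum.decompose_of_mem_ne ℬ (hte z hz) (he z hz), sub_zero]
        exact Ideal.subset_span hz
      | algebraMap r =>
        convert zero_mem J
        rw [sub_eq_zero]
        exact (DirectSum.decompose_of_mem_same ℬ r.2).symm
      | add a b _ _ ha hb =>
        rw [map_add, add_sub_add_comm]
        exact add_mem ha hb
      | mul a b _ _ ha hb =>
        rw [map_mul, show a * b - GradedRing.projZeroRingHom ℬ a * GradedRing.projZeroRingHom ℬ b =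
          (a - GradedRing.projZeroRingHom ℬ a) * b +
            GradedRing.projZeroRingHom ℬ a * (b - GradedRing.projZeroRingHom ℬ b) by ring]
        exact add_mem (Ideal.mul_mem_right _ _ ha) (Ideal.mul_mem_left _ _ hb)
    have := key x
    rwa [GradedRing.projZeroRingHom_apply, DirectSum.decompose_of_mem_ne ℬ hx hn.ne', sub_zero] at this
  -- finitely many spanning monomials in each degree
  have hG : ∀ n, ∃ G : Finset B, (∀ g ∈ G, g ∈ ℬ n) ∧ ∀ x ∈ ℬ n, x ∈ Submodule.span (ℬ 0) (G : Set B) := by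
    intro n
    induction n using Nat.strong_induction_on with
    | _ n ih =>
      rcases Nat.eq_zero_or_pos n with rfl | hn
      · refine ⟨{1}, fun g hg => by rw [Finset.mem_singleton.1 hg]; exact SetLike.one_mem_graded ℬ, fun x hx => ?_⟩
        rw [Finset.coe_singleton, Submodule.mem_span_singleton]
        exact ⟨⟨x, hx⟩, mul_one _⟩
      · choose! G hG hGs using ih
        refine ⟨(t.filter fun g => e g ≤ n).biUnion fun g => (G (n - e g)).image (· * g), fun z hz => ?_, fun x hx => ?_⟩
        · obtain ⟨g, hg, hz⟩ := Finset.mem_biUnion.1 hz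
          obtain ⟨c, hc, rfl⟩ := Finset.mem_image.1 hz
          obtain ⟨hgt, hgn⟩ := Finset.mem_filter.1 hg
          have hlt : n - e g < n := Nat.sub_lt hn (Nat.pos_of_ne_zero (he g hgt))
          have := SetLike.mul_mem_graded (hG _ hlt c hc) (hte g hgt)
          rwa [Nat.sub_add_cancel hgn] at this
        · refine (AddSubgroup.closure_le (Submodule.span (ℬ 0) _).toAddSubgroup).2 ?_
            (mem_closure_of_mem_span_deg (t : Set B) e hte hx (hJ hn hx))
          rintro _ ⟨g, hg, hgn, c, hc, rfl⟩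
          have hlt : n - e g < n := Nat.sub_lt hn (Nat.pos_of_ne_zero (he g hg))
          have h2 := Submodule.mem_map_of_mem (f := LinearMap.mulRight (ℬ 0) g) (hGs _ hlt c hc)
          rw [Submodule.map_span] at h2
          refine Submodule.span_mono ?_ h2
          rintro _ ⟨c', hc', rfl⟩
          simp only [Finset.coe_biUnion, Set.mem_iUnion, Finset.coe_image]
          exact ⟨g, Finset.mem_filter.2 ⟨hg, hgn⟩, c', hc', rfl⟩
  choose G hG hGs using hG
  -- lift the degree-one generators
  have hlift : ∀ g ∈ G 1, ∃ f ∈ 𝒜 1, φ f = g := fun g hg => h1.surjOn (hG 1 g hg)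
  choose! F hF hFeq using hlift
  let P : Ideal A := Ideal.span (F '' (G 1 : Set B))
  have hA1 : ∀ a ∈ 𝒜 1, a ∈ P := by
    intro a ha
    have hspan : φ a ∈ Submodule.span (ℬ 0) (G 1 : Set B) := hGs 1 _ (φ.2 ha)
    suffices ∀ y ∈ Submodule.span (ℬ 0) (G 1 : Set B), ∃ a' ∈ P, a' ∈ 𝒜 1 ∧ φ a' = y by
      obtain ⟨a', ha'P, ha', e'⟩ := this _ hspan
      rwa [← h1.injOn ha' ha e']
    intro y hy
    induction hy using Submodule.span_induction with
    | mem z hz => exact ⟨F z, Ideal.subset_span ⟨z, hz, rfl⟩, hF z hz, hFeq z hz⟩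
    | zero => exact ⟨0, zero_mem _, zero_mem _, map_zero φ⟩
    | add u v _ _ hu hv =>
      obtain ⟨u', hu1, hu2, rfl⟩ := hu
      obtain ⟨v', hv1, hv2, rfl⟩ := hv
      exact ⟨u' + v', add_mem hu1 hv1, add_mem hu2 hv2, map_add φ _ _⟩
    | smul r z _ hz =>
      obtain ⟨z', hz1, hz2, rfl⟩ := hz
      obtain ⟨r', hr', hr⟩ := h0.surjOn r.2
      refine ⟨r' * z', Ideal.mul_mem_left _ _ hz1, ?_, ?_⟩
      · simpa using SetLike.mul_mem_graded hr' hz2
      · rw [map_mul, hr]; rfl
  have hAn : ∀ n, 1 ≤ n → ∀ a ∈ 𝒜 n, a ∈ P ^ n := by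
    intro n hn a ha
    rw [hgen n hn] at ha
    clear hn
    induction n generalizing a with
    | zero => simp
    | succ n ih =>
      rw [pow_succ] at ha
      refine Submodule.mul_induction_on ha (fun u hu v hv => ?_) (fun u v hu hv => add_mem hu hv)
      rw [pow_succ]
      exact Ideal.mul_mem_mul (ih u hu) (hA1 v hv)
  have hAsplit : ∀ p q : ℕ, 1 ≤ p → 1 ≤ q → 𝒜 (p + q) = 𝒜 p * 𝒜 q := fun p q hp hq => by
    rw [hgen p hp, hgen q hq, hgen (p + q) (by omega), pow_add]
  -- every element becomes a value after multiplication by high degrees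
  let S : Subring B :=
    { carrier := {b | ∃ N, 1 ≤ N ∧ ∀ n, N ≤ n → ∀ a ∈ 𝒜 n, φ a * b ∈ φ.toRingHom.range}
      one_mem' := ⟨1, le_rfl, fun n _ a _ => ⟨a, (mul_one _).symm⟩⟩
      zero_mem' := ⟨1, le_rfl, fun n _ a _ => by rw [mul_zero]; exact zero_mem _⟩
      add_mem' := by
        rintro x y ⟨N₁, hN₁, hx⟩ ⟨N₂, hN₂, hy⟩
        exact ⟨max N₁ N₂, le_trans hN₁ (le_max_left _ _), fun n hn a ha => by
          rw [mul_add]
          exact add_mem (hx n ((le_max_left _ _).trans hn) a ha) (hy n ((le_max_right _ _).trans hn) a ha)⟩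
      neg_mem' := by
        rintro x ⟨N, hN, hx⟩
        exact ⟨N, hN, fun n hn a ha => by rw [mul_neg]; exact neg_mem (hx n hn a ha)⟩
      mul_mem' := by
        rintro x y ⟨N₁, hN₁, hx⟩ ⟨N₂, hN₂, hy⟩
        refine ⟨N₁ + N₂, by omega, fun n hn a ha => ?_⟩
        obtain ⟨q, rfl⟩ := Nat.exists_eq_add_of_le (le_trans (Nat.le_add_right _ _) hn)
        rw [hAsplit N₁ q hN₁ (by omega)] at ha
        refine Submodule.mul_induction_on ha (fun u hu v hv => ?_) (fun u v hu hv => by
          rw [map_add, add_mul]; exact add_mem hu hv)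
        rw [map_mul, show φ u * φ v * (x * y) = (φ u * x) * (φ v * y) by ring]
        exact mul_mem (hx N₁ le_rfl u hu) (hy q (by omega) v hv) }
  have hS : ∀ b : B, b ∈ S := by
    intro b
    have := (ht.ge Algebra.mem_top : b ∈ Algebra.adjoin (ℬ 0) (t : Set B))
    induction this using Algebra.adjoin_induction with
    | mem z hz =>
      let I : Ideal A :=
        { carrier := {a | φ a * z ∈ φ.toRingHom.range}
          add_mem' := fun {a b} ha hb => by
            simp only [Set.mem_setOf_eq, map_add, add_mul] at ha hb ⊢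
            exact add_mem ha hb
          zero_mem' := by simp only [Set.mem_setOf_eq, map_zero, zero_mul]; exact zero_mem _
          smul_mem' := fun c {a} ha => by
            simp only [Set.mem_setOf_eq, smul_eq_mul, map_mul, mul_assoc] at ha ⊢
            exact mul_mem ⟨c, rfl⟩ ha }
      have hPI : P ≤ I.radical := Ideal.span_le.2 fun _ ⟨g, hg, h⟩ => by
        subst h
        obtain ⟨m, hm⟩ := exists_pow_mul_mem_range φ (hF g hg) (hsurj _ (hF g hg)) (hte z hz)
        exact ⟨m, show φ (F g ^ m) * z ∈ _ by rw [map_pow]; exact hm⟩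
      obtain ⟨N, hN⟩ := Ideal.exists_pow_le_of_le_radical_of_fg hPI
        (Submodule.fg_span ((G 1).finite_toSet.image F))
      exact ⟨N + 1, by omega, fun n hn a ha =>
        hN (Ideal.pow_le_pow_right (Nat.le_of_succ_le hn) (hAn n (by omega) a ha))⟩
    | algebraMap r =>
      obtain ⟨r', -, hr⟩ := h0.surjOn r.2
      exact ⟨1, le_rfl, fun n _ a _ => ⟨a * r', by rw [map_mul]; exact congrArg (φ a * ·) hr⟩⟩
    | add a b _ _ ha hb => exact add_mem ha hb
    | mul a b _ _ ha hb => exact mul_mem ha hb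
  -- high degrees lie in the ideal of the degree-one values
  let K : Ideal B := Ideal.span (G 1 : Set B)
  have hJK : J ≤ K.radical := by
    rw [(Ideal.homogeneous_span ℬ _ fun g hg => ⟨1, hG 1 g hg⟩).radical_eq]
    refine le_sInf fun Q ⟨hQh, hKQ, hQp⟩ => Ideal.span_le.2 fun z hz => ?_
    by_contra hzQ
    let y : Proj ℬ := ⟨⟨Q, hQh⟩, hQp, fun hle => hzQ (hle (by
      show z ∈ ℬ₊
      rw [HomogeneousIdeal.mem_irrelevant_iff, GradedRing.proj_apply,
        DirectSum.decompose_of_mem_ne ℬ (hte z hz) (he z hz)]))⟩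
    obtain ⟨d, hd, f, hf, hy⟩ := (PConeLib.mem_dom_iff φ y).1 (hdom.ge (Set.mem_univ y))
    refine hy (hKQ ?_)
    have hfP : f ∈ P := Ideal.pow_le_self hd.ne' (hAn d hd f hf)
    have := Ideal.mem_map_of_mem φ.toRingHom hfP
    rw [Ideal.map_span] at this
    refine Ideal.span_mono ?_ this
    rintro _ ⟨_, ⟨g, hg, rfl⟩, rfl⟩
    show φ (F g) ∈ (G 1 : Set B)
    rw [hFeq g hg]; exact hg
  obtain ⟨D₀, hD₀⟩ := Ideal.exists_pow_le_of_le_radical_of_fg hJK (Submodule.fg_span t.finite_toSet)
  let E := t.sup e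
  have hJpow : ∀ k n : ℕ, k * E < n → ∀ x ∈ ℬ n, x ∈ J ^ k := by
    intro k
    induction k with
    | zero => intro n _ x _; simp
    | succ k ih =>
      intro n hn x hx
      refine (AddSubgroup.closure_le (Submodule.toAddSubgroup (J ^ (k + 1)))).2 ?_
        (mem_closure_of_mem_span_deg (t : Set B) e hte hx (hJ (by omega) hx))
      rintro _ ⟨g, hg, hgn, c, hc, rfl⟩
      have hgE : e g ≤ E := Finset.le_sup (f := e) hg
      show c * g ∈ J ^ (k + 1)
      rw [pow_succ]
      exact Ideal.mul_mem_mul (ih (n - e g) (by rw [Nat.succ_mul] at hn; omega) c hc) (Ideal.subset_span hg)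
  let D := D₀ * E + 1
  -- high degrees are spanned by values times a fixed finite set
  have hT : ∀ j, ∀ x ∈ ℬ (D + j),
      x ∈ AddSubgroup.closure {y | ∃ a ∈ 𝒜 j, ∃ g ∈ G D, y = φ a * g} := by
    intro j
    induction j with
    | zero =>
      intro x hx
      have h := hGs D x hx
      rw [Submodule.mem_span_set'] at h
      obtain ⟨k, c, g, rfl⟩ := h
      refine sum_mem fun i _ => ?_
      obtain ⟨c', hc', hc⟩ := h0.surjOn (c i).2
      exact AddSubgroup.subset_closure ⟨c', hc', _, (g i).2, by rw [hc]; rfl⟩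
    | succ j ih =>
      intro x hx
      have hxK : x ∈ K := hD₀ (hJpow D₀ _ (by omega) x hx)
      refine (AddSubgroup.closure_le _).2 ?_
        (mem_closure_of_mem_span_deg (G 1 : Set B) (fun _ => 1) (fun g hg => hG 1 g hg) hx hxK)
      rintro _ ⟨g, hg, -, c, hc, rfl⟩
      rw [show D + (j + 1) - 1 = D + j by omega] at hc
      show c * g ∈ AddSubgroup.closure _
      have hmap := AddSubgroup.mem_map_of_mem (AddMonoidHom.mulRight g) (ih c hc)
      rw [AddMonoidHom.map_closure] at hmap
      refine AddSubgroup.closure_mono ?_ hmap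
      rintro _ ⟨_, ⟨a, ha, g', hg', rfl⟩, rfl⟩
      refine ⟨a * F g, SetLike.mul_mem_graded ha (hF g hg), g', hg', ?_⟩
      show φ a * g' * g = φ (a * F g) * g'
      rw [map_mul, hFeq g hg]; ring
  choose N hN1 hN using fun g : B => hS g
  let N₀ := (G D).sup N
  refine ⟨D + N₀ + 1, fun n hn => le_antisymm (fun x hx => ?_) ?_⟩
  · obtain ⟨j, rfl⟩ := Nat.exists_eq_add_of_le (show D ≤ n by omega)
    have hxr : x ∈ φ.toRingHom.range := by
      refine (AddSubgroup.closure_le φ.toRingHom.range.toAddSubgroup).2 ?_ (hT j x hx)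
      rintro _ ⟨a, ha, g, hg, rfl⟩
      exact hN g j (by have := Finset.le_sup (f := N) hg; omega) a ha
    obtain ⟨a, ha⟩ := hxr
    -- pass to the homogeneous component
    have hcomp : φ (DirectSum.decompose 𝒜 a (D + j) : A) = x := by
      rw [← DirectSum.decompose_of_mem_same ℬ hx, ← ha]
      show _ = (DirectSum.decompose ℬ (φ a) (D + j) : B)
      conv_rhs => rw [← DirectSum.sum_support_decompose 𝒜 a, map_sum, DirectSum.decompose_sum]
      rw [DFinsupp.finsetSum_apply, AddSubmonoidClass.coe_finsetSum]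
      rw [Finset.sum_eq_single (D + j)]
      · exact (DirectSum.decompose_of_mem_same ℬ (φ.2 (SetLike.coe_mem _))).symm
      · intro i _ hi
        exact DirectSum.decompose_of_mem_ne ℬ (φ.2 (SetLike.coe_mem _)) hi
      · intro hni
        rw [DFinsupp.notMem_support_iff.1 hni]
        simp
    rw [← hcomp]
    have hpow : ∀ m : ℕ, 1 ≤ m → ∀ u ∈ 𝒜 1 ^ m, φ u ∈ ℬ 1 ^ m := by
      intro m hm
      induction m, hm using Nat.le_induction with
      | base =>
        intro u hu
        rw [pow_one] at hu ⊢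
        exact φ.2 hu
      | succ m _ ih =>
        intro u hu
        rw [pow_succ] at hu ⊢
        refine Submodule.mul_induction_on hu (fun v hv w hw => ?_) (fun v w hv hw => by
          rw [map_add]; exact add_mem hv hw)
        rw [map_mul]
        exact Submodule.mul_mem_mul (ih v hv) (φ.2 hw)
    refine hpow _ (by omega) _ ?_
    rw [← hgen _ (by omega)]
    exact SetLike.coe_mem _
  · clear hn
    induction n with
    | zero =>
      rw [pow_zero, Submodule.one_le]
      exact SetLike.one_mem_graded ℬ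
    | succ n ih =>
      rw [pow_succ]
      exact (Submodule.mul_le.2 fun u hu v hv => SetLike.mul_mem_graded (ih hu) hv)

end Groth.Agent.H11Proj
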