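import Groth.Agent.H11Proj.SecProj
import Groth.Agent.H11Ample.Extension
import Groth.Agent.H28Mero.Gen

/-!
# Families of sections spanning compatible submodules of a direct image
-/

set_option autoImplicit false
set_option linter.style.haveILetI false

noncomputable section

universe u

open CategoryTheory AlgebraicGeometry TopologicalSpace Opposite
open Groth.Agent.H11Tilde Groth.Agent.H11Ample

namespace Groth.Agent.H11Proj

variable {X S : Scheme.{u}} {f : X ⟶ S} {L : X.Modules}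

theorem resF_app {U V : S.Opens} (i : V ≤ U) (c : Γ(S, U)) :
    resF (f.preimage_mono i) (f.app U c) = f.app V (S.presheaf.map (homOfLE i).op c) :=
  (congr($(f.naturality (homOfLE i).op) c)).symm

namespace SpanBy

variable {U V : S.Opens} {k : ℕ} {g : Fin k → Γ(L, f ⁻¹ᵁ U)} {s t : Γ(L, f ⁻¹ᵁ U)}

theorem add (hs : SpanBy f L g s) (ht : SpanBy f L g t) : SpanBy f L g (s + t) := by
  obtain ⟨c, rfl⟩ := hs
  obtain ⟨d, rfl⟩ := ht
  exact ⟨c + d, by simp [add_smul, Finset.sum_add_distrib]⟩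

theorem zero : SpanBy f L g 0 := ⟨0, by simp⟩

theorem smul (r : Γ(S, U)) (hs : SpanBy f L g s) : SpanBy f L g (f.app U r • s) := by
  obtain ⟨c, rfl⟩ := hs
  exact ⟨fun l => r * c l, by simp [Finset.smul_sum, smul_smul]⟩

theorem sum {ι : Type*} (F : Finset ι) (s : ι → Γ(L, f ⁻¹ᵁ U)) (h : ∀ i ∈ F, SpanBy f L g (s i)) :
    SpanBy f L g (∑ i ∈ F, s i) :=
  Finset.sum_induction s (SpanBy f L g) (fun _ _ => add) zero h

theorem self (l : Fin k) : SpanBy f L g (g l) :=
  ⟨fun m => if m = l then 1 else 0, by simp [apply_ite, ite_smul]⟩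

theorem res (i : V ≤ U) (hs : SpanBy f L g s) :
    SpanBy f L (fun l => resS L (f.preimage_mono i) (g l)) (resS L (f.preimage_mono i) s) := by
  obtain ⟨c, rfl⟩ := hs
  refine ⟨fun l => S.presheaf.map (homOfLE i).op (c l), ?_⟩
  rw [resS, map_sum]
  refine Finset.sum_congr rfl fun l _ => ?_
  rw [Scheme.Modules.map_smul]
  exact congrArg (· • _) (resF_app i (c l))

theorem trans {m : ℕ} {h : Fin m → Γ(L, f ⁻¹ᵁ U)} (hg : ∀ l, SpanBy f L h (g l)) (hs : SpanBy f L g s) :
    SpanBy f L h s := by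
  obtain ⟨c, rfl⟩ := hs
  exact sum _ _ fun l _ => smul _ (hg l)

end SpanBy

theorem isQuasiSeparated_preimage [QuasiSeparated f] {U : S.Opens} (hU : IsAffineOpen U) :
    IsQuasiSeparated ((f ⁻¹ᵁ U : X.Opens) : Set X) := by
  haveI : IsAffine U.toScheme := hU
  haveI : QuasiSeparated (f ∣_ U) := IsZariskiLocalAtTarget.restrict (P := @QuasiSeparated) inferInstance U
  haveI : QuasiSeparatedSpace (f ⁻¹ᵁ U).toScheme := quasiSeparatedSpace_of_quasiSeparated (f ∣_ U)
  exact (isQuasiSeparated_iff_quasiSeparatedSpace _ (f ⁻¹ᵁ U).isOpen).2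
    (inferInstanceAs (QuasiSeparatedSpace (f ⁻¹ᵁ U).toScheme))

theorem basicOpen_app_eq {U : S.Opens} (r : Γ(S, U)) : X.basicOpen (f.app U r) = f ⁻¹ᵁ S.basicOpen r :=
  (Scheme.preimage_basicOpen f r).symm

/-- A section over the preimage of an affine open vanishing on a basic open is killed by a power. -/
theorem exists_kill [QuasiCompact f] (hL : PicF.IsInvertible L) {U : S.Opens} (hU : IsAffineOpen U) (r : Γ(S, U))
    (s : Γ(L, f ⁻¹ᵁ U)) (h : resS L (f.preimage_mono (S.basicOpen_le r)) s = 0) :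
    ∃ m : ℕ, f.app U (r ^ m) • s = 0 := by
  haveI : L.IsQuasicoherent := H28Mero.isQCoh_of_isInvertible hL
  obtain ⟨m, hm⟩ := H10Coh.exists_pow_smul_eq_zero_of_isCompact L
    (f.isCompact_preimage (U := U) hU.isCompact) (f.app U r) s (by
      have h' := congrArg (resS L (basicOpen_app_eq r).le) h
      rw [resS_resS] at h'
      exact h'.trans (map_zero _))
  exact ⟨m, by rw [map_pow]; exact hm⟩

/-- A section over the preimage of a basic open extends after multiplication by a power. -/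
theorem exists_extend_section [QuasiCompact f] [QuasiSeparated f] (hL : PicF.IsInvertible L) {U : S.Opens}
    (hU : IsAffineOpen U) (r : Γ(S, U)) (s : Γ(L, f ⁻¹ᵁ S.basicOpen r)) :
    ∃ (m : ℕ) (z : Γ(L, f ⁻¹ᵁ U)), resS L (f.preimage_mono (S.basicOpen_le r)) z =
      f.app (S.basicOpen r) (S.presheaf.map (homOfLE (S.basicOpen_le r)).op (r ^ m)) • s := by
  haveI : L.IsQuasicoherent := H28Mero.isQCoh_of_isInvertible hL
  obtain ⟨m, z, hz⟩ := exists_pow_smul_eq_res_of_isQuasiSeparated L (f.isCompact_preimage (U := U) hU.isCompact)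
    (isQuasiSeparated_preimage hU) (f.app U r) (resS L (basicOpen_app_eq r).le s)
  refine ⟨m, z, ?_⟩
  have h := congrArg (resS L (basicOpen_app_eq r).ge) hz
  rw [resS_resS, resS_smul, resS_resS, resF_resF, ← map_pow, resF_app (S.basicOpen_le r)] at h
  refine h.trans (congrArg (_ • ·) ?_)
  exact H10Coh.mres_self _ _ _

/-- Over an affine open of the base, being in a span is local. -/
theorem spanBy_of_local [QuasiCompact f] (hL : PicF.IsInvertible L) {U : S.Opens} (hU : IsAffineOpen U) {k : ℕ}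
    (g : Fin k → Γ(L, f ⁻¹ᵁ U)) (s : Γ(L, f ⁻¹ᵁ U))
    (h : ∀ x ∈ U, ∃ (V : S.Opens) (i : V ≤ U), x ∈ V ∧
      SpanBy f L (fun l => resS L (f.preimage_mono i) (g l)) (resS L (f.preimage_mono i) s)) :
    SpanBy f L g s := by
  classical
  have hloc : ∀ x : U, ∃ b : Γ(S, U), x.1 ∈ S.basicOpen b ∧ ∃ m : ℕ, SpanBy f L g (f.app U (b ^ m) • s) := by
    intro x
    obtain ⟨V, i, hxV, hV⟩ := h x.1 x.2
    obtain ⟨b, hb, hxb⟩ := hU.exists_basicOpen_le ⟨x.1, hxV⟩ x.2
    have hV' := hV.res hb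
    simp only [resS_resS] at hV'
    obtain ⟨c, hc⟩ := hV'
    haveI := hU.isLocalization_basicOpen b
    choose p c' hc' using fun l => IsLocalization.Away.surj b (c l)
    let N := Finset.univ.sup p
    let t : Γ(L, f ⁻¹ᵁ U) := f.app U (b ^ N) • s - ∑ l, f.app U (b ^ (N - p l) * c' l) • g l
    have ht : resS L (f.preimage_mono (S.basicOpen_le b)) t = 0 := by
      simp only [t, resS, map_sub, map_sum, Scheme.Modules.map_smul]
      change resF _ _ • resS L _ s - ∑ l, resF _ _ • resS L _ (g l) = 0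
      rw [resS] at hc ⊢
      rw [show L.presheaf.map (homOfLE (f.preimage_mono (S.basicOpen_le b))).op s = _ from hc, Finset.smul_sum,
        sub_eq_zero]
      refine Finset.sum_congr rfl fun l _ => ?_
      rw [smul_smul, resF_app (S.basicOpen_le b), resF_app (S.basicOpen_le b), ← map_mul]
      congr 2
      rw [map_mul, show S.presheaf.map (homOfLE (S.basicOpen_le b)).op (c' l) = _ from (hc' l).symm, ← map_pow,
        mul_comm (c l), ← mul_assoc]
      congr 1
      refine Eq.trans ?_ (map_mul (S.presheaf.map (homOfLE (S.basicOpen_le b)).op).hom _ _)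
      rw [← pow_add, Nat.sub_add_cancel (Finset.le_sup (f := p) (Finset.mem_univ l))]
    obtain ⟨q, hq⟩ := exists_kill hL hU b t ht
    refine ⟨b, hxb, q + N, ?_⟩
    simp only [t] at hq
    rw [smul_sub, sub_eq_zero, smul_smul, ← map_mul, ← pow_add] at hq
    rw [hq]
    exact SpanBy.smul _ (SpanBy.sum _ _ fun l _ => SpanBy.smul _ (SpanBy.self l))
  choose b hxb m hm using hloc
  obtain ⟨A, hA⟩ := hU.isCompact.elim_finite_subcover (fun x : U => (S.basicOpen (b x) : Set S))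
    (fun x => (S.basicOpen (b x)).isOpen) (fun x hx => Set.mem_iUnion.2 ⟨⟨x, hx⟩, hxb _⟩)
  let M := A.sup m
  have hcov : U ≤ ⨆ a : A, S.basicOpen (b a.1) := fun x hx => by
    obtain ⟨a, ha, hxa⟩ := Set.mem_iUnion₂.1 (hA hx)
    exact Opens.mem_iSup.2 ⟨⟨a, ha⟩, hxa⟩
  have hspan : Ideal.span (Set.range fun a : A => b a.1) = ⊤ := by
    rw [← hU.iSup_basicOpen_eq_self_iff]
    refine le_antisymm (iSup_le fun a => S.basicOpen_le _) (hcov.trans (iSup_le fun a => ?_))
    exact le_iSup (fun z : ↥(Set.range fun a : A => b a.1) => S.basicOpen z.1) ⟨_, a, rfl⟩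
  have hspanM : Ideal.span (Set.range fun a : A => b a.1 ^ M) = ⊤ := by
    have := Ideal.span_pow_eq_top _ hspan M
    rwa [← Set.range_comp] at this
  obtain ⟨c, hc⟩ : ∃ c : A → Γ(S, U), ∑ a : A, c a • b a.1 ^ M = 1 :=
    (Submodule.mem_span_range_iff_exists_fun Γ(S, U)).1 ((Ideal.eq_top_iff_one _).1 hspanM)
  have hs : s = ∑ a : A, f.app U (c a * b a.1 ^ M) • s := by
    rw [← Finset.sum_smul, ← map_sum]
    simp only [smul_eq_mul] at hc
    rw [hc, map_one, one_smul]
  rw [hs]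
  refine SpanBy.sum _ _ fun a _ => ?_
  rw [← Nat.sub_add_cancel (show m a.1 ≤ M from Finset.le_sup (f := m) a.2), pow_add, ← mul_assoc, map_mul, mul_smul]
  exact SpanBy.smul _ (hm a.1)

variable (f L) in
/-- Finite families of sections over the preimages of opens, spanning the same submodules on overlaps. -/
structure Fam where
  ι : Type u
  O : ι → S.Opens
  k : ι → ℕ
  g : ∀ i, Fin (k i) → Γ(L, f ⁻¹ᵁ O i)
  compat : ∀ (i j : ι) (l : Fin (k i)), ∀ x ∈ O i ⊓ O j, ∃ (V : S.Opens) (hi : V ≤ O i) (hj : V ≤ O j), x ∈ V ∧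
    SpanBy f L (fun m => resS L (f.preimage_mono hj) (g j m)) (resS L (f.preimage_mono hi) (g i l))

namespace Fam

variable (Y : Fam f L)

/-- The domain. -/
def dom : S.Opens := ⨆ i, Y.O i

/-- Sections locally in the spans. -/
def Mem {W : S.Opens} (s : Γ(L, f ⁻¹ᵁ W)) : Prop :=
  ∀ x ∈ W, ∃ (i : Y.ι) (V : S.Opens) (hW : V ≤ W) (hi : V ≤ Y.O i), x ∈ V ∧
    SpanBy f L (fun l => resS L (f.preimage_mono hi) (Y.g i l)) (resS L (f.preimage_mono hW) s)

theorem mem_res {W W' : S.Opens} (i : W' ≤ W) {s : Γ(L, f ⁻¹ᵁ W)} (hs : Y.Mem s) :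
    Y.Mem (resS L (f.preimage_mono i) s) := fun x hx => by
  obtain ⟨j, V, hW, hj, hxV, hV⟩ := hs x (i hx)
  refine ⟨j, V ⊓ W', inf_le_right, inf_le_left.trans hj, ⟨hxV, hx⟩, ?_⟩
  have := hV.res (inf_le_left : V ⊓ W' ≤ V)
  simp only [resS_resS] at this ⊢
  exact this

theorem spanBy_at {W : S.Opens} {s : Γ(L, f ⁻¹ᵁ W)} (hs : Y.Mem s) (j : Y.ι) {x : S} (hxW : x ∈ W) (hxj : x ∈ Y.O j) :
    ∃ (V : S.Opens) (hW : V ≤ W) (hj : V ≤ Y.O j), x ∈ V ∧
      SpanBy f L (fun l => resS L (f.preimage_mono hj) (Y.g j l)) (resS L (f.preimage_mono hW) s) := by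
  classical
  obtain ⟨i, V₀, hW, hi, hxV, hV⟩ := hs x hxW
  choose V₁ h₁ h₂ hx₁ hs₁ using fun l => Y.compat i j l x ⟨hi hxV, hxj⟩
  let V : S.Opens := V₀ ⊓ Y.O j ⊓ Finset.univ.inf V₁
  have hxV' : x ∈ V := by
    refine ⟨⟨hxV, hxj⟩, ?_⟩
    suffices ∀ F : Finset (Fin (Y.k i)), x ∈ F.inf V₁ from this _
    intro F
    induction F using Finset.induction with
    | empty => exact trivial
    | insert a F _ ih => rw [Finset.inf_insert]; exact ⟨hx₁ a, ih⟩
  refine ⟨V, inf_le_left.trans (inf_le_left.trans hW), inf_le_left.trans inf_le_right, hxV', ?_⟩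
  have hV' := hV.res (inf_le_left.trans inf_le_left : V ≤ V₀)
  simp only [resS_resS] at hV'
  refine SpanBy.trans (fun l => ?_) hV'
  have hl : V ≤ V₁ l := inf_le_right.trans (Finset.inf_le (Finset.mem_univ l))
  have := (hs₁ l).res hl
  simp only [resS_resS] at this
  exact this

theorem mem_g (i : Y.ι) (l : Fin (Y.k i)) : Y.Mem (Y.g i l) := fun x hx =>
  ⟨i, Y.O i, le_rfl, le_rfl, hx, by
    simp only [resS, H10Coh.mres_self]
    exact SpanBy.self l⟩

theorem mem_zero {W : S.Opens} (hW : W ≤ Y.dom) : Y.Mem (0 : Γ(L, f ⁻¹ᵁ W)) := fun x hx => by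
  obtain ⟨i, hi⟩ := Opens.mem_iSup.1 (hW hx)
  refine ⟨i, W ⊓ Y.O i, inf_le_left, inf_le_right, ⟨hx, hi⟩, ?_⟩
  simp only [resS, map_zero]
  exact SpanBy.zero

theorem mem_add {W : S.Opens} {s t : Γ(L, f ⁻¹ᵁ W)} (hs : Y.Mem s) (ht : Y.Mem t) : Y.Mem (s + t) := fun x hx => by
  obtain ⟨i, V, hW, hi, hxV, hV⟩ := hs x hx
  obtain ⟨V', hW', hi', hxV', hV'⟩ := Y.spanBy_at ht i hx (hi hxV)
  refine ⟨i, V ⊓ V', inf_le_left.trans hW, inf_le_left.trans hi, ⟨hxV, hxV'⟩, ?_⟩
  have a := hV.res (inf_le_left : V ⊓ V' ≤ V)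
  have b := hV'.res (inf_le_right : V ⊓ V' ≤ V')
  simp only [resS_resS] at a b
  simp only [resS, map_add]
  exact SpanBy.add a b

theorem mem_smul {W : S.Opens} (r : Γ(S, W)) {s : Γ(L, f ⁻¹ᵁ W)} (hs : Y.Mem s) : Y.Mem (f.app W r • s) :=
  fun x hx => by
    obtain ⟨i, V, hW, hi, hxV, hV⟩ := hs x hx
    refine ⟨i, V, hW, hi, hxV, ?_⟩
    rw [resS_smul, resF_app hW]
    exact SpanBy.smul _ hV

theorem mem_of_spanBy {W : S.Opens} (hW : W ≤ Y.dom) {k : ℕ} {g : Fin k → Γ(L, f ⁻¹ᵁ W)}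
    (hg : ∀ l, Y.Mem (g l)) {s : Γ(L, f ⁻¹ᵁ W)} (hs : SpanBy f L g s) : Y.Mem s := by
  obtain ⟨c, rfl⟩ := hs
  exact Finset.sum_induction _ Y.Mem (fun _ _ => Y.mem_add) (Y.mem_zero hW) fun l _ => Y.mem_smul _ (hg l)

variable [QuasiCompact f] [QuasiSeparated f] (hL : PicF.IsInvertible L)

omit [QuasiSeparated f] in
include hL in
theorem spanBy_of_mem {V : S.Opens} (hV : IsAffineOpen V) {i : Y.ι} (hi : V ≤ Y.O i) {s : Γ(L, f ⁻¹ᵁ V)}
    (hs : Y.Mem s) : SpanBy f L (fun l => resS L (f.preimage_mono hi) (Y.g i l)) s :=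
  spanBy_of_local hL hV _ s fun x hx => by
    obtain ⟨V', hV', hi', hxV', h⟩ := Y.spanBy_at hs i hx (hi hx)
    refine ⟨V', hV', hxV', ?_⟩
    simp only [resS_resS]
    exact h

include hL in
/-- Clearing denominators: a member over a basic open extends to a section which is a member on a
quasi-compact open inside an affine one. -/
theorem exists_clear {U : S.Opens} (hU : IsAffineOpen U) {O : S.Opens} (hOU : O ≤ U) (hOc : IsCompact (O : Set S))
    (hO : O ≤ Y.dom) (r : Γ(S, U)) (hr : S.basicOpen r ≤ O) {s : Γ(L, f ⁻¹ᵁ S.basicOpen r)} (hs : Y.Mem s) :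
    ∃ (m : ℕ) (z : Γ(L, f ⁻¹ᵁ U)), Y.Mem (resS L (f.preimage_mono hOU) z) ∧
      resS L (f.preimage_mono (S.basicOpen_le r)) z =
        f.app (S.basicOpen r) (S.presheaf.map (homOfLE (S.basicOpen_le r)).op (r ^ m)) • s := by
  classical
  obtain ⟨m₀, z₀, hz₀⟩ := exists_extend_section hL hU r s
  have hloc : ∀ x : O, ∃ (a : Γ(S, U)) (ha : S.basicOpen a ≤ O), x.1 ∈ S.basicOpen a ∧ ∃ (M : ℕ),
      Y.Mem (resS L (f.preimage_mono (S.basicOpen_le a)) (f.app U (r ^ M) • z₀)) := by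
    intro x
    obtain ⟨i, hi⟩ := Opens.mem_iSup.1 (hO x.2)
    obtain ⟨a, ha, hxa⟩ := hU.exists_basicOpen_le (V := O ⊓ Y.O i) ⟨x.1, x.2, hi⟩ (hOU x.2)
    refine ⟨a, ha.trans inf_le_left, hxa, ?_⟩
    let V := S.basicOpen a
    have hV : IsAffineOpen V := hU.basicOpen a
    have hVi : V ≤ Y.O i := ha.trans inf_le_right
    let rV := S.presheaf.map (homOfLE (S.basicOpen_le a)).op r
    have hDr : S.basicOpen rV ≤ S.basicOpen r := by
      simp only [rV, Scheme.basicOpen_res]; exact inf_le_right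
    have hsp := Y.spanBy_of_mem hL (hV.basicOpen rV) ((S.basicOpen_le rV).trans hVi) (Y.mem_res hDr hs)
    obtain ⟨c, hc⟩ := hsp
    haveI := hV.isLocalization_basicOpen rV
    choose p c' hc' using fun l => IsLocalization.Away.surj rV (c l)
    let N := Finset.univ.sup p
    let u : Γ(L, f ⁻¹ᵁ V) := f.app V (rV ^ N) • resS L (f.preimage_mono (S.basicOpen_le a)) z₀ -
      f.app V (rV ^ m₀) • ∑ l, f.app V (rV ^ (N - p l) * c' l) • resS L (f.preimage_mono hVi) (Y.g i l)
    have hu : resS L (f.preimage_mono (S.basicOpen_le rV)) u = 0 := by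
      have e0 := congrArg (resS L (f.preimage_mono hDr)) hz₀
      rw [resS_resS, resS_smul, resF_app hDr] at e0
      have e1 : resS L (f.preimage_mono (S.basicOpen_le rV)) (resS L (f.preimage_mono (S.basicOpen_le a)) z₀) =
          f.app _ (S.presheaf.map (homOfLE (S.basicOpen_le rV)).op (rV ^ m₀)) •
            resS L (f.preimage_mono hDr) s := by
        rw [resS_resS]
        refine e0.trans (congrArg (fun w => f.app _ w • _) ?_)
        simp only [rV, map_pow]
        rw [← ConcreteCategory.comp_apply, ← Functor.map_comp, ← ConcreteCategory.comp_apply, ← Functor.map_comp]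
        rfl
      simp only [u, resS, map_sub, map_sum, Scheme.Modules.map_smul]
      change resF _ _ • resS L _ (resS L _ z₀) - resF _ _ • ∑ l, resF _ _ • resS L _ (resS L _ (Y.g i l)) = 0
      rw [e1, hc, sub_eq_zero, Finset.smul_sum, Finset.smul_sum, Finset.smul_sum]
      refine Finset.sum_congr rfl fun l _ => ?_
      simp only [smul_smul, resS_resS, ← map_mul]
      congr 1
      rw [resF_app (S.basicOpen_le rV), resF_app (S.basicOpen_le rV)]
      simp only [← map_mul]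
      congr 1
      simp only [map_mul]
      rw [show S.presheaf.map (homOfLE (S.basicOpen_le rV)).op (c' l) = _ from (hc' l).symm]
      have key : ∀ n : ℕ, S.presheaf.map (homOfLE (S.basicOpen_le rV)).op (rV ^ n) =
          algebraMap Γ(S, V) Γ(S, S.basicOpen rV) rV ^ n := fun n => map_pow _ _ _
      rw [key, key, key]
      have hN : N - p l + p l = N := Nat.sub_add_cancel (Finset.le_sup (f := p) (Finset.mem_univ l))
      conv_lhs => rw [← hN, pow_add]
      ring
    obtain ⟨q, hq⟩ := exists_kill hL hV rV u hu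
    refine ⟨q + N, ?_⟩
    simp only [u] at hq
    rw [smul_sub, sub_eq_zero, smul_smul, ← map_mul, ← pow_add] at hq
    rw [resS_smul, resF_app (S.basicOpen_le a), map_pow, hq]
    refine Y.mem_smul _ (Y.mem_smul _ (Y.mem_of_spanBy (hVi.trans (le_iSup Y.O i)) (g := fun l =>
      resS L (f.preimage_mono hVi) (Y.g i l)) (fun l => Y.mem_res hVi (Y.mem_g i l))
      (SpanBy.sum _ _ fun l _ => SpanBy.smul _ (SpanBy.self (g := fun l => resS L (f.preimage_mono hVi) (Y.g i l)) l))))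
  choose a ha hxa M hM using hloc
  obtain ⟨A, hA⟩ := hOc.elim_finite_subcover (fun x : O => (S.basicOpen (a x) : Set S))
    (fun x => (S.basicOpen (a x)).isOpen) (fun x hx => Set.mem_iUnion.2 ⟨⟨x, hx⟩, hxa _⟩)
  let N := A.sup M
  refine ⟨N + m₀, f.app U (r ^ N) • z₀, fun x hx => ?_, ?_⟩
  · obtain ⟨y, hy, hxy⟩ := Set.mem_iUnion₂.1 (hA hx)
    have hle : M y ≤ N := Finset.le_sup (f := M) hy
    have hm : Y.Mem (resS L (f.preimage_mono (S.basicOpen_le (a y))) (f.app U (r ^ N) • z₀)) := by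
      rw [← Nat.sub_add_cancel hle, pow_add, map_mul, mul_smul, resS_smul, resF_app (S.basicOpen_le (a y))]
      exact Y.mem_smul _ (hM y)
    obtain ⟨i, V, hW, hi, hxV, hV⟩ := hm x hxy
    refine ⟨i, V, hW.trans (ha y), hi, hxV, ?_⟩
    simp only [resS_resS] at hV ⊢
    exact hV
  · rw [resS_smul, resF_app (S.basicOpen_le r), hz₀, smul_smul, ← map_mul, ← map_mul, pow_add]

variable (hY : Y.dom = ⊤)

omit [QuasiCompact f] [QuasiSeparated f] in
include hY in
theorem le_dom (W : S.Opens) : W ≤ Y.dom := hY.symm ▸ le_top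

include hL hY in
/-- A covering family gives compatible finite sets of generators over all affine opens. -/
theorem exists_gens : ∃ D : Gens f L, ∀ (U : S.Opens) (hU : IsAffineOpen U) (s : Γ(L, f ⁻¹ᵁ U)),
    Y.Mem s ↔ SpanBy f L (D.g U hU) s := by
  classical
  have hloc : ∀ (U : S.Opens), IsAffineOpen U → ∃ (k : ℕ) (G : Fin k → Γ(L, f ⁻¹ᵁ U)),
      ∀ s : Γ(L, f ⁻¹ᵁ U), Y.Mem s ↔ SpanBy f L G s := by
    intro U hU
    have hx : ∀ x : U, ∃ (a : Γ(S, U)) (i : Y.ι), S.basicOpen a ≤ Y.O i ∧ x.1 ∈ S.basicOpen a := fun x => by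
      obtain ⟨i, hi⟩ := Opens.mem_iSup.1 (Y.le_dom hY U x.2)
      obtain ⟨a, ha, hxa⟩ := hU.exists_basicOpen_le ⟨x.1, hi⟩ x.2
      exact ⟨a, i, ha, hxa⟩
    choose a i ha hxa using hx
    obtain ⟨A, hA⟩ := hU.isCompact.elim_finite_subcover (fun x : U => (S.basicOpen (a x) : Set S))
      (fun x => (S.basicOpen (a x)).isOpen) (fun x hx => Set.mem_iUnion.2 ⟨⟨x, hx⟩, hxa _⟩)
    let I : Type u := Σ y : A, ULift.{u} (Fin (Y.k (i y.1)))
    haveI : Fintype I := Fintype.ofFinite I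
    have hz : ∀ p : I, ∃ (m : ℕ) (z : Γ(L, f ⁻¹ᵁ U)), Y.Mem (resS L (f.preimage_mono le_rfl) z) ∧
        resS L (f.preimage_mono (S.basicOpen_le (a p.1.1))) z =
          f.app _ (S.presheaf.map (homOfLE (S.basicOpen_le (a p.1.1))).op (a p.1.1 ^ m)) •
            resS L (f.preimage_mono (ha p.1.1)) (Y.g (i p.1.1) p.2.down) := fun p =>
      Y.exists_clear hL hU le_rfl hU.isCompact (Y.le_dom hY U) (a p.1.1) (S.basicOpen_le _)
        (Y.mem_res (ha p.1.1) (Y.mem_g _ _))
    choose m z hzm hz using hz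
    let e := Fintype.equivFin I
    refine ⟨Fintype.card I, fun l => z (e.symm l), fun s => ⟨fun hs => ?_, fun hs => ?_⟩⟩
    · refine spanBy_of_local hL hU _ s fun x hx => ?_
      obtain ⟨y, hy, hxy⟩ := Set.mem_iUnion₂.1 (hA hx)
      refine ⟨S.basicOpen (a y), S.basicOpen_le _, hxy,
        SpanBy.trans (fun l => ?_) (Y.spanBy_of_mem hL (hU.basicOpen (a y)) (ha y) (Y.mem_res (S.basicOpen_le _) hs))⟩
      let p : I := ⟨⟨y, hy⟩, ⟨l⟩⟩
      have hp := hz p
      obtain ⟨v, hv⟩ : IsUnit (S.presheaf.map (homOfLE (S.basicOpen_le (a y))).op (a y ^ m p)) := by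
        haveI := hU.isLocalization_basicOpen (a y)
        exact IsLocalization.map_units (M := Submonoid.powers (a y)) Γ(S, S.basicOpen (a y)) ⟨_, m p, rfl⟩
      have e1 : resS L (f.preimage_mono (ha y)) (Y.g (i y) l) =
          f.app _ (↑v⁻¹ : Γ(S, S.basicOpen (a y))) • resS L (f.preimage_mono (S.basicOpen_le (a y))) (z p) := by
        rw [hp, ← hv, smul_smul, ← map_mul, Units.inv_mul, map_one, one_smul]
      rw [e1]
      have h := SpanBy.self (f := f) (L := L)
        (g := fun l => resS L (f.preimage_mono (S.basicOpen_le (a y))) (z (e.symm l))) (e p)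
      rw [Equiv.symm_apply_apply] at h
      exact SpanBy.smul _ h
    · refine Y.mem_of_spanBy (Y.le_dom hY U) (fun l => ?_) hs
      have := hzm (e.symm l)
      simp only [resS, H10Coh.mres_self] at this
      exact this
  choose k G hG using hloc
  refine ⟨{ k := k, g := G, res_span := fun {U V} hU hV j l => ?_, clear := fun U hU r l => ?_ }, hG⟩
  · exact (hG V hV _).1 (Y.mem_res j ((hG U hU _).2 (SpanBy.self l)))
  · obtain ⟨m, z, hz, e⟩ := Y.exists_clear hL hU le_rfl hU.isCompact (Y.le_dom hY U) r (S.basicOpen_le r)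
      ((hG _ (hU.basicOpen r) _).2 (SpanBy.self l))
    simp only [resS, H10Coh.mres_self] at hz
    exact ⟨m, z, (hG U hU z).1 hz, by rw [e, map_pow, map_pow]⟩

end Fam

end Groth.Agent.H11Proj
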