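import Groth.Prelude.Def_RelProj
import Groth.Agent.H11Tilde.GammaStar.Module
import Mathlib

/-!
# The quasi-coherent graded algebra generated by finitely many sections of a sheaf of algebras
-/

set_option autoImplicit false
set_option linter.style.haveILetI false

noncomputable section

universe u

open CategoryTheory AlgebraicGeometry TopologicalSpace Opposite MvPolynomial

namespace Groth.Agent.H11Proj.ImageAlg

variable {S : Scheme.{u}} {k : ℕ} (T : TopCat.Presheaf CommRingCat.{u} S.carrier) (str : S.presheaf ⟶ T)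
  (t : Fin k → T.obj (op (⊤ : S.Opens)))

/-- Evaluation of polynomials with coefficients in `Γ(S, U)` at the given sections. -/
def ev (U : S.Opens) : MvPolynomial (Fin k) Γ(S, U) →+* T.obj (op U) :=
  eval₂Hom (str.app (op U)).hom (fun l => T.map (homOfLE (le_top : U ≤ ⊤)).op (t l))

theorem res_res {U V W : S.Opens} (h₁ : V ≤ U) (h₂ : W ≤ V) (x : T.obj (op U)) :
    T.map (homOfLE h₂).op (T.map (homOfLE h₁).op x) = T.map (homOfLE (h₂.trans h₁)).op x := by
  rw [← ConcreteCategory.comp_apply, ← Functor.map_comp]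
  rfl

theorem res_str {U V : S.Opens} (i : V ≤ U) (r : Γ(S, U)) :
    T.map (homOfLE i).op ((str.app (op U)).hom r) =
      (str.app (op V)).hom (S.presheaf.map (homOfLE i).op r) :=
  (ConcreteCategory.congr_hom (str.naturality (homOfLE i).op) r).symm

theorem res_ev {U V : S.Opens} (i : V ≤ U) (P : MvPolynomial (Fin k) Γ(S, U)) :
    T.map (homOfLE i).op (ev T str t U P) =
      ev T str t V (MvPolynomial.map (S.presheaf.map (homOfLE i).op).hom P) := by
  have h : (T.map (homOfLE i).op).hom.comp (ev T str t U) =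
      (ev T str t V).comp (MvPolynomial.map (S.presheaf.map (homOfLE i).op).hom) := by
    refine MvPolynomial.ringHom_ext (fun r => ?_) (fun l => ?_)
    · simp only [RingHom.comp_apply, ev, map_C, eval₂Hom_C]
      exact res_str T str i r
    · simp only [RingHom.comp_apply, ev, map_X, eval₂Hom_X']
      exact res_res T le_top i (t l)
  exact RingHom.congr_fun h P

/-- Sections locally given by polynomials in the given sections. -/
def sub (W : S.Opens) : Subring (T.obj (op W)) where
  carrier := {σ | ∀ s ∈ W, ∃ (V : S.Opens) (i : V ≤ W), s ∈ V ∧ T.map (homOfLE i).op σ ∈ (ev T str t V).range}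
  mul_mem' {a b} ha hb s hs := by
    obtain ⟨V₁, i₁, h₁, P, hP⟩ := ha s hs
    obtain ⟨V₂, i₂, h₂, Q, hQ⟩ := hb s hs
    refine ⟨V₁ ⊓ V₂, inf_le_left.trans i₁, ⟨h₁, h₂⟩, ?_⟩
    rw [map_mul]
    refine mul_mem ⟨MvPolynomial.map (S.presheaf.map (homOfLE inf_le_left).op).hom P, ?_⟩
      ⟨MvPolynomial.map (S.presheaf.map (homOfLE inf_le_right).op).hom Q, ?_⟩
    · exact ((res_ev T str t (inf_le_left : V₁ ⊓ V₂ ≤ V₁) P).symm.trans (by rw [hP, res_res]))
    · exact ((res_ev T str t (inf_le_right : V₁ ⊓ V₂ ≤ V₂) Q).symm.trans (by rw [hQ, res_res]))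
  one_mem' s hs := ⟨W, le_rfl, hs, by rw [map_one]; exact one_mem _⟩
  add_mem' {a b} ha hb s hs := by
    obtain ⟨V₁, i₁, h₁, P, hP⟩ := ha s hs
    obtain ⟨V₂, i₂, h₂, Q, hQ⟩ := hb s hs
    refine ⟨V₁ ⊓ V₂, inf_le_left.trans i₁, ⟨h₁, h₂⟩, ?_⟩
    rw [map_add]
    refine add_mem ⟨MvPolynomial.map (S.presheaf.map (homOfLE inf_le_left).op).hom P, ?_⟩
      ⟨MvPolynomial.map (S.presheaf.map (homOfLE inf_le_right).op).hom Q, ?_⟩
    · exact ((res_ev T str t (inf_le_left : V₁ ⊓ V₂ ≤ V₁) P).symm.trans (by rw [hP, res_res]))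
    · exact ((res_ev T str t (inf_le_right : V₁ ⊓ V₂ ≤ V₂) Q).symm.trans (by rw [hQ, res_res]))
  zero_mem' s hs := ⟨W, le_rfl, hs, by rw [map_zero]; exact zero_mem _⟩
  neg_mem' {a} ha s hs := by
    obtain ⟨V, i, h, hV⟩ := ha s hs
    exact ⟨V, i, h, by rw [map_neg]; exact neg_mem hV⟩

theorem ev_mem_sub {U : S.Opens} (P : MvPolynomial (Fin k) Γ(S, U)) : ev T str t U P ∈ sub T str t U :=
  fun s hs => ⟨U, le_rfl, hs, P, by
    rw [show (homOfLE (le_rfl : U ≤ U)).op = 𝟙 (op U) from rfl, CategoryTheory.Functor.map_id]; rfl⟩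

theorem res_mem_sub {U V : S.Opens} (i : V ⟶ U) {x : T.obj (op U)} (hx : x ∈ sub T str t U) :
    T.map i.op x ∈ sub T str t V := fun s hs => by
  obtain ⟨W, j, hsW, P, hP⟩ := hx s (i.le hs)
  refine ⟨W ⊓ V, inf_le_right, ⟨hsW, hs⟩, MvPolynomial.map (S.presheaf.map (homOfLE inf_le_left).op).hom P, ?_⟩
  rw [← res_ev T str t (inf_le_left : W ⊓ V ≤ W), hP, res_res, show i = homOfLE i.le from rfl, res_res]

/-- The subpresheaf of rings. -/
def presheaf : TopCat.Presheaf CommRingCat.{u} S.carrier where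
  obj W := CommRingCat.of (sub T str t W.unop)
  map {U V} i := CommRingCat.ofHom
    (((T.map i).hom.comp (sub T str t U.unop).subtype).codRestrict _ fun x => res_mem_sub T str t i.unop x.2)
  map_id U := by
    refine CommRingCat.hom_ext (RingHom.ext fun x => Subtype.ext ?_)
    exact ConcreteCategory.congr_hom (T.map_id U) x.1
  map_comp {U V W} i j := by
    refine CommRingCat.hom_ext (RingHom.ext fun x => Subtype.ext ?_)
    exact ConcreteCategory.congr_hom (T.map_comp i j) x.1

theorem presheaf_map_val {U V : S.Opens} (i : V ⟶ U) (x : sub T str t U) :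
    (((presheaf T str t).map i.op) x : sub T str t V).1 = T.map i.op x.1 := rfl

/-- The structure map. -/
def strMap : S.presheaf ⟶ presheaf T str t where
  app U := CommRingCat.ofHom ((str.app U).hom.codRestrict _ fun r => by
    have := ev_mem_sub T str t (U := U.unop) (C r)
    rwa [ev, eval₂Hom_C] at this)
  naturality {U V} i := by
    refine CommRingCat.hom_ext (RingHom.ext fun r => Subtype.ext ?_)
    exact ConcreteCategory.congr_hom (str.naturality i) r

variable {T str t} (hT : T.IsSheaf)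

include hT in
theorem isSheaf : (presheaf T str t).IsSheaf := by
  rw [TopCat.Presheaf.isSheaf_iff_isSheafUniqueGluing]
  intro ι W sf hsf
  have hT' := (TopCat.Presheaf.isSheaf_iff_isSheafUniqueGluing T).1 hT
  obtain ⟨σ, hσ, huniq⟩ := hT' W (fun i => (sf i).1) fun i j => congrArg Subtype.val (hsf i j)
  have hmem : σ ∈ sub T str t (iSup W) := fun s hs => by
    obtain ⟨i, hi⟩ := Opens.mem_iSup.1 hs
    obtain ⟨V, j, hsV, hV⟩ := (sf i).2 s hi
    refine ⟨V, j.trans (le_iSup W i), hsV, ?_⟩
    have e : T.map (homOfLE j).op (T.map (homOfLE (le_iSup W i)).op σ) = T.map (homOfLE j).op (sf i).1 :=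
      congrArg (T.map (homOfLE j).op) (hσ i)
    rw [res_res] at e
    exact e ▸ hV
  exact ⟨⟨σ, hmem⟩, fun i => Subtype.ext (hσ i), fun τ hτ =>
    Subtype.ext (huniq τ.1 fun i => congrArg Subtype.val (hτ i))⟩

variable (T str t) in
/-- Polynomial sections vanishing on a basic open of an affine open are killed by a power of the function. -/
def Killed : Prop :=
  ∀ (U : S.Opens), IsAffineOpen U → ∀ (r : Γ(S, U)) (P : MvPolynomial (Fin k) Γ(S, U)),
    T.map (homOfLE (S.basicOpen_le r)).op (ev T str t U P) = 0 → ∃ m : ℕ, ev T str t U (C r ^ m * P) = 0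

/-- Clearing denominators. -/
theorem exists_clear {U : S.Opens} (hU : IsAffineOpen U) (r : Γ(S, U))
    (P : MvPolynomial (Fin k) Γ(S, S.basicOpen r)) :
    ∃ (m : ℕ) (Q : MvPolynomial (Fin k) Γ(S, U)),
      C (S.presheaf.map (homOfLE (S.basicOpen_le r)).op r) ^ m * P =
        MvPolynomial.map (S.presheaf.map (homOfLE (S.basicOpen_le r)).op).hom Q := by
  haveI := hU.isLocalization_basicOpen r
  let ρ := (S.presheaf.map (homOfLE (S.basicOpen_le r)).op).hom
  induction P using MvPolynomial.induction_on' with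
  | monomial e a =>
    obtain ⟨m, a', ha⟩ := IsLocalization.Away.surj r a
    refine ⟨m, monomial e a', ?_⟩
    rw [← map_pow, C_mul_monomial, map_monomial, mul_comm]
    exact congrArg (monomial e) ha
  | add P Q hP hQ =>
    obtain ⟨m, P', hP⟩ := hP
    obtain ⟨l, Q', hQ⟩ := hQ
    refine ⟨m + l, C r ^ l * P' + C r ^ m * Q', ?_⟩
    rw [map_add, map_mul, map_mul, map_pow, map_pow, map_C, ← hP, ← hQ]
    ring

/-- Over an affine open, sections locally given by polynomials are given by polynomials. -/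
theorem exists_ev_eq (hT : T.IsSheaf) (hk : Killed T str t) {U : S.Opens} (hU : IsAffineOpen U)
    (x : T.obj (op U)) (hx : x ∈ sub T str t U) : ∃ P, ev T str t U P = x := by
  classical
  have hloc : ∀ s : U, ∃ g : Γ(S, U), s.1 ∈ S.basicOpen g ∧
      ∃ (m : ℕ) (Q : MvPolynomial (Fin k) Γ(S, U)), T.map (homOfLE (S.basicOpen_le g)).op (ev T str t U Q) =
        T.map (homOfLE (S.basicOpen_le g)).op ((str.app (op U)).hom g ^ m * x) := fun s => by
    obtain ⟨V, i, hsV, P, hP⟩ := hx s.1 s.2
    obtain ⟨g, hg, hsg⟩ := hU.exists_basicOpen_le ⟨s.1, hsV⟩ s.2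
    obtain ⟨m, Q, hQ⟩ := exists_clear hU g (MvPolynomial.map (S.presheaf.map (homOfLE hg).op).hom P)
    refine ⟨g, hsg, m, Q, ?_⟩
    rw [res_ev, ← hQ, map_mul, map_pow, ← res_ev T str t hg, hP, res_res, map_mul, map_pow, res_str]
    simp only [ev, eval₂Hom_C]
  choose g hsg m₀ Q₀ hQ₀ using hloc
  obtain ⟨A, hA⟩ := hU.isCompact.elim_finite_subcover (fun s : U => (S.basicOpen (g s) : Set S))
    (fun s => (S.basicOpen (g s)).isOpen) (fun x hx => Set.mem_iUnion.2 ⟨⟨x, hx⟩, hsg _⟩)
  let m := A.sup m₀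
  let Q : U → MvPolynomial (Fin k) Γ(S, U) := fun a => C (g a) ^ (m - m₀ a) * Q₀ a
  have hQ : ∀ a ∈ A, T.map (homOfLE (S.basicOpen_le (g a))).op (ev T str t U (Q a)) =
      T.map (homOfLE (S.basicOpen_le (g a))).op ((str.app (op U)).hom (g a) ^ m * x) := fun a ha => by
    have hm : m - m₀ a + m₀ a = m := Nat.sub_add_cancel (Finset.le_sup (f := m₀) ha)
    conv_rhs => rw [← hm, pow_add, mul_assoc, map_mul, ← hQ₀]
    simp only [Q, map_mul, map_pow, ev, eval₂Hom_C]
  clear_value Q
  have hkill : ∀ a b : U, ∃ M : ℕ, a ∈ A → b ∈ A →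
      ev T str t U (C (g a * g b) ^ M * (C (g b) ^ m * Q a - C (g a) ^ m * Q b)) = 0 := fun a b => by
    by_cases hab : a ∈ A ∧ b ∈ A
    · have hle : S.basicOpen (g a * g b) ≤ S.basicOpen (g a) ⊓ S.basicOpen (g b) := (S.basicOpen_mul _ _).le
      have hz : T.map (homOfLE (S.basicOpen_le (g a * g b))).op
          (ev T str t U (C (g b) ^ m * Q a - C (g a) ^ m * Q b)) = 0 := by
        have ea := congrArg (T.map (homOfLE (hle.trans inf_le_left)).op) (hQ a hab.1)
        have eb := congrArg (T.map (homOfLE (hle.trans inf_le_right)).op) (hQ b hab.2)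
        rw [res_res, res_res] at ea eb
        rw [map_sub, map_mul, map_mul, map_sub, map_mul, map_mul, ea, eb, map_mul, map_mul]
        simp only [map_pow, ev, eval₂Hom_C]
        ring
      obtain ⟨M, hM⟩ := hk U hU _ _ hz
      exact ⟨M, fun _ _ => hM⟩
    · exact ⟨0, fun ha hb => absurd ⟨ha, hb⟩ hab⟩
  choose M₀ hM₀ using hkill
  let M := A.sup fun a => A.sup (M₀ a)
  let Q' : U → MvPolynomial (Fin k) Γ(S, U) := fun a => C (g a) ^ M * Q a
  let N := m + M
  have hM : ∀ a ∈ A, ∀ b ∈ A, ev T str t U (C (g b) ^ N * Q' a) = ev T str t U (C (g a) ^ N * Q' b) := by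
    intro a ha b hb
    have hle : M₀ a b ≤ M := (Finset.le_sup (f := M₀ a) hb).trans (Finset.le_sup (f := fun c => A.sup (M₀ c)) ha)
    rw [← sub_eq_zero, ← map_sub]
    have e : C (g b) ^ N * Q' a - C (g a) ^ N * Q' b =
        C (g a * g b) ^ (M - M₀ a b) * (C (g a * g b) ^ M₀ a b * (C (g b) ^ m * Q a - C (g a) ^ m * Q b)) := by
      rw [← mul_assoc (C (g a * g b) ^ _), ← pow_add, Nat.sub_add_cancel hle, C_mul, mul_pow]
      simp only [Q', N, pow_add]
      ring
    rw [e, map_mul, hM₀ a b ha hb, mul_zero]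
  have hcov : U ≤ ⨆ a : A, S.basicOpen (g a.1) := fun s hs => by
    obtain ⟨a, ha, hsa⟩ := Set.mem_iUnion₂.1 (hA hs)
    exact Opens.mem_iSup.2 ⟨⟨a, ha⟩, hsa⟩
  have hspan : Ideal.span (Set.range fun a : A => g a.1) = ⊤ := by
    rw [← hU.iSup_basicOpen_eq_self_iff]
    refine le_antisymm (iSup_le fun a => S.basicOpen_le _) (hcov.trans (iSup_le fun a => ?_))
    exact le_iSup (fun z : ↥(Set.range fun a : A => g a.1) => S.basicOpen z.1) ⟨_, a, rfl⟩
  have hspanN : Ideal.span (Set.range fun a : A => g a.1 ^ N) = ⊤ := by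
    have := Ideal.span_pow_eq_top _ hspan N
    rwa [← Set.range_comp] at this
  obtain ⟨c, hc⟩ : ∃ c : A → Γ(S, U), ∑ a : A, c a • g a.1 ^ N = 1 :=
    (Submodule.mem_span_range_iff_exists_fun Γ(S, U)).1 ((Ideal.eq_top_iff_one _).1 hspanN)
  simp only [smul_eq_mul] at hc
  refine ⟨∑ a : A, C (c a) * Q' a.1, ?_⟩
  refine TopCat.Sheaf.eq_of_locally_eq' ⟨T, hT⟩ (fun a : A => S.basicOpen (g a.1)) U
    (fun a => homOfLE (S.basicOpen_le _)) hcov _ _ fun b => ?_
  change T.map _ _ = T.map _ _
  have hu : IsUnit (T.map (homOfLE (S.basicOpen_le (g b.1))).op ((str.app (op U)).hom (g b.1)) ^ N) := by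
    rw [res_str]
    haveI := hU.isLocalization_basicOpen (g b.1)
    exact (IsUnit.map _ (IsLocalization.map_units (M := Submonoid.powers (g b.1)) Γ(S, S.basicOpen (g b.1))
      ⟨g b.1, 1, pow_one (g b.1)⟩)).pow N
  refine hu.mul_left_cancel ?_
  rw [← map_pow, ← map_mul, ← map_mul]
  have e : (str.app (op U)).hom (g b.1) ^ N * ev T str t U (∑ a : A, C (c a) * Q' a.1) = ev T str t U (Q' b.1) := by
    have e1 : ev T str t U (C (g b.1) ^ N * ∑ a : A, C (c a) * Q' a.1) =
        ev T str t U (∑ a : A, C (c a * g a.1 ^ N) * Q' b.1) := by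
      rw [Finset.mul_sum, map_sum, map_sum]
      refine Finset.sum_congr rfl fun a _ => ?_
      rw [mul_left_comm, map_mul (ev T str t U), hM a.1 a.2 b.1 b.2, ← map_mul, C_mul, map_pow C, mul_assoc]
    rw [← Finset.sum_mul, ← map_sum, hc, C_1, one_mul, map_mul, map_pow] at e1
    rw [← e1]
    simp [ev]
  rw [e]
  simp only [Q', map_mul, map_pow, hQ b.1 b.2]
  simp only [N, pow_add, ev, eval₂Hom_C]
  ring

section QCAlg

variable (hk : Killed T str t)

include hT hk

theorem isQC : RelSpec.IsQC (presheaf T str t) (strMap T str t) := by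
  intro U hU r
  let V := S.basicOpen r
  let c : (presheaf T str t).obj (op U) := ((strMap T str t).app (op U)).hom r
  have hVU : V ≤ U := S.basicOpen_le r
  have hres : ∀ n : ℕ, T.map (homOfLE hVU).op ((c : sub T str t U).1 ^ n) =
      ev T str t V (C (S.presheaf.map (homOfLE hVU).op r) ^ n) := fun n => by
    rw [map_pow, map_pow]
    change (T.map (homOfLE hVU).op ((str.app (op U)).hom r)) ^ n = _
    rw [res_str, ev, eval₂Hom_C]
  letI := ((presheaf T str t).map (homOfLE (S.basicOpen_le r)).op).hom.toAlgebra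
  haveI := hU.isLocalization_basicOpen r
  change IsLocalization.Away c _
  refine ⟨⟨?_, ?_, ?_⟩⟩
  · rintro ⟨_, n, rfl⟩
    change IsUnit ((presheaf T str t).map (homOfLE hVU).op (c ^ n))
    rw [map_pow]
    refine IsUnit.pow n ?_
    have e : (presheaf T str t).map (homOfLE hVU).op c =
        ((strMap T str t).app (op V)).hom (S.presheaf.map (homOfLE hVU).op r) :=
      (ConcreteCategory.congr_hom ((strMap T str t).naturality (homOfLE hVU).op) r).symm
    rw [e]
    exact IsUnit.map _ (IsLocalization.map_units (M := Submonoid.powers r) Γ(S, V) ⟨r, 1, pow_one r⟩)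
  · intro z
    obtain ⟨P, hP⟩ := exists_ev_eq hT hk (hU.basicOpen r) z.1 z.2
    obtain ⟨m, Q, hQ⟩ := exists_clear hU r P
    refine ⟨⟨⟨_, ev_mem_sub T str t Q⟩, ⟨c ^ m, m, rfl⟩⟩, Subtype.ext ?_⟩
    change z.1 * T.map (homOfLE hVU).op ((c : sub T str t U).1 ^ m) =
      T.map (homOfLE hVU).op (ev T str t U Q)
    rw [hres, ← hP, res_ev, ← hQ, map_mul, mul_comm]
  · intro x y hxy
    obtain ⟨P, hP⟩ := exists_ev_eq hT hk hU x.1 x.2
    obtain ⟨Q, hQ⟩ := exists_ev_eq hT hk hU y.1 y.2
    have hxy' : T.map (homOfLE hVU).op x.1 = T.map (homOfLE hVU).op y.1 := congrArg Subtype.val hxy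
    have hz : T.map (homOfLE hVU).op (ev T str t U (P - Q)) = 0 := by
      rw [map_sub, map_sub, hP, hQ, hxy', sub_self]
    obtain ⟨m, hm⟩ := hk U hU r _ hz
    refine ⟨⟨c ^ m, m, rfl⟩, Subtype.ext ?_⟩
    rw [map_mul, map_sub, hP, hQ, mul_sub, sub_eq_zero] at hm
    have e : ev T str t U (C r ^ m) = c.1 ^ m := by
      rw [map_pow, ev, eval₂Hom_C]
      rfl
    rw [e] at hm
    exact hm

/-- The quasi-coherent algebra generated by the sections. -/
def qcAlg : RelSpec.QCAlg S where
  presheaf := presheaf T str t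
  isSheaf := isSheaf hT
  str := strMap T str t
  isQC := isQC hT hk

/-- The surjection from polynomials over an affine open. -/
theorem exists_ev_eq' {U : S.Opens} (hU : IsAffineOpen U) (x : sub T str t U) :
    ∃ P : MvPolynomial (Fin k) Γ(S, U), ev T str t U P = x.1 :=
  exists_ev_eq hT hk hU x.1 x.2

end QCAlg

section grading

variable (T str t) in
/-- Relations among the sections are homogeneous. -/
def Homog : Prop :=
  ∀ (U : S.Opens), IsAffineOpen U → ∀ P : MvPolynomial (Fin k) Γ(S, U),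
    ev T str t U P = 0 → ∀ d, ev T str t U (homogeneousComponent d P) = 0

variable (T str t) in
/-- The elements of degree `d`. -/
def degPart (U : S.Opens) (d : ℕ) : AddSubgroup (sub T str t U) where
  carrier := {x | ∃ P : MvPolynomial (Fin k) Γ(S, U), P.IsHomogeneous d ∧ ev T str t U P = x.1}
  zero_mem' := ⟨0, isHomogeneous_zero _ _ _, map_zero _⟩
  add_mem' := by
    rintro a b ⟨P, hP, ea⟩ ⟨Q, hQ, eb⟩
    exact ⟨P + Q, hP.add hQ, by rw [map_add, ea, eb]; rfl⟩
  neg_mem' := by
    rintro a ⟨P, hP, ea⟩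
    exact ⟨-P, hP.neg, by rw [map_neg, ea]; rfl⟩

variable (hk : Killed T str t) (hh : Homog T str t) {U : S.Opens} (hU : IsAffineOpen U)

include hh hU in
theorem ev_component_congr {P Q : MvPolynomial (Fin k) Γ(S, U)} (h : ev T str t U P = ev T str t U Q) (d : ℕ) :
    ev T str t U (homogeneousComponent d P) = ev T str t U (homogeneousComponent d Q) := by
  rw [← sub_eq_zero, ← map_sub, ← map_sub]
  exact hh U hU _ (by rw [map_sub, h, sub_self]) d

/-- The grading over an affine open. -/
@[instance_reducible]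
def gradedRing : GradedRing (degPart T str t U) where
  one_mem := ⟨1, isHomogeneous_one _ _, map_one _⟩
  mul_mem := by
    rintro i j a b ⟨P, hP, ea⟩ ⟨Q, hQ, eb⟩
    exact ⟨P * Q, hP.mul hQ, by rw [map_mul, ea, eb]; rfl⟩
  toDecomposition := by
    classical
    let sel : sub T str t U → MvPolynomial (Fin k) Γ(S, U) := fun x => (exists_ev_eq' hT hk hU x).choose
    have hsel : ∀ x, ev T str t U (sel x) = x.1 := fun x => (exists_ev_eq' hT hk hU x).choose_spec
    let π : ℕ → sub T str t U →+ sub T str t U := fun d =>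
      AddMonoidHom.mk' (fun x => ⟨_, ev_mem_sub T str t (homogeneousComponent d (sel x))⟩) fun x y => Subtype.ext (by
        change _ = ev T str t U (homogeneousComponent d (sel x)) + ev T str t U (homogeneousComponent d (sel y))
        rw [← map_add, ← map_add]
        exact ev_component_congr hh hU (by rw [map_add, hsel, hsel, hsel]; rfl) d)
    have hπ : ∀ (d : ℕ) (x : sub T str t U) (P : MvPolynomial (Fin k) Γ(S, U)), ev T str t U P = x.1 →
        (π d x).1 = ev T str t U (homogeneousComponent d P) := fun d x P hP =>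
      ev_component_congr hh hU ((hsel x).trans hP.symm) d
    refine H11Tilde.decompositionOfProj _ π
      (fun d x => ⟨_, homogeneousComponent_isHomogeneous d (sel x), rfl⟩) ?_ ?_ ?_
    · rintro d x ⟨P, hP, ex⟩
      exact Subtype.ext ((hπ d x P ex).trans (by rw [homogeneousComponent_of_mem hP, if_pos rfl, ex]))
    · rintro d e hde x ⟨P, hP, ex⟩
      exact Subtype.ext ((hπ d x P ex).trans (by rw [homogeneousComponent_of_mem hP, if_neg hde, map_zero]; rfl))
    · intro x
      refine ⟨Finset.range ((sel x).totalDegree + 1), Subtype.ext ?_⟩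
      rw [AddSubmonoidClass.coe_finsetSum]
      change ∑ d ∈ _, ev T str t U (homogeneousComponent d (sel x)) = x.1
      rw [← map_sum, sum_homogeneousComponent, hsel]

/-- The graded quasi-coherent algebra generated by the sections in degree one. -/
def qcGrAlg : RelProj.QCGrAlg S where
  toQCAlg := qcAlg hT hk
  deg U _ := degPart T str t U
  graded U hU := gradedRing hT hk hh hU
  map_mem := by
    rintro U V hU hV i d x ⟨P, hP, ex⟩
    refine ⟨MvPolynomial.map (S.presheaf.map (homOfLE i).op).hom P, hP.map _, ?_⟩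
    rw [← res_ev, ex]
    rfl
  str_mem U hU r := ⟨C r, isHomogeneous_C _ r, eval₂Hom_C _ _ r⟩

include hU in
/-- Every section over an affine open comes from a polynomial. -/
theorem qcGrAlg_surj (x : (qcGrAlg hT hk hh).presheaf.obj (op U)) :
    ∃ P : MvPolynomial (Fin k) Γ(S, U), ev T str t U P = (x : sub T str t U).1 :=
  exists_ev_eq' hT hk hU x

theorem isGenDegOne : (qcGrAlg hT hk hh).IsGenDegOne := by
  intro U hU
  rw [eq_top_iff]
  intro x _
  obtain ⟨P, hP⟩ := exists_ev_eq' hT hk hU x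
  let φ : MvPolynomial (Fin k) Γ(S, U) →+* sub T str t U := (ev T str t U).codRestrict _ (ev_mem_sub T str t)
  rw [show x = φ P from Subtype.ext hP.symm]
  clear hP
  induction P using MvPolynomial.induction_on with
  | C a => exact Subring.subset_closure (Or.inl ⟨C a, isHomogeneous_C _ a, rfl⟩)
  | add P Q hP hQ => rw [map_add]; exact add_mem hP hQ
  | mul_X P l hP =>
    rw [map_mul]
    exact mul_mem hP (Subring.subset_closure (Or.inr ⟨X l, isHomogeneous_X _ l, rfl⟩))

theorem isFTDeg_one : (qcGrAlg hT hk hh).IsFTDeg 1 := by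
  classical
  intro U hU
  let φ : MvPolynomial (Fin k) Γ(S, U) →+* sub T str t U := (ev T str t U).codRestrict _ (ev_mem_sub T str t)
  let g : Fin k → sub T str t U := fun l => φ (X l)
  let T₀ : Finset (sub T str t U) := Finset.univ.image g
  refine ⟨T₀, ?_, ?_⟩
  · have hT₀ : ∀ y : sub T str t U, y ∈ T₀ → y ∈ degPart T str t U 1 := fun y hy => by
      obtain ⟨l, -, rfl⟩ := Finset.mem_image.1 hy
      exact ⟨X l, isHomogeneous_X _ l, rfl⟩
    exact fun y hy => hT₀ y hy
  · rintro x ⟨P, hP, ex⟩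
    refine ⟨fun y => ∑ l ∈ Finset.univ.filter (fun l => g l = y), P.coeff (Finsupp.single l 1), ?_⟩
    have hPsum : P = ∑ l, C (P.coeff (Finsupp.single l 1)) * X l := by
      refine MvPolynomial.ext _ _ fun e => ?_
      rw [coeff_sum]
      simp only [coeff_C_mul, coeff_X, mul_ite, mul_one, mul_zero]
      by_cases he : ∃ l, e = Finsupp.single l 1
      · obtain ⟨l, rfl⟩ := he
        rw [Finset.sum_eq_single l (fun b _ hb => if_neg fun h => hb (Finsupp.single_left_injective one_ne_zero h))
          (fun h => absurd (Finset.mem_univ l) h), if_pos rfl]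
      · push Not at he
        rw [Finset.sum_eq_zero fun l _ => if_neg fun h => he l h.symm]
        by_contra hne
        have := hP hne
        rw [Finsupp.weight_apply] at this
        simp only [Pi.one_apply, smul_eq_mul, mul_one] at this
        obtain ⟨l, hl⟩ := Finsupp.sum_eq_one_iff _ |>.1 this
        exact he l hl
    let st : Γ(S, U) →+* sub T str t U := ((strMap T str t).app (op U)).hom
    change (x : sub T str t U) = ∑ y ∈ T₀,
      st (∑ l ∈ Finset.univ.filter (fun l => g l = y), P.coeff (Finsupp.single l 1)) * y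
    rw [show x = φ P from Subtype.ext ex.symm, hPsum, map_sum]
    rw [← Finset.sum_fiberwise_of_maps_to (t := T₀) (g := g)
      (fun l _ => Finset.mem_image_of_mem g (Finset.mem_univ l))]
    refine Finset.sum_congr rfl fun y _ => ?_
    rw [map_sum, Finset.sum_mul]
    refine Finset.sum_congr rfl fun l hl => ?_
    rw [← (Finset.mem_filter.1 hl).2, map_mul, ← hPsum]
    congr 1
    exact Subtype.ext (eval₂Hom_C _ _ _)

end grading

end Groth.Agent.H11Proj.ImageAlg
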