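import Groth.Agent.H11Proj.RelProjBasicOpen
import Mathlib.RingTheory.GradedAlgebra.Radical

/-!
# An essentially reduced algebra with integral dominant relative Proj is integral
-/

set_option autoImplicit false
universe u

open CategoryTheory CategoryTheory.Limits AlgebraicGeometry TopologicalSpace Opposite RelProj
open scoped HomogeneousIdeal

namespace Groth.Agent.H11Proj

/-- A homogeneous element with empty basic open is nilpotent when of positive degree. -/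
theorem isNilpotent_of_basicOpen_eq_bot {A σ : Type u} [CommRing A] [SetLike σ A] [AddSubgroupClass σ A]
    (𝒜 : ℕ → σ) [GradedRing 𝒜] {i : ℕ} {x : A} (hi : 0 < i) (hx : x ∈ 𝒜 i)
    (h : Proj.basicOpen 𝒜 x = ⊥) : IsNilpotent x := by
  rw [← mem_nilradical, nilradical, Ideal.zero_eq_bot, (Ideal.IsHomogeneous.bot 𝒜).radical_eq,
    Submodule.mem_sInf]
  rintro J ⟨hJ, -, hJp⟩
  by_contra hxJ
  let y : Proj 𝒜 := ⟨⟨J, hJ⟩, hJp, fun hle => hxJ (hle (by
    show x ∈ 𝒜₊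
    rw [HomogeneousIdeal.mem_irrelevant_iff, GradedRing.proj_apply, DirectSum.decompose_of_mem_ne 𝒜 hx hi.ne']))⟩
  have hy : y ∈ Proj.basicOpen 𝒜 x := hxJ
  rw [h] at hy
  exact hy.elim

variable {Y P : Scheme.{u}} {𝒮 : QCGrAlg Y} {p : P ⟶ Y}
variable {chart : ∀ (U : Y.Opens) (hU : IsAffineOpen U), (((p ⁻¹ᵁ U : P.Opens) : Scheme.{u}) ≅ Proj (𝒮.deg U hU))}

/-- Over the non-vanishing locus of a function the charts avoid its image in degree zero. -/
theorem chart_mem_basicOpen_str (hP : IsRelProj 𝒮 p chart) {U : Y.Opens} (hU : IsAffineOpen U) (r : Γ(Y, U))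
    (z : (p ⁻¹ᵁ Y.basicOpen r : Scheme.{u})) :
    (chart U hU).hom (P.homOfLE (p.preimage_mono (Y.basicOpen_le r)) z) ∈
      Proj.basicOpen (𝒮.deg U hU) ((𝒮.str.app (op U)).hom r) := by
  let i := P.homOfLE (p.preimage_mono (Y.basicOpen_le r))
  have e : i ⁻¹ᵁ ((chart U hU).hom ⁻¹ᵁ Proj.basicOpen (𝒮.deg U hU) ((𝒮.str.app (op U)).hom r)) =
      (chart _ (hU.basicOpen r)).hom ⁻¹ᵁ Proj.basicOpen (𝒮.deg _ (hU.basicOpen r))
        ((𝒮.presheaf.map (homOfLE (Y.basicOpen_le r)).op).hom ((𝒮.str.app (op U)).hom r)) := by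
    rw [← Scheme.Hom.comp_preimage, hP.chart_res U hU r, Scheme.Hom.comp_preimage,
      Proj.map_preimage_basicOpen]
    rfl
  refine (e.ge : _) ?_
  show (chart _ (hU.basicOpen r)).hom z ∈ Proj.basicOpen _ _
  rw [show (𝒮.presheaf.map (homOfLE (Y.basicOpen_le r)).op).hom ((𝒮.str.app (op U)).hom r) =
    (𝒮.str.app (op (Y.basicOpen r))).hom (Y.presheaf.map (homOfLE (Y.basicOpen_le r)).op r) from
    (congr($(𝒮.str.naturality (homOfLE (Y.basicOpen_le r)).op) r)).symm]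
  exact fun h => ((chart _ (hU.basicOpen r)).hom z).isPrime.ne_top (Ideal.eq_top_of_isUnit_mem _ h
    ((Y.toRingedSpace.isUnit_res_basicOpen r).map _))

/-- An essentially reduced algebra with integral dominant relative Proj has integral sections. -/
theorem isDomain_of_isIntegral_relProj [IsIntegral Y]
    (h0 : ∀ (U : Y.Opens) (hU : IsAffineOpen U), Function.Bijective (𝒮.strZero U hU).hom)
    (hred : ∀ (U : Y.Opens) (hU : IsAffineOpen U) (x : 𝒮.presheaf.obj (op U)),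
      x ∈ (𝒮.deg U hU)₊ → IsNilpotent x → x = 0)
    (hP : IsRelProj 𝒮 p chart) [IsIntegral P] (hdom : DenseRange p.base)
    (U : Y.Opens) (hU : IsAffineOpen U) (hne : (U : Set Y).Nonempty) :
    IsDomain (𝒮.presheaf.obj (op U)) ∧ ((𝒮.deg U hU)₊).toIdeal ≠ ⊥ := by
  classical
  let A := 𝒮.presheaf.obj (op U)
  let 𝒜 := 𝒮.deg U hU
  have : Nonempty U := hne.coe_sort
  obtain ⟨z₀, hz₀⟩ := hdom.exists_mem_open U.2 hne
  have : Nonempty (p ⁻¹ᵁ U : P.Opens) := ⟨⟨z₀, hz₀⟩⟩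
  have : IsIntegral (p ⁻¹ᵁ U : P.Opens).toScheme := isIntegral_of_isOpenImmersion (p ⁻¹ᵁ U).ι
  have : Nonempty (Proj 𝒜) := ⟨(chart U hU).hom ⟨z₀, hz₀⟩⟩
  have : IsIntegral (Proj 𝒜) := isIntegral_of_isOpenImmersion (chart U hU).inv
  have hirr : (𝒜₊).toIdeal ≠ ⊥ := fun h => by
    exact ((chart U hU).hom ⟨z₀, hz₀⟩).not_irrelevant_le (h.le.trans bot_le)
  -- positive degree
  have hpos : ∀ {i : ℕ} {x : A}, 0 < i → x ∈ 𝒜 i → Proj.basicOpen 𝒜 x = ⊥ → x = 0 := fun {i x} hi hx h =>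
    hred U hU x (by
      show x ∈ 𝒜₊
      rw [HomogeneousIdeal.mem_irrelevant_iff, GradedRing.proj_apply, DirectSum.decompose_of_mem_ne 𝒜 hx hi.ne'])
      (isNilpotent_of_basicOpen_eq_bot 𝒜 hi hx h)
  -- degree zero
  have hzero : ∀ {x : A}, x ∈ 𝒜 0 → x ≠ 0 → Proj.basicOpen 𝒜 x ≠ ⊥ := by
    intro x hx hxne hbot
    obtain ⟨r, hr⟩ := (h0 U hU).2 ⟨x, hx⟩
    have hrx : (𝒮.str.app (op U)).hom r = x := congrArg Subtype.val hr
    have hrne : r ≠ 0 := fun h => hxne (by rw [← hrx, h, map_zero])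
    have hD : (Y.basicOpen r : Set Y).Nonempty := by
      rw [Set.nonempty_iff_ne_empty]
      intro he
      exact hrne (basicOpen_eq_bot_iff r |>.1 (Opens.ext he))
    obtain ⟨z, hz⟩ := hdom.exists_mem_open (Y.basicOpen r).2 hD
    have := chart_mem_basicOpen_str hP hU r ⟨z, hz⟩
    rw [hrx] at this
    exact (hbot ▸ this :)
  have hnt : Nontrivial A := ⟨⟨0, 1, fun h01 => hirr (eq_bot_iff.2 fun a _ => by
    rw [Submodule.mem_bot, ← mul_one a, ← h01, mul_zero])⟩⟩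
  refine ⟨?_, hirr⟩
  suffices (⊥ : Ideal A).IsPrime by exact IsDomain.of_bot_isPrime A
  refine (Ideal.IsHomogeneous.bot 𝒜).isPrime_of_homogeneous_mem_or_mem bot_ne_top ?_
  rintro x y ⟨i, hx⟩ ⟨j, hy⟩ hxy
  rw [Submodule.mem_bot] at hxy ⊢
  rw [Submodule.mem_bot]
  by_contra hne'
  push Not at hne'
  have hb : ∀ {k : ℕ} {t : A}, t ∈ 𝒜 k → t ≠ 0 → Proj.basicOpen 𝒜 t ≠ ⊥ := fun {k t} ht hne hbot => by
    rcases Nat.eq_zero_or_pos k with rfl | hk
    · exact hzero ht hne hbot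
    · exact hne (hpos hk ht hbot)
  have hN : ∀ {V : (Proj 𝒜).Opens}, V ≠ ⊥ → (V : Set (Proj 𝒜)).Nonempty := fun {V} hV =>
    Set.nonempty_iff_ne_empty.2 fun he => hV (Opens.ext he)
  obtain ⟨w, hw⟩ := nonempty_preirreducible_inter (Proj.basicOpen 𝒜 x).2 (Proj.basicOpen 𝒜 y).2
    (hN (hb hx hne'.1)) (hN (hb hy hne'.2))
  have hw' : w ∈ Proj.basicOpen 𝒜 (x * y) := by rw [Proj.basicOpen_mul]; exact hw
  rw [hxy, Proj.basicOpen_zero] at hw'
  exact hw'.elim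

end Groth.Agent.H11Proj
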