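import Groth.Agent.H11Proj.Monomials
import Groth.Agent.H11Proj.DegZeroProj
import Groth.Agent.H11Proj.ProjMap
import Groth.Agent.H11Proj.Spectrum
import Mathlib.Algebra.Polynomial.AlgebraMap
import Mathlib.RingTheory.Polynomial.Basic

/-!
# The graded ring `S♮ = ⊕ₙ S_{≥ n}`
-/

set_option autoImplicit false
universe u

namespace Groth.Agent.H11Proj.Natural

open DirectSum

variable {R A B : Type u} [CommRing R] [CommRing A] [Algebra R A]
  (𝒜 : ℕ → Submodule R A) [GradedAlgebra 𝒜] [CommRing B] [Algebra R B] {ℬ : ℕ → Submodule R B} [GradedAlgebra ℬ]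

/-- The elements whose components of degree `< n` vanish. -/
def tail (n : ℕ) : Submodule R A := ⨆ (m : ℕ) (_ : n ≤ m), 𝒜 m

omit [GradedAlgebra 𝒜] in
theorem mem_tail_of_mem {n m : ℕ} (h : n ≤ m) {a : A} (ha : a ∈ 𝒜 m) : a ∈ tail 𝒜 n :=
  Submodule.mem_iSup_of_mem m (Submodule.mem_iSup_of_mem h ha)

theorem mem_tail_iff {n : ℕ} {a : A} : a ∈ tail 𝒜 n ↔ ∀ k < n, (decompose 𝒜 a k : A) = 0 := by
  classical
  constructor
  · intro h k hk
    have hle : tail 𝒜 n ≤ LinearMap.ker (GradedAlgebra.proj 𝒜 k) :=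
      iSup₂_le fun m hm x hx => by
        simp only [LinearMap.mem_ker, GradedAlgebra.proj_apply]
        exact decompose_of_mem_ne 𝒜 hx (by omega)
    exact hle h
  · intro h
    rw [← sum_support_decompose 𝒜 a]
    refine sum_mem fun k _ => ?_
    by_cases hk : k < n
    · rw [h k hk]; exact zero_mem _
    · exact mem_tail_of_mem 𝒜 (not_lt.1 hk) (decompose 𝒜 a k).2

theorem tail_zero : tail 𝒜 0 = ⊤ := eq_top_iff.2 fun a _ => (mem_tail_iff 𝒜).2 fun k hk => absurd hk (Nat.not_lt_zero k)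

theorem tail_mul_le (n m : ℕ) : tail 𝒜 n * tail 𝒜 m ≤ tail 𝒜 (n + m) := by
  rw [Submodule.mul_le]
  intro x hx y hy
  classical
  rw [← sum_support_decompose 𝒜 x, ← sum_support_decompose 𝒜 y, Finset.sum_mul_sum]
  refine sum_mem fun i _ => sum_mem fun j _ => ?_
  by_cases hi : i < n
  · rw [(mem_tail_iff 𝒜).1 hx i hi, zero_mul]; exact zero_mem _
  by_cases hj : j < m
  · rw [(mem_tail_iff 𝒜).1 hy j hj, mul_zero]; exact zero_mem _
  exact mem_tail_of_mem 𝒜 (add_le_add (not_lt.1 hi) (not_lt.1 hj))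
    (graded_mul_mem 𝒜 (decompose 𝒜 x i).2 (decompose 𝒜 y j).2)

theorem mul_mem_tail {n m : ℕ} {x y : A} (hx : x ∈ tail 𝒜 n) (hy : y ∈ tail 𝒜 m) : x * y ∈ tail 𝒜 (n + m) :=
  tail_mul_le 𝒜 n m (Submodule.mul_mem_mul hx hy)

theorem decompose_mul_tail {n m : ℕ} {x y : A} (hx : x ∈ tail 𝒜 n) (hy : y ∈ tail 𝒜 m) :
    (decompose 𝒜 (x * y) (n + m) : A) = (decompose 𝒜 x n : A) * (decompose 𝒜 y m : A) := by
  classical
  have h1 : x - (decompose 𝒜 x n : A) ∈ tail 𝒜 (n + 1) := (mem_tail_iff 𝒜).2 fun k hk => by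
    rw [decompose_sub, DirectSum.sub_apply, Submodule.coe_sub]
    rcases Nat.lt_succ_iff_lt_or_eq.1 hk with hk | rfl
    · rw [(mem_tail_iff 𝒜).1 hx k hk, decompose_of_mem_ne 𝒜 (decompose 𝒜 x n).2 (by omega), sub_zero]
    · rw [decompose_of_mem_same 𝒜 (decompose 𝒜 x k).2, sub_self]
  have h2 : y - (decompose 𝒜 y m : A) ∈ tail 𝒜 (m + 1) := (mem_tail_iff 𝒜).2 fun k hk => by
    rw [decompose_sub, DirectSum.sub_apply, Submodule.coe_sub]
    rcases Nat.lt_succ_iff_lt_or_eq.1 hk with hk | rfl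
    · rw [(mem_tail_iff 𝒜).1 hy k hk, decompose_of_mem_ne 𝒜 (decompose 𝒜 y m).2 (by omega), sub_zero]
    · rw [decompose_of_mem_same 𝒜 (decompose 𝒜 y k).2, sub_self]
  have e : x * y = (decompose 𝒜 x n : A) * (decompose 𝒜 y m : A) +
      ((x - (decompose 𝒜 x n : A)) * y + (decompose 𝒜 x n : A) * (y - (decompose 𝒜 y m : A))) := by ring
  have h3 : (x - (decompose 𝒜 x n : A)) * y + (decompose 𝒜 x n : A) * (y - (decompose 𝒜 y m : A)) ∈
      tail 𝒜 (n + m + 1) := by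
    refine add_mem ?_ ?_
    · have := mul_mem_tail 𝒜 h1 hy
      rwa [add_right_comm] at this
    · rw [add_assoc]
      exact mul_mem_tail 𝒜 (mem_tail_of_mem 𝒜 le_rfl (decompose 𝒜 x n).2) h2
  conv_lhs => rw [e, decompose_add, DirectSum.add_apply, Submodule.coe_add,
    (mem_tail_iff 𝒜).1 h3 (n + m) (Nat.lt_succ_self _), add_zero,
    decompose_of_mem_same 𝒜 (graded_mul_mem 𝒜 (decompose 𝒜 x n).2 (decompose 𝒜 y m).2)]

variable {𝒜} (φ : B →ₐ[R] Polynomial A) (hφ : Function.Injective φ)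
  (hdeg : ∀ n : ℕ, Submodule.map φ.toLinearMap (ℬ n) =
      Submodule.map ((Polynomial.monomial n : A →ₗ[A] Polynomial A).restrictScalars R) (tail 𝒜 n))

include hdeg in
omit [GradedAlgebra 𝒜] [GradedAlgebra ℬ] in
theorem map_eq_monomial {n : ℕ} {b : B} (hb : b ∈ ℬ n) :
    φ b = Polynomial.monomial n ((φ b).coeff n) ∧ (φ b).coeff n ∈ tail 𝒜 n := by
  obtain ⟨c, hc, he⟩ := (hdeg n).le (Submodule.mem_map_of_mem hb)
  simp only [LinearMap.coe_restrictScalars, AlgHom.toLinearMap_apply] at he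
  rw [← he, Polynomial.coeff_monomial_same]
  exact ⟨rfl, hc⟩

include hdeg in
omit [GradedAlgebra 𝒜] [GradedAlgebra ℬ] in
theorem exists_lift {n : ℕ} {c : A} (hc : c ∈ tail 𝒜 n) : ∃ b ∈ ℬ n, φ b = Polynomial.monomial n c := by
  obtain ⟨b, hb, he⟩ := (hdeg n).ge (Submodule.mem_map_of_mem hc)
  exact ⟨b, hb, he⟩

include hφ hdeg in
omit [GradedAlgebra 𝒜] [GradedAlgebra ℬ] in
/-- Equality of degree-`n` submodules can be read off on the coefficients. -/
theorem eq_iff_coeff {n : ℕ} {P : Submodule R B} {Q : Submodule R A}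
    (hPQ : Submodule.map φ.toLinearMap P =
      Submodule.map ((Polynomial.monomial n : A →ₗ[A] Polynomial A).restrictScalars R) Q) :
    ℬ n = P ↔ tail 𝒜 n = Q := by
  rw [← (Submodule.map_injective_of_injective (f := φ.toLinearMap) hφ).eq_iff, hdeg, hPQ]
  exact (Submodule.map_injective_of_injective
    (f := (Polynomial.monomial n : A →ₗ[A] Polynomial A).restrictScalars R)
    (Polynomial.monomial_injective n)).eq_iff

omit [GradedAlgebra 𝒜] in
theorem map_monomial_mul (i j : ℕ) (P Q : Submodule R A) :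
    Submodule.map ((Polynomial.monomial (i + j) : A →ₗ[A] Polynomial A).restrictScalars R) (P * Q) =
      Submodule.map ((Polynomial.monomial i : A →ₗ[A] Polynomial A).restrictScalars R) P *
        Submodule.map ((Polynomial.monomial j : A →ₗ[A] Polynomial A).restrictScalars R) Q := by
  refine le_antisymm ?_ ?_
  · rw [Submodule.map_le_iff_le_comap, Submodule.mul_le]
    intro x hx y hy
    rw [Submodule.mem_comap, LinearMap.coe_restrictScalars, ← Polynomial.monomial_mul_monomial]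
    exact Submodule.mul_mem_mul ⟨x, hx, rfl⟩ ⟨y, hy, rfl⟩
  · rw [Submodule.mul_le]
    rintro _ ⟨x, hx, rfl⟩ _ ⟨y, hy, rfl⟩
    refine ⟨x * y, Submodule.mul_mem_mul hx hy, ?_⟩
    simp [Polynomial.monomial_mul_monomial]

include hdeg in
omit [GradedAlgebra 𝒜] [GradedAlgebra ℬ] in
theorem map_mul_succ (n : ℕ) :
    Submodule.map φ.toLinearMap (ℬ 1 * ℬ n) =
      Submodule.map ((Polynomial.monomial (n + 1) : A →ₗ[A] Polynomial A).restrictScalars R) (tail 𝒜 1 * tail 𝒜 n) := by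
  rw [add_comm n 1, map_monomial_mul, ← hdeg, ← hdeg]
  exact Submodule.map_mul _ _ φ

include hdeg in
omit [GradedAlgebra 𝒜] [GradedAlgebra ℬ] in
theorem map_pow_one (n : ℕ) (hn : 1 ≤ n) :
    Submodule.map φ.toLinearMap (ℬ 1 ^ n) =
      Submodule.map ((Polynomial.monomial n : A →ₗ[A] Polynomial A).restrictScalars R) (tail 𝒜 1 ^ n) := by
  induction n, hn using Nat.le_induction with
  | base => simpa using hdeg 1
  | succ n hn ih =>
    rw [pow_succ, pow_succ, map_monomial_mul, ← ih, ← hdeg]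
    exact Submodule.map_mul _ _ φ

end Groth.Agent.H11Proj.Natural

namespace Groth.Agent.H11Proj.Natural

open DirectSum

variable {R A B : Type u} [CommRing R] [CommRing A] [Algebra R A]
  {𝒜 : ℕ → Submodule R A} [GradedAlgebra 𝒜] [CommRing B] [Algebra R B] {ℬ : ℕ → Submodule R B} [GradedAlgebra ℬ]
  (φ : B →ₐ[R] Polynomial A) (hφ : Function.Injective φ)
  (hdeg : ∀ n : ℕ, Submodule.map φ.toLinearMap (ℬ n) =
      Submodule.map ((Polynomial.monomial n : A →ₗ[A] Polynomial A).restrictScalars R) (tail 𝒜 n))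

variable (𝒜) in
/-- Taking in each degree `n` the component of degree `n`. -/
noncomputable def diag : Polynomial A →ₗ[R] A := Polynomial.lsum fun n => GradedAlgebra.proj 𝒜 n

theorem diag_monomial (n : ℕ) (a : A) : diag 𝒜 (Polynomial.monomial n a) = (decompose 𝒜 a n : A) := by
  simp [diag, Polynomial.lsum_apply, Polynomial.sum_monomial_index]

include hdeg in
/-- The canonical surjection `S♮ → S`. -/
theorem exists_retract : ∃ ρ : B →+* A, Function.Surjective ρ ∧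
    ∀ n, ∀ b ∈ ℬ n, ρ b = (decompose 𝒜 ((φ b).coeff n) n : A) := by
  classical
  have h : ∀ n, ∀ b ∈ ℬ n, diag 𝒜 (φ b) = (decompose 𝒜 ((φ b).coeff n) n : A) := fun n b hb => by
    conv_lhs => rw [(map_eq_monomial φ hdeg hb).1]
    exact diag_monomial n _
  let f : B →+ A := ((diag 𝒜).comp φ.toLinearMap).toAddMonoidHom
  have hf : ∀ a b, f (a * b) = f a * f b := fun a b => by
    refine eq_on_homogeneous ℬ (g₁ := f.comp (AddMonoidHom.mulRight b))
      (g₂ := (AddMonoidHom.mulRight (f b)).comp f) (fun i x hx => ?_) a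
    refine eq_on_homogeneous ℬ (g₁ := f.comp (AddMonoidHom.mulLeft x))
      (g₂ := (AddMonoidHom.mulLeft (f x)).comp f) (fun j y hy => ?_) b
    change diag 𝒜 (φ (x * y)) = diag 𝒜 (φ x) * diag 𝒜 (φ y)
    obtain ⟨ex, hx'⟩ := map_eq_monomial φ hdeg hx
    obtain ⟨ey, hy'⟩ := map_eq_monomial φ hdeg hy
    rw [map_mul, ex, ey, Polynomial.monomial_mul_monomial, diag_monomial, diag_monomial, diag_monomial,
      decompose_mul_tail 𝒜 hx' hy']
  have h1 : f 1 = 1 := by
    change diag 𝒜 (φ 1) = 1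
    rw [map_one, ← Polynomial.monomial_zero_one, diag_monomial,
      decompose_of_mem_same 𝒜 SetLike.GradedOne.one_mem]
  refine ⟨{ f with map_one' := h1, map_mul' := hf }, fun a => ?_, h⟩
  suffices a ∈ f.range from this
  rw [← sum_support_decompose 𝒜 a]
  refine sum_mem fun n _ => ?_
  obtain ⟨b, hb, he⟩ := exists_lift φ hdeg (mem_tail_of_mem 𝒜 le_rfl (decompose 𝒜 a n).2)
  refine ⟨b, ?_⟩
  change diag 𝒜 (φ b) = _
  rw [he, diag_monomial, decompose_of_mem_same 𝒜 (decompose 𝒜 a n).2]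

include hφ hdeg in
theorem finiteType_of_finiteType [Algebra.FiniteType (𝒜 0) A] : Algebra.FiniteType (ℬ 0) B := by
  classical
  obtain ⟨E, hE, h⟩ := exists_finset_posHom_adjoin 𝒜
  obtain ⟨deg, hdg, hpos⟩ := exists_degree_fun 𝒜 hE
  have hspan := irrelevant_le_span_of_adjoin_eq_top 𝒜 hE h
  let G : Set B := {b | ∃ e ∈ E, ∃ j ≤ deg e, b ∈ ℬ j ∧ φ b = Polynomial.monomial j e}
  have hG : G.Finite := by
    have : G ⊆ φ ⁻¹' ((fun q : A × ℕ => Polynomial.monomial q.2 q.1) '' ↑(E ×ˢ Finset.range (E.sup deg + 1))) := by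
      rintro b ⟨e, he, j, hj, -, hb⟩
      exact ⟨(e, j), Finset.mem_product.2 ⟨he, Finset.mem_range.2 (Nat.lt_succ_of_le (hj.trans (Finset.le_sup he)))⟩, hb.symm⟩
    exact ((Finset.finite_toSet _).image _ |>.preimage hφ.injOn).subset this
  set S := Algebra.adjoin (ℬ 0) G
  have key : ∀ m : ℕ, ∀ c ∈ 𝒜 m, ∀ n ≤ m, ∀ b ∈ ℬ n, φ b = Polynomial.monomial n c → b ∈ S := by
    intro m
    induction m using Nat.strong_induction_on with
    | _ m ih =>
      intro c hc n hn b hb he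
      rcases Nat.eq_zero_or_pos m with rfl | hm
      · obtain rfl : n = 0 := Nat.le_zero.1 hn
        exact Subalgebra.algebraMap_mem S (⟨b, hb⟩ : ℬ 0)
      have hcl := mem_closure_of_mem_span 𝒜 deg hdg hc (hspan (mem_irrelevant_of_pos 𝒜 hm hc))
      suffices ∃ b' ∈ S, φ b' = Polynomial.monomial n c by
        obtain ⟨b', hb', he'⟩ := this
        exact hφ (he.trans he'.symm) ▸ hb'
      clear hc he hb b
      induction hcl using AddSubmonoid.closure_induction with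
      | zero => exact ⟨0, zero_mem _, by rw [map_zero, Polynomial.monomial_zero_right]⟩
      | add x y _ _ hx hy =>
        obtain ⟨bx, hbx, ex⟩ := hx
        obtain ⟨by', hby, ey⟩ := hy
        exact ⟨bx + by', add_mem hbx hby, by rw [map_add, ex, ey, map_add]⟩
      | mem z hz =>
        obtain ⟨e, he, j, x, hx, hj, rfl⟩ := hz
        obtain ⟨u, hu, hue⟩ := exists_lift φ hdeg
          (mem_tail_of_mem 𝒜 (show min n (deg e) ≤ deg e from min_le_right _ _) (hdg e he))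
        obtain ⟨v, hv, hve⟩ := exists_lift φ hdeg
          (mem_tail_of_mem 𝒜 (show n - min n (deg e) ≤ j by omega) hx)
        refine ⟨v * u, mul_mem (ih j (by have := hpos e he; omega) x hx _ (by omega) v hv hve)
          (Algebra.subset_adjoin ⟨e, he, _, min_le_right _ _, hu, hue⟩), ?_⟩
        rw [map_mul, hue, hve, Polynomial.monomial_mul_monomial, Nat.sub_add_cancel (min_le_left _ _)]
  refine ⟨hG.toFinset, ?_⟩
  rw [Set.Finite.coe_toFinset]
  refine top_le_iff.1 fun b _ => ?_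
  rw [← sum_support_decompose ℬ b]
  refine sum_mem fun n _ => ?_
  obtain ⟨hb, hc⟩ := map_eq_monomial φ hdeg (decompose ℬ b n).2
  set c := (φ (decompose ℬ b n : B)).coeff n
  choose l hl hle using fun m (hm : n ≤ m) => exists_lift φ hdeg (mem_tail_of_mem 𝒜 hm (decompose 𝒜 c m).2)
  have : (decompose ℬ b n : B) = ∑ m ∈ (decompose 𝒜 c).support, if hm : n ≤ m then l m hm else 0 := by
    apply hφ
    rw [hb, map_sum]
    conv_lhs => rw [← sum_support_decompose 𝒜 c, map_sum]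
    refine Finset.sum_congr rfl fun m _ => ?_
    split_ifs with hm
    · rw [hle]
    · rw [map_zero, (mem_tail_iff 𝒜).1 hc m (not_le.1 hm), Polynomial.monomial_zero_right]
  rw [this]
  refine sum_mem fun m _ => ?_
  split_ifs with hm
  · exact key m _ (decompose 𝒜 c m).2 n hm _ (hl m hm) (hle m hm)
  · exact zero_mem _

include hdeg in
theorem finiteType_of_finiteType' [Algebra.FiniteType (ℬ 0) B] : Algebra.FiniteType (𝒜 0) A := by
  obtain ⟨ρ, hρs, hρ⟩ := exists_retract φ hdeg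
  obtain ⟨s, hs⟩ := Algebra.FiniteType.out (R := ℬ 0) (A := B)
  classical
  refine ⟨s.image ρ, ?_⟩
  rw [Finset.coe_image]
  refine top_le_iff.1 fun a ha => ?_
  clear ha
  obtain ⟨b, rfl⟩ := hρs a
  have hb : b ∈ Algebra.adjoin (ℬ 0) (s : Set B) := hs ▸ Algebra.mem_top
  induction hb using Algebra.adjoin_induction with
  | mem x hx => exact Algebra.subset_adjoin ⟨x, hx, rfl⟩
  | algebraMap r =>
    change ρ (r : B) ∈ _
    rw [hρ 0 _ r.2]
    exact Subalgebra.algebraMap_mem _ (decompose 𝒜 ((φ (r : B)).coeff 0) 0)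
  | add x y _ _ hx hy => rw [map_add]; exact add_mem hx hy
  | mul x y _ _ hx hy => rw [map_mul]; exact mul_mem hx hy

include hφ hdeg in
theorem bijective_coeff_zero :
    Function.Bijective fun b : ℬ 0 => (φ (b : B)).coeff 0 := by
  refine ⟨fun b b' h => Subtype.ext (hφ ?_), fun a => ?_⟩
  · rw [(map_eq_monomial φ hdeg b.2).1, (map_eq_monomial φ hdeg b'.2).1]
    exact congrArg _ h
  · obtain ⟨b, hb, he⟩ := exists_lift φ hdeg (n := 0) (c := a) (by rw [tail_zero]; trivial)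
    exact ⟨⟨b, hb⟩, by simp [he]⟩

include hφ hdeg in
theorem isNoetherianRing_natural_iff : IsNoetherianRing B ↔ IsNoetherianRing A := by
  constructor
  · intro h
    obtain ⟨ρ, hρs, -⟩ := exists_retract φ hdeg
    exact isNoetherianRing_of_surjective B A ρ hρs
  · intro h
    obtain ⟨h0, hft⟩ := (isNoetherianRing_iff 𝒜).1 h
    have := finiteType_of_finiteType φ hφ hdeg
    let c : ℬ 0 →+* A :=
      { toFun := fun b => (φ (b : B)).coeff 0
        map_one' := by simp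
        map_mul' := fun x y => by simp [map_mul, Polynomial.mul_coeff_zero]
        map_zero' := by simp
        map_add' := fun x y => by simp }
    have : IsNoetherianRing (ℬ 0) :=
      isNoetherianRing_of_ringEquiv A (RingEquiv.ofBijective c (bijective_coeff_zero φ hφ hdeg)).symm
    exact Algebra.FiniteType.isNoetherianRing (ℬ 0) B

end Groth.Agent.H11Proj.Natural

namespace Groth.Agent.H11Proj.Natural

open DirectSum

variable {R A B C : Type u} [CommRing R] [CommRing A] [Algebra R A]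
  {𝒜 : ℕ → Submodule R A} [GradedAlgebra 𝒜] [CommRing B] [Algebra R B] {ℬ : ℕ → Submodule R B} [GradedAlgebra ℬ]
  (φ : B →ₐ[R] Polynomial A) (hφ : Function.Injective φ)
  (hdeg : ∀ n : ℕ, Submodule.map φ.toLinearMap (ℬ n) =
      Submodule.map ((Polynomial.monomial n : A →ₗ[A] Polynomial A).restrictScalars R) (tail 𝒜 n))
  [CommRing C] [Algebra R C] {𝒞 : ℕ → Submodule R C} [GradedAlgebra 𝒞]
  (π : ℬ →+*ᵍ 𝒞) (hπ : Function.Surjective π)
  (hker : RingHom.ker π.toRingHom =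
    Ideal.span (⇑φ ⁻¹' (⇑(Polynomial.C : A →+* Polynomial A) '' ((HomogeneousIdeal.irrelevant 𝒜).toIdeal : Set A))))
  (ρ : 𝒞 →+*ᵍ 𝒜) (hρ : ∀ (n : ℕ) (b : B), b ∈ ℬ n → ρ (π b) = GradedRing.proj 𝒜 n ((φ b).coeff n))

include hdeg hπ hρ in
theorem exists_mem_of_mem_graded {n : ℕ} {z : C} (hz : z ∈ 𝒞 n) :
    ∃ b ∈ ℬ n, π b = z ∧ ρ z = (decompose 𝒜 ((φ b).coeff n) n : A) := by
  obtain ⟨b', hb'⟩ := hπ z
  refine ⟨(decompose ℬ b' n : B), (decompose ℬ b' n).2, ?_, ?_⟩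
  · rw [map_proj π b' n, hb', decompose_of_mem_same 𝒞 hz]
  · have := hρ n _ (decompose ℬ b' n).2
    rwa [map_proj π b' n, hb', decompose_of_mem_same 𝒞 hz] at this

include hdeg hπ hρ in
theorem ρ_surjOn (n : ℕ) : Set.SurjOn ρ (𝒞 n) (𝒜 n) := by
  intro a ha
  obtain ⟨b, hb, he⟩ := exists_lift φ hdeg (mem_tail_of_mem 𝒜 le_rfl ha)
  refine ⟨π b, π.2 hb, ?_⟩
  rw [hρ n b hb, he, Polynomial.coeff_monomial_same, GradedRing.proj_apply, decompose_of_mem_same 𝒜 ha]

include hdeg hker in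
theorem π_eq_zero_of_mul {n : ℕ} {b : B} (hb : b ∈ ℬ n) {x y : A}
    (hx : x ∈ (HomogeneousIdeal.irrelevant 𝒜).toIdeal) (hy : y ∈ tail 𝒜 n) (hφ : Function.Injective φ)
    (he : φ b = Polynomial.monomial n (x * y)) : π b = 0 := by
  obtain ⟨u, hu, hue⟩ := exists_lift φ hdeg (n := 0) (c := x) (by rw [tail_zero]; trivial)
  obtain ⟨v, hv, hve⟩ := exists_lift φ hdeg hy
  have : b = u * v := hφ (by rw [he, map_mul φ, hue, hve, Polynomial.monomial_mul_monomial, zero_add])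
  rw [this]
  refine (hker.ge ?_ : u * v ∈ RingHom.ker π.toRingHom)
  exact Ideal.mul_mem_right _ _ (Ideal.subset_span ⟨x, hx, by rw [hue, Polynomial.monomial_zero_left]⟩)

omit [CommRing B] [Algebra R B] [GradedAlgebra ℬ] in
theorem mem_irrelevant_of_mem_tail {n : ℕ} (hn : 0 < n) {c : A} (hc : c ∈ tail 𝒜 n) :
    c ∈ (HomogeneousIdeal.irrelevant 𝒜).toIdeal := by
  change GradedRing.proj 𝒜 0 c = 0
  rw [GradedRing.proj_apply]
  exact (mem_tail_iff 𝒜).1 hc 0 hn

omit [CommRing B] [Algebra R B] [GradedAlgebra ℬ] in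
theorem mem_tail_succ {n : ℕ} {c : A} (hc : c ∈ tail 𝒜 n) (h : (decompose 𝒜 c n : A) = 0) :
    c ∈ tail 𝒜 (n + 1) :=
  (mem_tail_iff 𝒜).2 fun k hk => (Nat.lt_succ_iff_lt_or_eq.1 hk).elim ((mem_tail_iff 𝒜).1 hc k) fun e => e ▸ h

omit [CommRing B] [Algebra R B] [GradedAlgebra ℬ] in
theorem pow_mem_tail {n : ℕ} {c : A} (hc : c ∈ tail 𝒜 n) (k : ℕ) : c ^ k ∈ tail 𝒜 (k * n) := by
  induction k with
  | zero => rw [zero_mul, tail_zero]; trivial
  | succ k ih => rw [pow_succ, Nat.succ_mul]; exact mul_mem_tail 𝒜 ih hc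

include hdeg hπ hρ hker hφ in
theorem isNilpotent_of_ρ_eq_zero (z : C) (hz : ρ z = 0) : IsNilpotent z := by
  classical
  rw [← sum_support_decompose 𝒞 z]
  refine isNilpotent_sum fun n _ => ?_
  have hzn : ρ (decompose 𝒞 z n : C) = 0 := by
    rw [map_proj ρ z n, hz, decompose_zero]; rfl
  obtain ⟨b, hb, hπb, hρb⟩ := exists_mem_of_mem_graded φ hdeg π hπ ρ hρ (decompose 𝒞 z n).2
  obtain ⟨hbe, hc⟩ := map_eq_monomial φ hdeg hb
  set c := (φ b).coeff n
  have hc1 : c ∈ tail 𝒜 (n + 1) := mem_tail_succ hc (hρb ▸ hzn)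
  refine ⟨n + 1, ?_⟩
  rw [← hπb, ← map_pow]
  refine π_eq_zero_of_mul φ hdeg π hker (n := (n + 1) * n) ?_ (x := c) (y := c ^ n)
    (mem_irrelevant_of_mem_tail n.succ_pos hc1) ?_ hφ ?_
  · simpa using SetLike.pow_mem_graded (n + 1) hb
  · rw [mul_comm (n + 1) n]; exact pow_mem_tail hc1 n
  · rw [map_pow, hbe, Polynomial.monomial_pow, pow_succ', mul_comm (n + 1) n]

include hdeg hπ hρ hker hφ in
theorem bijOn_ρ {n₀ : ℕ} (h : ∀ n : ℕ, n₀ ≤ n → 𝒜 (n + 1) = 𝒜 1 * 𝒜 n) {n : ℕ} (hn : n₀ ≤ n) :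
    Set.BijOn ρ (𝒞 n) (𝒜 n) := by
  refine ⟨fun z hz => ρ.2 hz, fun z hz w hw hzw => ?_, ρ_surjOn φ hdeg π hπ ρ hρ n⟩
  classical
  rw [← sub_eq_zero] at hzw ⊢
  rw [← map_sub] at hzw
  obtain ⟨b, hb, hπb, hρb⟩ := exists_mem_of_mem_graded φ hdeg π hπ ρ hρ (sub_mem hz hw)
  obtain ⟨hbe, hc⟩ := map_eq_monomial φ hdeg hb
  set c := (φ b).coeff n
  have hc1 : c ∈ tail 𝒜 (n + 1) := mem_tail_succ hc (hρb ▸ hzw)
  rw [← hπb]
  suffices ∀ c ∈ tail 𝒜 (n + 1), ∀ b ∈ ℬ n, φ b = Polynomial.monomial n c → π b = 0 from this c hc1 b hb hbe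
  intro c hc b hb he
  have hmem : c ∈ 𝒜 1 * tail 𝒜 n := by
    refine (show tail 𝒜 (n + 1) ≤ _ from iSup₂_le fun m hm => ?_) hc
    obtain ⟨j, rfl⟩ : ∃ j, m = j + 1 := ⟨m - 1, by omega⟩
    rw [h j (by omega)]
    exact mul_le_mul' le_rfl fun x hx => mem_tail_of_mem 𝒜 (by omega) hx
  suffices ∃ b' ∈ ℬ n, π b' = 0 ∧ φ b' = Polynomial.monomial n c by
    obtain ⟨b', -, h0, he'⟩ := this
    exact hφ (he.trans he'.symm) ▸ h0
  clear he hc
  induction hmem using Submodule.mul_induction_on' with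
  | mem_mul_mem x hx y hy =>
    have hxy : x * y ∈ tail 𝒜 n := by
      simpa using mul_mem_tail 𝒜 (mem_tail_of_mem 𝒜 (Nat.zero_le 1) hx) hy
    obtain ⟨b', hb', he'⟩ := exists_lift φ hdeg hxy
    exact ⟨b', hb', π_eq_zero_of_mul φ hdeg π hker hb' (mem_irrelevant_of_pos 𝒜 one_pos hx) hy hφ he', he'⟩
  | add x _ y _ hx hy =>
    obtain ⟨bx, hbx, hx0, ex⟩ := hx
    obtain ⟨by', hby, hy0, ey⟩ := hy
    exact ⟨bx + by', add_mem hbx hby, by rw [map_add, hx0, hy0, add_zero], by rw [map_add, ex, ey, map_add]⟩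

end Groth.Agent.H11Proj.Natural
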