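import Groth.Prelude.Def_PCone
import Groth.Agent.H11Proj.ProjMap

/-!
# The morphism `G(φ) → Proj A` induced by an arbitrary graded homomorphism
-/

set_option autoImplicit false
universe u

namespace Groth.Agent.H11Proj.PConeLib

open CategoryTheory CategoryTheory.Limits AlgebraicGeometry HomogeneousLocalization DirectSum

variable {R A B : Type u} [CommRing R] [CommRing A] [Algebra R A] {𝒜 : ℕ → Submodule R A} [GradedAlgebra 𝒜]
  [CommRing B] [Algebra R B] {ℬ : ℕ → Submodule R B} [GradedAlgebra ℬ] (φ : 𝒜 →+*ᵍ ℬ)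

theorem away_map_awayMap {d e : ℕ} {f g : A} (hf : f ∈ 𝒜 d) (hg : g ∈ 𝒜 e) {x : A} (hx : x = f * g) :
    (Away.map φ x).comp (awayMap 𝒜 hg hx) =
      (awayMap ℬ (φ.2 hg) (by rw [hx, map_mul] : φ x = φ f * φ g)).comp (Away.map φ f) := by
  refine RingHom.ext fun z => ?_
  obtain ⟨n, a, ha, rfl⟩ := Away.mk_surjective 𝒜 hf z
  simp only [RingHom.comp_apply]
  rw [awayMap_mk, Away.map_mk φ x (hx ▸ SetLike.mul_mem_graded hf hg) n,
    Away.map_mk φ f hf n a ha, awayMap_mk]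
  apply val_injective
  simp

@[reassoc]
theorem chart_ι {d : ℕ} {f : A} (hf : f ∈ 𝒜 d) (hd : 0 < d) :
    PCone.chart φ hf hd ≫ (PCone.dom φ).ι = Proj.awayι ℬ (φ f) (φ.2 hf) hd :=
  IsOpenImmersion.lift_fac _ _ _

theorem isOpenImmersion_chart {d : ℕ} {f : A} (hf : f ∈ 𝒜 d) (hd : 0 < d) :
    IsOpenImmersion (PCone.chart φ hf hd) := by
  have : IsOpenImmersion (PCone.chart φ hf hd ≫ (PCone.dom φ).ι) := by
    rw [chart_ι]; infer_instance
  exact IsOpenImmersion.of_comp _ (PCone.dom φ).ι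

theorem opensRange_chart {d : ℕ} {f : A} (hf : f ∈ 𝒜 d) (hd : 0 < d) [IsOpenImmersion (PCone.chart φ hf hd)] :
    (PCone.chart φ hf hd).opensRange = (PCone.dom φ).ι ⁻¹ᵁ Proj.basicOpen ℬ (φ f) := by
  have h := Proj.opensRange_awayι ℬ (φ f) (φ.2 hf) hd
  rw [← h]
  ext x
  constructor
  · rintro ⟨y, rfl⟩
    exact ⟨y, by rw [← chart_ι φ hf hd]; rfl⟩
  · rintro ⟨y, hy⟩
    rw [← chart_ι φ hf hd] at hy
    exact ⟨y, (PCone.dom φ).ι.isOpenEmbedding.injective hy⟩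

theorem mem_dom_iff (x : Proj ℬ) :
    x ∈ PCone.dom φ ↔ ∃ d, 0 < d ∧ ∃ f ∈ 𝒜 d, x ∈ Proj.basicOpen ℬ (φ f) := by
  rw [PCone.dom, TopologicalSpace.Opens.mem_iSup]
  exact ⟨fun ⟨⟨f, d, hd, hf⟩, hx⟩ => ⟨d, hd, f, hf, hx⟩, fun ⟨d, hd, f, hf, hx⟩ => ⟨⟨f, d, hd, hf⟩, hx⟩⟩

theorem exists_chart_eq (x : (PCone.dom φ : Scheme.{u})) :
    ∃ (d : ℕ) (f : A) (hd : 0 < d) (hf : f ∈ 𝒜 d), ∃ y, (PCone.chart φ hf hd).base y = x := by
  obtain ⟨d, hd, f, hf, hx⟩ := (mem_dom_iff φ _).1 x.2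
  have := isOpenImmersion_chart φ hf hd
  have h : x ∈ (PCone.chart φ hf hd).opensRange := by rw [opensRange_chart]; exact hx
  exact ⟨d, f, hd, hf, h⟩

/-- The standard cover of `G(φ)`. -/
noncomputable def domCover : (PCone.dom φ : Scheme.{u}).OpenCover :=
  .mkOfCovers (Σ i : PNat, 𝒜 i) (fun j => Spec (CommRingCat.of (Away ℬ (φ (j.2 : A)))))
    (fun j => PCone.chart φ j.2.2 j.1.2)
    (fun x => by
      obtain ⟨d, f, hd, hf, y, hy⟩ := exists_chart_eq φ x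
      exact ⟨⟨⟨d, hd⟩, f, hf⟩, y, hy⟩)
    (fun j => isOpenImmersion_chart φ j.2.2 j.1.2)

theorem retraction_ext {X : Scheme.{u}} {p q : (PCone.dom φ : Scheme.{u}) ⟶ X}
    (h : ∀ (d : ℕ) (f : A) (hd : 0 < d) (hf : f ∈ 𝒜 d), PCone.chart φ hf hd ≫ p = PCone.chart φ hf hd ≫ q) :
    p = q :=
  (domCover φ).hom_ext _ _ fun j => h _ _ j.1.2 j.2.2

theorem exists_retraction :
    ∃ p : (PCone.dom φ : Scheme.{u}) ⟶ Proj 𝒜, ∀ (d : ℕ) (f : A) (hd : 0 < d) (hf : f ∈ 𝒜 d),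
      PCone.chart φ hf hd ≫ p =
        Spec.map (CommRingCat.ofHom (Away.map φ f)) ≫ Proj.awayι 𝒜 f hf hd := by
  let g : ∀ j : (Σ i : PNat, 𝒜 i), Spec (CommRingCat.of (Away ℬ (φ (j.2 : A)))) ⟶ Proj 𝒜 :=
    fun j => Spec.map (CommRingCat.ofHom (Away.map φ (j.2 : A))) ≫ Proj.awayι 𝒜 (j.2 : A) j.2.2 j.1.2
  have hg : ∀ s t : (Σ i : PNat, 𝒜 i),
      pullback.fst ((domCover φ).f s) ((domCover φ).f t) ≫ g s =
        pullback.snd ((domCover φ).f s) ((domCover φ).f t) ≫ g t := by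
    rintro ⟨i, f, hf⟩ ⟨l, k, hk⟩
    have hd : 0 < (i : ℕ) := i.2
    have he : 0 < (l : ℕ) := l.2
    change pullback.fst (PCone.chart φ hf hd) (PCone.chart φ hk he) ≫ _ =
      pullback.snd (PCone.chart φ hf hd) (PCone.chart φ hk he) ≫ _
    have hf' : φ f ∈ ℬ (i : ℕ) := φ.2 hf
    have hk' : φ k ∈ ℬ (l : ℕ) := φ.2 hk
    let π : pullback (PCone.chart φ hf hd) (PCone.chart φ hk he) ⟶
        pullback (Proj.awayι ℬ (φ f) hf' hd) (Proj.awayι ℬ (φ k) hk' he) :=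
      pullback.lift (pullback.fst _ _) (pullback.snd _ _) (by
        rw [← chart_ι φ hf hd, ← chart_ι φ hk he, ← Category.assoc, pullback.condition, Category.assoc])
    have hπ1 : π ≫ pullback.fst _ _ = pullback.fst (PCone.chart φ hf hd) (PCone.chart φ hk he) :=
      pullback.lift_fst _ _ _
    have hπ2 : π ≫ pullback.snd _ _ = pullback.snd (PCone.chart φ hf hd) (PCone.chart φ hk he) :=
      pullback.lift_snd _ _ _
    rw [← hπ1, ← hπ2, Category.assoc, Category.assoc]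
    congr 1
    have hxy : φ (f * k) = φ f * φ k := map_mul φ f k
    rw [← cancel_epi (Proj.pullbackAwayιIso ℬ hf' hd hk' he hxy).inv,
      Proj.pullbackAwayιIso_inv_fst_assoc, Proj.pullbackAwayιIso_inv_snd_assoc]
    simp only [g]
    rw [← Spec.map_comp_assoc, ← Spec.map_comp_assoc, ← CommRingCat.ofHom_comp, ← CommRingCat.ofHom_comp,
      ← away_map_awayMap φ hf hk rfl, ← away_map_awayMap φ hk hf (mul_comm f k)]
    rw [CommRingCat.ofHom_comp, CommRingCat.ofHom_comp, Spec.map_comp_assoc, Spec.map_comp_assoc,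
      Proj.SpecMap_awayMap_awayι, Proj.SpecMap_awayMap_awayι]
    rfl
  refine ⟨(domCover φ).glueMorphisms g hg, fun d f hd hf => ?_⟩
  exact (domCover φ).ι_glueMorphisms g hg ⟨⟨d, hd⟩, ⟨f, hf⟩⟩

variable (p : (PCone.dom φ : Scheme.{u}) ⟶ Proj 𝒜) (hp : ∀ (d : ℕ) (f : A) (hd : 0 < d) (hf : f ∈ 𝒜 d),
  PCone.chart φ hf hd ≫ p = Spec.map (CommRingCat.ofHom (Away.map φ f)) ≫ Proj.awayι 𝒜 f hf hd)

include hp

theorem retraction_preimage {d : ℕ} {f : A} (hf : f ∈ 𝒜 d) (hd : 0 < d) :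
    p ⁻¹ᵁ Proj.basicOpen 𝒜 f = (PCone.dom φ).ι ⁻¹ᵁ Proj.basicOpen ℬ (φ f) := by
  ext x
  obtain ⟨e, g, he, hg, y, rfl⟩ := exists_chart_eq φ x
  change y ∈ (PCone.chart φ hg he ≫ p) ⁻¹ᵁ Proj.basicOpen 𝒜 f ↔
    y ∈ (PCone.chart φ hg he ≫ (PCone.dom φ).ι) ⁻¹ᵁ Proj.basicOpen ℬ (φ f)
  rw [hp, chart_ι, Scheme.Hom.comp_preimage, Proj.awayι_preimage_basicOpen 𝒜 hg he hf hd,
    Proj.awayι_preimage_basicOpen ℬ (show φ g ∈ ℬ e from φ.2 hg) he (show φ f ∈ ℬ d from φ.2 hf) hd]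
  have h : Away.map φ g (Away.isLocalizationElem hg hf) = Away.isLocalizationElem (φ.2 hg) (φ.2 hf) := by
    apply val_injective
    simp [Away.isLocalizationElem, Away.map_mk φ g hg]
  change Away.map φ g (Away.isLocalizationElem hg hf) ∉ y.asIdeal ↔
    Away.isLocalizationElem (φ.2 hg) (φ.2 hf) ∉ y.asIdeal
  rw [h]

theorem isPullback_chart {d : ℕ} {f : A} (hf : f ∈ 𝒜 d) (hd : 0 < d) :
    IsPullback (Spec.map (CommRingCat.ofHom (Away.map φ f))) (PCone.chart φ hf hd)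
      (Proj.awayι 𝒜 f hf hd) p := by
  have := isOpenImmersion_chart φ hf hd
  apply IsOpenImmersion.isPullback
  · exact hp d f hd hf
  · rw [Proj.opensRange_awayι, opensRange_chart, retraction_preimage φ p hp hf hd]

theorem retraction_of_away {P : MorphismProperty Scheme.{u}} [IsZariskiLocalAtTarget P]
    (H : ∀ (i : ℕ) (s : A), 0 < i → s ∈ 𝒜 i → P (Spec.map (CommRingCat.ofHom (Away.map φ s)))) :
    P p := by
  refine IsZariskiLocalAtTarget.of_openCover (Proj.affineOpenCover 𝒜).openCover fun j => ?_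
  have h := (isPullback_chart φ p hp j.2.2 j.1.2).flip
  have hj := H j.1 j.2.1 j.1.2 j.2.2
  rw [← h.isoPullback_hom_snd] at hj
  exact (P.cancel_left_of_respectsIso _ _).1 hj

omit hp in
theorem dom_eq_top_of_exists_pow
    (h : ∀ (k : ℕ), 0 < k → ∀ b ∈ ℬ k, ∃ m : ℕ, ∃ d, 0 < d ∧ ∃ a ∈ 𝒜 d, φ a = b ^ (m + 1)) :
    PCone.dom φ = ⊤ := by
  refine eq_top_iff.2 fun x _ => (mem_dom_iff φ x).2 ?_
  obtain ⟨k, hk, b, hb, hbx⟩ : ∃ k, 0 < k ∧ ∃ b ∈ ℬ k, b ∉ x.asHomogeneousIdeal.toIdeal := by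
    by_contra hc
    push Not at hc
    exact x.not_irrelevant_le ((irrelevant_le_iff ℬ).2 fun d hd a ha => hc d hd a ha)
  obtain ⟨m, d, hd, a, ha, he⟩ := h k hk b hb
  refine ⟨d, hd, a, ha, ?_⟩
  rw [he]
  exact fun hm => hbx (x.isPrime.mem_of_pow_mem _ hm)

end Groth.Agent.H11Proj.PConeLib

namespace Groth.Agent.H11Proj.PConeLib

open CategoryTheory AlgebraicGeometry HomogeneousLocalization

theorem specMap_awayι_of_id {A σ : Type u} [CommRing A] [SetLike σ A] [AddSubgroupClass σ A] {𝒜 : ℕ → σ}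
    [GradedRing 𝒜] {d : ℕ} {f s : A} (hf : f ∈ 𝒜 d) (hs : s ∈ 𝒜 d) (hd : 0 < d) (e : s = f)
    (c : Away 𝒜 f →+* Away 𝒜 s)
    (hc : ∀ (n : ℕ) (a : A) (ha : a ∈ 𝒜 (n • d)), c (Away.mk 𝒜 hf n a ha) = Away.mk 𝒜 hs n a ha) :
    Spec.map (CommRingCat.ofHom c) ≫ Proj.awayι 𝒜 f hf hd = Proj.awayι 𝒜 s hs hd := by
  subst e
  have h : c = RingHom.id _ := RingHom.ext fun z => by
    obtain ⟨n, a, ha, rfl⟩ := Away.mk_surjective 𝒜 hf z
    exact hc n a ha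
  rw [h]
  simp

end Groth.Agent.H11Proj.PConeLib
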