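import Groth.Prelude.Def_RelProj2
import Groth.Agent.H11Proj.RelProjMap
import Groth.Agent.H11Aff.RelSpecUniv

/-!
# The relative Proj of a polynomial algebra in one variable
-/

set_option autoImplicit false
set_option linter.style.haveILetI false
set_option linter.unusedSectionVars false

universe u

open CategoryTheory CategoryTheory.Limits AlgebraicGeometry TopologicalSpace Opposite
open HomogeneousLocalization
open scoped HomogeneousIdeal

noncomputable section

namespace Groth.Agent.H11Proj.PolyProj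

section ring

variable {C B σ : Type u} [CommRing C] [CommRing B] [SetLike σ B] [AddSubgroupClass σ B] {ℬ : ℕ → σ} [GradedRing ℬ]
  {ι : C →+* B} {z : B} (hι : ∀ a, ι a ∈ ℬ 0) (hz : z ∈ ℬ 1) (hb : Function.Bijective (Polynomial.eval₂RingHom ι z))

include hι hz hb in
theorem exists_eq_mul_pow {k : ℕ} {b : B} (h : b ∈ ℬ k) : ∃ a, b = ι a * z ^ k := by
  classical
  obtain ⟨q, rfl⟩ := hb.2 b
  refine ⟨q.coeff k, ?_⟩
  have hterm : ∀ i, ι (q.coeff i) * z ^ i ∈ ℬ i := fun i => by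
    simpa using SetLike.mul_mem_graded (hι (q.coeff i)) (SetLike.pow_mem_graded i hz)
  refine (DirectSum.decompose_of_mem_same ℬ h).symm.trans ?_
  rw [Polynomial.coe_eval₂RingHom, Polynomial.eval₂_eq_sum, Polynomial.sum, DirectSum.decompose_sum,
    DFinsupp.finsetSum_apply, AddSubmonoidClass.coe_finsetSum, Finset.sum_eq_single k]
  · exact DirectSum.decompose_of_mem_same ℬ (hterm k)
  · exact fun i _ hik => DirectSum.decompose_of_mem_ne ℬ (hterm i) hik
  · intro hk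
    rw [Polynomial.notMem_support_iff.1 hk, map_zero, zero_mul, DirectSum.decompose_zero]
    rfl

include hι hz hb in
theorem irrelevant_le : (ℬ₊).toIdeal ≤ Ideal.span {z} := by
  rw [HomogeneousIdeal.toIdeal_irrelevant_le]
  intro k hk b h
  obtain ⟨a, rfl⟩ := exists_eq_mul_pow hι hz hb h
  obtain ⟨m, rfl⟩ := Nat.exists_eq_succ_of_ne_zero hk.ne'
  exact Ideal.mem_span_singleton.2 ⟨ι a * z ^ m, by rw [Nat.succ_eq_add_one]; ring⟩

include hι hz hb in
theorem isIso_awayι : IsIso (Proj.awayι ℬ z hz one_pos) := by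
  haveI : Epi (Proj.awayι ℬ z hz one_pos).base := by
    rw [TopCat.epi_iff_surjective]
    intro y
    have h : y ∈ (Proj.awayι ℬ z hz one_pos).opensRange := by
      rw [Proj.opensRange_awayι]
      intro hy
      exact y.not_irrelevant_le ((irrelevant_le hι hz hb).trans ((Ideal.span_singleton_le_iff_mem _).2 hy))
    exact h
  exact (isIso_iff_isOpenImmersion_and_epi_base _).2 ⟨inferInstance, inferInstance⟩

include hι hz hb in
theorem exists_val_eq (q : Away ℬ z) :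
    ∃ (k : ℕ) (a : C), q.val = Localization.mk (ι a * z ^ k) ⟨z ^ k, pow_mem (Submonoid.mem_powers z) k⟩ := by
  obtain ⟨k, b, hb', rfl⟩ := Away.mk_surjective ℬ hz q
  obtain ⟨a, ha⟩ := exists_eq_mul_pow hι hz hb (k := k) (by simpa using hb')
  exact ⟨k, a, by rw [Away.val_mk]; simp only [← ha]⟩

theorem val_eq_of {a : C} {k : ℕ} :
    Localization.mk (ι a * z ^ k) (⟨z ^ k, pow_mem (Submonoid.mem_powers z) k⟩ : Submonoid.powers z) =
      algebraMap B (Localization.Away z) (ι a) := by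
  rw [Localization.mk_eq_mk', ← IsLocalization.mk'_one (M := Submonoid.powers z), IsLocalization.mk'_eq_iff_eq]
  simp [mul_comm]

variable {θ : Away ℬ z →+* C}
  (hθ : ∀ (q : Away ℬ z) (k : ℕ) (a : C),
    q.val = Localization.mk (ι a * z ^ k) ⟨z ^ k, pow_mem (Submonoid.mem_powers z) k⟩ → θ q = a)

include hι hz hb hθ in
theorem val_eq (q : Away ℬ z) : q.val = algebraMap B (Localization.Away z) (ι (θ q)) := by
  obtain ⟨k, a, h⟩ := exists_val_eq hι hz hb q
  rw [hθ q k a h, h, val_eq_of]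

include hθ in
theorem θ_eq (q : Away ℬ z) {a : C} (h : q.val = algebraMap B (Localization.Away z) (ι a)) : θ q = a :=
  hθ q 0 a (h.trans val_eq_of.symm)

include hι hz hb hθ in
theorem bijective_θ : Function.Bijective θ := by
  refine ⟨fun q q' h => HomogeneousLocalization.val_injective _ ?_, fun a => ?_⟩
  · rw [val_eq hι hz hb hθ q, val_eq hι hz hb hθ q', h]
  · refine ⟨fromZeroRingHom ℬ (Submonoid.powers z) ⟨ι a, hι a⟩, θ_eq hθ _ ?_⟩
    rw [← Localization.mk_one_eq_algebraMap]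
    rfl

end ring

theorem awayι_congr {B σ B' σ' : Type u} [CommRing B] [SetLike σ B] [AddSubgroupClass σ B] {ℬ : ℕ → σ} [GradedRing ℬ]
    [CommRing B'] [SetLike σ' B'] [AddSubgroupClass σ' B'] {ℬ' : ℕ → σ'} [GradedRing ℬ']
    (ψ : ℬ →+*ᵍ ℬ') (hψ : ℬ'₊ ≤ (ℬ₊).map ψ) {C C' : CommRingCat.{u}} {z : B} (hz : z ∈ ℬ 1) {z' : B'}
    (e : z' = ψ z) (hz' : z' ∈ ℬ' 1) (θ : CommRingCat.of (Away ℬ z) ⟶ C) (θ' : CommRingCat.of (Away ℬ' z') ⟶ C')
    (ρ : C ⟶ C')
    (h : ∀ (q : Away ℬ z) (q' : Away ℬ' z'),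
      (∀ (a : B) (k : ℕ), q.val = Localization.mk a ⟨z ^ k, pow_mem (Submonoid.mem_powers z) k⟩ →
        q'.val = Localization.mk (ψ a) ⟨z' ^ k, pow_mem (Submonoid.mem_powers z') k⟩) → θ' q' = ρ (θ q)) :
    Spec.map ρ ≫ Spec.map θ ≫ Proj.awayι ℬ z hz one_pos =
      Spec.map θ' ≫ Proj.awayι ℬ' z' hz' one_pos ≫ Proj.map ψ hψ := by
  subst e
  rw [Proj.awayι_comp_map, ← Category.assoc, ← Category.assoc, ← Spec.map_comp, ← Spec.map_comp]
  refine congrArg (· ≫ Proj.awayι ℬ z hz one_pos) (congrArg Spec.map (CommRingCat.hom_ext (RingHom.ext fun q => ?_)))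
  refine (h q (Away.map ψ z q) fun a k hq => ?_).symm
  obtain ⟨n, b, hb, rfl⟩ := Away.mk_surjective ℬ hz q
  rw [Away.map_mk, Away.val_mk]
  rw [Away.val_mk, Localization.mk_eq_mk_iff, Localization.r_iff_exists] at hq
  obtain ⟨⟨_, j, rfl⟩, hc⟩ := hq
  rw [Localization.mk_eq_mk_iff, Localization.r_iff_exists]
  refine ⟨⟨ψ z ^ j, j, rfl⟩, ?_⟩
  simpa only [map_mul, map_pow] using congrArg ψ hc

variable {Y P : Scheme.{u}} (𝒜 : RelSpec.QCAlg Y) (Sh : RelProj.QCGrAlg Y) (ι : 𝒜 ⟶ Sh.toQCAlg)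
  (hι : ∀ (U : Y.Opens) (hU : IsAffineOpen U) (a : 𝒜.presheaf.obj (op U)), (ι.hom.app (op U)).hom a ∈ Sh.deg U hU 0)
  (z : Sh.presheaf.obj (op ⊤))
  (hz : ∀ (U : Y.Opens) (hU : IsAffineOpen U), (Sh.presheaf.map (homOfLE le_top).op).hom z ∈ Sh.deg U hU 1)
  (hpoly : ∀ (U : Y.Opens) (hU : IsAffineOpen U),
    Function.Bijective (Polynomial.eval₂RingHom (ι.hom.app (op U)).hom ((Sh.presheaf.map (homOfLE le_top).op).hom z)))
  (p : P ⟶ Y)
  (chart : ∀ (U : Y.Opens) (hU : IsAffineOpen U), (((p ⁻¹ᵁ U : P.Opens) : Scheme.{u}) ≅ Proj (Sh.deg U hU)))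
  (hP : RelProj.IsRelProj Sh p chart)
  (θ : ∀ (U : Y.Opens) (hU : IsAffineOpen U),
    CommRingCat.of (HomogeneousLocalization.Away (Sh.deg U hU) ((Sh.presheaf.map (homOfLE le_top).op).hom z)) ⟶
      𝒜.presheaf.obj (op U))
  (hθ : ∀ (U : Y.Opens) (hU : IsAffineOpen U)
    (q : HomogeneousLocalization.Away (Sh.deg U hU) ((Sh.presheaf.map (homOfLE le_top).op).hom z))
    (k : ℕ) (a : 𝒜.presheaf.obj (op U)),
      q.val = Localization.mk ((ι.hom.app (op U)).hom a * (Sh.presheaf.map (homOfLE le_top).op).hom z ^ k)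
        ⟨(Sh.presheaf.map (homOfLE le_top).op).hom z ^ k,
          pow_mem (Submonoid.mem_powers ((Sh.presheaf.map (homOfLE le_top).op).hom z)) k⟩ →
      (θ U hU).hom q = a)

/-- The chart of the comparison. -/
def gU (U : Y.Opens) (hU : IsAffineOpen U) : Spec (𝒜.presheaf.obj (op U)) ⟶ P :=
  Spec.map (θ U hU) ≫
    Proj.awayι (Sh.deg U hU) ((Sh.presheaf.map (homOfLE le_top).op).hom z) (hz U hU) one_pos ≫
      RelProj.emb p chart U hU

include hι hpoly hP hθ in
theorem gU_res (U : Y.Opens) (hU : IsAffineOpen U) (r : Γ(Y, U)) :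
    Spec.map (𝒜.presheaf.map (homOfLE (Y.basicOpen_le r)).op) ≫ gU 𝒜 Sh z hz p chart θ U hU =
      gU 𝒜 Sh z hz p chart θ (Y.basicOpen r) (hU.basicOpen r) := by
  let ψ := Sh.res hU (hU.basicOpen r) (Y.basicOpen_le r)
  have ez : (Sh.presheaf.map (homOfLE le_top).op).hom z =
      ψ ((Sh.presheaf.map (homOfLE le_top).op).hom z) := by
    change _ = (Sh.presheaf.map _).hom ((Sh.presheaf.map _).hom z)
    rw [← CommRingCat.comp_apply, ← Functor.map_comp]
    rfl
  have h := awayι_congr ψ (Sh.irrelevant_le_map U hU r) (hz U hU) ez (hz _ (hU.basicOpen r)) (θ U hU)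
    (θ _ (hU.basicOpen r)) (𝒜.presheaf.map (homOfLE (Y.basicOpen_le r)).op) fun q q' hq => by
      obtain ⟨k, a, ha⟩ := exists_val_eq (hι U hU) (hz U hU) (hpoly U hU) q
      rw [hθ U hU q k a ha]
      refine hθ _ _ q' k _ ((hq _ k ha).trans (congrArg (fun b => Localization.mk b _) ?_))
      rw [map_mul, map_pow, ← ez]
      exact congrArg (· * _) (ConcreteCategory.congr_hom (ι.hom.naturality (homOfLE (Y.basicOpen_le r)).op) a).symm
  simp only [gU]
  rw [← RelProj.map_res_emb hP U hU r]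
  have h2 := congrArg (· ≫ RelProj.emb p chart U hU) h
  simp only [Category.assoc] at h2 ⊢
  exact h2

include hι hz hpoly hP hθ in
theorem gU_over (U : Y.Opens) (hU : IsAffineOpen U) :
    gU 𝒜 Sh z hz p chart θ U hU ≫ p = Spec.map (𝒜.str.app (op U)) ≫ hU.fromSpec := by
  simp only [gU, RelProj.emb, Category.assoc]
  rw [← hP.chart_over U hU, Iso.inv_hom_id_assoc, Proj.awayι_toSpecZero_assoc, ← Spec.map_comp_assoc,
    ← Spec.map_comp_assoc]
  refine congrArg (fun φ => Spec.map φ ≫ hU.fromSpec) (CommRingCat.hom_ext (RingHom.ext fun r => ?_))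
  refine θ_eq (hθ U hU) _ ?_
  have h := ConcreteCategory.congr_hom (NatTrans.congr_app ι.comm (op U)) r
  rw [← Localization.mk_one_eq_algebraMap]
  exact congrArg (fun b => Localization.mk b 1) h.symm

include hι hz hpoly hP hθ in
theorem existsUnique_iso :
    (∃! i : 𝒜.spec ⟶ P, ∀ (U : Y.Opens) (hU : IsAffineOpen U), 𝒜.ι U hU ≫ i = gU 𝒜 Sh z hz p chart θ U hU) ∧
      ∀ i : 𝒜.spec ⟶ P, (∀ (U : Y.Opens) (hU : IsAffineOpen U), 𝒜.ι U hU ≫ i = gU 𝒜 Sh z hz p chart θ U hU) →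
        IsIso i ∧ i ≫ p = 𝒜.π := by
  constructor
  · let c : Cocone 𝒜.glueData.functor :=
      { pt := P
        ι :=
          { app := fun U => gU 𝒜 Sh z hz p chart θ U.1 U.2
            naturality := fun V U i => by
              obtain ⟨V, hV⟩ := V
              obtain ⟨r, hr⟩ := i.le
              subst hr
              exact (gU_res 𝒜 Sh ι hι z hz hpoly p chart hP θ hθ U.1 U.2 r).trans (Category.comp_id _).symm } }
    refine ⟨colimit.desc _ c, fun U hU => colimit.ι_desc c ⟨U, hU⟩, fun i hi => ?_⟩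
    exact colimit.hom_ext fun U => (hi U.1 U.2).trans (colimit.ι_desc c U).symm
  intro i hi
  have hover : i ≫ p = 𝒜.π := by
    refine H11Aff.RelSpecUniv.hom_ext (fun _ => True) (fun x => ?_) fun U hU _ => ?_
    · obtain ⟨U, hU, hx, -⟩ := exists_isAffineOpen_mem_and_subset (X := Y) (U := ⊤) (x := x) trivial
      exact ⟨U, hU, trivial, hx⟩
    · rw [← Category.assoc, hi U hU, gU_over 𝒜 Sh ι hι z hz hpoly p chart hP θ hθ U hU, 𝒜.ι_π]
  refine ⟨?_, hover⟩
  let e : ∀ (U : Y.Opens) (hU : IsAffineOpen U), (𝒜.π ⁻¹ᵁ U : Scheme.{u}) ≅ Spec (𝒜.presheaf.obj (op U)) :=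
    fun U hU => IsOpenImmersion.isoOfRangeEq (𝒜.π ⁻¹ᵁ U).ι (𝒜.ι U hU) (by
      rw [Scheme.Opens.range_ι, 𝒜.π_preimage U hU]; rfl)
  refine H11Proj.of_preimage_squares (Q := MorphismProperty.isomorphisms Scheme.{u}) (pA := p) (pB := 𝒜.π) i hover
    (fun U hU => (e U hU).hom ≫ Spec.map (θ U hU) ≫
      Proj.awayι (Sh.deg U hU) ((Sh.presheaf.map (homOfLE le_top).op).hom z) (hz U hU) one_pos ≫
        (chart U hU).inv) (fun U hU => ?_) fun U hU => ?_
  · have he : (e U hU).hom ≫ 𝒜.ι U hU = (𝒜.π ⁻¹ᵁ U).ι := IsOpenImmersion.isoOfRangeEq_hom_fac _ _ _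
    rw [← he, Category.assoc, hi U hU]
    simp only [gU, RelProj.emb, Category.assoc]
  · haveI := isIso_awayι (hι U hU) (hz U hU) (hpoly U hU)
    haveI : IsIso (θ U hU) :=
      (ConcreteCategory.isIso_iff_bijective _).2 (bijective_θ (hι U hU) (hz U hU) (hpoly U hU) (hθ U hU))
    exact (MorphismProperty.isomorphisms.iff _).2 inferInstance

end Groth.Agent.H11Proj.PolyProj
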