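import Groth.Agent.H11Proj.RelProjMap

/-!
# Basic opens of a relative Proj attached to global homogeneous sections
-/

set_option autoImplicit false
universe u

namespace Groth.Agent.H11Proj

open CategoryTheory CategoryTheory.Limits AlgebraicGeometry TopologicalSpace Opposite RelProj
open scoped HomogeneousIdeal

variable {Y P : Scheme.{u}} {𝒮 : QCGrAlg Y} {p : P ⟶ Y}
variable {chart : ∀ (U : Y.Opens) (hU : IsAffineOpen U), (((p ⁻¹ᵁ U : P.Opens) : Scheme.{u}) ≅ Proj (𝒮.deg U hU))}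

theorem res_res (f : 𝒮.presheaf.obj (op ⊤)) {U V : Y.Opens} (h : V ≤ U) :
    (𝒮.presheaf.map (homOfLE h).op).hom ((𝒮.presheaf.map (homOfLE (le_top : U ≤ ⊤)).op).hom f) =
      (𝒮.presheaf.map (homOfLE (le_top : V ≤ ⊤)).op).hom f := by
  rw [← CommRingCat.comp_apply, ← Functor.map_comp]
  rfl

/-- The basic open of a global section in the chart over `U`. -/
noncomputable abbrev chartOpen
    (chart : ∀ (U : Y.Opens) (hU : IsAffineOpen U), (((p ⁻¹ᵁ U : P.Opens) : Scheme.{u}) ≅ Proj (𝒮.deg U hU)))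
    (f : 𝒮.presheaf.obj (op ⊤)) (U : Y.Opens) (hU : IsAffineOpen U) : (p ⁻¹ᵁ U).toScheme.Opens :=
  (chart U hU).hom ⁻¹ᵁ Proj.basicOpen (𝒮.deg U hU) ((𝒮.presheaf.map (homOfLE le_top).op).hom f)

theorem mem_chartOpen_basicOpen_iff (hP : IsRelProj 𝒮 p chart) (f : 𝒮.presheaf.obj (op ⊤)) (U : Y.Opens)
    (hU : IsAffineOpen U) (r : Γ(Y, U)) (z : (p ⁻¹ᵁ Y.basicOpen r : Scheme.{u})) :
    P.homOfLE (p.preimage_mono (Y.basicOpen_le r)) z ∈ chartOpen chart f U hU ↔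
      z ∈ chartOpen chart f (Y.basicOpen r) (hU.basicOpen r) := by
  have e : P.homOfLE (p.preimage_mono (Y.basicOpen_le r)) ⁻¹ᵁ chartOpen chart f U hU =
      chartOpen chart f (Y.basicOpen r) (hU.basicOpen r) := by
    rw [chartOpen, ← Scheme.Hom.comp_preimage, hP.chart_res U hU r, Scheme.Hom.comp_preimage,
      Proj.map_preimage_basicOpen]
    change (chart _ _).hom ⁻¹ᵁ Proj.basicOpen _
      ((𝒮.presheaf.map (homOfLE (Y.basicOpen_le r)).op).hom _) = _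
    rw [res_res]
  exact iff_of_eq (congrArg (fun O : (p ⁻¹ᵁ Y.basicOpen r).toScheme.Opens => z ∈ O) e)

theorem mem_chartOpen_iff (hP : IsRelProj 𝒮 p chart) (f : 𝒮.presheaf.obj (op ⊤)) (U V : Y.Opens)
    (hU : IsAffineOpen U) (hV : IsAffineOpen V) (z : P) (hzU : z ∈ p ⁻¹ᵁ U) (hzV : z ∈ p ⁻¹ᵁ V) :
    (⟨z, hzU⟩ : (p ⁻¹ᵁ U : Scheme.{u})) ∈ chartOpen chart f U hU ↔
      (⟨z, hzV⟩ : (p ⁻¹ᵁ V : Scheme.{u})) ∈ chartOpen chart f V hV := by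
  obtain ⟨r, r', hrr', hzr⟩ := exists_basicOpen_le_affine_inter hU hV (p z) ⟨hzU, hzV⟩
  have hpt : ∀ (W₁ W₂ : Y.Opens) (hle : W₂ ≤ W₁) (h₂ : z ∈ p ⁻¹ᵁ W₂),
      P.homOfLE (p.preimage_mono hle) ⟨z, h₂⟩ = (⟨z, p.preimage_mono hle h₂⟩ : (p ⁻¹ᵁ W₁ : Scheme.{u})) :=
    fun W₁ W₂ hle h₂ => Subtype.ext (congr($(Scheme.homOfLE_ι P (p.preimage_mono hle)) ⟨z, h₂⟩))
  have aux : ∀ (W : Y.Opens) (hW : IsAffineOpen W) (hzW : z ∈ p ⁻¹ᵁ W) (W' : Y.Opens)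
      (hW' : IsAffineOpen W') (s : Γ(Y, W)) (hs : W' = Y.basicOpen s) (hzW' : z ∈ p ⁻¹ᵁ W'),
      ((⟨z, hzW⟩ : (p ⁻¹ᵁ W : Scheme.{u})) ∈ chartOpen chart f W hW ↔
        (⟨z, hzW'⟩ : (p ⁻¹ᵁ W' : Scheme.{u})) ∈ chartOpen chart f W' hW') := by
    intro W hW hzW W' hW' s hs hzW'
    subst hs
    have h1 := mem_chartOpen_basicOpen_iff hP f W hW s ⟨z, hzW'⟩
    have h2 := congrArg (fun w => w ∈ chartOpen chart f W hW) (hpt W _ (Y.basicOpen_le s) hzW')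
    exact (iff_of_eq h2.symm).trans h1
  exact (aux U hU hzU _ (hU.basicOpen r) r rfl hzr).trans (aux V hV hzV _ (hU.basicOpen r) r' hrr' hzr).symm

/-- The open of a relative Proj where a global homogeneous section does not vanish. -/
noncomputable def relBasicOpen
    (chart : ∀ (U : Y.Opens) (hU : IsAffineOpen U), (((p ⁻¹ᵁ U : P.Opens) : Scheme.{u}) ≅ Proj (𝒮.deg U hU)))
    (f : 𝒮.presheaf.obj (op ⊤)) : P.Opens :=
  ⨆ U : Y.affineOpens, (p ⁻¹ᵁ U.1).ι ''ᵁ chartOpen chart f U.1 U.2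

theorem relBasicOpen_inf (hP : IsRelProj 𝒮 p chart) (f : 𝒮.presheaf.obj (op ⊤)) (U : Y.Opens)
    (hU : IsAffineOpen U) :
    relBasicOpen chart f ⊓ p ⁻¹ᵁ U = (p ⁻¹ᵁ U).ι ''ᵁ chartOpen chart f U hU := by
  refine le_antisymm ?_ (le_inf ?_ ?_)
  · rintro z ⟨hz, hzU⟩
    obtain ⟨⟨V, hV⟩, hzV⟩ := Opens.mem_iSup.1 hz
    obtain ⟨⟨w, hw⟩, hwm, rfl⟩ := hzV
    exact ⟨⟨w, hzU⟩, (mem_chartOpen_iff hP f V U hV hU w hw hzU).1 hwm, rfl⟩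
  · exact le_iSup (fun U : Y.affineOpens => (p ⁻¹ᵁ U.1).ι ''ᵁ chartOpen chart f U.1 U.2) ⟨U, hU⟩
  · rintro z ⟨w, -, rfl⟩
    exact w.2

end Groth.Agent.H11Proj
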