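import Groth.Agent.H11Proj.TwistFP
import Groth.Agent.H11Proj.RelProjGlue
import Groth.Agent.H11Tilde.Rel
import Groth.Agent.H29Omega.SheafFinite
import Groth.Agent.S8285

/-!
# The relative Proj of a finitely presented graded algebra
-/

set_option autoImplicit false
set_option linter.style.haveILetI false

noncomputable section

universe u

open CategoryTheory AlgebraicGeometry TopologicalSpace Opposite HomogeneousLocalization

namespace Groth.Agent.H11Proj.RelProjFP

/-- `Proj` of a finitely presented graded algebra is locally of finite presentation over the base ring. -/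
theorem lfp_proj {A σ : Type u} [CommRing A] [SetLike σ A] [AddSubgroupClass σ A] (𝒜 : ℕ → σ) [GradedRing 𝒜]
    {R : CommRingCat.{u}} (s : R ⟶ CommRingCat.of (𝒜 0))
    (hs : ((algebraMap (𝒜 0) A).comp s.hom).FinitePresentation) :
    LocallyOfFinitePresentation (Proj.toSpecZero 𝒜 ≫ Spec.map s) := by
  rw [IsZariskiLocalAtSource.iff_of_openCover (P := @LocallyOfFinitePresentation)
    (Proj.affineOpenCover 𝒜).openCover]
  intro i
  change LocallyOfFinitePresentation (Proj.awayι 𝒜 _ _ _ ≫ Proj.toSpecZero 𝒜 ≫ Spec.map s)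
  rw [Proj.awayι_toSpecZero_assoc, ← Spec.map_comp, HasRingHomProperty.Spec_iff (P := @LocallyOfFinitePresentation)]
  exact AwayDeg.finitePresentation_away 𝒜 i.2.2 i.1.2 s.hom hs

/-- `Proj` of a finite type graded algebra is quasi-compact over the base ring. -/
theorem qc_proj {A σ : Type u} [CommRing A] [SetLike σ A] [AddSubgroupClass σ A] (𝒜 : ℕ → σ) [GradedRing 𝒜]
    {R : CommRingCat.{u}} (s : R ⟶ CommRingCat.of (𝒜 0))
    (hs : ((algebraMap (𝒜 0) A).comp s.hom).FiniteType) : QuasiCompact (Proj.toSpecZero 𝒜 ≫ Spec.map s) := by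
  haveI : Algebra.FiniteType (𝒜 0) A := by
    have h : (algebraMap (𝒜 0) A).FiniteType := RingHom.FiniteType.of_comp_finiteType hs
    rw [RingHom.finiteType_algebraMap] at h
    exact h
  infer_instance

variable {S P : Scheme.{u}} {𝒮 : RelProj.QCGrAlg S} {p : P ⟶ S}
  {chart : ∀ (U : S.Opens) (hU : IsAffineOpen U), (((p ⁻¹ᵁ U : P.Opens) : Scheme.{u}) ≅ Proj (𝒮.deg U hU))}

theorem restrict_eq (hP : RelProj.IsRelProj 𝒮 p chart) (U : S.Opens) (hU : IsAffineOpen U) :
    p ∣_ U = (chart U hU).hom ≫ (Proj.toSpecZero (𝒮.deg U hU) ≫ Spec.map (𝒮.strZero U hU)) ≫ hU.isoSpec.inv := by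
  rw [← cancel_mono U.ι, morphismRestrict_ι, ← hP.chart_over U hU]
  simp [IsAffineOpen.isoSpec_inv_ι]

theorem lfp_relProj (hP : RelProj.IsRelProj 𝒮 p chart)
    (hfp : ∀ (U : S.Opens), IsAffineOpen U → RingHom.FinitePresentation (𝒮.str.app (op U)).hom) :
    LocallyOfFinitePresentation p := by
  rw [IsZariskiLocalAtTarget.iff_of_iSup_eq_top (P := @LocallyOfFinitePresentation) _ (iSup_affineOpens_eq_top S)]
  intro U
  rw [restrict_eq hP U.1 U.2, MorphismProperty.cancel_left_of_respectsIso (P := @LocallyOfFinitePresentation),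
    MorphismProperty.cancel_right_of_respectsIso (P := @LocallyOfFinitePresentation)]
  exact lfp_proj _ _ (hfp U.1 U.2)

theorem qc_relProj (hP : RelProj.IsRelProj 𝒮 p chart)
    (hft : ∀ (U : S.Opens), IsAffineOpen U → RingHom.FiniteType (𝒮.str.app (op U)).hom) :
    QuasiCompact p := by
  rw [IsZariskiLocalAtTarget.iff_of_iSup_eq_top (P := @QuasiCompact) _ (iSup_affineOpens_eq_top S)]
  intro U
  rw [restrict_eq hP U.1 U.2, MorphismProperty.cancel_left_of_respectsIso (P := @QuasiCompact),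
    MorphismProperty.cancel_right_of_respectsIso (P := @QuasiCompact)]
  exact qc_proj _ _ (hft U.1 U.2)

/-- Transport finite presentation of sections through an open immersion. -/
theorem fp_sections_of_openImmersion {Q X : Scheme.{u}} (j : Q ⟶ X) [IsOpenImmersion j] (M : X.Modules)
    (N : Q.Modules) (lam : M ⟶ (Scheme.Modules.pushforward j).obj N) (W : X.Opens) (hW : W ≤ j.opensRange)
    (hb : Function.Bijective (lam.app W)) (h : Module.FinitePresentation Γ(Q, j ⁻¹ᵁ W) Γ(N, j ⁻¹ᵁ W)) :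
    Module.FinitePresentation Γ(X, W) Γ(M, W) := by
  haveI := j.isIso_app W hW
  let e : Γ(M, W) ≃+ Γ(N, j ⁻¹ᵁ W) := AddEquiv.ofBijective (lam.app W).hom hb
  refine H29Fitt.finitePresentation_of_semilinear (asIso (j.app W)).inv.hom
    (ConcreteCategory.bijective_of_isIso (asIso (j.app W)).inv) e.symm.toAddMonoidHom (fun a m => ?_)
    e.symm.bijective
  apply e.injective
  change e (e.symm (a • m)) = lam.app W ((asIso (j.app W)).inv a • e.symm m)
  rw [e.apply_symm_apply, Scheme.Modules.Hom.app_smul]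
  change a • m = j.app W ((asIso (j.app W)).inv a) • e (e.symm m)
  rw [e.apply_symm_apply]
  congr 1
  exact (Iso.inv_hom_id_apply (asIso (j.app W)) a).symm

theorem fp_twist_chart (n : ℤ) (L : P.Modules)
    (lam : ∀ (U : S.Opens) (hU : IsAffineOpen U),
      L ⟶ (Scheme.Modules.pushforward (RelProj.emb p chart U hU)).obj (GrTwist.twist (𝒮.deg U hU) n))
    (hL : RelProj.IsRelTwist 𝒮 p chart n L lam)
    (hfp : ∀ (U : S.Opens), IsAffineOpen U → RingHom.FinitePresentation (𝒮.str.app (op U)).hom)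
    (U : S.affineOpens) {i : ℕ} (hi : 0 < i) {f : 𝒮.presheaf.obj (op U.1)} (hf : f ∈ 𝒮.deg U.1 U.2 i) :
    Module.FinitePresentation Γ(P, RelProj.emb p chart U.1 U.2 ''ᵁ Proj.basicOpen _ f)
      Γ(L, RelProj.emb p chart U.1 U.2 ''ᵁ Proj.basicOpen _ f) := by
  have hle : RelProj.emb p chart U.1 U.2 ''ᵁ Proj.basicOpen _ f ≤ (RelProj.emb p chart U.1 U.2).opensRange :=
    (RelProj.emb p chart U.1 U.2).image_le_opensRange _
  refine fp_sections_of_openImmersion (RelProj.emb p chart U.1 U.2) L _ (lam U.1 U.2) _ hle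
    (hL.bijective U.1 U.2 _ (hle.trans (H11Tilde.opensRange_emb p chart U.1 U.2).le)) ?_
  rw [Scheme.Hom.preimage_image_eq]
  exact AwayDeg.finitePresentation_twist_sections _ hf hi n (𝒮.strZero U.1 U.2).hom (hfp U.1 U.2)

theorem isFP_relTwist (hP : RelProj.IsRelProj 𝒮 p chart) (n : ℤ) (L : P.Modules)
    (lam : ∀ (U : S.Opens) (hU : IsAffineOpen U),
      L ⟶ (Scheme.Modules.pushforward (RelProj.emb p chart U hU)).obj (GrTwist.twist (𝒮.deg U hU) n))
    (hL : RelProj.IsRelTwist 𝒮 p chart n L lam)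
    (hfp : ∀ (U : S.Opens), IsAffineOpen U → RingHom.FinitePresentation (𝒮.str.app (op U)).hom) :
    CohB1.IsFP L := by
  haveI : L.IsQuasicoherent := Groth.Agent.S8285.result 𝒮 p chart hP n L lam hL
  refine H29Omega.isFP_of_affineCover L
    (I := Σ U : S.affineOpens, Σ i : PNat, 𝒮.deg U.1 U.2 i)
    (fun k => RelProj.emb p chart k.1.1 k.1.2 ''ᵁ Proj.basicOpen _ (k.2.2 : 𝒮.presheaf.obj (op k.1.1)))
    ?_ (fun k => (Proj.isAffineOpen_basicOpen _ _ k.2.2.2 k.2.1.2).image_of_isOpenImmersion _)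
    (fun k => fp_twist_chart n L lam hL hfp k.1 k.2.1.2 k.2.2.2)
  refine eq_top_iff.2 fun x _ => ?_
  obtain ⟨U, y, hy⟩ := H11Tilde.exists_mem_range_emb p chart x
  obtain ⟨i, z, hz⟩ : ∃ i, y ∈ Set.range ((Proj.affineOpenCover (𝒮.deg U.1 U.2)).f i).base :=
    ⟨_, (Proj.affineOpenCover (𝒮.deg U.1 U.2)).covers y⟩
  refine Opens.mem_iSup.2 ⟨⟨U, i⟩, y, ?_, hy⟩
  rw [← Proj.opensRange_awayι (𝒮.deg U.1 U.2) _ i.2.2 i.1.2]
  exact ⟨z, hz⟩

end Groth.Agent.H11Proj.RelProjFP
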