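import Groth.Agent.H11Sym.GenProjVeryAmple
import Groth.Agent.H11Sym.BundleAmple
import Groth.Agent.H11Ample.RelCounit
import Groth.Agent.H11Tilde.RelTwistPeriod

/-!
# The twisting sheaf of a relative Proj generated in degree one
-/

set_option autoImplicit false
set_option linter.style.haveILetI false
set_option linter.unusedSectionVars false

universe u

open CategoryTheory AlgebraicGeometry TopologicalSpace Opposite

noncomputable section

namespace Groth.Agent.H11Proj.RelTwistAmple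

open Groth.Agent.H11Tilde

variable {S P : Scheme.{u}} {𝒮 : RelProj.QCGrAlg S} {p : P ⟶ S}
  {chart : ∀ (U : S.Opens) (hU : IsAffineOpen U), (((p ⁻¹ᵁ U : P.Opens) : Scheme.{u}) ≅ Proj (𝒮.deg U hU))}

theorem quasiCompact (hP : RelProj.IsRelProj 𝒮 p chart) (hgen : 𝒮.IsGenDegOne) (hft : 𝒮.IsFTDeg 1) :
    QuasiCompact p := by
  refine quasiCompact_iff_forall_isAffineOpen.2 fun U hU => ?_
  obtain ⟨T, hT1, hT⟩ := hft U hU
  haveI : CompactSpace (Proj (𝒮.deg U hU) : Scheme.{u}) := by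
    refine ⟨?_⟩
    have : (Set.univ : Set (Proj (𝒮.deg U hU) : Scheme.{u})) =
        ⋃ t ∈ T, (Proj.basicOpen (𝒮.deg U hU) t : Set (Proj (𝒮.deg U hU) : Scheme.{u})) := by
      refine (Set.eq_univ_of_forall fun z => ?_).symm
      obtain ⟨a, ha, haz⟩ := exists_degOne_notMem (𝒮.deg U hU) (hgen U hU) z
      obtain ⟨c, rfl⟩ := hT a ha
      by_contra hz
      simp only [Set.mem_iUnion, not_exists] at hz
      exact haz (sum_mem fun t ht => Ideal.mul_mem_left _ _ (not_not.1 (hz t ht)))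
    rw [this]
    exact T.finite_toSet.isCompact_biUnion fun t ht =>
      (Proj.isAffineOpen_basicOpen (𝒮.deg U hU) t (hT1 ht) one_pos).isCompact
  rw [← H11Tilde.opensRange_emb p chart U hU]
  exact isCompact_range (RelProj.emb p chart U hU).continuous

theorem nonempty_relTwist_iso_tensorPow (hP : RelProj.IsRelProj 𝒮 p chart) (hgen : 𝒮.IsGenDegOne) {O1 : P.Modules}
    {lam1 : ∀ (U : S.Opens) (hU : IsAffineOpen U),
      O1 ⟶ (Scheme.Modules.pushforward (RelProj.emb p chart U hU)).obj (GrTwist.twist (𝒮.deg U hU) 1)}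
    (h1 : RelProj.IsRelTwist 𝒮 p chart 1 O1 lam1) (n : ℕ) (L : P.Modules)
    (lam : ∀ (U : S.Opens) (hU : IsAffineOpen U),
      L ⟶ (Scheme.Modules.pushforward (RelProj.emb p chart U hU)).obj (GrTwist.twist (𝒮.deg U hU) (n : ℤ)))
    (hL : RelProj.IsRelTwist 𝒮 p chart (n : ℤ) L lam) : Nonempty (L ≅ CohB1.tensorPow O1 n) := by
  induction n generalizing L with
  | zero => exact nonempty_relTwist_zero_iso hP hL
  | succ n ih =>
    obtain ⟨L', lam', hL'⟩ := exists_isRelTwist hP (n : ℤ)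
    obtain ⟨e⟩ := ih L' lam' hL'
    obtain ⟨e'⟩ := nonempty_relTwist_tensor_iso hP hgen
      (show ((n + 1 : ℕ) : ℤ) = (n : ℤ) + 1 by push_cast; ring) hL' h1 hL
    exact ⟨e'.symm ≪≫ PicGrp.tensorModIso e (Iso.refl _)⟩

/-- For large `n` the counit `p^* p_* F(n) ⟶ F(n)` is an epimorphism. -/
theorem eventually_epi_counit (hP : RelProj.IsRelProj 𝒮 p chart) [CompactSpace S] (hgen : 𝒮.IsGenDegOne)
    (hft : 𝒮.IsFTDeg 1) (F : P.Modules) (hF : Coh.IsCoh F) :
    ∃ n₀ : ℤ, ∀ (n : ℤ), n₀ ≤ n → ∀ (L : P.Modules)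
      (lam : ∀ (U : S.Opens) (hU : IsAffineOpen U),
      L ⟶ (Scheme.Modules.pushforward (RelProj.emb p chart U hU)).obj (GrTwist.twist (𝒮.deg U hU) n)),
      RelProj.IsRelTwist 𝒮 p chart n L lam →
        Epi ((Scheme.Modules.pullbackPushforwardAdjunction p).counit.app (CohB1.tensorMod F L)) := by
  haveI := quasiCompact hP hgen hft
  haveI : CompactSpace P := QuasiCompact.compactSpace_of_compactSpace p
  obtain ⟨O1, lam1, h1⟩ := exists_isRelTwist hP 1
  have hva := H11Sym.isRelVeryAmple_of_isImmersion hgen hP h1 (𝟙 P) (Category.id_comp p)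
  have hva' : RelProj.IsRelVeryAmple p O1 :=
    H11Sym.isRelVeryAmple_of_iso ((Scheme.Modules.pullbackId P).app O1) hva
  obtain ⟨n₀, -, hn₀⟩ := H11Ample.eventually_epi_counit (H11Sym.isRelAmple_of_isRelVeryAmple hva') hF
  refine ⟨(n₀ : ℤ), fun n hn L lam hL => ?_⟩
  obtain ⟨m, rfl⟩ := Int.eq_ofNat_of_zero_le ((Int.natCast_nonneg n₀).trans hn)
  obtain ⟨e⟩ := nonempty_relTwist_iso_tensorPow hP hgen h1 m L lam hL
  haveI := hn₀ m (by exact_mod_cast hn)
  let τ := PicGrp.tensorModIso (Iso.refl F) e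
  have hnat := (Scheme.Modules.pullbackPushforwardAdjunction p).counit.naturality τ.inv
  simp only [Functor.id_map, Functor.comp_map] at hnat
  haveI : Epi ((Scheme.Modules.pullback p).map ((Scheme.Modules.pushforward p).map τ.inv) ≫
      (Scheme.Modules.pullbackPushforwardAdjunction p).counit.app (CohB1.tensorMod F L)) := by
    rw [hnat]; infer_instance
  exact epi_of_epi ((Scheme.Modules.pullback p).map ((Scheme.Modules.pushforward p).map τ.inv)) _

end Groth.Agent.H11Proj.RelTwistAmple
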