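import Groth.Agent.H11Proj.TwistBaseChange
import Groth.Agent.H11Tilde.RelTwistComap
import Groth.Agent.H11Tilde.TransposeComp

/-!
# Relative twisting sheaves under base change
-/

set_option autoImplicit false
set_option linter.style.haveILetI false
set_option linter.unusedSectionVars false

noncomputable section

universe u

open CategoryTheory CategoryTheory.Limits AlgebraicGeometry Opposite TopologicalSpace
open scoped HomogeneousIdeal
open Groth.Agent.H11Tilde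

namespace Groth.Agent.H11Proj.RelTwistBC

variable {Y Y' P P' : Scheme.{u}} {ψ : Y' ⟶ Y} {𝒮 : RelProj.QCGrAlg Y} {𝒮' : RelProj.QCGrAlg Y'}
  (u : 𝒮.presheaf ⟶ ψ.base _* 𝒮'.presheaf)
  (φ : ∀ (U : Y.Opens) (hU : IsAffineOpen U) (U' : Y'.Opens) (hU' : IsAffineOpen U') (_ : U' ≤ ψ ⁻¹ᵁ U),
      𝒮.deg U hU →+*ᵍ 𝒮'.deg U' hU')
  (hφ : ∀ (U : Y.Opens) (hU : IsAffineOpen U) (U' : Y'.Opens) (hU' : IsAffineOpen U') (hle : U' ≤ ψ ⁻¹ᵁ U),
      (φ U hU U' hU' hle).toRingHom =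
        ((u.app (op U) : 𝒮.presheaf.obj (op U) ⟶ 𝒮'.presheaf.obj (op (ψ ⁻¹ᵁ U))) ≫
          𝒮'.presheaf.map (homOfLE hle).op).hom)
  (hirr : ∀ (U : Y.Opens) (hU : IsAffineOpen U) (U' : Y'.Opens) (hU' : IsAffineOpen U') (hle : U' ≤ ψ ⁻¹ᵁ U),
      (𝒮'.deg U' hU')₊ ≤ ((𝒮.deg U hU)₊).map (φ U hU U' hU' hle))
  {p : P ⟶ Y}
  {chart : ∀ (U : Y.Opens) (hU : IsAffineOpen U), (((p ⁻¹ᵁ U : P.Opens) : Scheme.{u}) ≅ Proj (𝒮.deg U hU))}
  {p' : P' ⟶ Y'}
  {chart' : ∀ (U' : Y'.Opens) (hU' : IsAffineOpen U'), (((p' ⁻¹ᵁ U' : P'.Opens) : Scheme.{u}) ≅ Proj (𝒮'.deg U' hU'))}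
  {g : P' ⟶ P}
  (hg : ∀ (U : Y.Opens) (hU : IsAffineOpen U) (U' : Y'.Opens) (hU' : IsAffineOpen U') (hle : U' ≤ ψ ⁻¹ᵁ U),
      (p' ⁻¹ᵁ U').ι ≫ g =
        (chart' U' hU').hom ≫ Proj.map (φ U hU U' hU' hle) (hirr U hU U' hU' hle) ≫ RelProj.emb p chart U hU)

include hg in
theorem map_emb (U : Y.Opens) (hU : IsAffineOpen U) (U' : Y'.Opens) (hU' : IsAffineOpen U') (hle : U' ≤ ψ ⁻¹ᵁ U) :
    Proj.map (φ U hU U' hU' hle) (hirr U hU U' hU' hle) ≫ RelProj.emb p chart U hU =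
      RelProj.emb p' chart' U' hU' ≫ g := by
  have e := hg U hU U' hU' hle
  simp only [RelProj.emb] at e ⊢
  rw [Category.assoc (chart' U' hU').inv, e, Iso.inv_hom_id_assoc]

include hg in
theorem emb_mem {W : P.Opens} (U : Y.Opens) (hU : IsAffineOpen U) (U' : Y'.Opens) (hU' : IsAffineOpen U')
    (hle : U' ≤ ψ ⁻¹ᵁ U) (y : ProjectiveSpectrum (𝒮'.deg U' hU'))
    (hy : (RelProj.emb p' chart' U' hU').base y ∈ g ⁻¹ᵁ W) :
    (RelProj.emb p chart U hU).base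
      (ProjectiveSpectrum.comap (φ U hU U' hU' hle) (hirr U hU U' hU' hle) y) ∈ W := by
  have e := congr($(map_emb φ hirr hg U hU U' hU' hle).base y)
  exact e.symm ▸ hy

variable (n : ℤ) {L : P.Modules}
  (lam : ∀ (U : Y.Opens) (hU : IsAffineOpen U),
      L ⟶ (Scheme.Modules.pushforward (RelProj.emb p chart U hU)).obj (GrTwist.twist (𝒮.deg U hU) n))

/-- The comparison on a pair of affine opens. -/
def psi (U : Y.Opens) (hU : IsAffineOpen U) (U' : Y'.Opens) (hU' : IsAffineOpen U') (hle : U' ≤ ψ ⁻¹ᵁ U) :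
    L ⟶ (Scheme.Modules.pushforward g).obj
      ((Scheme.Modules.pushforward (RelProj.emb p' chart' U' hU')).obj (GrTwist.twist (𝒮'.deg U' hU') n)) :=
  lam U hU ≫ transfer (φ U hU U' hU' hle) (hirr U hU U' hU' hle) n (RelProj.emb p chart U hU)
      (RelProj.emb p' chart' U' hU' ≫ g) (map_emb φ hirr hg U hU U' hU' hle) ≫
    (Scheme.Modules.pushforwardComp (RelProj.emb p' chart' U' hU') g).inv.app _

theorem psi_val (U : Y.Opens) (hU : IsAffineOpen U) (U' : Y'.Opens) (hU' : IsAffineOpen U') (hle : U' ≤ ψ ⁻¹ᵁ U)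
    (W : P.Opens) (s : Γ(L, W))
    (y : ProjectiveSpectrum (𝒮'.deg U' hU')) (hy : (RelProj.emb p' chart' U' hU').base y ∈ g ⁻¹ᵁ W)
    (hy' : (RelProj.emb p chart U hU).base
      (ProjectiveSpectrum.comap (φ U hU U' hU' hle) (hirr U hU U' hU' hle) y) ∈ W) :
    GrTwist.val (V := RelProj.emb p' chart' U' hU' ⁻¹ᵁ (g ⁻¹ᵁ W))
        ((psi φ hirr hg n lam U hU U' hU' hle).app W s) ⟨y, hy⟩ =
      GrTwist.locMap (φ U hU U' hU' hle) (hirr U hU U' hU' hle) y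
        (GrTwist.val (V := RelProj.emb p chart U hU ⁻¹ᵁ W) ((lam U hU).app W s) ⟨_, hy'⟩) := by
  have e := transfer_app (φ U hU U' hU' hle) (hirr U hU U' hU' hle) n (RelProj.emb p chart U hU)
    (RelProj.emb p' chart' U' hU' ≫ g) (map_emb φ hirr hg U hU U' hU' hle) W ((lam U hU).app W s)
  refine (congrArg (fun z : Γ(GrTwist.twist (𝒮'.deg U' hU') n, (RelProj.emb p' chart' U' hU' ≫ g) ⁻¹ᵁ W) =>
    GrTwist.val z ⟨y, hy⟩) e).trans ?_
  rfl

include hφ in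
theorem square (U : Y.Opens) (hU : IsAffineOpen U) (U' : Y'.Opens) (hU' : IsAffineOpen U') (hle : U' ≤ ψ ⁻¹ᵁ U)
    (V : Y.Opens) (hV : IsAffineOpen V) (hVU : V ≤ U) (V' : Y'.Opens) (hV' : IsAffineOpen V') (hVU' : V' ≤ U')
    (hle' : V' ≤ ψ ⁻¹ᵁ V) :
    (φ V hV V' hV' hle').comp (𝒮.res hU hV hVU) = (𝒮'.res hU' hV' hVU').comp (φ U hU U' hU' hle) := by
  refine DFunLike.ext _ _ fun a => ?_
  have e1 : ∀ x, φ V hV V' hV' hle' x = ((u.app (op V) : 𝒮.presheaf.obj (op V) ⟶ 𝒮'.presheaf.obj (op (ψ ⁻¹ᵁ V))) ≫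
      𝒮'.presheaf.map (homOfLE hle').op).hom x := fun x => congr($(hφ V hV V' hV' hle') x)
  have e2 : ∀ x, φ U hU U' hU' hle x = ((u.app (op U) : 𝒮.presheaf.obj (op U) ⟶ 𝒮'.presheaf.obj (op (ψ ⁻¹ᵁ U))) ≫
      𝒮'.presheaf.map (homOfLE hle).op).hom x := fun x => congr($(hφ U hU U' hU' hle) x)
  change φ V hV V' hV' hle' (𝒮.res hU hV hVU a) = 𝒮'.res hU' hV' hVU' (φ U hU U' hU' hle a)
  rw [RelProj.QCGrAlg.res_apply, RelProj.QCGrAlg.res_apply, e1, e2, ← ConcreteCategory.comp_apply,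
    ← ConcreteCategory.comp_apply]
  refine congrArg (fun m : 𝒮.presheaf.obj (op U) ⟶ 𝒮'.presheaf.obj (op V') => ConcreteCategory.hom m a) ?_
  rw [← Category.assoc]
  erw [u.naturality (homOfLE hVU).op]
  rw [Category.assoc, Category.assoc, TopCat.Presheaf.pushforward_obj_map]
  erw [← Functor.map_comp, ← Functor.map_comp]
  rfl

variable (hP : RelProj.IsRelProj 𝒮 p chart) (hP' : RelProj.IsRelProj 𝒮' p' chart')
  (hL : RelProj.IsRelTwist 𝒮 p chart n L lam)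

include hφ hP hP' hL in
theorem psi_move (U : Y.Opens) (hU : IsAffineOpen U) (U' : Y'.Opens) (hU' : IsAffineOpen U') (hle : U' ≤ ψ ⁻¹ᵁ U)
    (r : Γ(Y, U)) (r' : Γ(Y', U')) (hle' : Y'.basicOpen r' ≤ ψ ⁻¹ᵁ Y.basicOpen r) (W : P.Opens) (s : Γ(L, W))
    (y : ProjectiveSpectrum (𝒮'.deg (Y'.basicOpen r') (hU'.basicOpen r')))
    (hy : (RelProj.emb p' chart' (Y'.basicOpen r') (hU'.basicOpen r')).base y ∈ g ⁻¹ᵁ W)
    (hy' : (RelProj.emb p' chart' U' hU').base (ProjectiveSpectrum.comap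
      (𝒮'.res hU' (hU'.basicOpen r') (Y'.basicOpen_le r')) (𝒮'.irrelevant_le_map U' hU' r') y) ∈ g ⁻¹ᵁ W) :
    GrTwist.val (V := RelProj.emb p' chart' (Y'.basicOpen r') (hU'.basicOpen r') ⁻¹ᵁ (g ⁻¹ᵁ W))
        ((psi φ hirr hg n lam (Y.basicOpen r) (hU.basicOpen r) (Y'.basicOpen r') (hU'.basicOpen r') hle').app W s)
        ⟨y, hy⟩ =
      GrTwist.locMap (𝒮'.res hU' (hU'.basicOpen r') (Y'.basicOpen_le r')) (𝒮'.irrelevant_le_map U' hU' r') y
        (GrTwist.val (V := RelProj.emb p' chart' U' hU' ⁻¹ᵁ (g ⁻¹ᵁ W))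
          ((psi φ hirr hg n lam U hU U' hU' hle).app W s) ⟨_, hy'⟩) := by
  have hV := hU.basicOpen r
  have hV' := hU'.basicOpen r'
  have hmV := emb_mem φ hirr hg (Y.basicOpen r) hV (Y'.basicOpen r') hV' hle' y hy
  have hmU := emb_mem φ hirr hg U hU U' hU' hle _ hy'
  have hz : (RelProj.emb p chart U hU).base (ProjectiveSpectrum.comap
      (𝒮.res hU hV (Y.basicOpen_le r)) (𝒮.irrelevant_le_map U hU r)
      (ProjectiveSpectrum.comap (φ _ hV _ hV' hle') (hirr _ hV _ hV' hle') y)) ∈ W := by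
    rw [emb_comap_res hP]; exact hmV
  refine (psi_val φ hirr hg n lam _ hV _ hV' hle' W s y hy hmV).trans ?_
  refine Eq.trans ?_ (congrArg (GrTwist.locMap (𝒮'.res hU' hV' (Y'.basicOpen_le r'))
    (𝒮'.irrelevant_le_map U' hU' r') y) (psi_val φ hirr hg n lam U hU U' hU' hle W s _ hy' hmU).symm)
  refine (congrArg (GrTwist.locMap (φ _ hV _ hV' hle') (hirr _ hV _ hV' hle') y)
    (hL.compat U hU r W s _ hmV hz)).trans ?_
  have hc₁ : (𝒮'.deg _ hV')₊ ≤ ((𝒮.deg U hU)₊).map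
      ((φ _ hV _ hV' hle').comp (𝒮.res hU hV (Y.basicOpen_le r))) :=
    HomogeneousIdeal.irrelevant_le_map_comp (𝒮.irrelevant_le_map U hU r) (hirr _ hV _ hV' hle')
  have hc₂ : (𝒮'.deg _ hV')₊ ≤ ((𝒮.deg U hU)₊).map
      ((𝒮'.res hU' hV' (Y'.basicOpen_le r')).comp (φ U hU U' hU' hle)) := by
    rw [← square u φ hφ U hU U' hU' hle _ hV (Y.basicOpen_le r) _ hV' (Y'.basicOpen_le r') hle']; exact hc₁
  refine (locMap_comp _ (𝒮.irrelevant_le_map U hU r) _ (hirr _ hV _ hV' hle') hc₁ y _).trans ?_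
  refine Eq.trans ?_ (locMap_comp _ (hirr U hU U' hU' hle) _ (𝒮'.irrelevant_le_map U' hU' r') hc₂ y _).symm
  exact RelComap.locMap_val_congr (square u φ hφ U hU U' hU' hle _ hV (Y.basicOpen_le r) _ hV'
    (Y'.basicOpen_le r') hle') hc₁ hc₂ ((lam U hU).app W s) y _ _

variable {L' : P'.Modules}
  {lam' : ∀ (U' : Y'.Opens) (hU' : IsAffineOpen U'),
      L' ⟶ (Scheme.Modules.pushforward (RelProj.emb p' chart' U' hU')).obj (GrTwist.twist (𝒮'.deg U' hU') n)}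
  (hL' : RelProj.IsRelTwist 𝒮' p' chart' n L' lam')

include hφ hP hP' hL hL' in
theorem value_basicOpen (U : Y.Opens) (hU : IsAffineOpen U) (U' : Y'.Opens) (hU' : IsAffineOpen U')
    (hle : U' ≤ ψ ⁻¹ᵁ U) (W : P.Opens) (s : Γ(L, W)) {W' : P'.Opens} (hW : W' ≤ g ⁻¹ᵁ W) (t : Γ(L', W'))
    (ht : ∀ y : ↥(RelProj.emb p' chart' U' hU' ⁻¹ᵁ W'),
      GrTwist.val (V := RelProj.emb p' chart' U' hU' ⁻¹ᵁ W') ((lam' U' hU').app W' t) y =
        GrTwist.val (V := RelProj.emb p' chart' U' hU' ⁻¹ᵁ (g ⁻¹ᵁ W))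
          ((psi φ hirr hg n lam U hU U' hU' hle).app W s) ⟨y.1, hW y.2⟩)
    (V : Y.Opens) (hV : IsAffineOpen V) (r : Γ(Y, U)) (e : V = Y.basicOpen r)
    (V' : Y'.Opens) (hV' : IsAffineOpen V') (r' : Γ(Y', U')) (e' : V' = Y'.basicOpen r') (hle' : V' ≤ ψ ⁻¹ᵁ V)
    (y : ↥(RelProj.emb p' chart' V' hV' ⁻¹ᵁ W')) :
    GrTwist.val (V := RelProj.emb p' chart' V' hV' ⁻¹ᵁ W') ((lam' V' hV').app W' t) y =
      GrTwist.val (V := RelProj.emb p' chart' V' hV' ⁻¹ᵁ (g ⁻¹ᵁ W))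
          ((psi φ hirr hg n lam V hV V' hV' hle').app W s) ⟨y.1, hW y.2⟩ := by
  subst e e'
  have hy' : (RelProj.emb p' chart' U' hU').base (ProjectiveSpectrum.comap
      (𝒮'.res hU' (hU'.basicOpen r') (Y'.basicOpen_le r')) (𝒮'.irrelevant_le_map U' hU' r') y.1) ∈ W' := by
    rw [emb_comap_res hP']; exact y.2
  refine (hL'.compat U' hU' r' W' t y.1 y.2 hy').trans ?_
  refine Eq.trans (congrArg (GrTwist.locMap (𝒮'.res hU' (hU'.basicOpen r') (Y'.basicOpen_le r'))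
    (𝒮'.irrelevant_le_map U' hU' r') y.1) (ht ⟨_, hy'⟩)) ?_
  exact (psi_move u φ hφ hirr hg n lam hP hP' hL U hU U' hU' hle r r' hle' W s y.1 (hW y.2) (hW hy')).symm

/-- Pairs of affine opens related by the morphism. -/
abbrev Pair (ψ : Y' ⟶ Y) :=
  {a : Y.affineOpens × Y'.affineOpens // (a.2 : Y'.Opens) ≤ ψ ⁻¹ᵁ (a.1 : Y.Opens)}

theorem exists_pair (ψ : Y' ⟶ Y) (y : Y') : ∃ a : Pair ψ, y ∈ (a.1.2 : Y'.Opens) := by
  obtain ⟨U, hU, hxU, -⟩ := exists_isAffineOpen_mem_and_subset (X := Y) (x := ψ.base y) (U := ⊤) trivial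
  obtain ⟨U', hU', hxU', hle⟩ := exists_isAffineOpen_mem_and_subset (X := Y') (x := y) (U := ψ ⁻¹ᵁ U) hxU
  exact ⟨⟨(⟨U, hU⟩, ⟨U', hU'⟩), hle⟩, hxU'⟩

theorem exists_common {U₁ U₂ : Y.Opens} {U₁' U₂' : Y'.Opens} (hU₁ : IsAffineOpen U₁) (hU₂ : IsAffineOpen U₂)
    (hU₁' : IsAffineOpen U₁') (hU₂' : IsAffineOpen U₂') {y : Y'} (h₁ : y ∈ U₁') (h₂ : y ∈ U₂')
    (hy : ψ.base y ∈ U₁ ⊓ U₂) :
    ∃ (r₁ : Γ(Y, U₁)) (r₂ : Γ(Y, U₂)) (r₁' : Γ(Y', U₁')) (r₂' : Γ(Y', U₂')),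
      Y.basicOpen r₁ = Y.basicOpen r₂ ∧ Y'.basicOpen r₁' = Y'.basicOpen r₂' ∧
      Y'.basicOpen r₁' ≤ ψ ⁻¹ᵁ Y.basicOpen r₁ ∧ y ∈ Y'.basicOpen r₁' := by
  obtain ⟨r₁, r₂, he, hr⟩ := exists_basicOpen_le_affine_inter hU₁ hU₂ (ψ.base y) hy
  obtain ⟨a, ha, hay⟩ := hU₁'.exists_basicOpen_le (V := ψ ⁻¹ᵁ Y.basicOpen r₁) ⟨y, hr⟩ h₁
  obtain ⟨b, r₂', he', hby⟩ := exists_basicOpen_le_affine_inter (hU₁'.basicOpen a) hU₂' y ⟨hay, h₂⟩
  obtain ⟨r₁', hr₁'⟩ := hU₁'.basicOpen_basicOpen_is_basicOpen a b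
  exact ⟨r₁, r₂, r₁', r₂', he, hr₁'.trans he', hr₁'.le.trans ((Y'.basicOpen_le b).trans ha), hr₁' ▸ hby⟩

theorem section_ext_pair (ψ : Y' ⟶ Y) (hL' : RelProj.IsRelTwist 𝒮' p' chart' n L' lam') {W : P'.Opens} {s t : Γ(L', W)}
    (h : ∀ (a : Pair ψ), (lam' a.1.2 a.1.2.2).app W s = (lam' a.1.2 a.1.2.2).app W t) : s = t := by
  refine eq_of_locally s t fun x hx => ?_
  obtain ⟨a, hxa⟩ := exists_pair ψ (p'.base x)
  refine ⟨W ⊓ p' ⁻¹ᵁ a.1.2.1, inf_le_left, ⟨hx, hxa⟩, (hL'.bijective _ a.1.2.2 _ inf_le_right).1 ?_⟩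
  rw [app_map_apply (lam' a.1.2 a.1.2.2) inf_le_left, app_map_apply (lam' a.1.2 a.1.2.2) inf_le_left, h a]

include hφ hP hP' hL hL' in
theorem exists_section (W : P.Opens) (s : Γ(L, W)) :
    ∃ t : Γ(L', g ⁻¹ᵁ W), ∀ (a : Pair ψ), (lam' a.1.2 a.1.2.2).app (g ⁻¹ᵁ W) t =
      (psi φ hirr hg n lam a.1.1 a.1.1.2 a.1.2 a.1.2.2 a.2).app W s := by
  classical
  let V : Pair ψ → P'.Opens := fun a => g ⁻¹ᵁ W ⊓ p' ⁻¹ᵁ a.1.2.1
  have hex : ∀ a : Pair ψ, ∃ t : Γ(L', V a), ∀ y : ↥(RelProj.emb p' chart' a.1.2.1 a.1.2.2 ⁻¹ᵁ V a),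
      GrTwist.val (V := RelProj.emb p' chart' a.1.2.1 a.1.2.2 ⁻¹ᵁ V a) ((lam' a.1.2 a.1.2.2).app (V a) t) y =
        GrTwist.val (V := RelProj.emb p' chart' a.1.2.1 a.1.2.2 ⁻¹ᵁ (g ⁻¹ᵁ W))
          ((psi φ hirr hg n lam a.1.1 a.1.1.2 a.1.2 a.1.2.2 a.2).app W s) ⟨y.1, y.2.1⟩ := fun a => by
    obtain ⟨t, ht⟩ := (hL'.bijective a.1.2 a.1.2.2 (V a) inf_le_right).2
      ((GrTwist.twist (𝒮'.deg a.1.2.1 a.1.2.2) n).presheaf.map
        (homOfLE (show RelProj.emb p' chart' a.1.2.1 a.1.2.2 ⁻¹ᵁ V a ≤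
            RelProj.emb p' chart' a.1.2.1 a.1.2.2 ⁻¹ᵁ (g ⁻¹ᵁ W) from fun z hz => hz.1)).op
          ((psi φ hirr hg n lam a.1.1 a.1.1.2 a.1.2 a.1.2.2 a.2).app W s))
    exact ⟨t, fun y => congrArg
      (fun z : Γ(GrTwist.twist (𝒮'.deg a.1.2.1 a.1.2.2) n, RelProj.emb p' chart' a.1.2.1 a.1.2.2 ⁻¹ᵁ V a) =>
        GrTwist.val z y) ht⟩
  choose t ht using hex
  have hcompat : TopCat.Presheaf.IsCompatible L'.presheaf V t := by
    intro a b
    refine eq_of_locally (W := V a ⊓ V b) _ _ fun x hx => ?_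
    obtain ⟨r₁, r₂, r₁', r₂', he, he', hle', hxr⟩ := exists_common (ψ := ψ) a.1.1.2 b.1.1.2 a.1.2.2 b.1.2.2
      (y := p'.base x) hx.1.2 hx.2.2 ⟨a.2 hx.1.2, b.2 hx.2.2⟩
    let W' : P'.Opens := (V a ⊓ V b) ⊓ p' ⁻¹ᵁ Y'.basicOpen r₁'
    refine ⟨W', inf_le_left, ⟨hx, hxr⟩, ?_⟩
    have key : ∀ (c : Pair ψ) (r : Γ(Y, c.1.1.1)) (e : Y.basicOpen r₁ = Y.basicOpen r)
        (r' : Γ(Y', c.1.2.1)) (e' : Y'.basicOpen r₁' = Y'.basicOpen r') (hc : W' ≤ V c)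
        (y : ↥(RelProj.emb p' chart' (Y'.basicOpen r₁') (a.1.2.2.basicOpen r₁') ⁻¹ᵁ W')),
        GrTwist.val (V := RelProj.emb p' chart' (Y'.basicOpen r₁') (a.1.2.2.basicOpen r₁') ⁻¹ᵁ W')
          ((lam' (Y'.basicOpen r₁') (a.1.2.2.basicOpen r₁')).app W' (L'.presheaf.map (homOfLE hc).op (t c))) y =
        GrTwist.val (V := RelProj.emb p' chart' (Y'.basicOpen r₁') (a.1.2.2.basicOpen r₁') ⁻¹ᵁ (g ⁻¹ᵁ W))
          ((psi φ hirr hg n lam (Y.basicOpen r₁) (a.1.1.2.basicOpen r₁) (Y'.basicOpen r₁')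
            (a.1.2.2.basicOpen r₁') hle').app W s) ⟨y.1, y.2.1.1.1⟩ := by
      intro c r e r' e' hc y
      refine value_basicOpen u φ hφ hirr hg n lam hP hP' hL hL' c.1.1 c.1.1.2 c.1.2 c.1.2.2 c.2 W s
        (show W' ≤ g ⁻¹ᵁ W from fun z hz => hz.1.1.1) _ (fun z => ?_) _ _ r e _ _ r' e' hle' y
      rw [app_map_apply (lam' c.1.2 c.1.2.2) hc]
      exact ht c ⟨z.1, hc z.2⟩
    change L'.presheaf.map _ (L'.presheaf.map _ (t a)) = L'.presheaf.map _ (L'.presheaf.map _ (t b))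
    rw [← ConcreteCategory.comp_apply, ← ConcreteCategory.comp_apply, ← Functor.map_comp, ← Functor.map_comp]
    refine (hL'.bijective _ (a.1.2.2.basicOpen r₁') W' inf_le_right).1
      ((twistSys 𝒮' n).value_ext _ (a.1.2.2.basicOpen r₁') _ _ fun y => ?_)
    exact (key a r₁ rfl r₁' rfl (fun z hz => hz.1.1) y).trans (key b r₂ he r₂' he' (fun z hz => hz.1.2) y).symm
  obtain ⟨s₀, hs, -⟩ := TopCat.Sheaf.existsUnique_gluing' ⟨L'.presheaf, L'.isSheaf⟩ V (g ⁻¹ᵁ W)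
    (fun a => homOfLE inf_le_left) (fun x hx => by
      obtain ⟨a, hxa⟩ := exists_pair ψ (p'.base x)
      exact Opens.mem_iSup.2 ⟨a, hx, hxa⟩) t hcompat
  refine ⟨s₀, fun a => (twistSys 𝒮' n).value_ext a.1.2.1 a.1.2.2 _ _ fun y => ?_⟩
  have hy : y.1 ∈ RelProj.emb p' chart' a.1.2.1 a.1.2.2 ⁻¹ᵁ V a :=
    ⟨y.2, (opensRange_emb p' chart' a.1.2.1 a.1.2.2).le ⟨y.1, rfl⟩⟩
  have h1 := ht a ⟨y.1, hy⟩
  have h2 : t a = L'.presheaf.map (homOfLE (inf_le_left : V a ≤ g ⁻¹ᵁ W)).op s₀ := (hs a).symm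
  rw [h2, app_map_apply (lam' a.1.2 a.1.2.2) inf_le_left] at h1
  exact h1

include hφ hP hP' hL hL' in
theorem exists_hom :
    ∃ θ : L ⟶ (Scheme.Modules.pushforward g).obj L', ∀ (a : Pair ψ),
      θ ≫ (Scheme.Modules.pushforward g).map (lam' a.1.2 a.1.2.2) =
        psi φ hirr hg n lam a.1.1 a.1.1.2 a.1.2 a.1.2.2 a.2 := by
  choose f hf using exists_section u φ hφ hirr hg n lam hP hP' hL hL'
  let app : ∀ W : P.Opens, Γ(L, W) →+ Γ(L', g ⁻¹ᵁ W) := fun W =>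
    AddMonoidHom.mk' (f W) fun a b => section_ext_pair n ψ hL' fun c => by
      rw [hf, map_add, map_add, hf, hf]
      rfl
  let θ : L ⟶ (Scheme.Modules.pushforward g).obj L' := ⟨PresheafOfModules.homMk
    { app := fun W => AddCommGrpCat.ofHom (app W.unop)
      naturality := fun W W' i => by
        ext s
        change f W'.unop (L.presheaf.map i s) =
          L'.presheaf.map (homOfLE (g.preimage_mono i.unop.le)).op (f W.unop s)
        refine section_ext_pair n ψ hL' fun c => ?_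
        rw [hf]
        refine (app_map_apply (psi φ hirr hg n lam c.1.1 c.1.1.2 c.1.2 c.1.2.2 c.2) i.unop.le s).trans ?_
        refine Eq.trans ?_ (app_map_apply (lam' c.1.2 c.1.2.2) (g.preimage_mono i.unop.le) (f W.unop s)).symm
        exact (congrArg _ (hf W.unop s c)).symm }
    fun W (r : Γ(P, W.unop)) (s : Γ(L, W.unop)) => by
      change f W.unop (r • s) = g.app W.unop r • f W.unop s
      refine section_ext_pair n ψ hL' fun c => ?_
      rw [hf, Scheme.Modules.Hom.app_smul, Scheme.Modules.Hom.app_smul, hf]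
      rfl⟩
  refine ⟨θ, fun a => Scheme.Modules.hom_ext _ _ fun W => ?_⟩
  ext s
  exact hf W s a

theorem isIso_transpose_congr {A B : Scheme.{u}} {f₁ f₂ : A ⟶ B} (e : f₁ = f₂) {L : B.Modules} {F : A.Modules}
    (κ : L ⟶ (Scheme.Modules.pushforward f₁).obj F)
    (h : IsIso (((Scheme.Modules.pullbackPushforwardAdjunction f₁).homEquiv _ _).symm κ)) :
    IsIso (((Scheme.Modules.pullbackPushforwardAdjunction f₂).homEquiv _ _).symm
      (κ ≫ (Scheme.Modules.pushforwardCongr e).hom.app F)) := by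
  subst e
  have : (Scheme.Modules.pushforwardCongr (rfl : f₁ = f₁)).hom.app F = 𝟙 _ := by
    refine Scheme.Modules.hom_ext _ _ fun W => ?_
    rw [Scheme.Modules.pushforwardCongr_hom_app_app]
    exact F.presheaf.map_id _
  rw [this, Category.comp_id]
  exact h

variable (hpo : ∀ (U : Y.Opens) (hU : IsAffineOpen U) (U' : Y'.Opens) (hU' : IsAffineOpen U') (hle : U' ≤ ψ ⁻¹ᵁ U),
      IsPushout (ψ.appLE U U' hle) (𝒮.str.app (op U)) (𝒮'.str.app (op U'))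
        ((u.app (op U) : 𝒮.presheaf.obj (op U) ⟶ 𝒮'.presheaf.obj (op (ψ ⁻¹ᵁ U))) ≫
          𝒮'.presheaf.map (homOfLE hle).op))

include hφ hpo in
theorem isIso_transpose_comap (U : Y.Opens) (hU : IsAffineOpen U) (U' : Y'.Opens) (hU' : IsAffineOpen U')
    (hle : U' ≤ ψ ⁻¹ᵁ U) :
    IsIso (((Scheme.Modules.pullbackPushforwardAdjunction
        (Proj.map (φ U hU U' hU' hle) (hirr U hU U' hU' hle))).homEquiv _ _).symm
      (GrTwist.comap (φ U hU U' hU' hle) (hirr U hU U' hU' hle) n)) := by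
  classical
  let R' : Type u := Y.presheaf.obj (op U)
  let R : Type u := Y'.presheaf.obj (op U')
  let A : Type u := 𝒮.presheaf.obj (op U)
  let B : Type u := 𝒮'.presheaf.obj (op U')
  let χ := φ U hU U' hU' hle
  letI : Algebra R' R := (ψ.appLE U U' hle).hom.toAlgebra
  letI : Algebra R' A := (𝒮.str.app (op U)).hom.toAlgebra
  letI : Algebra R B := (𝒮'.str.app (op U')).hom.toAlgebra
  letI : Algebra A B := χ.toRingHom.toAlgebra
  letI : Algebra R' B := ((algebraMap R B).comp (algebraMap R' R)).toAlgebra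
  haveI : IsScalarTower R' R B := IsScalarTower.of_algebraMap_eq' rfl
  have hc : ∀ r : R', χ (algebraMap R' A r) = algebraMap R B (algebraMap R' R r) := fun r => by
    have h1 : χ (algebraMap R' A r) = ((u.app (op U) : 𝒮.presheaf.obj (op U) ⟶ 𝒮'.presheaf.obj (op (ψ ⁻¹ᵁ U))) ≫
        𝒮'.presheaf.map (homOfLE hle).op).hom (algebraMap R' A r) := congr($(hφ U hU U' hU' hle) _)
    exact h1.trans (congr($((hpo U hU U' hU' hle).w) r)).symm
  haveI : IsScalarTower R' A B := IsScalarTower.of_algebraMap_eq' (RingHom.ext fun r => (hc r).symm)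
  have hP : Algebra.IsPushout R' R A B := by
    refine CommRingCat.isPushout_iff_isPushout.mp ?_
    have hcat : CommRingCat.ofHom (algebraMap A B) =
        ((u.app (op U) : 𝒮.presheaf.obj (op U) ⟶ 𝒮'.presheaf.obj (op (ψ ⁻¹ᵁ U))) ≫
          𝒮'.presheaf.map (homOfLE hle).op) := CommRingCat.hom_ext (hφ U hU U' hU' hle)
    rw [hcat]
    exact hpo U hU U' hU' hle
  have h : IsBaseChange R (IsScalarTower.toAlgHom R' A B).toLinearMap := hP.out
  have he : ∀ (r : R) (b : A), h.equiv (TensorProduct.tmul R' r b) = r • (χ b : B) := fun r b => by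
    rw [IsBaseChange.equiv_tmul]; rfl
  have hspan : ∀ D, ∀ b ∈ 𝒮'.deg U' hU' D,
      b ∈ Submodule.span R ((fun a => (χ a : B)) '' (𝒮.deg U hU D : Set A)) := by
    intro D b hb
    obtain ⟨t, ht⟩ := TensorProduct.exists_finset (h.equiv.symm b)
    have h1 : b = ∑ i ∈ t, i.1 • (χ i.2 : B) := by
      rw [← h.equiv.apply_symm_apply b, ht, map_sum]
      exact Finset.sum_congr rfl fun i _ => he _ _
    rw [← DirectSum.decompose_of_mem_same (𝒮'.deg U' hU') hb, h1, DirectSum.decompose_sum,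
      DFinsupp.finsetSum_apply, AddSubmonoidClass.coe_finsetSum]
    refine sum_mem fun i _ => ?_
    rw [Algebra.smul_def, DirectSum.coe_decompose_mul_of_left_mem_zero (𝒮'.deg U' hU')
      (show algebraMap R B i.1 ∈ 𝒮'.deg U' hU' 0 from 𝒮'.str_mem U' hU' i.1),
      ← GradedRingHom.map_directSumDecompose (𝒮.deg U hU) (𝒮'.deg U' hU') χ, ← Algebra.smul_def]
    exact Submodule.smul_mem _ _ (Submodule.subset_span ⟨_, (DirectSum.decompose (𝒮.deg U hU) i.2 D).2, rfl⟩)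
  have hinj : ∀ (ι : Type u) [Fintype ι] (r : ι → R) (a : ι → A),
      (∑ i, algebraMap R B (r i) * χ (a i)) = 0 →
        ∑ i, TensorProduct.tmul R' (r i) (a i) = (0 : TensorProduct R' R A) := by
    intro ι _ r a hz
    apply h.equiv.injective
    rw [map_sum, map_zero]
    refine Eq.trans (Finset.sum_congr rfl fun i _ => ?_) hz
    rw [he, Algebra.smul_def]
  exact TwistBaseChange.isIso_transpose χ (hirr U hU U' hU' hle) (R := R) (R' := R')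
    (fun r => 𝒮.str_mem U hU r) (fun r => 𝒮'.str_mem U' hU' r) hc hspan hinj n

include hφ hg hP hP' hL hL' hpo in
/-- The twisting sheaf pulls back to the twisting sheaf. -/
theorem nonempty_iso : Nonempty ((Scheme.Modules.pullback g).obj L ≅ L') := by
  obtain ⟨θ, hθ⟩ := exists_hom u φ hφ hirr hg n lam hP hP' hL hL'
  let T := ((Scheme.Modules.pullbackPushforwardAdjunction g).homEquiv _ _).symm θ
  haveI : IsIso T := by
    refine TransposeComp.isIso_of_pullback_cover T fun x => ?_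
    obtain ⟨a, hxa⟩ := exists_pair ψ (p'.base x)
    obtain ⟨⟨⟨U, hU⟩, ⟨U', hU'⟩⟩, hle⟩ := a
    refine ⟨_, RelProj.emb p' chart' U' hU', inferInstance, ?_, ?_⟩
    · rw [opensRange_emb p' chart' U' hU']; exact hxa
    have hρ' := isIso_transpose_of_bijective (RelProj.emb p' chart' U' hU') (lam' U' hU')
      fun W hW => hL'.bijective U' hU' W (hW.trans (opensRange_emb p' chart' U' hU').le)
    refine (TransposeComp.isIso_transpose_comp_iff (RelProj.emb p' chart' U' hU') g θ (lam' U' hU') hρ').1 ?_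
    rw [← Category.assoc, hθ ⟨(⟨U, hU⟩, ⟨U', hU'⟩), hle⟩]
    simp only [psi, transfer, Category.assoc, Iso.inv_hom_id_app, Category.comp_id]
    rw [← Category.assoc ((Scheme.Modules.pushforward (RelProj.emb p chart U hU)).map _), ← Category.assoc]
    refine isIso_transpose_congr (map_emb φ hirr hg U hU U' hU' hle) _ ?_
    refine (TransposeComp.isIso_transpose_comp_iff _ (RelProj.emb p chart U hU) (lam U hU) _
      (isIso_transpose_comap u φ hφ hirr n hpo U hU U' hU' hle)).2 ?_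
    haveI := isIso_transpose_of_bijective (RelProj.emb p chart U hU) (lam U hU)
      fun W hW => hL.bijective U hU W (hW.trans (opensRange_emb p chart U hU).le)
    infer_instance
  exact ⟨asIso T⟩

end Groth.Agent.H11Proj.RelTwistBC
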