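import Groth.Prelude.Def_RelProj
import Groth.Agent.H11Tilde.GammaStar.Module
import Mathlib

/-!
# Quasi-coherent graded algebras from compatible subrings over affine opens
-/

set_option autoImplicit false
set_option linter.style.haveILetI false

noncomputable section

universe u

open CategoryTheory AlgebraicGeometry TopologicalSpace Opposite

namespace Groth.Agent.H11Proj

variable {S : Scheme.{u}}

/-- Restriction in a presheaf of rings. -/
abbrev resT (T : TopCat.Presheaf CommRingCat.{u} S.carrier) {U V : S.Opens} (i : V ≤ U) :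
    T.obj (op U) →+* T.obj (op V) := (T.map (homOfLE i).op).hom

/-- The structure map on an open. -/
abbrev strT {T : TopCat.Presheaf CommRingCat.{u} S.carrier} (str : S.presheaf ⟶ T) (U : S.Opens) :
    Γ(S, U) →+* T.obj (op U) := (str.app (op U)).hom

variable (T : TopCat.Presheaf CommRingCat.{u} S.carrier) (str : S.presheaf ⟶ T)

theorem resT_resT {U V W : S.Opens} (h₁ : V ≤ U) (h₂ : W ≤ V) (x : T.obj (op U)) :
    resT T h₂ (resT T h₁ x) = resT T (h₂.trans h₁) x := by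
  simp only [resT]
  rw [← ConcreteCategory.comp_apply, ← Functor.map_comp]
  rfl

theorem resT_self {U : S.Opens} (x : T.obj (op U)) : resT T (le_refl U) x = x :=
  ConcreteCategory.congr_hom (T.map_id _) x

theorem resT_str {U V : S.Opens} (i : V ≤ U) (r : Γ(S, U)) :
    resT T i (strT str U r) = strT str V (S.presheaf.map (homOfLE i).op r) :=
  (ConcreteCategory.congr_hom (str.naturality (homOfLE i).op) r).symm

/-- Subrings over the affine opens, compatible with localisation, with a compatible grading. -/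
structure SubSys where
  R : ∀ (U : S.Opens), IsAffineOpen U → Subring (T.obj (op U))
  str_mem : ∀ (U : S.Opens) (hU : IsAffineOpen U) (r : Γ(S, U)), strT str U r ∈ R U hU
  res_mem : ∀ {U V : S.Opens} (hU : IsAffineOpen U) (hV : IsAffineOpen V) (i : V ≤ U) (x : T.obj (op U)),
    x ∈ R U hU → resT T i x ∈ R V hV
  clear : ∀ (U : S.Opens) (hU : IsAffineOpen U) (r : Γ(S, U)) (z : T.obj (op (S.basicOpen r))),
    z ∈ R (S.basicOpen r) (hU.basicOpen r) → ∃ (m : ℕ) (q : T.obj (op U)), q ∈ R U hU ∧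
      resT T (S.basicOpen_le r) q = resT T (S.basicOpen_le r) (strT str U r) ^ m * z
  killed : ∀ (U : S.Opens) (hU : IsAffineOpen U) (r : Γ(S, U)) (x : T.obj (op U)),
    x ∈ R U hU → resT T (S.basicOpen_le r) x = 0 → ∃ m : ℕ, strT str U r ^ m * x = 0
  G : ∀ (W : S.Opens), ℕ → AddSubgroup (T.obj (op W))
  one_memG : ∀ W, (1 : T.obj (op W)) ∈ G W 0
  mul_memG : ∀ (W : S.Opens) (i j : ℕ) (a b : T.obj (op W)), a ∈ G W i → b ∈ G W j → a * b ∈ G W (i + j)
  res_G : ∀ {U V : S.Opens} (i : V ≤ U) (d : ℕ) (x : T.obj (op U)), x ∈ G U d → resT T i x ∈ G V d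
  str_G : ∀ (W : S.Opens) (r : Γ(S, W)), strT str W r ∈ G W 0
  π : ∀ (W : S.Opens), ℕ → T.obj (op W) →+ T.obj (op W)
  π_mem : ∀ W d x, π W d x ∈ G W d
  π_same : ∀ W d, ∀ x ∈ G W d, π W d x = x
  π_ne : ∀ W d e, d ≠ e → ∀ x ∈ G W e, π W d x = 0
  π_R : ∀ (U : S.Opens) (hU : IsAffineOpen U) (d : ℕ) (x : T.obj (op U)), x ∈ R U hU → π U d x ∈ R U hU
  π_fin : ∀ (U : S.Opens) (hU : IsAffineOpen U) (x : T.obj (op U)), x ∈ R U hU →
    ∃ F : Finset ℕ, ∑ d ∈ F, π U d x = x

namespace SubSys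

variable {T str} (Y : SubSys T str)

theorem exists_affine_le {W : S.Opens} {s : S} (hs : s ∈ W) : ∃ U : S.Opens, IsAffineOpen U ∧ s ∈ U ∧ U ≤ W := by
  obtain ⟨U, hU, hsU, hle⟩ := exists_isAffineOpen_mem_and_subset (x := s) (U := W) hs
  exact ⟨U, hU, hsU, hle⟩

/-- Sections locally in the subrings. -/
def sub (W : S.Opens) : Subring (T.obj (op W)) where
  carrier := {σ | ∀ s ∈ W, ∃ (U : S.Opens) (hU : IsAffineOpen U) (i : U ≤ W), s ∈ U ∧ resT T i σ ∈ Y.R U hU}
  mul_mem' {a b} ha hb s hs := by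
    obtain ⟨U₁, h₁, i₁, hs₁, m₁⟩ := ha s hs
    obtain ⟨U₂, h₂, i₂, hs₂, m₂⟩ := hb s hs
    obtain ⟨U, hU, hsU, hle⟩ := exists_affine_le (W := U₁ ⊓ U₂) ⟨hs₁, hs₂⟩
    refine ⟨U, hU, hle.trans (inf_le_left.trans i₁), hsU, ?_⟩
    rw [map_mul]
    have k₁ := Y.res_mem h₁ hU (hle.trans inf_le_left) _ m₁
    have k₂ := Y.res_mem h₂ hU (hle.trans inf_le_right) _ m₂
    rw [resT_resT] at k₁ k₂
    exact mul_mem k₁ k₂
  one_mem' s hs := by
    obtain ⟨U, hU, hsU, hle⟩ := exists_affine_le hs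
    exact ⟨U, hU, hle, hsU, by rw [map_one]; exact one_mem _⟩
  add_mem' {a b} ha hb s hs := by
    obtain ⟨U₁, h₁, i₁, hs₁, m₁⟩ := ha s hs
    obtain ⟨U₂, h₂, i₂, hs₂, m₂⟩ := hb s hs
    obtain ⟨U, hU, hsU, hle⟩ := exists_affine_le (W := U₁ ⊓ U₂) ⟨hs₁, hs₂⟩
    refine ⟨U, hU, hle.trans (inf_le_left.trans i₁), hsU, ?_⟩
    rw [map_add]
    have k₁ := Y.res_mem h₁ hU (hle.trans inf_le_left) _ m₁
    have k₂ := Y.res_mem h₂ hU (hle.trans inf_le_right) _ m₂
    rw [resT_resT] at k₁ k₂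
    exact add_mem k₁ k₂
  zero_mem' s hs := by
    obtain ⟨U, hU, hsU, hle⟩ := exists_affine_le hs
    exact ⟨U, hU, hle, hsU, by rw [map_zero]; exact zero_mem _⟩
  neg_mem' {a} ha s hs := by
    obtain ⟨U, hU, i, h, hm⟩ := ha s hs
    exact ⟨U, hU, i, h, by rw [map_neg]; exact neg_mem hm⟩

theorem mem_sub_of_mem {U : S.Opens} (hU : IsAffineOpen U) {x : T.obj (op U)} (hx : x ∈ Y.R U hU) :
    x ∈ Y.sub U := fun _ hs => ⟨U, hU, le_rfl, hs, by rwa [resT_self]⟩

theorem res_mem_sub {U V : S.Opens} (i : V ≤ U) {x : T.obj (op U)} (hx : x ∈ Y.sub U) :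
    resT T i x ∈ Y.sub V := fun s hs => by
  obtain ⟨U₁, h₁, i₁, hs₁, m₁⟩ := hx s (i hs)
  obtain ⟨U', hU', hsU', hle⟩ := exists_affine_le (W := U₁ ⊓ V) ⟨hs₁, hs⟩
  refine ⟨U', hU', hle.trans inf_le_right, hsU', ?_⟩
  have k := Y.res_mem h₁ hU' (hle.trans inf_le_left) _ m₁
  rw [resT_resT] at k ⊢
  exact k

/-- The subpresheaf of rings. -/
def presheaf : TopCat.Presheaf CommRingCat.{u} S.carrier where
  obj W := CommRingCat.of (Y.sub W.unop)
  map {U V} i := CommRingCat.ofHom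
    (((T.map i).hom.comp (Y.sub U.unop).subtype).codRestrict _ fun x => Y.res_mem_sub i.unop.le x.2)
  map_id U := by
    refine CommRingCat.hom_ext (RingHom.ext fun x => Subtype.ext ?_)
    exact ConcreteCategory.congr_hom (T.map_id U) x.1
  map_comp {U V W} i j := by
    refine CommRingCat.hom_ext (RingHom.ext fun x => Subtype.ext ?_)
    exact ConcreteCategory.congr_hom (T.map_comp i j) x.1

theorem str_mem_sub (U : S.Opens) (r : Γ(S, U)) : strT str U r ∈ Y.sub U := fun s hs => by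
  obtain ⟨U', hU', hsU', hle⟩ := exists_affine_le hs
  exact ⟨U', hU', hle, hsU', by rw [resT_str]; exact Y.str_mem U' hU' _⟩

/-- The structure map. -/
def strMap : S.presheaf ⟶ Y.presheaf where
  app U := CommRingCat.ofHom ((str.app U).hom.codRestrict _ fun r => Y.str_mem_sub U.unop r)
  naturality {U V} i := by
    refine CommRingCat.hom_ext (RingHom.ext fun r => Subtype.ext ?_)
    exact ConcreteCategory.congr_hom (str.naturality i) r

variable (hT : T.IsSheaf)

include hT in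
theorem isSheaf : Y.presheaf.IsSheaf := by
  rw [TopCat.Presheaf.isSheaf_iff_isSheafUniqueGluing]
  intro ι W sf hsf
  have hT' := (TopCat.Presheaf.isSheaf_iff_isSheafUniqueGluing T).1 hT
  obtain ⟨σ, hσ, huniq⟩ := hT' W (fun i => (sf i).1) fun i j => congrArg Subtype.val (hsf i j)
  have hmem : σ ∈ Y.sub (iSup W) := fun s hs => by
    obtain ⟨i, hi⟩ := Opens.mem_iSup.1 hs
    obtain ⟨V, hV, j, hsV, hm⟩ := (sf i).2 s hi
    refine ⟨V, hV, j.trans (le_iSup W i), hsV, ?_⟩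
    have e : resT T j (resT T (le_iSup W i) σ) = resT T j (sf i).1 := congrArg (resT T j) (hσ i)
    rw [resT_resT] at e
    exact e ▸ hm
  exact ⟨⟨σ, hmem⟩, fun i => Subtype.ext (hσ i), fun τ hτ =>
    Subtype.ext (huniq τ.1 fun i => congrArg Subtype.val (hτ i))⟩

include hT in
/-- Over an affine open, sections locally in the subrings lie in the subring. -/
theorem mem_of_mem_sub {U : S.Opens} (hU : IsAffineOpen U) {x : T.obj (op U)} (hx : x ∈ Y.sub U) :
    x ∈ Y.R U hU := by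
  classical
  have hloc : ∀ s : U, ∃ g : Γ(S, U), s.1 ∈ S.basicOpen g ∧ ∃ (m : ℕ) (q : T.obj (op U)), q ∈ Y.R U hU ∧
      resT T (S.basicOpen_le g) q = resT T (S.basicOpen_le g) (strT str U g ^ m * x) := fun s => by
    obtain ⟨V, hV, i, hsV, hm⟩ := hx s.1 s.2
    obtain ⟨g, hg, hsg⟩ := hU.exists_basicOpen_le ⟨s.1, hsV⟩ s.2
    have hm' := Y.res_mem hV (hU.basicOpen g) hg _ hm
    rw [resT_resT] at hm'
    obtain ⟨m, q, hq, e⟩ := Y.clear U hU g _ hm'
    exact ⟨g, hsg, m, q, hq, by rw [e, map_mul, map_pow]⟩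
  choose g hsg m₀ q₀ hq₀mem hq₀ using hloc
  obtain ⟨A, hA⟩ := hU.isCompact.elim_finite_subcover (fun s : U => (S.basicOpen (g s) : Set S))
    (fun s => (S.basicOpen (g s)).isOpen) (fun x hx => Set.mem_iUnion.2 ⟨⟨x, hx⟩, hsg _⟩)
  let m := A.sup m₀
  let γ := fun a : U => strT str U (g a)
  have hγ : ∀ a, γ a ∈ Y.R U hU := fun a => Y.str_mem U hU _
  let q : U → T.obj (op U) := fun a => γ a ^ (m - m₀ a) * q₀ a
  have hqmem : ∀ a, q a ∈ Y.R U hU := fun a => mul_mem (pow_mem (hγ a) _) (hq₀mem a)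
  have hq : ∀ a ∈ A, resT T (S.basicOpen_le (g a)) (q a) = resT T (S.basicOpen_le (g a)) (γ a ^ m * x) :=
    fun a ha => by
    have hm : m - m₀ a + m₀ a = m := Nat.sub_add_cancel (Finset.le_sup (f := m₀) ha)
    conv_rhs => rw [← hm, pow_add, mul_assoc, map_mul, ← hq₀]
    simp only [q, map_mul]
  clear_value q
  have hkill : ∀ a b : U, ∃ M : ℕ, a ∈ A → b ∈ A →
      (γ a * γ b) ^ M * (γ b ^ m * q a - γ a ^ m * q b) = 0 := fun a b => by
    by_cases hab : a ∈ A ∧ b ∈ A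
    · have hle : S.basicOpen (g a * g b) ≤ S.basicOpen (g a) ⊓ S.basicOpen (g b) := (S.basicOpen_mul _ _).le
      have hz : resT T (S.basicOpen_le (g a * g b)) (γ b ^ m * q a - γ a ^ m * q b) = 0 := by
        have ea := congrArg (resT T (hle.trans inf_le_left)) (hq a hab.1)
        have eb := congrArg (resT T (hle.trans inf_le_right)) (hq b hab.2)
        rw [resT_resT, resT_resT] at ea eb
        rw [map_sub, map_mul, map_mul, ea, eb, map_mul, map_mul]
        ring
      obtain ⟨M, hM⟩ := Y.killed U hU _ _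
        (sub_mem (mul_mem (pow_mem (hγ b) _) (hqmem a)) (mul_mem (pow_mem (hγ a) _) (hqmem b))) hz
      exact ⟨M, fun _ _ => by rw [← hM, map_mul]⟩
    · exact ⟨0, fun ha hb => absurd ⟨ha, hb⟩ hab⟩
  choose M₀ hM₀ using hkill
  let M := A.sup fun a => A.sup (M₀ a)
  let q' : U → T.obj (op U) := fun a => γ a ^ M * q a
  let N := m + M
  have hM : ∀ a ∈ A, ∀ b ∈ A, γ b ^ N * q' a = γ a ^ N * q' b := by
    intro a ha b hb
    have hle : M₀ a b ≤ M := (Finset.le_sup (f := M₀ a) hb).trans (Finset.le_sup (f := fun c => A.sup (M₀ c)) ha)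
    rw [← sub_eq_zero]
    have e : γ b ^ N * q' a - γ a ^ N * q' b =
        (γ a * γ b) ^ (M - M₀ a b) * ((γ a * γ b) ^ M₀ a b * (γ b ^ m * q a - γ a ^ m * q b)) := by
      rw [← mul_assoc ((γ a * γ b) ^ _), ← pow_add, Nat.sub_add_cancel hle, mul_pow]
      simp only [q', N, pow_add]
      ring
    rw [e, hM₀ a b ha hb, mul_zero]
  have hcov : U ≤ ⨆ a : A, S.basicOpen (g a.1) := fun s hs => by
    obtain ⟨a, ha, hsa⟩ := Set.mem_iUnion₂.1 (hA hs)
    exact Opens.mem_iSup.2 ⟨⟨a, ha⟩, hsa⟩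
  have hspan : Ideal.span (Set.range fun a : A => g a.1) = ⊤ := by
    rw [← hU.iSup_basicOpen_eq_self_iff]
    refine le_antisymm (iSup_le fun a => S.basicOpen_le _) (hcov.trans (iSup_le fun a => ?_))
    exact le_iSup (fun z : ↥(Set.range fun a : A => g a.1) => S.basicOpen z.1) ⟨_, a, rfl⟩
  have hspanN : Ideal.span (Set.range fun a : A => g a.1 ^ N) = ⊤ := by
    have := Ideal.span_pow_eq_top _ hspan N
    rwa [← Set.range_comp] at this
  obtain ⟨c, hc⟩ : ∃ c : A → Γ(S, U), ∑ a : A, c a • g a.1 ^ N = 1 :=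
    (Submodule.mem_span_range_iff_exists_fun Γ(S, U)).1 ((Ideal.eq_top_iff_one _).1 hspanN)
  simp only [smul_eq_mul] at hc
  suffices e : x = ∑ a : A, strT str U (c a) * q' a.1 by
    rw [e]
    exact sum_mem fun a _ => mul_mem (Y.str_mem U hU _) (mul_mem (pow_mem (hγ _) _) (hqmem _))
  refine TopCat.Sheaf.eq_of_locally_eq' ⟨T, hT⟩ (fun a : A => S.basicOpen (g a.1)) U
    (fun a => homOfLE (S.basicOpen_le _)) hcov _ _ fun b => ?_
  change resT T (S.basicOpen_le (g b.1)) _ = resT T (S.basicOpen_le (g b.1)) _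
  have hu : IsUnit (resT T (S.basicOpen_le (g b.1)) (γ b.1) ^ N) := by
    simp only [γ]
    rw [resT_str]
    haveI := hU.isLocalization_basicOpen (g b.1)
    exact (IsUnit.map _ (IsLocalization.map_units (M := Submonoid.powers (g b.1)) Γ(S, S.basicOpen (g b.1))
      ⟨g b.1, 1, pow_one (g b.1)⟩)).pow N
  refine hu.mul_left_cancel ?_
  rw [← map_pow, ← map_mul, ← map_mul]
  have e : γ b.1 ^ N * ∑ a : A, strT str U (c a) * q' a.1 = q' b.1 := by
    calc γ b.1 ^ N * ∑ a : A, strT str U (c a) * q' a.1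
        = (∑ a : A, strT str U (c a * g a.1 ^ N)) * q' b.1 := by
          rw [Finset.mul_sum, Finset.sum_mul]
          refine Finset.sum_congr rfl fun a _ => ?_
          rw [mul_left_comm, hM a.1 a.2 b.1 b.2, map_mul, map_pow]
          ring
      _ = q' b.1 := by rw [← map_sum, hc, map_one, one_mul]
  rw [e]
  simp only [q', map_mul, map_pow, hq b.1 b.2, N, pow_add]
  ring

include hT in
theorem isQC : RelSpec.IsQC Y.presheaf Y.strMap := by
  intro U hU r
  let V := S.basicOpen r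
  let c : Y.presheaf.obj (op U) := (Y.strMap.app (op U)).hom r
  have hVU : V ≤ U := S.basicOpen_le r
  letI := (Y.presheaf.map (homOfLE (S.basicOpen_le r)).op).hom.toAlgebra
  haveI := hU.isLocalization_basicOpen r
  change IsLocalization.Away c _
  refine ⟨⟨?_, ?_, ?_⟩⟩
  · rintro ⟨_, n, rfl⟩
    change IsUnit (Y.presheaf.map (homOfLE hVU).op (c ^ n))
    rw [map_pow]
    refine IsUnit.pow n ?_
    have e : Y.presheaf.map (homOfLE hVU).op c = (Y.strMap.app (op V)).hom (S.presheaf.map (homOfLE hVU).op r) :=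
      (ConcreteCategory.congr_hom (Y.strMap.naturality (homOfLE hVU).op) r).symm
    rw [e]
    exact IsUnit.map _ (IsLocalization.map_units (M := Submonoid.powers r) Γ(S, V) ⟨r, 1, pow_one r⟩)
  · intro z
    obtain ⟨m, q, hq, e⟩ := Y.clear U hU r z.1 (Y.mem_of_mem_sub hT (hU.basicOpen r) z.2)
    refine ⟨⟨⟨q, Y.mem_sub_of_mem hU hq⟩, ⟨c ^ m, m, rfl⟩⟩, Subtype.ext ?_⟩
    change z.1 * resT T hVU (strT str U r ^ m) = resT T hVU q
    rw [map_pow, e, mul_comm]
  · intro x y hxy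
    have hxy' : resT T hVU x.1 = resT T hVU y.1 := congrArg Subtype.val hxy
    obtain ⟨m, hm⟩ := Y.killed U hU r (x.1 - y.1)
      (sub_mem (Y.mem_of_mem_sub hT hU x.2) (Y.mem_of_mem_sub hT hU y.2)) (by rw [map_sub, hxy', sub_self])
    refine ⟨⟨c ^ m, m, rfl⟩, Subtype.ext ?_⟩
    rw [mul_sub, sub_eq_zero] at hm
    exact hm

/-- The quasi-coherent algebra. -/
def qcAlg : RelSpec.QCAlg S where
  presheaf := Y.presheaf
  isSheaf := Y.isSheaf hT
  str := Y.strMap
  isQC := Y.isQC hT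

/-- The elements of degree `d`. -/
def deg (U : S.Opens) (d : ℕ) : AddSubgroup (Y.sub U) := (Y.G U d).comap (Y.sub U).subtype.toAddMonoidHom

/-- The grading over an affine open. -/
@[instance_reducible]
def gradedRing {U : S.Opens} (hU : IsAffineOpen U) : GradedRing (Y.deg U) where
  one_mem := Y.one_memG U
  mul_mem i j a b ha hb := Y.mul_memG U i j a.1 b.1 ha hb
  toDecomposition := by
    let π : ℕ → Y.sub U →+ Y.sub U := fun d =>
      AddMonoidHom.mk' (fun x => ⟨Y.π U d x.1, Y.mem_sub_of_mem hU (Y.π_R U hU d x.1 (Y.mem_of_mem_sub hT hU x.2))⟩)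
        fun x y => Subtype.ext (map_add (Y.π U d) x.1 y.1)
    refine H11Tilde.decompositionOfProj _ π (fun d x => Y.π_mem U d x.1)
      (fun d x hx => Subtype.ext (Y.π_same U d x.1 hx)) (fun d e h x hx => Subtype.ext (Y.π_ne U d e h x.1 hx)) ?_
    intro x
    obtain ⟨F, hF⟩ := Y.π_fin U hU x.1 (Y.mem_of_mem_sub hT hU x.2)
    refine ⟨F, Subtype.ext ?_⟩
    rw [AddSubmonoidClass.coe_finsetSum]
    exact hF

/-- The quasi-coherent graded algebra. -/
def qcGrAlg : RelProj.QCGrAlg S where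
  toQCAlg := Y.qcAlg hT
  deg U _ := Y.deg U
  graded _ hU := Y.gradedRing hT hU
  map_mem _ _ i _ _ hx := Y.res_G i _ _ hx
  str_mem U _ r := Y.str_G U r

end SubSys

end Groth.Agent.H11Proj
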