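import Groth.Agent.H11Proj.SecChart
import Groth.Agent.H11Proj.SubAlg
import Groth.Agent.H11Proj.ChartAlgProj

/-!
# The graded algebra generated by sections of an invertible module given over the affine opens of the base
-/

set_option autoImplicit false
set_option linter.style.haveILetI false

noncomputable section

universe u

open CategoryTheory AlgebraicGeometry TopologicalSpace Opposite MvPolynomial
open Groth.Agent.H11Tilde Groth.Agent.H11Ample

namespace Groth.Agent.H11Proj

variable {X S : Scheme.{u}} (f : X ⟶ S) (L : X.Modules)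

/-- A linear combination with coefficients on the base. -/
def SpanBy {U : S.Opens} {k : ℕ} (g : Fin k → Γ(L, f ⁻¹ᵁ U)) (s : Γ(L, f ⁻¹ᵁ U)) : Prop :=
  ∃ c : Fin k → Γ(S, U), s = ∑ l, f.app U (c l) • g l

/-- Finitely many sections over every affine open of the base, compatible with restriction and localisation. -/
structure Gens where
  k : ∀ (U : S.Opens), IsAffineOpen U → ℕ
  g : ∀ (U : S.Opens) (hU : IsAffineOpen U), Fin (k U hU) → Γ(L, f ⁻¹ᵁ U)
  res_span : ∀ {U V : S.Opens} (hU : IsAffineOpen U) (hV : IsAffineOpen V) (i : V ≤ U) (l : Fin (k U hU)),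
    SpanBy f L (g V hV) (resS L (f.preimage_mono i) (g U hU l))
  clear : ∀ (U : S.Opens) (hU : IsAffineOpen U) (r : Γ(S, U)) (l : Fin (k (S.basicOpen r) (hU.basicOpen r))),
    ∃ (m : ℕ) (s : Γ(L, f ⁻¹ᵁ U)), SpanBy f L (g U hU) s ∧
      resS L (f.preimage_mono (S.basicOpen_le r)) s =
        f.app (S.basicOpen r) (S.presheaf.map (homOfLE (S.basicOpen_le r)).op r) ^ m •
          g (S.basicOpen r) (hU.basicOpen r) l

namespace SecAlg

/-- Restriction of the coefficient ring. -/
def resCoeff (a : Chart L) {W W' : S.Opens} (i : W' ≤ W) :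
    Γ(X, a.V ⊓ f ⁻¹ᵁ W) →+* Γ(X, a.V ⊓ f ⁻¹ᵁ W') :=
  resF (inf_le_inf_left a.V (f.preimage_mono i))

/-- The ambient sheaf of algebras: power series in the degree variable, chart by chart. -/
def amb : TopCat.Presheaf CommRingCat.{u} S.carrier where
  obj W := CommRingCat.of (∀ a : Chart L, PowerSeries Γ(X, a.V ⊓ f ⁻¹ᵁ W.unop))
  map i := CommRingCat.ofHom
    (RingHom.pi fun a => (PowerSeries.map (resCoeff f L a i.unop.le)).comp (Pi.evalRingHom _ a))
  map_id W := by
    refine CommRingCat.hom_ext (RingHom.ext fun x => funext fun a => PowerSeries.ext fun d => ?_)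
    change PowerSeries.coeff d (PowerSeries.map _ (x a)) = PowerSeries.coeff d (x a)
    rw [PowerSeries.coeff_map]
    exact resF_self _
  map_comp i i' := by
    refine CommRingCat.hom_ext (RingHom.ext fun x => funext fun a => PowerSeries.ext fun d => ?_)
    change PowerSeries.coeff d (PowerSeries.map _ (x a)) =
      PowerSeries.coeff d (PowerSeries.map _ (PowerSeries.map _ (x a)))
    rw [PowerSeries.coeff_map, PowerSeries.coeff_map, PowerSeries.coeff_map]
    exact (resF_resF _ _ _).symm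

/-- The component at a chart. -/
def comp (a : Chart L) (W : S.Opens) : (amb f L).obj (op W) →+* PowerSeries Γ(X, a.V ⊓ f ⁻¹ᵁ W) :=
  Pi.evalRingHom (fun a : Chart L => PowerSeries Γ(X, a.V ⊓ f ⁻¹ᵁ W)) a

/-- The coefficient of degree `d` at a chart. -/
def coeffAt (a : Chart L) {W : S.Opens} (d : ℕ) (x : (amb f L).obj (op W)) : Γ(X, a.V ⊓ f ⁻¹ᵁ W) :=
  PowerSeries.coeff d (comp f L a W x)

theorem amb_ext {W : S.Opens} {x y : (amb f L).obj (op W)}
    (h : ∀ a d, coeffAt f L a d x = coeffAt f L a d y) : x = y :=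
  funext fun a => PowerSeries.ext fun d => h a d

theorem coeffAt_res {W W' : S.Opens} (i : W' ≤ W) (a : Chart L) (d : ℕ) (x : (amb f L).obj (op W)) :
    coeffAt f L a d (resT (amb f L) i x) = resF (inf_le_inf_left a.V (f.preimage_mono i)) (coeffAt f L a d x) :=
  PowerSeries.coeff_map _ _ _

theorem amb_isSheaf : (amb f L).IsSheaf := by
  rw [TopCat.Presheaf.isSheaf_iff_isSheafUniqueGluing]
  intro ι W sf hsf
  have key : ∀ (a : Chart L) (d : ℕ), ∃! c : Γ(X, a.V ⊓ f ⁻¹ᵁ iSup W), ∀ i : ι,
      X.presheaf.map (homOfLE (inf_le_inf_left a.V (f.preimage_mono (le_iSup W i)))).op c =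
        coeffAt f L a d (sf i) := fun a d => by
    refine X.sheaf.existsUnique_gluing' (fun i => a.V ⊓ f ⁻¹ᵁ W i) (a.V ⊓ f ⁻¹ᵁ iSup W)
      (fun i => homOfLE (inf_le_inf_left a.V (f.preimage_mono (le_iSup W i)))) ?_
      (fun i => coeffAt f L a d (sf i)) fun i j => ?_
    · rintro x ⟨hx, hx'⟩
      obtain ⟨i, hi⟩ := Opens.mem_iSup.1 hx'
      exact Opens.mem_iSup.2 ⟨i, hx, hi⟩
    · have h : coeffAt f L a d (resT (amb f L) inf_le_left (sf i)) =
          coeffAt f L a d (resT (amb f L) (inf_le_right : W i ⊓ W j ≤ W j) (sf j)) :=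
        congrArg (coeffAt f L a d) (hsf i j)
      rw [coeffAt_res, coeffAt_res] at h
      have hle : (a.V ⊓ f ⁻¹ᵁ W i) ⊓ (a.V ⊓ f ⁻¹ᵁ W j) ≤ a.V ⊓ f ⁻¹ᵁ (W i ⊓ W j) :=
        le_inf (inf_le_left.trans inf_le_left) (le_inf (inf_le_left.trans inf_le_right) (inf_le_right.trans inf_le_right))
      have h' := congrArg (resF hle) h
      rw [resF_resF, resF_resF] at h'
      exact h'
  choose c hc hc' using key
  refine ⟨fun a => PowerSeries.mk (c a), fun i => amb_ext f L fun a d => ?_, fun y hy => amb_ext f L fun a d => ?_⟩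
  · refine (coeffAt_res f L (le_iSup W i) a d _).trans ?_
    exact (congrArg _ (PowerSeries.coeff_mk d (c a))).trans (hc a d i)
  · refine Eq.trans ?_ (PowerSeries.coeff_mk d (c a)).symm
    refine hc' a d _ fun i => ?_
    rw [← hy i]
    exact (coeffAt_res f L (le_iSup W i) a d y).symm

/-- The structure map. -/
def ambStr : S.presheaf ⟶ amb f L where
  app W := CommRingCat.ofHom (RingHom.pi fun a : Chart L =>
    PowerSeries.C.comp (f.appLE W.unop (a.V ⊓ f ⁻¹ᵁ W.unop) inf_le_right).hom)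
  naturality {W W'} i := by
    refine CommRingCat.hom_ext (RingHom.ext fun r => funext fun a => ?_)
    change PowerSeries.C (f.appLE W'.unop _ inf_le_right (S.presheaf.map i r)) =
      PowerSeries.map _ (PowerSeries.C (f.appLE W.unop _ inf_le_right r))
    rw [PowerSeries.map_C, resCoeff, resF, ← ConcreteCategory.comp_apply, ← ConcreteCategory.comp_apply,
      Scheme.Hom.appLE_map]
    rw [show i = (homOfLE i.unop.le).op from rfl, Scheme.Hom.map_appLE]

theorem comp_str (a : Chart L) {W : S.Opens} (r : Γ(S, W)) :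
    comp f L a W (strT (ambStr f L) W r) = PowerSeries.C (f.appLE W (a.V ⊓ f ⁻¹ᵁ W) inf_le_right r) := rfl

/-- A section as an element of degree one. -/
def sec {W : S.Opens} (s : Γ(L, f ⁻¹ᵁ W)) : (amb f L).obj (op W) :=
  fun a => PowerSeries.C (a.coef s) * PowerSeries.X

theorem comp_sec (a : Chart L) {W : S.Opens} (s : Γ(L, f ⁻¹ᵁ W)) :
    comp f L a W (sec f L s) = PowerSeries.C (a.coef s) * PowerSeries.X := rfl

theorem sec_add {W : S.Opens} (s t : Γ(L, f ⁻¹ᵁ W)) : sec f L (s + t) = sec f L s + sec f L t :=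
  funext fun a => by
    change PowerSeries.C (a.coef (s + t)) * PowerSeries.X = _
    rw [Chart.coef_add, map_add, add_mul]
    rfl

theorem sec_zero {W : S.Opens} : sec f L (0 : Γ(L, f ⁻¹ᵁ W)) = 0 :=
  funext fun a => by
    change PowerSeries.C (a.coef (0 : Γ(L, f ⁻¹ᵁ W))) * PowerSeries.X = _
    rw [Chart.coef_zero, map_zero, zero_mul]
    rfl

theorem sec_sum {W : S.Opens} {ι : Type*} (F : Finset ι) (s : ι → Γ(L, f ⁻¹ᵁ W)) :
    sec f L (∑ i ∈ F, s i) = ∑ i ∈ F, sec f L (s i) :=
  map_sum (⟨⟨sec f L, sec_zero f L⟩, sec_add f L⟩ : Γ(L, f ⁻¹ᵁ W) →+ (amb f L).obj (op W)) _ _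

theorem sec_smul {W : S.Opens} (r : Γ(S, W)) (s : Γ(L, f ⁻¹ᵁ W)) :
    sec f L (f.app W r • s) = strT (ambStr f L) W r * sec f L s :=
  funext fun a => by
    change PowerSeries.C (a.coef (f.app W r • s)) * PowerSeries.X =
      PowerSeries.C (f.appLE W (a.V ⊓ f ⁻¹ᵁ W) inf_le_right r) * (PowerSeries.C (a.coef s) * PowerSeries.X)
    rw [Chart.coef_smul, map_mul, mul_assoc]
    rfl

theorem res_sec {W W' : S.Opens} (i : W' ≤ W) (s : Γ(L, f ⁻¹ᵁ W)) :
    resT (amb f L) i (sec f L s) = sec f L (resS L (f.preimage_mono i) s) :=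
  funext fun a => by
    change PowerSeries.map (resCoeff f L a i) (PowerSeries.C (a.coef s) * PowerSeries.X) = _
    rw [map_mul, PowerSeries.map_C, PowerSeries.map_X, resCoeff, ← Chart.coef_res]
    rfl

variable {f L} (D : Gens f L)

/-- Evaluation of polynomials at the generators over an affine open. -/
def ev {U : S.Opens} (hU : IsAffineOpen U) :
    MvPolynomial (Fin (D.k U hU)) Γ(S, U) →+* (amb f L).obj (op U) :=
  eval₂Hom (strT (ambStr f L) U) (fun l => sec f L (D.g U hU l))

/-- Dehomogenisation at a chart. -/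
def hom {U : S.Opens} (hU : IsAffineOpen U) (a : Chart L) :
    MvPolynomial (Fin (D.k U hU)) Γ(S, U) →+* Γ(X, a.V ⊓ f ⁻¹ᵁ U) :=
  eval₂Hom (f.appLE U (a.V ⊓ f ⁻¹ᵁ U) inf_le_right).hom (fun l => a.coef (D.g U hU l))

variable {U : S.Opens} (hU : IsAffineOpen U)

theorem comp_ev_C (a : Chart L) (r : Γ(S, U)) :
    comp f L a U (ev D hU (C r)) = PowerSeries.C (hom D hU a (C r)) := by
  simp only [ev, hom, eval₂Hom_C]
  rfl

theorem comp_ev_X (a : Chart L) (l : Fin (D.k U hU)) :
    comp f L a U (ev D hU (MvPolynomial.X l)) =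
      PowerSeries.C (hom D hU a (MvPolynomial.X l)) * PowerSeries.X := by
  simp only [ev, hom, eval₂Hom_X']
  rfl

theorem comp_ev_homogeneous (a : Chart L) {d : ℕ} {P : MvPolynomial (Fin (D.k U hU)) Γ(S, U)}
    (hP : P.IsHomogeneous d) :
    comp f L a U (ev D hU P) = PowerSeries.C (hom D hU a P) * PowerSeries.X ^ d := by
  classical
  rw [P.as_sum, map_sum, map_sum, map_sum, map_sum, Finset.sum_mul]
  refine Finset.sum_congr rfl fun e he => ?_
  have hd : e.sum (fun _ m => m) = d := by
    have := hP (MvPolynomial.mem_support_iff.1 he)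
    simpa [Finsupp.weight_apply] using this
  rw [monomial_eq, map_mul, map_mul, map_mul, map_mul, comp_ev_C, Finsupp.prod, map_prod, map_prod, map_prod,
    map_prod]
  simp only [map_pow, comp_ev_X, mul_pow]
  rw [Finset.prod_mul_distrib, Finset.prod_pow_eq_pow_sum, show e.support.sum (fun l => e l) = d from hd]
  ring

theorem coeffAt_ev (a : Chart L) (d : ℕ) (P : MvPolynomial (Fin (D.k U hU)) Γ(S, U)) :
    coeffAt f L a d (ev D hU P) = hom D hU a (homogeneousComponent d P) := by
  classical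
  conv_lhs => rw [← sum_homogeneousComponent P]
  simp only [coeffAt, map_sum]
  simp only [comp_ev_homogeneous D hU a (homogeneousComponent_isHomogeneous _ P), PowerSeries.coeff_C_mul,
    PowerSeries.coeff_X_pow, mul_ite, mul_one, mul_zero]
  rw [Finset.sum_ite_eq, ite_eq_left_iff]
  intro hd
  rw [homogeneousComponent_eq_zero _ _ (by simpa using hd), map_zero]

theorem sec_mem_range {s : Γ(L, f ⁻¹ᵁ U)} (hs : SpanBy f L (D.g U hU) s) : sec f L s ∈ (ev D hU).range := by
  obtain ⟨c, rfl⟩ := hs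
  rw [sec_sum]
  refine sum_mem fun l _ => ⟨C (c l) * MvPolynomial.X l, ?_⟩
  rw [sec_smul, map_mul, ev, eval₂Hom_C, eval₂Hom_X']

/-- Components of degree `d`. -/
def proj (W : S.Opens) (d : ℕ) : (amb f L).obj (op W) →+ (amb f L).obj (op W) :=
  AddMonoidHom.mk' (fun x => fun a => PowerSeries.C (coeffAt f L a d x) * PowerSeries.X ^ d) fun x y =>
    funext fun a => by
      change PowerSeries.C (coeffAt f L a d (x + y)) * _ = PowerSeries.C (coeffAt f L a d x) * _ +
        PowerSeries.C (coeffAt f L a d y) * _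
      rw [← add_mul, ← map_add]
      simp only [coeffAt, map_add]

theorem coeffAt_proj (W : S.Opens) (d e : ℕ) (x : (amb f L).obj (op W)) (a : Chart L) :
    coeffAt f L a e (proj W d x) = if e = d then coeffAt f L a d x else 0 := by
  change PowerSeries.coeff e (PowerSeries.C (coeffAt f L a d x) * PowerSeries.X ^ d) = _
  rw [PowerSeries.coeff_C_mul, PowerSeries.coeff_X_pow, mul_ite, mul_one, mul_zero]

theorem proj_ev (d : ℕ) (P : MvPolynomial (Fin (D.k U hU)) Γ(S, U)) :
    proj U d (ev D hU P) = ev D hU (homogeneousComponent d P) := by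
  refine amb_ext f L fun a e => ?_
  rw [coeffAt_proj, coeffAt_ev, coeffAt_ev, homogeneousComponent_of_mem (homogeneousComponent_isHomogeneous d P)]
  split_ifs with h
  · rfl
  · rw [map_zero]

theorem coeffAt_ev_trans (a b : Chart L) (d : ℕ) (P : MvPolynomial (Fin (D.k U hU)) Γ(S, U)) {W : X.Opens}
    (ha : W ≤ a.V) (hb : W ≤ b.V) (hW : W ≤ f ⁻¹ᵁ U) :
    resF (le_inf hb hW) (coeffAt f L b d (ev D hU P)) =
      resF (le_inf hb ha) (b.coef a.e) ^ d * resF (le_inf ha hW) (coeffAt f L a d (ev D hU P)) := by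
  rw [coeffAt_ev, coeffAt_ev]
  have e : ∀ (c : Chart L) (hc : W ≤ c.V) (Q : MvPolynomial (Fin (D.k U hU)) Γ(S, U)),
      resF (le_inf hc hW) (hom D hU c Q) =
      eval₂Hom (f.appLE U W hW).hom (fun l => resF (le_inf hc hW) (c.coef (D.g U hU l))) Q := fun c hc Q => by
    refine RingHom.congr_fun (f := (resF (le_inf hc hW)).comp (hom D hU c))
      (MvPolynomial.ringHom_ext (fun r => ?_) (fun l => ?_)) Q
    · simp only [RingHom.comp_apply, hom, eval₂Hom_C]
      rw [← ConcreteCategory.comp_apply, Scheme.Hom.appLE_map]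
    · simp only [RingHom.comp_apply, hom, eval₂Hom_X']
  rw [e b hb, e a ha]
  exact Charts.eval₂_scale _ _ _ _ (fun l => Chart.coef_trans a b _ ha hb hW)
    (homogeneousComponent_isHomogeneous d P)

variable [QuasiCompact f] (hL : PicF.IsInvertible L)

include hL in
theorem killed (r : Γ(S, U)) {x : (amb f L).obj (op U)} (hx : x ∈ (ev D hU).range)
    (h0 : resT (amb f L) (S.basicOpen_le r) x = 0) :
    ∃ m : ℕ, strT (ambStr f L) U r ^ m * x = 0 := by
  classical
  obtain ⟨P, rfl⟩ := hx
  have hloc : ∀ y : (f ⁻¹ᵁ U : X.Opens), ∃ (W : X.Opens) (a : Chart L),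
      IsAffineOpen W ∧ y.1 ∈ W ∧ W ≤ a.V ∧ W ≤ f ⁻¹ᵁ U := fun y => by
    obtain ⟨a, ha⟩ := exists_chart hL y.1
    obtain ⟨W, hW, hyW, hle⟩ := SubSys.exists_affine_le (W := a.V ⊓ f ⁻¹ᵁ U) ⟨ha, y.2⟩
    exact ⟨W, a, hW, hyW, hle.trans inf_le_left, hle.trans inf_le_right⟩
  choose W a hW hyW hWa hWU using hloc
  obtain ⟨A, hA⟩ := (f.isCompact_preimage (U := U) hU.isCompact).elim_finite_subcover
    (fun y : (f ⁻¹ᵁ U : X.Opens) => (W y : Set X)) (fun y => (W y).isOpen)
    (fun x hx => Set.mem_iUnion.2 ⟨⟨x, hx⟩, hyW _⟩)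
  have hm : ∀ (y : (f ⁻¹ᵁ U : X.Opens)) (d : ℕ), ∃ m : ℕ, f.appLE U (W y) (hWU y) r ^ m *
      resF (le_inf (hWa y) (hWU y)) (coeffAt f L (a y) d (ev D hU P)) = 0 := fun y d => by
    let ρ := f.appLE U (W y) (hWU y) r
    haveI := (hW y).isLocalization_basicOpen ρ
    have hle : X.basicOpen ρ ≤ (a y).V ⊓ f ⁻¹ᵁ S.basicOpen r := by
      refine le_inf ((X.basicOpen_le ρ).trans (hWa y)) ?_
      rw [Scheme.preimage_basicOpen]
      simp only [ρ, Scheme.Hom.appLE, CommRingCat.comp_apply, Scheme.basicOpen_res]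
      exact inf_le_right
    have h1 := congrArg (fun z => resF hle (coeffAt f L (a y) d z)) h0
    rw [coeffAt_res, resF_resF] at h1
    have h2 : resF (X.basicOpen_le ρ) (resF (le_inf (hWa y) (hWU y)) (coeffAt f L (a y) d (ev D hU P))) = 0 := by
      rw [resF_resF]
      refine h1.trans ?_
      rw [coeffAt, map_zero, map_zero, map_zero]
    obtain ⟨⟨_, m, rfl⟩, hm⟩ := (IsLocalization.map_eq_zero_iff (Submonoid.powers ρ)
      Γ(X, X.basicOpen ρ) _).1 h2
    exact ⟨m, hm⟩
  choose m hm using hm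
  let M := A.sup fun y => (Finset.range (P.totalDegree + 1)).sup (m y)
  refine ⟨M, amb_ext f L fun b d => ?_⟩
  have hC : strT (ambStr f L) U r ^ M * ev D hU P = ev D hU (C r ^ M * P) := by
    rw [map_mul, map_pow, ev, eval₂Hom_C]
  have hcomp : coeffAt f L b d (strT (ambStr f L) U r ^ M * ev D hU P) =
      f.appLE U (b.V ⊓ f ⁻¹ᵁ U) inf_le_right r ^ M * coeffAt f L b d (ev D hU P) := by
    simp only [coeffAt, map_mul, map_pow, comp_str]
    rw [← map_pow, PowerSeries.coeff_C_mul]
  rw [hcomp, show coeffAt f L b d (0 : (amb f L).obj (op U)) = 0 from by rw [coeffAt, map_zero, map_zero]]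
  rcases Nat.lt_or_ge P.totalDegree d with h | h
  · rw [coeffAt_ev, homogeneousComponent_eq_zero _ _ h, map_zero, mul_zero]
  · refine TopCat.Sheaf.eq_of_locally_eq' X.sheaf (fun y : A => b.V ⊓ W y.1) (b.V ⊓ f ⁻¹ᵁ U)
      (fun y => homOfLE (inf_le_inf_left _ (hWU y.1))) ?_ _ _ fun y => ?_
    · rintro x ⟨hxb, hxU⟩
      obtain ⟨y, hy, hxy⟩ := Set.mem_iUnion₂.1 (hA hxU)
      exact Opens.mem_iSup.2 ⟨⟨y, hy⟩, hxb, hxy⟩
    · change resF (inf_le_inf_left b.V (hWU y.1)) _ = resF (inf_le_inf_left b.V (hWU y.1)) 0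
      rw [map_zero, map_mul, map_pow,
        coeffAt_ev_trans D hU (a y.1) b d P (inf_le_right.trans (hWa y.1)) inf_le_left
          (inf_le_right.trans (hWU y.1))]
      have hle : m y.1 d ≤ M := (Finset.le_sup (f := m y.1) (Finset.mem_range.2 (Nat.lt_succ_of_le h))).trans
        (Finset.le_sup (f := fun y => (Finset.range (P.totalDegree + 1)).sup (m y)) y.2)
      have hz := congrArg (resF (inf_le_right : b.V ⊓ W y.1 ≤ W y.1)) (hm y.1 d)
      rw [map_mul, map_pow, map_zero, resF_resF] at hz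
      have hr : resF (inf_le_right : b.V ⊓ W y.1 ≤ W y.1) (f.appLE U (W y.1) (hWU y.1) r) =
          resF (inf_le_inf_left b.V (hWU y.1)) (f.appLE U (b.V ⊓ f ⁻¹ᵁ U) inf_le_right r) := by
        simp only [resF]
        rw [← ConcreteCategory.comp_apply, ← ConcreteCategory.comp_apply, Scheme.Hom.appLE_map,
          Scheme.Hom.appLE_map]
      rw [← hr, mul_left_comm, ← Nat.sub_add_cancel hle, pow_add, mul_assoc]
      erw [hz]
      rw [mul_zero, mul_zero]

/-- The subrings generated by the sections. -/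
def sys : SubSys (amb f L) (ambStr f L) where
  R U hU := (ev D hU).range
  str_mem U hU r := ⟨C r, eval₂Hom_C _ _ r⟩
  res_mem := by
    rintro U V hU hV i _ ⟨P, rfl⟩
    induction P using MvPolynomial.induction_on with
    | C r => exact ⟨C (S.presheaf.map (homOfLE i).op r), by rw [ev, ev, eval₂Hom_C, eval₂Hom_C, resT_str]⟩
    | add P Q hP hQ => rw [map_add, map_add]; exact add_mem hP hQ
    | mul_X P l hP =>
      rw [map_mul, map_mul]
      refine mul_mem hP ?_
      rw [show ev D hU (MvPolynomial.X l) = sec f L (D.g U hU l) from eval₂Hom_X' _ _ l, res_sec]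
      exact sec_mem_range D hV (D.res_span hU hV i l)
  clear := by
    rintro U hU r _ ⟨P, rfl⟩
    induction P using MvPolynomial.induction_on with
    | C b =>
      haveI := hU.isLocalization_basicOpen r
      obtain ⟨m, a, ha⟩ := IsLocalization.Away.surj r b
      refine ⟨m, strT (ambStr f L) U a, ⟨C a, eval₂Hom_C _ _ a⟩, ?_⟩
      rw [resT_str, resT_str, ← map_pow, ev, eval₂Hom_C, ← map_mul, mul_comm]
      exact congrArg _ ha.symm
    | add P Q hP hQ =>
      obtain ⟨m, p, hp, ep⟩ := hP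
      obtain ⟨n, q, hq, eq⟩ := hQ
      have hr : strT (ambStr f L) U r ∈ (ev D hU).range := ⟨C r, eval₂Hom_C _ _ r⟩
      refine ⟨m + n, strT (ambStr f L) U r ^ n * p + strT (ambStr f L) U r ^ m * q,
        add_mem (mul_mem (pow_mem hr _) hp) (mul_mem (pow_mem hr _) hq), ?_⟩
      rw [map_add, map_mul, map_mul, ep, eq, map_add, map_pow, map_pow]
      ring
    | mul_X P l hP =>
      obtain ⟨m, p, hp, ep⟩ := hP
      obtain ⟨n, s, hs, es⟩ := D.clear U hU r l
      refine ⟨m + n, p * sec f L s, mul_mem hp (sec_mem_range D hU hs), ?_⟩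
      rw [map_mul, ep, res_sec, es, ← map_pow (f.app (S.basicOpen r)).hom, sec_smul, map_pow, ← resT_str,
        map_mul, show ev D (hU.basicOpen r) (MvPolynomial.X l) = sec f L (D.g _ (hU.basicOpen r) l) from
          eval₂Hom_X' _ _ l]
      ring
  killed U hU r x hx h0 := killed D hU hL r hx h0
  G W d :=
    { carrier := {x | ∀ a e, e ≠ d → coeffAt f L a e x = 0}
      zero_mem' := fun a e _ => by rw [coeffAt, map_zero, map_zero]
      add_mem' := fun {x y} hx hy a e he => by
        change PowerSeries.coeff e _ = 0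
        rw [map_add, map_add]
        exact (congrArg₂ (· + ·) (hx a e he) (hy a e he)).trans (add_zero _)
      neg_mem' := fun {x} hx a e he => by
        change PowerSeries.coeff e _ = 0
        rw [map_neg, map_neg]
        exact neg_eq_zero.2 (hx a e he) }
  one_memG W a e he := by
    change PowerSeries.coeff e _ = 0
    rw [map_one, PowerSeries.coeff_one, if_neg he]
  mul_memG W i j x y hx hy a e he := by
    classical
    change PowerSeries.coeff e _ = 0
    rw [map_mul, PowerSeries.coeff_mul]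
    refine Finset.sum_eq_zero fun p hp => ?_
    rw [Finset.HasAntidiagonal.mem_antidiagonal] at hp
    rcases eq_or_ne p.1 i with h | h
    · rw [show PowerSeries.coeff p.2 (comp f L a W y) = 0 from hy a p.2 fun h2 => he (by omega), mul_zero]
    · rw [show PowerSeries.coeff p.1 (comp f L a W x) = 0 from hx a p.1 h, zero_mul]
  res_G i d x hx a e he := by rw [coeffAt_res, hx a e he, map_zero]
  str_G W r a e he := by
    change PowerSeries.coeff e _ = 0
    rw [comp_str, PowerSeries.coeff_C, if_neg he]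
  π := proj
  π_mem W d x a e he := by rw [coeffAt_proj, if_neg he]
  π_same W d x hx := amb_ext f L fun a e => by
    rw [coeffAt_proj]
    split_ifs with h
    · rw [h]
    · exact (hx a e h).symm
  π_ne W d e hde x hx := amb_ext f L fun a c => by
    rw [coeffAt_proj]
    refine Eq.trans ?_ ((congrArg _ (map_zero (comp f L a W))).trans (map_zero _)).symm
    split_ifs
    · exact hx a d hde
    · rfl
  π_R U hU d x hx := by
    obtain ⟨P, rfl⟩ := hx
    exact ⟨homogeneousComponent d P, (proj_ev D hU d P).symm⟩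
  π_fin U hU x hx := by
    obtain ⟨P, rfl⟩ := hx
    refine ⟨Finset.range (P.totalDegree + 1), ?_⟩
    simp only [proj_ev]
    rw [← map_sum, sum_homogeneousComponent]

/-- The graded algebra generated by the sections. -/
def alg : RelProj.QCGrAlg S := (sys D hL).qcGrAlg (amb_isSheaf f L)

end SecAlg

end Groth.Agent.H11Proj
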