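import Groth.Agent.H11Ample.Basic

/-!
# Local sections of an invertible module: coefficients in charts and loci of generation
-/

set_option autoImplicit false
set_option linter.style.haveILetI false

noncomputable section

universe u

open CategoryTheory AlgebraicGeometry Opposite TopologicalSpace
open Groth.Agent.H11Tilde Groth.Agent.H11Ample

namespace Groth.Agent.H11Proj

variable {X : Scheme.{u}}

/-- Restriction of functions. -/
abbrev resF {U V : X.Opens} (h : U ≤ V) : Γ(X, V) →+* Γ(X, U) := (X.presheaf.map (homOfLE h).op).hom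

theorem resF_resF {U V W : X.Opens} (h : U ≤ V) (h' : V ≤ W) (x : Γ(X, W)) :
    resF h (resF h' x) = resF (h.trans h') x := by
  simp only [resF, ← RingHom.comp_apply, ← CommRingCat.hom_comp, ← Functor.map_comp]
  rfl

theorem resF_self {U : X.Opens} (x : Γ(X, U)) : resF (le_refl U) x = x :=
  ConcreteCategory.congr_hom (X.presheaf.map_id _) x

variable (L : X.Modules)

/-- Restriction of sections. -/
abbrev resS {U V : X.Opens} (h : U ≤ V) : Γ(L, V) → Γ(L, U) := fun s => L.presheaf.map (homOfLE h).op s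

theorem resS_resS {U V W : X.Opens} (h : U ≤ V) (h' : V ≤ W) (x : Γ(L, W)) :
    resS L h (resS L h' x) = resS L (h.trans h') x := H10Coh.mres_mres _ _ _ _

theorem resS_smul {U V : X.Opens} (h : U ≤ V) (c : Γ(X, V)) (s : Γ(L, V)) :
    resS L h (c • s) = resF h c • resS L h s := Scheme.Modules.map_smul _ _ _ _

/-- A local generator of a module. -/
structure Chart where
  V : X.Opens
  e : Γ(L, V)
  isGen : IsGen L e

/-- The locus where a local section generates. -/
def genAt {W : X.Opens} (s : Γ(L, W)) : X.Opens :=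
  ⨆ V : {V : X.Opens // ∃ h : V ≤ W, IsGen L (resS L h s)}, V.1

variable {L}

theorem genAt_le {W : X.Opens} (s : Γ(L, W)) : genAt L s ≤ W := iSup_le fun V => V.2.choose

theorem isGen_genAt {W : X.Opens} (s : Γ(L, W)) : IsGen L (resS L (genAt_le s) s) := fun y hy => by
  obtain ⟨⟨V, hVW, hV⟩, hyV⟩ := Opens.mem_iSup.1 hy
  have h := hV y hyV
  rw [TopCat.Presheaf.germ_res_apply] at h ⊢
  exact h

theorem le_genAt {W : X.Opens} (s : Γ(L, W)) {V : X.Opens} (h : V ≤ W) (hV : IsGen L (resS L h s)) :
    V ≤ genAt L s :=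
  le_iSup (fun V : {V : X.Opens // ∃ h : V ≤ W, IsGen L (resS L h s)} => V.1) ⟨V, h, hV⟩

theorem genAt_res {W W' : X.Opens} (h : W' ≤ W) (s : Γ(L, W)) : genAt L (resS L h s) = genAt L s ⊓ W' := by
  refine le_antisymm (le_inf (le_genAt s ((genAt_le _).trans h) ?_) (genAt_le _))
    (le_genAt _ inf_le_right ?_)
  · have := isGen_genAt (resS L h s)
    rwa [resS_resS] at this
  · rw [resS_resS]
    have := (isGen_genAt s).res (inf_le_left : genAt L s ⊓ W' ≤ genAt L s)
    rwa [H10Coh.mres_mres] at this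

/-- The chart given by a section on its locus of generation. -/
abbrev chartAt {W : X.Opens} (s : Γ(L, W)) : Chart L := ⟨genAt L s, resS L (genAt_le s) s, isGen_genAt s⟩

namespace Chart

variable (a b : Chart L) {W : X.Opens}

theorem exists_coef (s : Γ(L, W)) : ∃ c : Γ(X, a.V ⊓ W),
    resS L inf_le_right s = c • resS L inf_le_left a.e := by
  obtain ⟨c, hc⟩ := (a.isGen.bijective (inf_le_left : a.V ⊓ W ≤ a.V)).2 (resS L inf_le_right s)
  exact ⟨c, hc.symm⟩

/-- The coefficient of a section in a chart. -/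
def coef (s : Γ(L, W)) : Γ(X, a.V ⊓ W) := (a.exists_coef s).choose

theorem coef_spec (s : Γ(L, W)) : resS L inf_le_right s = a.coef s • resS L inf_le_left a.e :=
  (a.exists_coef s).choose_spec

theorem coef_spec' (s : Γ(L, W)) {U : X.Opens} (hV : U ≤ a.V) (hW : U ≤ W) :
    resS L hW s = resF (le_inf hV hW) (a.coef s) • resS L hV a.e := by
  have := congrArg (resS L (le_inf hV hW)) (a.coef_spec s)
  rwa [resS_resS, resS_smul, resS_resS] at this

theorem eq_coef (s : Γ(L, W)) {U : X.Opens} (hV : U ≤ a.V) (hW : U ≤ W) {c : Γ(X, U)}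
    (h : resS L hW s = c • resS L hV a.e) : c = resF (le_inf hV hW) (a.coef s) :=
  (a.isGen.bijective hV).1 (h.symm.trans (a.coef_spec' s hV hW))

theorem coef_add (s t : Γ(L, W)) : a.coef (s + t) = a.coef s + a.coef t := by
  refine ((a.eq_coef (s + t) inf_le_left inf_le_right (c := a.coef s + a.coef t) ?_).trans (resF_self _)).symm
  rw [add_smul, ← coef_spec, ← coef_spec]
  exact map_add _ _ _

theorem coef_zero : a.coef (0 : Γ(L, W)) = 0 := by
  refine ((a.eq_coef (0 : Γ(L, W)) inf_le_left inf_le_right (c := 0) ?_).trans (resF_self _)).symm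
  rw [zero_smul]
  exact map_zero _

theorem coef_smul (r : Γ(X, W)) (s : Γ(L, W)) : a.coef (r • s) = resF inf_le_right r * a.coef s := by
  refine ((a.eq_coef (r • s) inf_le_left inf_le_right (c := resF inf_le_right r * a.coef s) ?_).trans
    (resF_self _)).symm
  rw [mul_smul, ← coef_spec]
  exact Scheme.Modules.map_smul _ _ _ _

theorem coef_res {W' : X.Opens} (h : W' ≤ W) (s : Γ(L, W)) :
    a.coef (resS L h s) = resF (inf_le_inf_left a.V h) (a.coef s) := by
  refine ((a.eq_coef (resS L h s) inf_le_left inf_le_right ?_).trans (resF_self _)).symm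
  rw [resS_resS, a.coef_spec' s (inf_le_left : a.V ⊓ W' ≤ a.V) (inf_le_right.trans h)]

theorem coef_self : a.coef a.e = 1 := by
  refine ((a.eq_coef a.e inf_le_left inf_le_right (c := 1) ?_).trans (resF_self _)).symm
  rw [one_smul]

theorem coef_trans (s : Γ(L, W)) {U : X.Opens} (ha : U ≤ a.V) (hb : U ≤ b.V) (hW : U ≤ W) :
    resF (le_inf hb hW) (b.coef s) = resF (le_inf hb ha) (b.coef a.e) * resF (le_inf ha hW) (a.coef s) := by
  refine (b.eq_coef s hb hW ?_).symm
  rw [a.coef_spec' s ha hW, b.coef_spec' a.e hb ha, smul_smul, mul_comm]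

theorem genAt_inf (s : Γ(L, W)) : a.V ⊓ genAt L s = X.basicOpen (a.coef s) := by
  have hle : X.basicOpen (a.coef s) ≤ a.V ⊓ W := X.basicOpen_le _
  refine le_antisymm (fun y hy => ?_) (le_inf (hle.trans inf_le_left) (le_genAt s (hle.trans inf_le_right) ?_))
  · have hyW : y ∈ W := genAt_le s hy.2
    refine (bijective_smul_iff (a.isGen.res (inf_le_left : a.V ⊓ W ≤ a.V)) (a.coef s) (y := y) ⟨hy.1, hyW⟩).1 ?_
    have h := isGen_genAt s y hy.2
    rw [← coef_spec, TopCat.Presheaf.germ_res_apply]
    rw [TopCat.Presheaf.germ_res_apply] at h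
    exact h
  · rw [a.coef_spec' s (hle.trans inf_le_left) (hle.trans inf_le_right)]
    exact isGen_res a.isGen _ (X.toRingedSpace.isUnit_res_basicOpen _)

theorem coef_chartAt_self (s : Γ(L, W)) : (chartAt s).coef s = 1 := by
  refine (((chartAt s).eq_coef s inf_le_left inf_le_right (c := 1) ?_).trans (resF_self _)).symm
  rw [one_smul]
  exact (resS_resS L _ _ s).symm

end Chart

theorem exists_chart (hL : PicF.IsInvertible L) (x : X) : ∃ a : Chart L, x ∈ a.V := by
  obtain ⟨V, e, hx, he⟩ := exists_gen hL x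
  exact ⟨⟨V, e, he⟩, hx⟩

end Groth.Agent.H11Proj
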