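import Groth.Agent.H11Proj.SecAlg

/-!
# A scheme with a very ample family of sections over the affine opens of the base is projective
-/

set_option autoImplicit false
set_option linter.style.haveILetI false

noncomputable section

universe u

open CategoryTheory CategoryTheory.Limits AlgebraicGeometry TopologicalSpace Opposite MvPolynomial
open Groth.Agent.H11Tilde Groth.Agent.H11Ample

namespace Groth.Agent.H11Proj

variable {X S : Scheme.{u}} {f : X ⟶ S} {L : X.Modules}

/-- The sections over each affine open generate, with affine loci of generation and surjective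
dehomogenisations. -/
structure Gens.IsVeryAmple (D : Gens f L) : Prop where
  cover : ∀ (U : S.Opens) (hU : IsAffineOpen U) (x : X), f.base x ∈ U → ∃ l, x ∈ genAt L (D.g U hU l)
  affine : ∀ (U : S.Opens) (hU : IsAffineOpen U) (l : Fin (D.k U hU)), IsAffineOpen (genAt L (D.g U hU l))
  surj : ∀ (U : S.Opens) (hU : IsAffineOpen U) (l : Fin (D.k U hU)),
    Function.Surjective (SecAlg.hom D hU (chartAt (D.g U hU l)))

namespace SecAlg

variable [QuasiCompact f] (D : Gens f L) (hL : PicF.IsInvertible L) {U : S.Opens} (hU : IsAffineOpen U)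

/-- Polynomials in the generators, as sections of the algebra. -/
def poly : MvPolynomial (Fin (D.k U hU)) Γ(S, U) →+* (alg D hL).presheaf.obj (op U) :=
  (ev D hU).codRestrict ((sys D hL).sub U) fun P => (sys D hL).mem_sub_of_mem hU ⟨P, rfl⟩

theorem poly_surjective : Function.Surjective (poly D hL hU) := fun x => by
  obtain ⟨P, hP⟩ := (sys D hL).mem_of_mem_sub (amb_isSheaf f L) hU x.2
  exact ⟨P, Subtype.ext hP⟩

theorem poly_mem {d : ℕ} {P : MvPolynomial (Fin (D.k U hU)) Γ(S, U)} (hP : P.IsHomogeneous d) :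
    poly D hL hU P ∈ (alg D hL).deg U hU d := fun a e he => by
  change coeffAt f L a e (ev D hU P) = 0
  rw [coeffAt_ev, homogeneousComponent_of_mem hP, if_neg he, map_zero]

theorem poly_component {d : ℕ} {P : MvPolynomial (Fin (D.k U hU)) Γ(S, U)}
    (h : poly D hL hU P ∈ (alg D hL).deg U hU d) : poly D hL hU (homogeneousComponent d P) = poly D hL hU P := by
  refine Subtype.ext ((proj_ev D hU d P).symm.trans ?_)
  exact (sys D hL).π_same U d _ h

theorem exists_poly {d : ℕ} {a : (alg D hL).presheaf.obj (op U)} (ha : a ∈ (alg D hL).deg U hU d) :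
    ∃ P : MvPolynomial (Fin (D.k U hU)) Γ(S, U), P.IsHomogeneous d ∧ poly D hL hU P = a := by
  obtain ⟨P, rfl⟩ := poly_surjective D hL hU a
  exact ⟨homogeneousComponent d P, homogeneousComponent_isHomogeneous d P, poly_component D hL hU ha⟩

theorem str_eq (r : Γ(S, U)) : ((alg D hL).str.app (op U)).hom r = poly D hL hU (MvPolynomial.C r) :=
  Subtype.ext (eval₂Hom_C _ _ r).symm

theorem poly_eq_zero_iff (P : MvPolynomial (Fin (D.k U hU)) Γ(S, U)) :
    poly D hL hU P = 0 ↔ ∀ a d, hom D hU a (homogeneousComponent d P) = 0 := by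
  constructor
  · intro h a d
    rw [← coeffAt_ev, show ev D hU P = 0 from congrArg Subtype.val h]
    simp only [coeffAt, map_zero]
  · intro h
    refine Subtype.ext (amb_ext f L fun a d => ?_)
    change coeffAt f L a d (ev D hU P) = coeffAt f L a d 0
    rw [coeffAt_ev, h]
    simp only [coeffAt, map_zero]

theorem hom_eq_zero (a : Chart L) {P : MvPolynomial (Fin (D.k U hU)) Γ(S, U)} (h : poly D hL hU P = 0) :
    hom D hU a P = 0 := by
  rw [← sum_homogeneousComponent P, map_sum]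
  exact Finset.sum_eq_zero fun d _ => (poly_eq_zero_iff D hL hU P).1 h a d

theorem isGenDegOne : (alg D hL).IsGenDegOne := by
  intro U hU
  rw [eq_top_iff]
  rintro x -
  obtain ⟨P, rfl⟩ := poly_surjective D hL hU x
  induction P using MvPolynomial.induction_on with
  | C a => exact Subring.subset_closure (Or.inl (poly_mem D hL hU (isHomogeneous_C _ a)))
  | add P Q hP hQ => rw [map_add]; exact add_mem hP hQ
  | mul_X P l hP =>
    rw [map_mul]
    exact mul_mem hP (Subring.subset_closure (Or.inr (poly_mem D hL hU (isHomogeneous_X _ l))))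

/-- A section in the span, as an element of degree one. -/
def coord (s : {s : Γ(L, f ⁻¹ᵁ U) // SpanBy f L (D.g U hU) s}) : (alg D hL).presheaf.obj (op U) :=
  ⟨sec f L s.1, (sys D hL).mem_sub_of_mem hU (sec_mem_range D hU s.2)⟩

theorem coord_mem (s : {s : Γ(L, f ⁻¹ᵁ U) // SpanBy f L (D.g U hU) s}) :
    coord D hL hU s ∈ (alg D hL).deg U hU 1 := fun a e he => by
  change PowerSeries.coeff e (comp f L a U (sec f L s.1)) = 0
  rw [comp_sec, PowerSeries.coeff_C_mul, PowerSeries.coeff_X, if_neg he, mul_zero]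

/-- A generator as a member of the span. -/
def genElt (l : Fin (D.k U hU)) : {s : Γ(L, f ⁻¹ᵁ U) // SpanBy f L (D.g U hU) s} :=
  ⟨D.g U hU l, fun m => if m = l then 1 else 0, by simp [apply_ite, ite_smul]⟩

theorem coord_genElt (l : Fin (D.k U hU)) : coord D hL hU (genElt D hU l) = poly D hL hU (MvPolynomial.X l) :=
  Subtype.ext (by
    change sec f L (D.g U hU l) = ev D hU (MvPolynomial.X l)
    rw [ev, eval₂Hom_X'])

theorem isFTDeg_one : (alg D hL).IsFTDeg 1 := by
  classical
  intro U hU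
  let g : Fin (D.k U hU) → (alg D hL).presheaf.obj (op U) := fun l => poly D hL hU (MvPolynomial.X l)
  refine ⟨Finset.univ.image g, ?_, ?_⟩
  · intro y hy
    rw [Finset.coe_image] at hy
    obtain ⟨l, -, rfl⟩ := hy
    exact poly_mem D hL hU (isHomogeneous_X _ l)
  · intro x hx
    obtain ⟨P, hP, rfl⟩ := exists_poly D hL hU hx
    refine ⟨fun y => ∑ l ∈ Finset.univ.filter (fun l => g l = y), P.coeff (Finsupp.single l 1), ?_⟩
    have hPsum : P = ∑ l, C (P.coeff (Finsupp.single l 1)) * MvPolynomial.X l := by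
      refine MvPolynomial.ext _ _ fun e => ?_
      rw [coeff_sum]
      simp only [coeff_C_mul, coeff_X, mul_ite, mul_one, mul_zero]
      by_cases he : ∃ l, e = Finsupp.single l 1
      · obtain ⟨l, rfl⟩ := he
        rw [Finset.sum_eq_single l (fun b _ hb => if_neg fun h => hb (Finsupp.single_left_injective one_ne_zero h))
          (fun h => absurd (Finset.mem_univ l) h), if_pos rfl]
      · push Not at he
        rw [Finset.sum_eq_zero fun l _ => if_neg fun h => he l h.symm]
        by_contra hne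
        have := hP hne
        rw [Finsupp.weight_apply] at this
        simp only [Pi.one_apply, smul_eq_mul, mul_one] at this
        obtain ⟨l, hl⟩ := Finsupp.sum_eq_one_iff _ |>.1 this
        exact he l hl
    conv_lhs => rw [hPsum, map_sum]
    rw [← Finset.sum_fiberwise_of_maps_to (t := Finset.univ.image g) (g := g)
      (fun l _ => Finset.mem_image_of_mem g (Finset.mem_univ l))]
    refine Finset.sum_congr rfl fun y _ => ?_
    rw [map_sum, Finset.sum_mul]
    refine Finset.sum_congr rfl fun l hl => ?_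
    rw [Finset.mem_filter] at hl
    rw [map_mul, ← str_eq, ← hl.2]

/-- Dehomogenisation on the algebra. -/
def dehomAt (a : Chart L) : (alg D hL).presheaf.obj (op U) →+* Γ(X, a.V ⊓ f ⁻¹ᵁ U) :=
  (poly D hL hU).liftOfSurjective (poly_surjective D hL hU) ⟨hom D hU a, fun _ hP => hom_eq_zero D hL hU a hP⟩

theorem dehomAt_poly (a : Chart L) (P : MvPolynomial (Fin (D.k U hU)) Γ(S, U)) :
    dehomAt D hL hU a (poly D hL hU P) = hom D hU a P :=
  RingHom.liftOfRightInverse_comp_apply _ _ _ _ P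

theorem dehomAt_of_mem (a : Chart L) {d : ℕ} {x : (alg D hL).presheaf.obj (op U)}
    (hx : x ∈ (alg D hL).deg U hU d) : dehomAt D hL hU a x = coeffAt f L a d x.1 := by
  obtain ⟨P, hP, rfl⟩ := exists_poly D hL hU hx
  rw [dehomAt_poly, show (poly D hL hU P).1 = ev D hU P from rfl, coeffAt_ev, homogeneousComponent_of_mem hP,
    if_pos rfl]

theorem dehomAt_coord (a : Chart L) (s : {s : Γ(L, f ⁻¹ᵁ U) // SpanBy f L (D.g U hU) s}) :
    dehomAt D hL hU a (coord D hL hU s) = a.coef s.1 := by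
  rw [dehomAt_of_mem D hL hU a (coord_mem D hL hU s)]
  change PowerSeries.coeff 1 (comp f L a U (sec f L s.1)) = _
  rw [comp_sec, PowerSeries.coeff_C_mul, PowerSeries.coeff_one_X, mul_one]

theorem dehomAt_trans (a b : Chart L) {k : ℕ} {x : (alg D hL).presheaf.obj (op U)}
    (hx : x ∈ (alg D hL).deg U hU k) {W : X.Opens} (ha : W ≤ a.V ⊓ f ⁻¹ᵁ U) (hb : W ≤ b.V ⊓ f ⁻¹ᵁ U) :
    resF hb (dehomAt D hL hU b x) =
      resF (le_inf (hb.trans inf_le_left) (ha.trans inf_le_left)) (b.coef a.e) ^ k *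
        resF ha (dehomAt D hL hU a x) := by
  obtain ⟨P, hP, rfl⟩ := exists_poly D hL hU hx
  have e : ∀ c : Chart L, dehomAt D hL hU c (poly D hL hU P) = coeffAt f L c k (ev D hU P) := fun c => by
    rw [dehomAt_poly, coeffAt_ev, homogeneousComponent_of_mem hP, if_pos rfl]
  rw [e a, e b]
  exact coeffAt_ev_trans D hU a b k P (ha.trans inf_le_left) (hb.trans inf_le_left) (ha.trans inf_le_right)

/-- The locus of generation of a section, on the preimage of the affine open. -/
abbrev piece (s : Γ(L, f ⁻¹ᵁ U)) : (f ⁻¹ᵁ U).toScheme.Opens := (f ⁻¹ᵁ U).ι ⁻¹ᵁ (genAt L s ⊓ f ⁻¹ᵁ U)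

omit [QuasiCompact f] in
theorem bijective_ι_app (W : X.Opens) (h : W ≤ f ⁻¹ᵁ U) : Function.Bijective ((f ⁻¹ᵁ U).ι.app W) := by
  haveI : IsIso ((f ⁻¹ᵁ U).ι.app W) :=
    Scheme.Hom.isIso_app _ _ (by rw [Scheme.Opens.opensRange_ι]; exact h)
  exact ConcreteCategory.bijective_of_isIso ((f ⁻¹ᵁ U).ι.app W)

omit [QuasiCompact f] in
theorem res_ι_app {W W' : X.Opens} (h : W' ≤ W) (y : Γ(X, W)) :
    (f ⁻¹ᵁ U).toScheme.presheaf.map (homOfLE ((f ⁻¹ᵁ U).ι.preimage_mono h)).op ((f ⁻¹ᵁ U).ι.app W y) =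
      (f ⁻¹ᵁ U).ι.app W' (resF h y) :=
  (congr($((f ⁻¹ᵁ U).ι.naturality (homOfLE h).op) y)).symm

variable (hD : D.IsVeryAmple)

omit [QuasiCompact f] in
include hD in
theorem isAffineOpen_piece (l : Fin (D.k U hU)) : IsAffineOpen (piece (D.g U hU l)) := by
  rw [← (f ⁻¹ᵁ U).ι.isAffineOpen_iff_of_isOpenImmersion, Scheme.Hom.image_preimage_eq_opensRange_inf,
    Scheme.Opens.opensRange_ι, inf_eq_right.2 inf_le_right, inf_eq_left.2 (genAt_le _)]
  exact hD.affine U hU l

/-- The dehomogenisations on the preimage of an affine open. -/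
def homData : HomData ((alg D hL).deg U hU) (f ⁻¹ᵁ U).toScheme where
  J := {s : Γ(L, f ⁻¹ᵁ U) // SpanBy f L (D.g U hU) s}
  V s := piece s.1
  cover x := by
    obtain ⟨l, hl⟩ := hD.cover U hU x.1 x.2
    exact ⟨genElt D hU l, hl, x.2⟩
  f s := coord D hL hU s
  deg s := coord_mem D hL hU s
  h s := ((f ⁻¹ᵁ U).ι.app _).hom.comp (dehomAt D hL hU (chartAt s.1))
  h_one s := by
    rw [RingHom.comp_apply, dehomAt_coord, Chart.coef_chartAt_self, map_one]
  trans s t k x hx := by
    let W := (genAt L s.1 ⊓ f ⁻¹ᵁ U) ⊓ (genAt L t.1 ⊓ f ⁻¹ᵁ U)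
    simp only [RingHom.comp_apply]
    erw [res_ι_app (inf_le_right : W ≤ _), res_ι_app (inf_le_right : W ≤ _), res_ι_app (inf_le_left : W ≤ _)]
    refine Eq.trans (congrArg _ (dehomAt_trans D hL hU (chartAt s.1) (chartAt t.1) hx
      (inf_le_left : W ≤ _) inf_le_right)) ?_
    rw [map_mul, map_pow]
    refine congrArg₂ (· * ·) (congrArg (· ^ k) (congrArg _ ?_)) rfl
    rw [dehomAt_coord]
    change resF _ ((chartAt t.1).coef (resS L (genAt_le s.1) s.1)) = _
    rw [Chart.coef_res, resF_resF]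

/-- The morphism to Proj over an affine open. -/
def toProj : (f ⁻¹ᵁ U).toScheme ⟶ Proj ((alg D hL).deg U hU) := (homData D hL hU hD).exists_hom.choose

theorem toProj_spec : ∀ s, ((homData D hL hU hD).V s).ι ≫ toProj D hL hU hD = (homData D hL hU hD).chart s :=
  (homData D hL hU hD).exists_hom.choose_spec

theorem piece_le (s : {s : Γ(L, f ⁻¹ᵁ U) // SpanBy f L (D.g U hU) s}) :
    piece s.1 ≤ toProj D hL hU hD ⁻¹ᵁ Proj.basicOpen ((alg D hL).deg U hU) (coord D hL hU s) :=
  HomData.le_preimage (toProj_spec D hL hU hD) s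

theorem toProj_appLE (s : {s : Γ(L, f ⁻¹ᵁ U) // SpanBy f L (D.g U hU) s}) {k : ℕ}
    {a : (alg D hL).presheaf.obj (op U)} (ha : a ∈ (alg D hL).deg U hU k) :
    (toProj D hL hU hD).appLE _ (piece s.1) (piece_le D hL hU hD s)
        (ratio ((alg D hL).deg U hU) (coord_mem D hL hU s) ha) =
      (f ⁻¹ᵁ U).ι.app _ (dehomAt D hL hU (chartAt s.1) a) :=
  HomData.appLE_ratio (d := homData D hL hU hD) (toProj_spec D hL hU hD) s ha

omit [QuasiCompact f] in
include hD in
theorem iSup_piece : ⨆ l, piece (D.g U hU l) = ⊤ :=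
  top_le_iff.1 fun x _ => Opens.mem_iSup.2 (by obtain ⟨l, hl⟩ := hD.cover U hU x.1 x.2; exact ⟨l, hl, x.2⟩)

theorem toProj_over :
    toProj D hL hU hD ≫ Proj.toSpecZero ((alg D hL).deg U hU) ≫ Spec.map ((alg D hL).strZero U hU) ≫
        hU.fromSpec = (f ⁻¹ᵁ U).ι ≫ f := by
  let 𝒜 := (alg D hL).deg U hU
  refine (Scheme.openCoverOfIsOpenCover _ (fun l => piece (D.g U hU l)) (iSup_piece D hU hD)).hom_ext _ _
    fun l => ?_
  let s := genElt D hU l
  let c := coord D hL hU s
  change (piece s.1).ι ≫ _ = (piece s.1).ι ≫ _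
  have hle : piece s.1 ≤ ((f ⁻¹ᵁ U).ι ≫ f) ⁻¹ᵁ U := fun x _ => x.2
  rw [ι_comp_eq_fromSpec ((f ⁻¹ᵁ U).ι ≫ f) hU (piece s.1) hle]
  have hι : (Proj.basicOpen 𝒜 c).ι = (Proj.basicOpenIsoSpec 𝒜 c (coord_mem D hL hU s) one_pos).hom ≫
        Proj.awayι 𝒜 c (coord_mem D hL hU s) one_pos := by
    rw [← Proj.basicOpenIsoSpec_inv_ι, Iso.hom_inv_id_assoc]
  rw [← Scheme.Hom.resLE_comp_ι_assoc _ (piece_le D hL hU hD s), hι, Category.assoc,
    Proj.awayι_toSpecZero_assoc, Proj.basicOpenIsoSpec_hom, Proj.basicOpenToSpec, Category.assoc,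
    reassoc_of% (resLE_toSpecΓ (toProj D hL hU hD) _ (piece s.1) (piece_le D hL hU hD s))]
  simp only [← Spec.map_comp_assoc, Category.assoc]
  congr 3
  refine CommRingCat.hom_ext (RingHom.ext fun r => ?_)
  have e : Proj.awayToSection 𝒜 c
      (HomogeneousLocalization.fromZeroRingHom 𝒜 _ (((alg D hL).strZero U hU).hom r)) =
      ratio 𝒜 (coord_mem D hL hU s) ((alg D hL).str_mem U hU r) := by
    refine congrArg (Proj.awayToSection 𝒜 c) (HomogeneousLocalization.val_injective _ ?_)
    rw [HomogeneousLocalization.Away.val_mk]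
    exact congrArg (Localization.mk (((alg D hL).str.app (op U)).hom r)) (Subtype.ext (pow_zero c).symm)
  change (toProj D hL hU hD).appLE _ _ (piece_le D hL hU hD s) (Proj.awayToSection 𝒜 c
    (HomogeneousLocalization.fromZeroRingHom 𝒜 _ (((alg D hL).strZero U hU).hom r))) = _
  rw [e, toProj_appLE, str_eq D hL hU, dehomAt_poly, hom, eval₂Hom_C, ← Scheme.Hom.appLE_comp_appLE _ f U
    (genAt L s.1 ⊓ f ⁻¹ᵁ U) (piece s.1) inf_le_right le_rfl, ← Scheme.Hom.app_eq_appLE]
  rfl

theorem preimage_basicOpen (t : {s : Γ(L, f ⁻¹ᵁ U) // SpanBy f L (D.g U hU) s}) :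
    toProj D hL hU hD ⁻¹ᵁ Proj.basicOpen ((alg D hL).deg U hU) (coord D hL hU t) = piece t.1 := by
  refine le_antisymm (fun x hx => ?_) (piece_le D hL hU hD t)
  obtain ⟨l, hl⟩ := hD.cover U hU x.1 x.2
  let s := genElt D hU l
  let r := ratio ((alg D hL).deg U hU) (coord_mem D hL hU s) (coord_mem D hL hU t)
  have hxs : x ∈ piece s.1 := ⟨hl, x.2⟩
  have h1 : x ∈ (f ⁻¹ᵁ U).toScheme.basicOpen
      ((toProj D hL hU hD).appLE _ _ (piece_le D hL hU hD s) r) := by
    rw [Scheme.Hom.appLE, CommRingCat.comp_apply, Scheme.basicOpen_res, ← Scheme.preimage_basicOpen,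
      basicOpen_ratio_deg1]
    exact ⟨hxs, piece_le D hL hU hD s hxs, hx⟩
  rw [toProj_appLE, dehomAt_coord, ← Scheme.preimage_basicOpen] at h1
  have h2 : x.1 ∈ X.basicOpen ((chartAt s.1).coef t.1) := h1
  rw [← Chart.genAt_inf] at h2
  exact ⟨h2.2, x.2⟩

theorem ratio_eq_zero_of_dehomAt (l : Fin (D.k U hU)) {k : ℕ} {a : (alg D hL).presheaf.obj (op U)}
    (ha : a ∈ (alg D hL).deg U hU k) (h : dehomAt D hL hU (chartAt (D.g U hU l)) a = 0)
    (hD : D.IsVeryAmple) :
    ratio ((alg D hL).deg U hU) (coord_mem D hL hU (genElt D hU l)) ha = 0 := by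
  classical
  obtain ⟨P, hP, rfl⟩ := exists_poly D hL hU ha
  let c := chartAt (D.g U hU l)
  have hm : ∀ j, ∃ m : ℕ, dehomAt D hL hU (chartAt (D.g U hU j)) (coord D hL hU (genElt D hU l)) ^ m *
      dehomAt D hL hU (chartAt (D.g U hU j)) (poly D hL hU P) = 0 := fun j => by
    let e := chartAt (D.g U hU j)
    let b := dehomAt D hL hU e (coord D hL hU (genElt D hU l))
    have haff : IsAffineOpen (e.V ⊓ f ⁻¹ᵁ U) := by
      change IsAffineOpen (genAt L _ ⊓ f ⁻¹ᵁ U)
      rw [inf_eq_left.2 (genAt_le _)]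
      exact hD.affine U hU j
    haveI := haff.isLocalization_basicOpen b
    have hl : X.basicOpen b ≤ e.V ⊓ f ⁻¹ᵁ U := X.basicOpen_le b
    have hc : X.basicOpen b ≤ c.V ⊓ f ⁻¹ᵁ U := by
      refine le_inf ?_ (hl.trans inf_le_right)
      simp only [b, dehomAt_coord, ← Chart.genAt_inf]
      exact inf_le_right
    have h0 : resF hl (dehomAt D hL hU e (poly D hL hU P)) = 0 := by
      rw [dehomAt_trans D hL hU c e ha hc hl, h, map_zero, mul_zero]
    obtain ⟨⟨_, m, rfl⟩, hm⟩ := (IsLocalization.map_eq_zero_iff (Submonoid.powers b) Γ(X, X.basicOpen b) _).1 h0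
    exact ⟨m, hm⟩
  choose m hm using hm
  let M := Finset.univ.sup m
  have hz : coord D hL hU (genElt D hU l) ^ M * poly D hL hU P = 0 := by
    have hmem : coord D hL hU (genElt D hU l) ^ M * poly D hL hU P ∈ (alg D hL).deg U hU (M + k) := by
      refine SetLike.mul_mem_graded ?_ ha
      simpa using SetLike.pow_mem_graded M (coord_mem D hL hU (genElt D hU l))
    have hz' : ∀ j, dehomAt D hL hU (chartAt (D.g U hU j))
        (coord D hL hU (genElt D hU l) ^ M * poly D hL hU P) = 0 := fun j => by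
      have hle : m j ≤ M := Finset.le_sup (f := m) (Finset.mem_univ j)
      rw [map_mul, map_pow, ← Nat.sub_add_cancel hle, pow_add, mul_assoc, hm, mul_zero]
    generalize coord D hL hU (genElt D hU l) ^ M * poly D hL hU P = z at hmem hz'
    refine Subtype.ext (amb_ext f L fun b d => ?_)
    change coeffAt f L b d z.1 = coeffAt f L b d 0
    rw [show coeffAt f L b d (0 : (amb f L).obj (op U)) = 0 from by simp only [coeffAt, map_zero]]
    rcases eq_or_ne d (M + k) with rfl | hd
    · rw [← dehomAt_of_mem D hL hU b hmem]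
      refine TopCat.Sheaf.eq_of_locally_eq' X.sheaf (fun j => b.V ⊓ genAt L (D.g U hU j)) (b.V ⊓ f ⁻¹ᵁ U)
        (fun j => homOfLE (inf_le_inf_left _ (genAt_le _))) ?_ _ _ fun j => ?_
      · rintro x ⟨hxb, hxU⟩
        obtain ⟨j, hj⟩ := hD.cover U hU x hxU
        exact Opens.mem_iSup.2 ⟨j, hxb, hj⟩
      · change resF _ _ = resF _ 0
        rw [map_zero, dehomAt_trans D hL hU (chartAt (D.g U hU j)) b hmem
          (le_inf inf_le_right (inf_le_right.trans (genAt_le _))) (inf_le_inf_left _ (genAt_le _)), hz' j,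
          map_zero, mul_zero]
    · exact hmem b d hd
  have e1 : ratio ((alg D hL).deg U hU) (coord_mem D hL hU (genElt D hU l))
      (SetLike.mul_mem_graded (SetLike.pow_mem_graded M (coord_mem D hL hU (genElt D hU l))) ha) = 0 := by
    refine fval_ext _ fun x => ?_
    rw [fval_ratio, fval_zero, hz, Localization.mk_zero]
  rwa [ratio_mul _ (coord_mem D hL hU _) (SetLike.pow_mem_graded M (coord_mem D hL hU _)) ha,
    ratio_pow _ (coord_mem D hL hU _) (coord_mem D hL hU _), ratio_self, one_pow, one_mul] at e1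

theorem bijective_app (l : Fin (D.k U hU)) :
    Function.Bijective ((toProj D hL hU hD).appLE _ (piece (D.g U hU l))
      (piece_le D hL hU hD (genElt D hU l))) := by
  let s := genElt D hU l
  constructor
  · rw [injective_iff_map_eq_zero]
    intro z hz
    obtain ⟨k, a, ha, rfl⟩ := H11Tilde.exists_ratio ((alg D hL).deg U hU) (coord_mem D hL hU s) z
    refine ratio_eq_zero_of_dehomAt D hL hU l ha ?_ hD
    have h1 : (f ⁻¹ᵁ U).ι.app _ (dehomAt D hL hU (chartAt s.1) a) = 0 := (toProj_appLE D hL hU hD s ha).symm.trans hz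
    exact (injective_iff_map_eq_zero' _).1 (bijective_ι_app _ inf_le_right).1 _ |>.1 h1
  · intro y
    obtain ⟨z, rfl⟩ := (bijective_ι_app (genAt L (D.g U hU l) ⊓ f ⁻¹ᵁ U) inf_le_right).2 y
    obtain ⟨P, rfl⟩ := hD.surj U hU l z
    refine ⟨∑ d ∈ Finset.range (P.totalDegree + 1), ratio ((alg D hL).deg U hU) (coord_mem D hL hU s)
      (poly_mem D hL hU (homogeneousComponent_isHomogeneous d P)), ?_⟩
    rw [map_sum]
    refine Eq.trans (Finset.sum_congr rfl fun d _ => toProj_appLE D hL hU hD s _)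
      ((map_sum _ _ _).symm.trans (congrArg _ ?_))
    refine (Finset.sum_congr rfl fun d _ => dehomAt_poly D hL hU (chartAt s.1) _).trans ?_
    rw [← map_sum, sum_homogeneousComponent]
    rfl

theorem irrelevant_le_span :
    (HomogeneousIdeal.irrelevant ((alg D hL).deg U hU)).toIdeal ≤
      Ideal.span (Set.range fun l => coord D hL hU (genElt D hU l)) := by
  classical
  rw [irrelevant_le_iff]
  intro d hd a ha
  obtain ⟨P, hP, rfl⟩ := exists_poly D hL hU ha
  simp only [coord_genElt]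
  have hPm : P ∈ Ideal.span (MvPolynomial.X '' (Set.univ : Set (Fin (D.k U hU)))) := by
    rw [mem_ideal_span_X_image]
    intro m hm
    by_contra hc
    push Not at hc
    have hm0 : m = 0 := Finsupp.ext fun i => hc i (Set.mem_univ i)
    have := hP (mem_support_iff.1 hm)
    rw [hm0] at this
    simp at this
    omega
  have h := Ideal.mem_map_of_mem (poly D hL hU) hPm
  rw [Ideal.map_span, Set.image_univ, ← Set.range_comp] at h
  exact h

theorem isIso_toProj : IsIso (toProj D hL hU hD) := by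
  let 𝒜 := (alg D hL).deg U hU
  change MorphismProperty.isomorphisms Scheme (toProj D hL hU hD)
  refine IsZariskiLocalAtTarget.of_iSup_eq_top (fun l => Proj.basicOpen 𝒜 (coord D hL hU (genElt D hU l)))
    (Proj.iSup_basicOpen_eq_top 𝒜 _ (irrelevant_le_span D hL hU)) fun l => ?_
  let E := Proj.basicOpen 𝒜 (coord D hL hU (genElt D hU l))
  have hE : IsAffineOpen E := Proj.isAffineOpen_basicOpen 𝒜 _ (coord_mem D hL hU _) one_pos
  have he : toProj D hL hU hD ⁻¹ᵁ E = piece (D.g U hU l) := preimage_basicOpen D hL hU hD _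
  have hV : IsAffineOpen (toProj D hL hU hD ⁻¹ᵁ E) := he.symm ▸ isAffineOpen_piece D hU hD l
  have hb : Function.Bijective ((toProj D hL hU hD).appLE E (toProj D hL hU hD ⁻¹ᵁ E) le_rfl) := by
    have key : ∀ (V : (f ⁻¹ᵁ U).toScheme.Opens) (e : V ≤ toProj D hL hU hD ⁻¹ᵁ E), V = piece (D.g U hU l) →
        Function.Bijective ((toProj D hL hU hD).appLE E V e) := fun V e hV => by
      subst hV; exact bijective_app D hL hU hD l
    exact key _ le_rfl he
  haveI := (ConcreteCategory.isIso_iff_bijective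
    ((toProj D hL hU hD).appLE E (toProj D hL hU hD ⁻¹ᵁ E) le_rfl)).2 hb
  haveI : IsIso (toProj D hL hU hD ⁻¹ᵁ E).toSpecΓ := by rw [← hV.isoSpec_hom]; infer_instance
  have e : toProj D hL hU hD ∣_ E = (toProj D hL hU hD ⁻¹ᵁ E).toSpecΓ ≫
      Spec.map ((toProj D hL hU hD).appLE E (toProj D hL hU hD ⁻¹ᵁ E) le_rfl) ≫ hE.isoSpec.inv := by
    rw [← cancel_mono E.ι, morphismRestrict_ι, ι_comp_eq_fromSpec (toProj D hL hU hD) hE _ le_rfl]
    simp only [Category.assoc, IsAffineOpen.isoSpec_inv_ι]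
  change IsIso (toProj D hL hU hD ∣_ E)
  rw [e]
  infer_instance

theorem toProj_res (r : Γ(S, U)) :
    X.homOfLE (f.preimage_mono (S.basicOpen_le r)) ≫ toProj D hL hU hD =
      toProj D hL (hU.basicOpen r) hD ≫
        Proj.map ((alg D hL).res hU (hU.basicOpen r) (S.basicOpen_le r)) ((alg D hL).irrelevant_le_map U hU r) := by
  let U' := S.basicOpen r
  have hU' : IsAffineOpen U' := hU.basicOpen r
  have hle : U' ≤ U := S.basicOpen_le r
  let ψ := (alg D hL).res hU hU' hle
  have hψ := (alg D hL).irrelevant_le_map U hU r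
  let t : Fin (D.k U hU) → {s : Γ(L, f ⁻¹ᵁ U') // SpanBy f L (D.g U' hU') s} := fun l =>
    ⟨resS L (f.preimage_mono hle) (D.g U hU l), D.res_span hU hU' hle l⟩
  have hcoord : ∀ l, ψ (coord D hL hU (genElt D hU l)) = coord D hL hU' (t l) := fun l =>
    Subtype.ext (res_sec f L hle _)
  have hVle : ∀ l, genAt L (t l).1 ≤ genAt L (D.g U hU l) := fun l => (genAt_res _ _).le.trans inf_le_left
  refine (Scheme.openCoverOfIsOpenCover _ (fun l => piece (t l).1) ?_).hom_ext _ _
    fun (l : Fin (D.k U hU)) => ?_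
  · refine top_le_iff.1 fun x _ => Opens.mem_iSup.2 ?_
    obtain ⟨l, hl⟩ := hD.cover U hU x.1 (hle x.2)
    exact ⟨l, (genAt_res _ _).ge ⟨hl, x.2⟩, x.2⟩
  change (piece (t l).1).ι ≫ _ = (piece (t l).1).ι ≫ _
  let g := X.homOfLE (f.preimage_mono hle)
  let s := genElt D hU l
  let E := Proj.basicOpen ((alg D hL).deg U hU) (coord D hL hU s)
  have hE : IsAffineOpen E := Proj.isAffineOpen_basicOpen _ _ (coord_mem D hL hU s) one_pos
  have hg : piece (t l).1 ≤ g ⁻¹ᵁ piece s.1 := by
    intro x hx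
    have e : (f ⁻¹ᵁ U).ι (g x) = (f ⁻¹ᵁ U').ι x := by
      rw [← Scheme.Hom.comp_apply, Scheme.homOfLE_ι]
    change (f ⁻¹ᵁ U).ι (g x) ∈ genAt L s.1 ⊓ f ⁻¹ᵁ U
    rw [e]
    exact ⟨hVle l hx.1, hle hx.2⟩
  have e2 : piece (t l).1 ≤
      toProj D hL hU' hD ⁻¹ᵁ Proj.basicOpen ((alg D hL).deg U' hU') (ψ (coord D hL hU s)) := by
    rw [hcoord]; exact piece_le D hL hU' hD (t l)
  have hm : Proj.basicOpen ((alg D hL).deg U' hU') (ψ (coord D hL hU s)) ≤ Proj.map ψ hψ ⁻¹ᵁ E :=
    (Proj.map_preimage_basicOpen ψ hψ (coord D hL hU s)).ge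
  refine hom_ext_on hE _ (hg.trans (g.preimage_mono (piece_le D hL hU hD s)))
    (e2.trans ((toProj D hL hU' hD).preimage_mono hm)) ?_
  rw [← Scheme.Hom.appLE_comp_appLE g (toProj D hL hU hD) E (piece s.1) (piece (t l).1)
      (piece_le D hL hU hD s) hg,
    ← Scheme.Hom.appLE_comp_appLE (toProj D hL hU' hD) (Proj.map ψ hψ) E
      (Proj.basicOpen ((alg D hL).deg U' hU') (ψ (coord D hL hU s))) (piece (t l).1) hm e2]
  refine ringHom_ext_ratio _ (coord_mem D hL hU s) fun k a ha => ?_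
  rw [CommRingCat.comp_apply, CommRingCat.comp_apply, toProj_appLE]
  have e3 : (Proj.map ψ hψ).appLE E (Proj.basicOpen ((alg D hL).deg U' hU') (ψ (coord D hL hU s))) hm
      (ratio ((alg D hL).deg U hU) (coord_mem D hL hU s) ha) =
      ratio ((alg D hL).deg U' hU') (ψ.map_mem (coord_mem D hL hU s)) (ψ.map_mem ha) := by
    refine Eq.trans (congr($(Proj.awayToSection_comp_appLE ψ hψ (coord_mem D hL hU s))
      (HomogeneousLocalization.Away.mk ((alg D hL).deg U hU) (coord_mem D hL hU s) k a (by simpa using ha)))) ?_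
    rw [CommRingCat.comp_apply]
    refine congrArg (Proj.awayToSection _ _) ?_
    exact HomogeneousLocalization.Away.map_mk ψ (coord D hL hU s) (coord_mem D hL hU s) k a (by simpa using ha)
  have key : ∀ (u : (alg D hL).presheaf.obj (op U')) (hu : u ∈ (alg D hL).deg U' hU' 1)
      (e : piece (t l).1 ≤ toProj D hL hU' hD ⁻¹ᵁ Proj.basicOpen ((alg D hL).deg U' hU') u)
      (b : (alg D hL).presheaf.obj (op U')) (hb : b ∈ (alg D hL).deg U' hU' k), u = coord D hL hU' (t l) →
      (toProj D hL hU' hD).appLE _ _ e (ratio ((alg D hL).deg U' hU') hu hb) =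
        (f ⁻¹ᵁ U').ι.app _ (dehomAt D hL hU' (chartAt (t l).1) b) := by
    rintro u hu e b hb rfl
    exact toProj_appLE D hL hU' hD (t l) hb
  rw [e3, key _ _ e2 _ _ (hcoord l)]
  let W : X.Opens := genAt L (t l).1 ⊓ f ⁻¹ᵁ U'
  have hWs : W ≤ genAt L s.1 ⊓ f ⁻¹ᵁ U := inf_le_inf (hVle l) (f.preimage_mono hle)
  have hdehom : dehomAt D hL hU' (chartAt (t l).1) (ψ a) = resF hWs (dehomAt D hL hU (chartAt s.1) a) := by
    obtain ⟨P, hP, rfl⟩ := exists_poly D hL hU ha
    refine (dehomAt_of_mem D hL hU' _ (ψ.map_mem ha)).trans ?_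
    refine Eq.trans ?_ (congrArg (resF hWs) (dehomAt_of_mem D hL hU (chartAt s.1) ha).symm)
    refine (coeffAt_res f L hle (chartAt (t l).1) k (ev D hU P)).trans ?_
    have h1 := coeffAt_ev_trans D hU (chartAt s.1) (chartAt (t l).1) k P (W := W)
      (hWs.trans inf_le_left) inf_le_left (hWs.trans inf_le_right)
    have h2 : resF (le_inf inf_le_left (hWs.trans inf_le_left)) ((chartAt (t l).1).coef (chartAt s.1).e) =
        (1 : Γ(X, W)) := by
      refine ((chartAt (t l).1).eq_coef (chartAt s.1).e (inf_le_left : W ≤ genAt L (t l).1)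
        (hWs.trans inf_le_left) (c := 1) ?_).symm
      rw [one_smul]
      simp only [resS_resS, t]
      rfl
    rw [h2, one_pow, one_mul] at h1
    exact h1
  erw [hdehom]
  rw [resF, ← CommRingCat.comp_apply, ← CommRingCat.comp_apply, Scheme.Hom.app_eq_appLE, Scheme.Hom.app_eq_appLE,
    Scheme.Hom.appLE_comp_appLE, Scheme.Hom.map_appLE]
  exact congr($(Charts.appLE_congr_hom (X.homOfLE_ι (f.preimage_mono hle)) _ _)
    (dehomAt D hL hU (chartAt s.1) a))

include hL hD in
/-- A scheme with a very ample family of sections is projective over the base. -/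
theorem isProjective : RelProj.IsProjective f := by
  obtain ⟨P, p, chart, hP⟩ := exists_isRelProj (alg D hL)
  obtain ⟨e, he, -⟩ := existsUnique_glue f
    (fun U hU => toProj D hL hU hD ≫ (chart U hU).inv ≫ (p ⁻¹ᵁ U).ι) fun U hU r => by
      have h := hP.chart_res U hU r
      rw [reassoc_of% (toProj_res D hL hU hD r)]
      congr 1
      rw [← Scheme.homOfLE_ι P (p.preimage_mono (S.basicOpen_le r)), ← Category.assoc, ← Category.assoc]
      congr 1
      rw [Iso.comp_inv_eq, Category.assoc, h, Iso.inv_hom_id_assoc]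
  have hp : e ≫ p = f := hom_ext_affinePreimage f fun U hU => by
    rw [← Category.assoc, he U hU, Category.assoc, Category.assoc, ← hP.chart_over U hU,
      Iso.inv_hom_id_assoc, toProj_over D hL hU hD]
  haveI : IsIso e := of_preimage_squares (Q := MorphismProperty.isomorphisms Scheme) e hp
    (fun U hU => toProj D hL hU hD ≫ (chart U hU).inv) (fun U hU => by rw [he U hU, Category.assoc])
    (fun U hU => by
      haveI := isIso_toProj D hL hU hD
      exact (inferInstance : IsIso (toProj D hL hU hD ≫ (chart U hU).inv)))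
  exact ⟨alg D hL, P, p, chart, asIso e, isGenDegOne D hL, isFTDeg_one D hL, hP, hp⟩

end SecAlg

end Groth.Agent.H11Proj
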