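import Groth.Prelude.Def_RelProj3
import Groth.Agent.H11Tilde.TransposeCover
import Groth.Agent.H11Tilde.QCoh
import Mathlib.Algebra.Polynomial.Module.Basic

/-!
# `M(n)~` commutes with base change of graded modules, the irrelevant ideal being generated in degree one
-/

set_option autoImplicit false
set_option linter.style.haveILetI false
set_option linter.unusedSectionVars false

noncomputable section

universe u

open CategoryTheory AlgebraicGeometry TopologicalSpace Opposite HomogeneousLocalization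
open Groth.Agent.H11Tilde
open scoped TensorProduct HomogeneousIdeal

namespace Groth.Agent.H11Proj.TildeBaseChange

section one

variable {A σ : Type u} [CommRing A] [SetLike σ A] [AddSubgroupClass σ A] (𝒜 : ℕ → σ) [GradedRing 𝒜]
variable {M τ : Type u} [AddCommGroup M] [Module A M] [SetLike τ M] [AddSubgroupClass τ M] (ℳ : ℕ → τ)
  [SetLike.GradedSMul 𝒜 ℳ] [DirectSum.Decomposition ℳ]
variable {f : A} (hf : f ∈ 𝒜 1) (n : ℤ) {W : (Proj 𝒜).Opens} (hW : W ≤ Proj.basicOpen 𝒜 f)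

theorem fval_add (r s : Γ(Proj 𝒜, W)) (x : W) : fval 𝒜 (r + s) x = fval 𝒜 r x + fval 𝒜 s x :=
  HomogeneousLocalization.val_add _ _

theorem fval_mul (r s : Γ(Proj 𝒜, W)) (x : W) : fval 𝒜 (r * s) x = fval 𝒜 r x * fval 𝒜 s x :=
  HomogeneousLocalization.val_mul _ _

theorem fval_one (x : W) : fval 𝒜 (1 : Γ(Proj 𝒜, W)) x = 1 := HomogeneousLocalization.val_one

theorem fval_ext {r r' : Γ(Proj 𝒜, W)} (h : ∀ x, fval 𝒜 r x = fval 𝒜 r' x) : r = r' :=
  Subtype.ext (funext fun x => HomogeneousLocalization.val_injective _ (h x))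

theorem sval_add (s t : Γ(GrMod.tilde 𝒜 ℳ n, W)) (x : W) :
    sval 𝒜 ℳ (s + t) x = sval 𝒜 ℳ s x + sval 𝒜 ℳ t x := rfl

/-- `a_i / f ^ i`. -/
def awayFn (i : ℕ) (a : A) : Γ(Proj 𝒜, W) :=
  (Proj 𝒜).presheaf.map (homOfLE hW).op (Proj.awayToSection 𝒜 f
    (Away.mk 𝒜 hf i (DirectSum.decompose 𝒜 a i : A) (by simpa using (DirectSum.decompose 𝒜 a i).2)))

theorem fval_awayFn (i : ℕ) (a : A) (x : W) :
    fval 𝒜 (awayFn 𝒜 hf hW i a) x =
      Localization.mk (DirectSum.decompose 𝒜 a i : A) ⟨f ^ i, H11Tilde.pow_notMem 𝒜 (hW x.2) i⟩ :=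
  (fval_map 𝒜 hW _ x).trans (fval_awayToSection 𝒜 hf i _ _ _)

theorem fval_awayFn_of_mem {i : ℕ} {a : A} (ha : a ∈ 𝒜 i) (x : W) :
    fval 𝒜 (awayFn 𝒜 hf hW i a) x = Localization.mk a ⟨f ^ i, H11Tilde.pow_notMem 𝒜 (hW x.2) i⟩ := by
  rw [fval_awayFn]
  simp only [DirectSum.decompose_of_mem_same 𝒜 ha]

/-- `a ↦ a_i / f ^ i` on one graded piece. -/
def pieceHom (i : ℕ) : 𝒜 i →+ Polynomial Γ(Proj 𝒜, W) :=
  AddMonoidHom.mk' (fun a => Polynomial.monomial i (awayFn 𝒜 hf hW i a)) fun a b => by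
    rw [← map_add]
    refine congrArg _ (fval_ext 𝒜 fun x => ?_)
    rw [fval_add, fval_awayFn_of_mem 𝒜 hf hW (a + b).2, fval_awayFn_of_mem 𝒜 hf hW a.2,
      fval_awayFn_of_mem 𝒜 hf hW b.2, Localization.add_mk_self]
    rfl

/-- The ring map `a ↦ ∑ (a_i / f ^ i) X ^ i`. -/
def eta : A →+* Polynomial Γ(Proj 𝒜, W) :=
  (DirectSum.toSemiring (pieceHom 𝒜 hf hW)
    (by
      change Polynomial.monomial 0 _ = (1 : Polynomial Γ(Proj 𝒜, W))
      rw [← Polynomial.C_1, Polynomial.monomial_zero_left, SetLike.coe_gOne]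
      refine congrArg _ (fval_ext 𝒜 fun x => ?_)
      rw [fval_awayFn_of_mem 𝒜 hf hW (SetLike.one_mem_graded 𝒜), fval_one]
      simp only [pow_zero]
      exact Localization.mk_one)
    (fun {i j} a b => by
      change Polynomial.monomial (i + j) _ = Polynomial.monomial i _ * Polynomial.monomial j _
      rw [Polynomial.monomial_mul_monomial, SetLike.coe_gMul]
      refine congrArg _ (fval_ext 𝒜 fun x => ?_)
      rw [fval_mul, fval_awayFn_of_mem 𝒜 hf hW (SetLike.mul_mem_graded a.2 b.2),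
        fval_awayFn_of_mem 𝒜 hf hW a.2, fval_awayFn_of_mem 𝒜 hf hW b.2, Localization.mk_mul]
      exact congrArg (Localization.mk _) (Subtype.ext (pow_add f i j)))).comp
    (DirectSum.decomposeRingEquiv 𝒜).toRingHom

theorem eta_of_mem {i : ℕ} {a : A} (ha : a ∈ 𝒜 i) :
    eta 𝒜 hf hW a = Polynomial.monomial i (awayFn 𝒜 hf hW i a) := by
  have e : DirectSum.decomposeRingEquiv 𝒜 a = DirectSum.of (fun i => 𝒜 i) i ⟨a, ha⟩ :=
    DirectSum.decompose_of_mem 𝒜 ha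
  simp only [eta, RingHom.coe_comp, Function.comp_apply, RingEquiv.toRingHom_eq_coe, RingEquiv.coe_toRingHom]
  rw [e, DirectSum.toSemiring_of]
  rfl

/-- The exponent of `f` in the denominator. -/
def den (d : ℕ) : ℕ := (((d + n.natAbs : ℕ) : ℤ) - n).toNat

theorem den_eq (d : ℕ) : ((d + n.natAbs : ℕ) : ℤ) = (den n d : ℤ) + n := by
  rw [den, Int.toNat_of_nonneg (by omega)]; ring

theorem den_add (i d : ℕ) : den n (i + d) = i + den n d := by
  have := den_eq n d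
  have := den_eq n (i + d)
  omega

/-- `m_d / f ^ (d - n)`. -/
def secD (d : ℕ) (m : M) : Γ(GrMod.tilde 𝒜 ℳ n, W) :=
  secOf 𝒜 ℳ (show f ^ n.natAbs • (DirectSum.decompose ℳ m d : M) ∈ ℳ (d + n.natAbs) by
      have h := SetLike.GradedSMul.smul_mem (SetLike.pow_mem_graded n.natAbs hf) (DirectSum.decompose ℳ m d).2
      simpa [add_comm] using h)
    (show f ^ den n d ∈ 𝒜 (den n d) by simpa using SetLike.pow_mem_graded (den n d) hf)
    (fun _ hy => H11Tilde.pow_notMem 𝒜 (hW hy) _) (den_eq n d)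

theorem sval_secD (d : ℕ) (m : M) (x : W) :
    sval 𝒜 ℳ (secD 𝒜 ℳ hf n hW d m) x =
      fracAt 𝒜 x.1 (f ^ n.natAbs • (DirectSum.decompose ℳ m d : M)) (f ^ den n d)
        (H11Tilde.pow_notMem 𝒜 (hW x.2) _) := rfl

theorem sval_secD_of_mem {d : ℕ} {m : M} (hm : m ∈ ℳ d) (x : W) :
    sval 𝒜 ℳ (secD 𝒜 ℳ hf n hW d m) x =
      fracAt 𝒜 x.1 (f ^ n.natAbs • m) (f ^ den n d) (H11Tilde.pow_notMem 𝒜 (hW x.2) _) := by
  rw [sval_secD]
  simp only [DirectSum.decompose_of_mem_same ℳ hm]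

/-- `secD` as an additive map. -/
def secDHom (d : ℕ) : M →+ Γ(GrMod.tilde 𝒜 ℳ n, W) :=
  AddMonoidHom.mk' (secD 𝒜 ℳ hf n hW d) fun a b => sval_ext 𝒜 ℳ fun x => by
    rw [sval_add, sval_secD, sval_secD, sval_secD, DirectSum.decompose_add, DFinsupp.add_apply]
    simp only [fracAt, AddMemClass.coe_add, smul_add]
    rw [LocalizedModule.mk_add_mk, LocalizedModule.mk_eq]
    exact ⟨1, by simp [Submonoid.smul_def, smul_add, mul_smul]⟩

theorem secD_zero (d : ℕ) : secD 𝒜 ℳ hf n hW d 0 = 0 := (secDHom 𝒜 ℳ hf n hW d).map_zero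

theorem secD_decompose (d : ℕ) (m : M) :
    secD 𝒜 ℳ hf n hW d (DirectSum.decompose ℳ m d : M) = secD 𝒜 ℳ hf n hW d m :=
  sval_ext 𝒜 ℳ fun x => by rw [sval_secD_of_mem 𝒜 ℳ hf n hW (DirectSum.decompose ℳ m d).2, sval_secD]

theorem secD_smul {i d : ℕ} {a : A} (ha : a ∈ 𝒜 i) {m : M} (hm : m ∈ ℳ d) :
    secD 𝒜 ℳ hf n hW (i + d) (a • m) = awayFn 𝒜 hf hW i a • secD 𝒜 ℳ hf n hW d m := by
  refine sval_ext 𝒜 ℳ fun x => ?_
  rw [sval_smul, fval_awayFn_of_mem 𝒜 hf hW ha,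
    sval_secD_of_mem 𝒜 ℳ hf n hW (show a • m ∈ ℳ (i + d) from SetLike.GradedSMul.smul_mem ha hm),
    sval_secD_of_mem 𝒜 ℳ hf n hW hm]
  simp only [fracAt, LocalizedModule.mk_smul_mk, den_add, smul_smul, mul_comm a]
  exact congrArg (LocalizedModule.mk _) (Subtype.ext (pow_add f i (den n d)))

theorem secD_pow_smul (k : ℕ) {d : ℕ} {m : M} (hm : m ∈ ℳ d) :
    secD 𝒜 ℳ hf n hW (k + d) (f ^ k • m) = secD 𝒜 ℳ hf n hW d m := by
  have hk : f ^ k ∈ 𝒜 k := by simpa using SetLike.pow_mem_graded k hf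
  rw [secD_smul 𝒜 ℳ hf n hW hk hm]
  have : awayFn 𝒜 hf hW k (f ^ k) = 1 := fval_ext 𝒜 fun x => by
    rw [fval_awayFn_of_mem 𝒜 hf hW hk, fval_one]
    exact Localization.mk_self (⟨f ^ k, _⟩ : x.1.asHomogeneousIdeal.toIdeal.primeCompl)
  rw [this, one_smul]

theorem exists_eq_secD (hWeq : W = Proj.basicOpen 𝒜 f) (s : Γ(GrMod.tilde 𝒜 ℳ n, W)) :
    ∃ d₀ : ℕ, ∀ d, d₀ ≤ d → ∃ m ∈ ℳ d, secD 𝒜 ℳ hf n hW d m = s := by
  subst hWeq
  obtain ⟨k, i, m, hm, hi, hs⟩ := exists_eq_fracAt 𝒜 ℳ one_pos hf s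
  refine ⟨i, fun d hd => ?_⟩
  obtain ⟨j, rfl⟩ := Nat.exists_eq_add_of_le' hd
  refine ⟨f ^ j • m, SetLike.GradedSMul.smul_mem (by simpa using SetLike.pow_mem_graded j hf) hm, ?_⟩
  rw [secD_pow_smul 𝒜 ℳ hf n hW j hm]
  refine sval_ext 𝒜 ℳ fun x => ?_
  rw [sval_secD_of_mem 𝒜 ℳ hf n hW hm]
  refine Eq.trans ?_ (hs x (H11Tilde.pow_notMem 𝒜 x.2 k)).symm
  refine fracAt_eq_of 𝒜 x.1 _ _ ?_
  rw [smul_smul, ← pow_add]
  congr 2
  have := den_eq n i
  omega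

theorem exists_pow_smul_of_secD_eq_zero (hWeq : W = Proj.basicOpen 𝒜 f) {d : ℕ} {m : M} (hm : m ∈ ℳ d)
    (h : secD 𝒜 ℳ hf n hW d m = 0) : ∃ k : ℕ, f ^ k • m = 0 := by
  subst hWeq
  refine exists_pow_smul_eq_zero 𝒜 ℳ one_pos hf hm fun x hx => ?_
  have h0 := congrArg (fun s => sval 𝒜 ℳ s ⟨x, hx⟩) h
  simp only [sval_secD_of_mem 𝒜 ℳ hf n hW hm, sval_zero] at h0
  obtain ⟨t, ht, htm⟩ := (fracAt_eq_zero_iff 𝒜 x _ _ _).1 h0
  exact ⟨t * f ^ n.natAbs, H11Tilde.mul_notMem 𝒜 ht (H11Tilde.pow_notMem 𝒜 hx _), by rw [mul_smul]; exact htm⟩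

/-- `m ↦ ∑ (m_d / f ^ (d - n)) X ^ d`. -/
def spread : M →+ PolynomialModule Γ(Proj 𝒜, W) Γ(GrMod.tilde 𝒜 ℳ n, W) :=
  (DirectSum.toAddMonoid fun d => ((PolynomialModule.lsingle Γ(Proj 𝒜, W) d).toAddMonoidHom.comp
    (secDHom 𝒜 ℳ hf n hW d)).comp (AddSubmonoidClass.subtype (ℳ d))).comp
      (DirectSum.decomposeAddEquiv ℳ).toAddMonoidHom

theorem spread_of_mem {d : ℕ} {m : M} (hm : m ∈ ℳ d) :
    spread 𝒜 ℳ hf n hW m = PolynomialModule.single _ d (secD 𝒜 ℳ hf n hW d m) := by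
  have e : DirectSum.decomposeAddEquiv ℳ m = DirectSum.of (fun i => ℳ i) d ⟨m, hm⟩ :=
    DirectSum.decompose_of_mem ℳ hm
  simp only [spread, AddMonoidHom.coe_comp, Function.comp_apply, AddEquiv.coe_toAddMonoidHom]
  rw [e, DirectSum.toAddMonoid_of]
  rfl

theorem spread_smul (a : A) (m : M) :
    spread 𝒜 ℳ hf n hW (a • m) = eta 𝒜 hf hW a • spread 𝒜 ℳ hf n hW m := by
  induction a using DirectSum.Decomposition.inductionOn 𝒜 with
  | zero => simp only [zero_smul, map_zero]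
  | add a b ha hb => simp only [add_smul, map_add, ha, hb]
  | @homogeneous i a =>
    induction m using DirectSum.Decomposition.inductionOn ℳ with
    | zero => simp only [smul_zero, map_zero]
    | add p q hp hq => simp only [smul_add, map_add, hp, hq]
    | @homogeneous d m =>
      rw [spread_of_mem 𝒜 ℳ hf n hW (show (a : A) • (m : M) ∈ ℳ (i + d) from SetLike.GradedSMul.smul_mem a.2 m.2),
        spread_of_mem 𝒜 ℳ hf n hW m.2, eta_of_mem 𝒜 hf hW a.2, PolynomialModule.monomial_smul_single,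
        secD_smul 𝒜 ℳ hf n hW a.2 m.2]

theorem coeff_spread (m : M) (d : ℕ) : (spread 𝒜 ℳ hf n hW m).coeff d = secD 𝒜 ℳ hf n hW d m := by
  induction m using DirectSum.Decomposition.inductionOn ℳ with
  | zero => rw [map_zero, secD_zero]; rfl
  | add p q hp hq =>
    rw [map_add, PolynomialModule.coeff_add, Finsupp.add_apply, hp, hq]
    exact ((secDHom 𝒜 ℳ hf n hW d).map_add p q).symm
  | @homogeneous i m =>
    rw [spread_of_mem 𝒜 ℳ hf n hW m.2, PolynomialModule.coeff_single, Finsupp.single_apply]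
    split_ifs with h
    · subst h; rfl
    · rw [← secD_decompose 𝒜 ℳ hf n hW d (m : M), DirectSum.decompose_of_mem_ne ℳ m.2 h, secD_zero]

end one

variable {A σ : Type u} [CommRing A] [SetLike σ A] [AddSubgroupClass σ A] {𝒜 : ℕ → σ} [GradedRing 𝒜]
  {B σ' : Type u} [CommRing B] [SetLike σ' B] [AddSubgroupClass σ' B] {ℬ : ℕ → σ'} [GradedRing ℬ]
  {M τ : Type u} [AddCommGroup M] [Module A M] [SetLike τ M] [AddSubgroupClass τ M] {ℳ : ℕ → τ}
  [SetLike.GradedSMul 𝒜 ℳ] [DirectSum.Decomposition ℳ]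
  {N τ' : Type u} [AddCommGroup N] [Module B N] [SetLike τ' N] [AddSubgroupClass τ' N] {𝒩 : ℕ → τ'}
  [SetLike.GradedSMul ℬ 𝒩] [DirectSum.Decomposition 𝒩]
  (ψ : 𝒜 →+*ᵍ ℬ) (hψ : ℬ₊ ≤ (𝒜₊).map ψ) (v : M →ₛₗ[ψ.toRingHom] N)
  (hv : ∀ (i : ℕ) (m : M), m ∈ ℳ i → v m ∈ 𝒩 i)

theorem exists_deg_one (hgen : (𝒜₊).toIdeal = Ideal.span (𝒜 1 : Set A)) (y : ProjectiveSpectrum ℬ) :
    ∃ f : A, f ∈ 𝒜 1 ∧ ProjectiveSpectrum.comap ψ hψ y ∈ Proj.basicOpen 𝒜 f := by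
  by_contra! h
  refine (ProjectiveSpectrum.comap ψ hψ y).not_irrelevant_le ?_
  change (𝒜₊).toIdeal ≤ _
  rw [hgen, Ideal.span_le]
  intro f hf
  by_contra hn
  exact h f hf hn

theorem fval_app (V : (Proj 𝒜).Opens) (r : Γ(Proj 𝒜, V)) (y : (Proj.map ψ hψ ⁻¹ᵁ V : (Proj ℬ).Opens)) :
    fval ℬ ((Proj.map ψ hψ).app V r) y =
      GrTwist.locMap ψ hψ y.1 (fval 𝒜 r ⟨ProjectiveSpectrum.comap ψ hψ y.1, y.2⟩) :=
  HomogeneousLocalization.val_localRingHom (f := ψ) (hIJ := rfl) _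

variable {f : A} (hf : f ∈ 𝒜 1) (n : ℤ) {V : (Proj 𝒜).Opens} (hV : V ≤ Proj.basicOpen 𝒜 f)

theorem preimage_le (hV : V ≤ Proj.basicOpen 𝒜 f) : Proj.map ψ hψ ⁻¹ᵁ V ≤ Proj.basicOpen ℬ (ψ f) := fun _ hy => hV hy

theorem app_awayFn (i : ℕ) (a : A) :
    (Proj.map ψ hψ).app V (awayFn 𝒜 hf hV i a) =
      awayFn ℬ (ψ.map_mem hf) (preimage_le ψ hψ hV) i (ψ a) := by
  refine fval_ext ℬ fun y => ?_
  rw [fval_app, fval_awayFn, GrTwist.locMap_mk, fval_awayFn,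
    GradedRingHom.map_directSumDecompose 𝒜 ℬ ψ]
  simp only [map_pow]
  rfl

theorem comap_secD (d : ℕ) (m : M) :
    (GrMod.comap ψ hψ v hv n).app V (secD 𝒜 ℳ hf n hV d m) =
      secD ℬ 𝒩 (ψ.map_mem hf) n (preimage_le ψ hψ hV) d (v m) := by
  have hvd : v (DirectSum.decompose ℳ m d : M) = (DirectSum.decompose 𝒩 (v m) d : N) := by
    classical
    conv_rhs => rw [← DirectSum.sum_support_decompose ℳ m, map_sum, DirectSum.decompose_sum]
    rw [DFinsupp.finsetSum_apply, AddSubmonoidClass.coe_finsetSum, Finset.sum_eq_single d]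
    · exact (DirectSum.decompose_of_mem_same 𝒩 (hv d _ (SetLike.coe_mem _))).symm
    · intro j _ hj
      exact DirectSum.decompose_of_mem_ne 𝒩 (hv j _ (SetLike.coe_mem _)) hj
    · intro h
      rw [DFinsupp.notMem_support_iff.1 h]
      simp
  refine sval_ext ℬ 𝒩 fun y => ?_
  rw [sval_secD, ← hvd]
  refine (GrMod.comap_app_val ψ hψ v hv n V _ y).trans ?_
  refine (GrMod.locModMap_mk ψ hψ v y.1 _ _).trans ?_
  simp only [fracAt, LinearMap.map_smulₛₗ, map_pow]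
  rfl

include hf hV in
theorem bijective_transpose (hVeq : V = Proj.basicOpen 𝒜 f)
    (hbc : ∀ (Q : Type u) [AddCommGroup Q] [Module B Q] (w : M →ₛₗ[ψ.toRingHom] Q),
      ∃! g : N →ₗ[B] Q, ∀ m : M, g (v m) = w m) :
    letI := ((Proj.map ψ hψ).app V).hom.toAlgebra
    letI := Module.compHom Γ(GrMod.tilde ℬ 𝒩 n, Proj.map ψ hψ ⁻¹ᵁ V) ((Proj.map ψ hψ).app V).hom
    haveI : IsScalarTower Γ(Proj 𝒜, V) Γ(Proj ℬ, Proj.map ψ hψ ⁻¹ᵁ V)
        Γ(GrMod.tilde ℬ 𝒩 n, Proj.map ψ hψ ⁻¹ᵁ V) := .of_algebraMap_smul fun _ _ => rfl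
    Function.Bijective (LinearMap.liftBaseChange Γ(Proj ℬ, Proj.map ψ hψ ⁻¹ᵁ V)
      (TransposeCover.appLin (Proj.map ψ hψ) (GrMod.comap ψ hψ v hv n) V)) := by
  classical
  let g := Proj.map ψ hψ
  letI := (g.app V).hom.toAlgebra
  letI := Module.compHom Γ(GrMod.tilde ℬ 𝒩 n, g ⁻¹ᵁ V) (g.app V).hom
  haveI : IsScalarTower Γ(Proj 𝒜, V) Γ(Proj ℬ, g ⁻¹ᵁ V) Γ(GrMod.tilde ℬ 𝒩 n, g ⁻¹ᵁ V) :=
    .of_algebraMap_smul fun _ _ => rfl
  let Γ' := Γ(Proj ℬ, g ⁻¹ᵁ V)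
  let L := LinearMap.liftBaseChange Γ' (TransposeCover.appLin g (GrMod.comap ψ hψ v hv n) V)
  let T := Γ' ⊗[Γ(Proj 𝒜, V)] Γ(GrMod.tilde 𝒜 ℳ n, V)
  have hψf : ψ f ∈ ℬ 1 := ψ.map_mem hf
  have hW : g ⁻¹ᵁ V ≤ Proj.basicOpen ℬ (ψ f) := preimage_le ψ hψ hV
  have hWeq : g ⁻¹ᵁ V = Proj.basicOpen ℬ (ψ f) := by rw [hVeq]; exact Proj.map_preimage_basicOpen ψ hψ f
  letI modQ : Module B (PolynomialModule Γ' T) := Module.compHom _ (eta ℬ hψf hW)
  letI modQ' : Module B (PolynomialModule Γ' Γ(GrMod.tilde ℬ 𝒩 n, g ⁻¹ᵁ V)) := Module.compHom _ (eta ℬ hψf hW)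
  have sm : ∀ (b : B) (x : PolynomialModule Γ' T), b • x = eta ℬ hψf hW b • x := fun _ _ => rfl
  -- the semilinear map `M → T[X]`
  let w0 : M →+ PolynomialModule Γ' T :=
    (DirectSum.toAddMonoid fun d => ((PolynomialModule.lsingle Γ' d).toAddMonoidHom.comp
      (((TensorProduct.mk Γ(Proj 𝒜, V) Γ' _ 1).toAddMonoidHom).comp (secDHom 𝒜 ℳ hf n hV d))).comp
        (AddSubmonoidClass.subtype (ℳ d))).comp (DirectSum.decomposeAddEquiv ℳ).toAddMonoidHom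
  have hw0 : ∀ {d : ℕ} {m : M}, m ∈ ℳ d →
      w0 m = PolynomialModule.single Γ' d ((1 : Γ') ⊗ₜ secD 𝒜 ℳ hf n hV d m) := fun {d m} hm => by
    have e : DirectSum.decomposeAddEquiv ℳ m = DirectSum.of (fun i => ℳ i) d ⟨m, hm⟩ :=
      DirectSum.decompose_of_mem ℳ hm
    simp only [w0, AddMonoidHom.coe_comp, Function.comp_apply, AddEquiv.coe_toAddMonoidHom]
    rw [e, DirectSum.toAddMonoid_of]
    rfl
  let w : M →ₛₗ[ψ.toRingHom] PolynomialModule Γ' T :=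
    { toFun := w0
      map_add' := map_add w0
      map_smul' := fun a m => by
        change w0 (a • m) = eta ℬ hψf hW (ψ a) • w0 m
        induction a using DirectSum.Decomposition.inductionOn 𝒜 with
        | zero => simp only [zero_smul, map_zero]
        | add a b ha hb => simp only [add_smul, map_add, ha, hb]
        | @homogeneous i a =>
          induction m using DirectSum.Decomposition.inductionOn ℳ with
          | zero => simp only [smul_zero, map_zero]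
          | add p q hp hq => simp only [smul_add, map_add, hp, hq]
          | @homogeneous d m =>
            rw [hw0 (show (a : A) • (m : M) ∈ ℳ (i + d) from SetLike.GradedSMul.smul_mem a.2 m.2), hw0 m.2,
              show eta ℬ hψf hW (ψ (a : A)) = _ from eta_of_mem ℬ hψf hW (ψ.map_mem a.2), PolynomialModule.monomial_smul_single,
              secD_smul 𝒜 ℳ hf n hV a.2 m.2, ← app_awayFn ψ hψ hf hV i a, TensorProduct.tmul_smul]
            rfl }
  obtain ⟨G, hG, -⟩ := hbc _ w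
  -- the image of a coefficient
  let Lc : PolynomialModule Γ' T →ₗ[B] PolynomialModule Γ' Γ(GrMod.tilde ℬ 𝒩 n, g ⁻¹ᵁ V) :=
    { toFun := PolynomialModule.map Γ' L
      map_add' := map_add _
      map_smul' := fun b x => by
        change PolynomialModule.map Γ' L (eta ℬ hψf hW b • x) = eta ℬ hψf hW b • PolynomialModule.map Γ' L x
        rw [PolynomialModule.map_smul, Algebra.algebraMap_self, Polynomial.map_id] }
  let G' : N →ₗ[B] PolynomialModule Γ' Γ(GrMod.tilde ℬ 𝒩 n, g ⁻¹ᵁ V) :=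
    { toFun := spread ℬ 𝒩 hψf n hW
      map_add' := map_add _
      map_smul' := fun b x => spread_smul ℬ 𝒩 hψf n hW b x }
  have hLc : ∀ (x : PolynomialModule Γ' T) (d : ℕ), (Lc x).coeff d = L (x.coeff d) := fun x d => rfl
  let wL : M →ₛₗ[ψ.toRingHom] PolynomialModule Γ' Γ(GrMod.tilde ℬ 𝒩 n, g ⁻¹ᵁ V) := Lc.comp w
  have hagree : Lc.comp G = G' := by
    refine (hbc _ wL).unique (fun m => congrArg Lc (hG m)) fun m => ?_
    change spread ℬ 𝒩 hψf n hW (v m) = Lc (w0 m)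
    induction m using DirectSum.Decomposition.inductionOn ℳ with
    | zero => simp only [map_zero]
    | add p q hp hq => simp only [map_add, hp, hq]
    | @homogeneous d m =>
      rw [spread_of_mem ℬ 𝒩 hψf n hW (hv d m m.2), hw0 m.2]
      refine PolynomialModule.ext (Finsupp.ext fun i => ?_)
      rw [hLc, PolynomialModule.coeff_single, PolynomialModule.coeff_single, Finsupp.single_apply,
        Finsupp.single_apply]
      split_ifs
      · rw [LinearMap.liftBaseChange_tmul, one_smul]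
        exact (comap_secD ψ hψ v hv hf n hV d m).symm
      · exact (map_zero L).symm
  have hL : ∀ (x : N) (d : ℕ), L ((G x).coeff d) = secD ℬ 𝒩 hψf n hW d x := fun x d =>
    ((hLc (G x) d).symm.trans (congrArg (fun h : N →ₗ[B] _ => (h x).coeff d) hagree)).trans
      (coeff_spread ℬ 𝒩 hψf n hW x d)
  -- every tensor is a coefficient
  have hnorm : ∀ z : T, ∃ d₀ : ℕ, ∀ d, d₀ ≤ d → ∃ x ∈ 𝒩 d, (G x).coeff d = z := by
    intro z
    induction z using TensorProduct.induction_on with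
    | zero => exact ⟨0, fun d _ => ⟨0, zero_mem _, by rw [map_zero]; rfl⟩⟩
    | add p q hp hq =>
      obtain ⟨d₁, h₁⟩ := hp
      obtain ⟨d₂, h₂⟩ := hq
      refine ⟨max d₁ d₂, fun d hd => ?_⟩
      obtain ⟨x, hx, hxp⟩ := h₁ d (le_trans (le_max_left _ _) hd)
      obtain ⟨y, hy, hyq⟩ := h₂ d (le_trans (le_max_right _ _) hd)
      exact ⟨x + y, add_mem hx hy, by rw [map_add, PolynomialModule.coeff_add, Finsupp.add_apply, hxp, hyq]⟩
    | tmul c s =>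
      obtain ⟨k, b, hb, hc⟩ := exists_fval_eq ℬ one_pos hψf ((Proj ℬ).presheaf.map (homOfLE hWeq.ge).op c)
      rw [mul_one] at hb
      have hce : c = awayFn ℬ hψf hW k b := fval_ext ℬ fun y => by
        rw [fval_awayFn_of_mem ℬ hψf hW hb]
        exact ((fval_map ℬ hWeq.ge c ⟨y.1, hWeq.le y.2⟩).symm).trans
          (hc ⟨y.1, hWeq.le y.2⟩ (H11Tilde.pow_notMem ℬ (hW y.2) k))
      obtain ⟨d₁, h₁⟩ := exists_eq_secD 𝒜 ℳ hf n hV hVeq s
      refine ⟨k + d₁, fun d hd => ?_⟩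
      obtain ⟨e, rfl⟩ := Nat.exists_eq_add_of_le hd
      obtain ⟨m, hm, hs⟩ := h₁ (d₁ + e) (Nat.le_add_right _ _)
      refine ⟨b • v m, ?_, ?_⟩
      · have := SetLike.GradedSMul.smul_mem (A := ℬ) (B := 𝒩) hb (hv _ m hm)
        simpa [add_assoc] using this
      · rw [map_smul, hG, sm]
        change (eta ℬ hψf hW b • w0 m).coeff _ = _
        rw [hw0 hm, eta_of_mem ℬ hψf hW hb, PolynomialModule.monomial_smul_single, PolynomialModule.coeff_single,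
          add_assoc, Finsupp.single_eq_same, hs, ← hce, TensorProduct.smul_tmul', smul_eq_mul, mul_one]
  refine ⟨(injective_iff_map_eq_zero L).2 fun z hz => ?_, fun s => ?_⟩
  · obtain ⟨d₀, h₀⟩ := hnorm z
    obtain ⟨x, hx, rfl⟩ := h₀ d₀ le_rfl
    obtain ⟨k, hk⟩ := exists_pow_smul_of_secD_eq_zero ℬ 𝒩 hψf n hW hWeq hx ((hL x d₀).symm.trans hz)
    have hk' : ψ f ^ k ∈ ℬ k := by simpa using SetLike.pow_mem_graded k hψf
    have h1 := congrArg (fun q : PolynomialModule Γ' T => q.coeff (k + d₀)) (G.map_smul (ψ f ^ k) x)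
    rw [sm] at h1
    simp only [hk, map_zero, eta_of_mem ℬ hψf hW hk', PolynomialModule.monomial_smul_apply,
      le_add_iff_nonneg_right, zero_le, if_true, Nat.add_sub_cancel_left] at h1
    have : awayFn ℬ hψf hW k (ψ f ^ k) = 1 := fval_ext ℬ fun y => by
      rw [fval_awayFn_of_mem ℬ hψf hW hk', fval_one]
      exact Localization.mk_self (⟨ψ f ^ k, _⟩ : y.1.asHomogeneousIdeal.toIdeal.primeCompl)
    rw [this, one_smul] at h1
    exact h1.symm
  · obtain ⟨d₀, h₀⟩ := exists_eq_secD ℬ 𝒩 hψf n hW hWeq s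
    obtain ⟨x, -, hs⟩ := h₀ d₀ le_rfl
    exact ⟨(G x).coeff d₀, (hL x d₀).trans hs⟩

/-- **Base change of `M(n)~`.** -/
theorem isIso_transpose (hgen : (𝒜₊).toIdeal = Ideal.span (𝒜 1 : Set A))
    (hbc : ∀ (Q : Type u) [AddCommGroup Q] [Module B Q] (w : M →ₛₗ[ψ.toRingHom] Q),
      ∃! g : N →ₗ[B] Q, ∀ m : M, g (v m) = w m) :
    IsIso (((Scheme.Modules.pullbackPushforwardAdjunction (Proj.map ψ hψ)).homEquiv _ _).symm
      (GrMod.comap ψ hψ v hv n)) := by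
  refine TransposeCover.isIso_transpose_of_cover (Proj.map ψ hψ) (GrMod.comap ψ hψ v hv n)
    (tilde_isQuasicoherent 𝒜 ℳ n) (tilde_isQuasicoherent ℬ 𝒩 n)
    (fun V => ∃ f : A, f ∈ 𝒜 1 ∧ V = Proj.basicOpen 𝒜 f) (fun y => ?_) ?_
  · obtain ⟨f, hf, hy⟩ := exists_deg_one ψ hψ hgen y
    refine ⟨Proj.basicOpen 𝒜 f, ⟨f, hf, rfl⟩, Proj.isAffineOpen_basicOpen 𝒜 f hf one_pos, ?_, hy⟩
    rw [Proj.map_preimage_basicOpen]
    exact Proj.isAffineOpen_basicOpen ℬ _ (ψ.map_mem hf) one_pos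
  · rintro V ⟨f, hf, rfl⟩ _
    exact bijective_transpose ψ hψ v hv hf n le_rfl rfl hbc

end Groth.Agent.H11Proj.TildeBaseChange
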