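import Groth.Agent.H11Proj.RelProjFP
import Groth.Agent.H11Proj.ProjectiveProps
import Groth.Agent.H11Tilde.Global

/-!
# `O(d)` on `Proj` of a finitely generated graded algebra is ample for divisible `d`
-/

set_option autoImplicit false
set_option linter.style.haveILetI false

noncomputable section

universe u

open CategoryTheory CategoryTheory.Limits AlgebraicGeometry Opposite TopologicalSpace
open Groth.Agent.H11Tilde Groth.Agent.H11Ample

namespace Groth.Agent.H11Proj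

variable {A σ : Type u} [CommRing A] [SetLike σ A] [AddSubgroupClass σ A] (𝒜 : ℕ → σ) [GradedRing 𝒜]

/-- Some degree `d₀`: every positive multiple has elements without common zero. -/
theorem exists_deg_cover [Algebra.FiniteType (𝒜 0) A] :
    ∃ d₀ : ℕ, 0 < d₀ ∧ ∀ d : ℕ, 0 < d → d₀ ∣ d →
      ∀ x : Proj 𝒜, ∃ f ∈ 𝒜 d, f ∉ x.asHomogeneousIdeal := by
  classical
  obtain ⟨t, ht, ht'⟩ := GradedAlgebra.exists_finset_adjoin_eq_top_and_homogeneous_ne_zero 𝒜
  choose e he hte using ht'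
  refine ⟨∏ i : t, e i.1 i.2, Finset.prod_pos fun i _ => (he i.1 i.2).bot_lt, fun d hd hdvd x => ?_⟩
  have hcov := Proj.iSup_basicOpen_eq_top' 𝒜 (ι := t) (↑) (fun i => ⟨_, hte _ i.2⟩) (by simpa using ht)
  obtain ⟨i, hi⟩ := Opens.mem_iSup.1 (hcov.ge (Set.mem_univ x))
  obtain ⟨k, rfl⟩ : e i.1 i.2 ∣ d := (Finset.dvd_prod_of_mem _ (Finset.mem_univ i)).trans hdvd
  refine ⟨i.1 ^ k, ?_, pow_notMem 𝒜 hi k⟩
  have := SetLike.pow_mem_graded k (hte i.1 i.2)
  rwa [smul_eq_mul, mul_comm] at this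

/-- `O(d)` is ample when degree `d` has no common zero and `Proj` is quasi-compact. -/
theorem isAmple_twist_deg [CompactSpace (Proj 𝒜)] {d : ℕ} (hd : 0 < d)
    (h : ∀ x : Proj 𝒜, ∃ f ∈ 𝒜 d, f ∉ x.asHomogeneousIdeal) :
    CohB1.IsAmple (GrTwist.twist 𝒜 (d : ℤ)) := by
  have hinv : PicF.IsInvertible (GrTwist.twist 𝒜 (d : ℤ)) := H11Ample.isInvertible_of_gen fun x => by
    obtain ⟨f, hf, hfx⟩ := h x
    exact ⟨Proj.basicOpen 𝒜 f, _, hfx, H11Tilde.isGen_of_bijective
      (e := (GrTwist.twist 𝒜 (d : ℤ)).presheaf.map (homOfLE (le_top : Proj.basicOpen 𝒜 f ≤ ⊤)).op (globalSec 𝒜 hf))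
      fun V hV => by
        refine Eq.mpr (congrArg Function.Bijective (funext fun r => ?_))
          (Groth.Agent.H11Tilde.bijective_smul_globalSec 𝒜 hf hV)
        rw [H10Coh.mres_mres]
        rfl⟩
  refine isAmple_iff.2 ⟨hinv, inferInstance, fun x => ?_⟩
  obtain ⟨f, hf, hfx⟩ := h x
  have e : gen (GrTwist.twist 𝒜 (d : ℤ)) (globalSec 𝒜 hf) = Proj.basicOpen 𝒜 f :=
    genLocus_globalSec 𝒜 hf h
  let g : Γ(GrTwist.twist 𝒜 (d : ℤ), ⊤) := globalSec 𝒜 hf
  refine ⟨1, spow g 1, one_pos, ?_⟩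
  rw [gen_spow hinv g 1 one_pos, show gen (GrTwist.twist 𝒜 (d : ℤ)) g = _ from e]
  exact ⟨hfx, Proj.isAffineOpen_basicOpen 𝒜 f hf hd⟩

variable {S P : Scheme.{u}} {𝒮 : RelProj.QCGrAlg S} {p : P ⟶ S}
  {chart : ∀ (U : S.Opens) (hU : IsAffineOpen U), (((p ⁻¹ᵁ U : P.Opens) : Scheme.{u}) ≅ Proj (𝒮.deg U hU))}

/-- On the relative Proj of a finite type algebra over a quasi-compact base some `O(d)` is invertible
and relatively ample. -/
theorem exists_isRelAmple_twist [CompactSpace S] (hP : RelProj.IsRelProj 𝒮 p chart)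
    (hft : ∀ (U : S.Opens), IsAffineOpen U → RingHom.FiniteType (𝒮.str.app (op U)).hom) :
    ∃ d : ℕ, 0 < d ∧ ∀ (L : P.Modules)
      (lam : ∀ (U : S.Opens) (hU : IsAffineOpen U),
        L ⟶ (Scheme.Modules.pushforward (RelProj.emb p chart U hU)).obj (GrTwist.twist (𝒮.deg U hU) (d : ℤ))),
      RelProj.IsRelTwist 𝒮 p chart (d : ℤ) L lam →
        PicF.IsInvertible L ∧ RelAmple.IsRelAmple p L := by
  classical
  haveI : QuasiCompact p := RelProjFP.qc_relProj hP hft
  choose V hV hyV hle using fun y : S => exists_isAffineOpen_mem_and_subset (X := S) (x := y) (U := ⊤) trivial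
  have hfin : ∀ y, Algebra.FiniteType (𝒮.deg (V y) (hV y) 0) (𝒮.presheaf.obj (op (V y))) := fun y => by
    have h : (algebraMap (𝒮.deg (V y) (hV y) 0) (𝒮.presheaf.obj (op (V y)))).FiniteType :=
      RingHom.FiniteType.of_comp_finiteType (f := (𝒮.strZero (V y) (hV y)).hom) (hft _ (hV y))
    rw [RingHom.finiteType_algebraMap] at h
    exact h
  choose d₀ hd₀ hd₀cov using fun y => haveI := hfin y; exists_deg_cover (𝒮.deg (V y) (hV y))
  obtain ⟨t, ht⟩ := isCompact_univ.elim_finite_subcover (fun y => (V y : Set S)) (fun y => (V y).2)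
    fun y _ => Set.mem_iUnion.2 ⟨y, hyV y⟩
  refine ⟨∏ y ∈ t, d₀ y, Finset.prod_pos fun y _ => hd₀ y, fun L lam hL => ?_⟩
  have hA : RelAmple.IsRelAmple p L := isRelAmple_of_cover fun z => by
    obtain ⟨y, hy, hzy⟩ := Set.mem_iUnion₂.1 (ht (Set.mem_univ z))
    let j := RelProj.emb p chart (V y) (hV y)
    have hr : j.opensRange = p ⁻¹ᵁ V y := opensRange_emb p chart (V y) (hV y)
    haveI : CompactSpace (Proj (𝒮.deg (V y) (hV y))) := by
      haveI : CompactSpace (p ⁻¹ᵁ V y).toScheme :=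
        isCompact_iff_compactSpace.1 (p.isCompact_preimage (U := V y) (hV y).isCompact)
      exact (chart (V y) (hV y)).hom.homeomorph.compactSpace
    refine ⟨V y, hV y, hzy, (ampleOn_iff_of_range j hr).2 (isAmple_of_iso ?_
      (isAmple_twist_deg (𝒮.deg (V y) (hV y)) (Finset.prod_pos fun y _ => hd₀ y)
        (hd₀cov y _ (Finset.prod_pos fun y _ => hd₀ y) (Finset.dvd_prod_of_mem _ hy))))⟩
    exact (isoOfBijectiveApp j (lam (V y) (hV y)) fun W hW => hL.bijective (V y) (hV y) W (hW.trans hr.le)).symm ≪≫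
      (Scheme.Modules.restrictFunctorIsoPullback j).app L
  exact ⟨isInvertible_of_isRelAmple hA, hA⟩

end Groth.Agent.H11Proj
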