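import Groth.Agent.H11Proj.AwayFP
import Groth.Agent.H11Tilde.QCoh
import Groth.Agent.H11Tilde.TwistInv
import Groth.Agent.H29Fitt.FP

/-!
# The sections of the twisting sheaves over standard opens are finitely presented modules
-/

set_option autoImplicit false
set_option linter.unusedSectionVars false
set_option linter.style.haveILetI false

noncomputable section

universe u

open DirectSum HomogeneousLocalization AlgebraicGeometry TopologicalSpace Opposite CategoryTheory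
open Groth.Agent.H11Tilde

namespace Groth.Agent.H11Proj.AwayDeg

variable {A σ : Type u} [CommRing A] [SetLike σ A] [AddSubgroupClass σ A] (𝒜 : ℕ → σ) [GradedRing 𝒜]
variable {f : A} {e : ℕ} (hf : f ∈ 𝒜 e)

/-- The map `A_f → A_y` at a point `y` of `D₊(f)`. -/
def mapAt (y : Proj.basicOpen 𝒜 f) : Localization.Away f →+* GrTwist.Loc 𝒜 y.1 :=
  IsLocalization.Away.lift f (g := algebraMap A (GrTwist.Loc 𝒜 y.1))
    (IsLocalization.map_units (M := y.1.asHomogeneousIdeal.toIdeal.primeCompl) _ ⟨f, y.2⟩)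

theorem mapAt_algebraMap (y : Proj.basicOpen 𝒜 f) (a : A) :
    mapAt 𝒜 y (algebraMap A _ a) = algebraMap A _ a :=
  IsLocalization.Away.lift_eq _ _ _

theorem mapAt_of_mul_pow (y : Proj.basicOpen 𝒜 f) {x : Localization.Away f} {K : ℕ} {a : A}
    (hx : x * algebraMap A _ f ^ K = algebraMap A _ a) (hK : f ^ K ∉ y.1.asHomogeneousIdeal) :
    mapAt 𝒜 y x = Localization.mk a ⟨f ^ K, hK⟩ := by
  rw [Localization.mk_eq_mk', IsLocalization.eq_mk'_iff_mul_eq]
  change mapAt 𝒜 y x * algebraMap A _ (f ^ K) = algebraMap A _ a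
  rw [← mapAt_algebraMap 𝒜 y, ← mapAt_algebraMap 𝒜 y a, map_pow, ← map_mul, hx]

include hf in
theorem exists_sec {d : ℤ} {x : Localization.Away f} (hx : IsFracDeg 𝒜 e d x) :
    ∃ σ : Γ(GrTwist.twist 𝒜 d, Proj.basicOpen 𝒜 f), ∀ y, GrTwist.val σ y = mapAt 𝒜 y x := by
  obtain ⟨K, i, a, ha, hi, hxa⟩ := hx
  have hs : f ^ K ∈ 𝒜 (K * e) := by simpa using SetLike.pow_mem_graded K hf
  have hV : ∀ y ∈ Proj.basicOpen 𝒜 f, f ^ K ∉ y.asHomogeneousIdeal := fun y hy => pow_notMem 𝒜 hy K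
  exact ⟨secOf 𝒜 𝒜 ha hs hV (by push_cast; exact hi),
    fun y => (mapAt_of_mul_pow 𝒜 y hxa (hV y.1 y.2)).symm⟩

include hf in
theorem fval_eq_mapAt (he : 0 < e) (r : Γ(Proj 𝒜, Proj.basicOpen 𝒜 f)) (y : Proj.basicOpen 𝒜 f) :
    fval 𝒜 r y = mapAt 𝒜 y ((Proj.basicOpenIsoAway 𝒜 f hf he).inv r).val := by
  obtain ⟨z, rfl⟩ := (ConcreteCategory.bijective_of_isIso (Proj.basicOpenIsoAway 𝒜 f hf he).hom).2 r
  rw [Iso.hom_inv_id_apply]
  obtain ⟨k, a, ha, rfl⟩ := Away.mk_surjective 𝒜 hf z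
  refine (fval_awayToSection 𝒜 hf k a ha y).trans ?_
  rw [Away.val_mk]
  symm
  refine mapAt_of_mul_pow 𝒜 y ?_ _
  rw [← map_pow, ← Localization.mk_one_eq_algebraMap, Localization.mk_mul,
    ← Localization.mk_one_eq_algebraMap, Localization.mk_eq_mk_iff, Localization.r_iff_exists]
  exact ⟨1, by simp; ring⟩

theorem val_smul_twist {d : ℤ} {V : (Proj 𝒜).Opens} (r : Γ(Proj 𝒜, V)) (σ : Γ(GrTwist.twist 𝒜 d, V))
    (y : V) : GrTwist.val (r • σ) y = fval 𝒜 r y * GrTwist.val σ y :=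
  GrTwist.coe_smul_val d y.1 _ _

theorem val_ext {d : ℤ} {V : (Proj 𝒜).Opens} {s t : Γ(GrTwist.twist 𝒜 d, V)}
    (h : ∀ y, GrTwist.val s y = GrTwist.val t y) : s = t :=
  Subtype.ext (funext fun y => Subtype.ext (h y))

include hf in
theorem eq_zero_of_mapAt (he : 0 < e) {d : ℤ} {x : Localization.Away f} (hx : IsFracDeg 𝒜 e d x)
    (h : ∀ y, mapAt 𝒜 y x = 0) : x = 0 := by
  obtain ⟨K, i, a, ha, hi, hxa⟩ := hx
  obtain ⟨N, hN⟩ := exists_pow_smul_eq_zero 𝒜 𝒜 he hf ha (fun y hy => by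
    have : algebraMap A (GrTwist.Loc 𝒜 y) a = 0 := by
      rw [← mapAt_algebraMap 𝒜 ⟨y, hy⟩ a, ← hxa, map_mul, h ⟨y, hy⟩, zero_mul]
    obtain ⟨t, ht⟩ := (IsLocalization.map_eq_zero_iff y.asHomogeneousIdeal.toIdeal.primeCompl _ a).1 this
    exact ⟨t, t.2, ht⟩)
  have hu := (IsLocalization.Away.algebraMap_isUnit (S := Localization.Away f) f)
  refine (hu.pow K).mul_left_eq_zero.1 ?_
  refine (hu.pow N).mul_left_eq_zero.1 ?_
  rw [hxa, ← map_pow, ← map_mul, mul_comm, ← smul_eq_mul, hN, map_zero]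

include hf in
/-- **The sections of `O(d)` over `D₊(f)` form a finitely presented module.** -/
theorem finitePresentation_twist_sections {R : Type u} [CommRing R] (he : 0 < e) (d : ℤ) (s : R →+* 𝒜 0)
    (hs : ((algebraMap (𝒜 0) A).comp s).FinitePresentation) :
    Module.FinitePresentation Γ(Proj 𝒜, Proj.basicOpen 𝒜 f)
      Γ(GrTwist.twist 𝒜 d, Proj.basicOpen 𝒜 f) := by
  classical
  letI : Algebra R A := ((algebraMap (𝒜 0) A).comp s).toAlgebra
  letI : Algebra R (Away 𝒜 f) := ((fromZeroRingHom 𝒜 (Submonoid.powers f)).comp s).toAlgebra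
  letI : Algebra (Away 𝒜 f) (A ⧸ Ideal.span {f - 1}) := (rho 𝒜 f).toAlgebra
  haveI : IsScalarTower R (Away 𝒜 f) (A ⧸ Ideal.span {f - 1}) :=
    IsScalarTower.of_algebraMap_eq fun r => (eta_algebraMap f (s r : A)).symm
  haveI : Algebra.FiniteType R (Away 𝒜 f) :=
    finiteType_away 𝒜 s (RingHom.FiniteType.of_finitePresentation hs) hf
  haveI : Algebra.FinitePresentation R A := hs
  haveI : Algebra.FinitePresentation R (A ⧸ Ideal.span {f - 1}) :=
    Algebra.FinitePresentation.quotient (Submodule.fg_span_singleton _)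
  haveI : Algebra.FiniteType (Away 𝒜 f) (A ⧸ Ideal.span {f - 1}) :=
    Algebra.FiniteType.of_restrictScalars_finiteType R (Away 𝒜 f) _
  haveI : Algebra.FinitePresentation (Away 𝒜 f) (A ⧸ Ideal.span {f - 1}) :=
    Algebra.FinitePresentation.of_restrict_scalars_finitePresentation R (Away 𝒜 f) _
  haveI := finite_rho 𝒜 he hf rfl
  haveI : Module.FinitePresentation (Away 𝒜 f) (A ⧸ Ideal.span {f - 1}) :=
    Module.FinitePresentation.of_finite_of_finitePresentation _ _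
  -- the module of sections, over `A_(f)`
  let φ := Proj.basicOpenIsoAway 𝒜 f hf he
  letI : Module (Away 𝒜 f) Γ(GrTwist.twist 𝒜 d, Proj.basicOpen 𝒜 f) := Module.compHom _ φ.hom.hom
  have val_act : ∀ (c : Away 𝒜 f) (σ : Γ(GrTwist.twist 𝒜 d, Proj.basicOpen 𝒜 f)) y,
      GrTwist.val (c • σ) y = mapAt 𝒜 y c.val * GrTwist.val σ y := by
    intro c σ y
    refine (val_smul_twist 𝒜 (φ.hom c) σ y).trans ?_
    rw [fval_eq_mapAt 𝒜 hf he, Iso.hom_inv_id_apply]
  choose g hg using fun b => exists_sec 𝒜 hf (isFracDeg_Pbar 𝒜 hf he d b)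
  let π : (A ⧸ Ideal.span {f - 1}) →ₗ[Away 𝒜 f] Γ(GrTwist.twist 𝒜 d, Proj.basicOpen 𝒜 f) :=
    { toFun := g
      map_add' := fun b c => val_ext 𝒜 fun y => by
        change GrTwist.val (g (b + c)) y = GrTwist.val (g b) y + GrTwist.val (g c) y
        rw [hg, hg, hg, Pbar_add 𝒜 hf he, map_add]
      map_smul' := fun c b => val_ext 𝒜 fun y => by
        rw [RingHom.id_apply, val_act, hg, hg, Algebra.smul_def]
        change mapAt 𝒜 y (Pbar 𝒜 e d (rho 𝒜 f c * b)) = _
        rw [Pbar_rho_mul 𝒜 hf he, map_mul] }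
  have hsurj : Function.Surjective π := by
    intro σ
    obtain ⟨k, i, m, hm, hi, hσ⟩ := exists_eq_fracAt 𝒜 𝒜 he hf σ
    let x : Localization.Away f := algebraMap A _ m * (((uf f) ^ k)⁻¹ : (Localization.Away f)ˣ)
    have hx : x * algebraMap A _ f ^ k = algebraMap A _ m := by
      rw [← coe_uf, ← Units.val_pow_eq_pow_val, mul_assoc, ← Units.val_mul, inv_mul_cancel, Units.val_one,
        mul_one]
    refine ⟨eta f x, val_ext 𝒜 fun y => ?_⟩
    change GrTwist.val (g (eta f x)) y = _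
    rw [hg, Pbar_eta 𝒜 hf he d ⟨k, i, m, hm, hi, hx⟩, mapAt_of_mul_pow 𝒜 y hx (pow_notMem 𝒜 y.2 k)]
    exact (hσ y (pow_notMem 𝒜 y.2 k)).symm
  -- the kernel is the image of the complementary idempotent
  let q : (A ⧸ Ideal.span {f - 1}) →ₗ[Away 𝒜 f] (A ⧸ Ideal.span {f - 1}) :=
    { toFun := fun b => eta f (Pbar 𝒜 e d b)
      map_add' := fun b c => by rw [Pbar_add 𝒜 hf he, map_add]
      map_smul' := fun c b => by
        rw [RingHom.id_apply, Algebra.smul_def, Algebra.smul_def]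
        change eta f (Pbar 𝒜 e d (rho 𝒜 f c * b)) = _
        rw [Pbar_rho_mul 𝒜 hf he, map_mul]
        rfl }
  have hker : LinearMap.ker π = LinearMap.range (LinearMap.id - q) := by
    ext b
    constructor
    · intro hb
      refine ⟨b, ?_⟩
      have h0 : Pbar 𝒜 e d b = 0 := eq_zero_of_mapAt 𝒜 hf he (isFracDeg_Pbar 𝒜 hf he d b) fun y => by
        rw [← hg, show g b = 0 from LinearMap.mem_ker.1 hb]
        rfl
      change b - eta f (Pbar 𝒜 e d b) = b
      rw [h0, map_zero, sub_zero]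
    · rintro ⟨b, rfl⟩
      change π (b - q b) = 0
      rw [map_sub, sub_eq_zero]
      refine val_ext 𝒜 fun y => ?_
      change GrTwist.val (g b) y = GrTwist.val (g (eta f (Pbar 𝒜 e d b))) y
      rw [hg, hg, Pbar_eta 𝒜 hf he d (isFracDeg_Pbar 𝒜 hf he d b)]
  haveI : Module.FinitePresentation (Away 𝒜 f) Γ(GrTwist.twist 𝒜 d, Proj.basicOpen 𝒜 f) :=
    Module.finitePresentation_of_surjective π hsurj
      (by rw [hker, LinearMap.range_eq_map]; exact Module.Finite.fg_top.map _)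
  exact H29Fitt.finitePresentation_of_semilinear φ.hom.hom (ConcreteCategory.bijective_of_isIso φ.hom)
    (AddMonoidHom.id _) (fun _ _ => rfl) Function.bijective_id

end Groth.Agent.H11Proj.AwayDeg
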