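import Groth.Agent.H11Proj.Monomials
import Groth.Prelude.Def_RelProj

/-!
# Degree-d generation of Veronese subrings of relative graded algebras
-/

set_option autoImplicit false
set_option linter.style.haveILetI false

noncomputable section

universe u

open AlgebraicGeometry Opposite DirectSum

namespace Groth.Agent.H11Proj

namespace VeroneseGen

variable {A : Type u} [CommRing A] (𝒜 : ℕ → AddSubgroup A) [GradedRing 𝒜]

/-- A grading by subgroups as a grading by `ℤ`-submodules. -/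
abbrev intDeg : ℕ → Submodule ℤ A := fun n => AddSubgroup.toIntSubmodule (𝒜 n)

instance : SetLike.GradedMonoid (intDeg 𝒜) where
  one_mem := SetLike.GradedOne.one_mem (A := 𝒜)
  mul_mem _ _ _ _ ha hb := SetLike.GradedMul.mul_mem (A := 𝒜) ha hb

instance : GradedAlgebra (intDeg 𝒜) where
  __ := (inferInstance : SetLike.GradedMonoid (intDeg 𝒜))
  decompose' := DirectSum.decompose 𝒜
  left_inv := (DirectSum.decompose 𝒜).left_inv
  right_inv := (DirectSum.decompose 𝒜).right_inv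

theorem exists_fg_piece [Algebra.FiniteType (intDeg 𝒜 0) A] {d : ℕ} :
    ∃ T : Finset A, (↑T : Set A) ⊆ (𝒜 d : Set A) ∧
      AddSubgroup.toIntSubmodule (𝒜 d) = AddSubgroup.toIntSubmodule (𝒜 0) * Submodule.span ℤ (↑T : Set A) := by
  classical
  obtain ⟨E, hE, htop⟩ := exists_finset_posHom_adjoin (intDeg 𝒜)
  obtain ⟨deg, hdegE, hpos⟩ := exists_degree_fun (intDeg 𝒜) hE
  let v : E → A := fun e => e
  let dv : E → ℕ := fun e => deg e
  have hv : ∀ e : E, v e ∈ intDeg 𝒜 (dv e) := fun e => hdegE _ e.2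
  let T : Finset A := ((Finset.univ : Finset (E → Fin (d + 1))).filter fun r => ∑ e, (r e : ℕ) * dv e = d).image
    fun r => ∏ e, v e ^ (r e : ℕ)
  have hT : (↑T : Set A) ⊆ (𝒜 d : Set A) := by
    intro x hx
    obtain ⟨r, hr, rfl⟩ := Finset.mem_image.1 hx
    have h : ∏ e, v e ^ (r e : ℕ) ∈ intDeg 𝒜 (∑ e, (r e : ℕ) * dv e) :=
      prod_pow_mem (intDeg 𝒜) v dv hv (fun e => (r e : ℕ))
    rwa [(Finset.mem_filter.1 hr).2] at h
  refine ⟨T, hT, le_antisymm (fun x hx => ?_) (Submodule.mul_le.2 fun a ha b hb => ?_)⟩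
  · refine graded_induction (intDeg 𝒜) v dv hv (by simpa [v] using htop)
      (P := fun y => y ∈ AddSubgroup.toIntSubmodule (𝒜 0) * Submodule.span ℤ (↑T : Set A))
      (zero_mem _) (fun _ _ => add_mem) (fun c hc a ha => ?_) hx
    refine Submodule.mul_mem_mul hc (Submodule.subset_span ?_)
    have hle : ∀ e, a e < d + 1 := fun e => by
      have h1 := Finset.single_le_sum (f := fun e => a e * dv e) (fun _ _ => Nat.zero_le _) (Finset.mem_univ e)
      exact Nat.lt_succ_of_le (((Nat.le_mul_of_pos_right (a e) (hpos _ e.2)).trans h1).trans ha.le)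
    exact Finset.mem_image.2 ⟨fun e => ⟨a e, hle e⟩, Finset.mem_filter.2 ⟨Finset.mem_univ _, ha⟩, rfl⟩
  · induction hb using Submodule.span_induction with
    | mem b hb =>
      have h : a * b ∈ intDeg 𝒜 (0 + d) := SetLike.mul_mem_graded (ha : a ∈ intDeg 𝒜 0) (hT hb)
      rwa [zero_add] at h
    | zero => simp
    | add b c _ _ h1 h2 => rw [mul_add]; exact add_mem h1 h2
    | smul n b _ h1 => rw [mul_smul_comm]; exact Submodule.smul_mem _ n h1

theorem pow_of_pow {h : ℕ} (hh : ∀ m : ℕ, 0 < m → intDeg 𝒜 (m * h) = intDeg 𝒜 h ^ m) {k : ℕ} (hk : 0 < k)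
    (n : ℕ) (hn : 0 < n) : intDeg 𝒜 (n * (k * h)) = intDeg 𝒜 (k * h) ^ n := by
  rw [← mul_assoc, hh (n * k) (Nat.mul_pos hn hk), hh k hk, ← pow_mul, mul_comm k n]

theorem exists_deg {Y : Scheme.{u}} (𝒮 : RelProj.QCGrAlg Y) {ι : Type u} [Finite ι] (U : ι → Y.Opens)
    (hU : ∀ i, IsAffineOpen (U i)) (hft : ∀ i, (𝒮.str.app (op (U i))).hom.FiniteType) :
    ∃ d : ℕ, 0 < d ∧ ∀ i,
      (∀ n : ℕ, 0 < n →
        AddSubgroup.toIntSubmodule (𝒮.deg (U i) (hU i) (n * d)) =
          AddSubgroup.toIntSubmodule (𝒮.deg (U i) (hU i) d) ^ n) ∧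
      ∃ T : Finset (𝒮.presheaf.obj (op (U i))),
        (↑T : Set (𝒮.presheaf.obj (op (U i)))) ⊆ (𝒮.deg (U i) (hU i) d : Set (𝒮.presheaf.obj (op (U i)))) ∧
        AddSubgroup.toIntSubmodule (𝒮.deg (U i) (hU i) d) =
          AddSubgroup.toIntSubmodule (𝒮.deg (U i) (hU i) 0) *
            Submodule.span ℤ (↑T : Set (𝒮.presheaf.obj (op (U i)))) := by
  classical
  have hft' : ∀ i, Algebra.FiniteType (intDeg (𝒮.deg (U i) (hU i)) 0) (𝒮.presheaf.obj (op (U i))) := fun i => by
    let φ : Γ(Y, U i) →+* intDeg (𝒮.deg (U i) (hU i)) 0 :=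
      { toFun := fun r => ⟨(𝒮.str.app (op (U i))).hom r, 𝒮.str_mem (U i) (hU i) r⟩
        map_one' := Subtype.ext (map_one _)
        map_mul' := fun a b => Subtype.ext (map_mul _ a b)
        map_zero' := Subtype.ext (map_zero _)
        map_add' := fun a b => Subtype.ext (map_add _ a b) }
    have h : ((algebraMap (intDeg (𝒮.deg (U i) (hU i)) 0) (𝒮.presheaf.obj (op (U i)))).comp φ).FiniteType := hft i
    exact RingHom.FiniteType.of_comp_finiteType h
  haveI : Fintype ι := Fintype.ofFinite ι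
  choose h hpos hh using fun i => haveI := hft' i; exists_pow_degree_eq (intDeg (𝒮.deg (U i) (hU i)))
  refine ⟨∏ i, h i, Finset.prod_pos fun i _ => hpos i, fun i => ⟨fun n hn => ?_, ?_⟩⟩
  · rw [← Finset.prod_erase_mul _ _ (Finset.mem_univ i)]
    exact pow_of_pow _ (hh i) (Finset.prod_pos fun j _ => hpos j) n hn
  · haveI := hft' i
    exact exists_fg_piece (𝒮.deg (U i) (hU i))

end VeroneseGen

end Groth.Agent.H11Proj
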